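import Mathlib

set_option autoImplicit false

namespace Groth.Agent.Lib.Helper26.NoethCrit

open MvPolynomial

section
variable {σ : Type*} {R : Type*} [CommRing R]

theorem homogeneousComponent_mul_of_isHomogeneous (c F : MvPolynomial σ R) {k : ℕ}
    (hF : F.IsHomogeneous k) (n : ℕ) :
    homogeneousComponent n (c * F) =
      if k ≤ n then homogeneousComponent (n - k) c * F else 0 := by
  classical
  conv_lhs => rw [← sum_homogeneousComponent c]
  rw [Finset.sum_mul, map_sum]
  have h1 : ∀ i, homogeneousComponent n (homogeneousComponent i c * F) =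
      if n = i + k then homogeneousComponent i c * F else 0 := by
    intro i
    exact homogeneousComponent_of_mem ((homogeneousComponent_isHomogeneous i c).mul hF)
  simp_rw [h1]
  split_ifs with hk
  · by_cases hle : n - k ≤ c.totalDegree
    · rw [Finset.sum_eq_single (n - k)]
      · rw [if_pos (by omega)]
      · intro b _ hb
        rw [if_neg (by omega)]
      · intro hb
        exact absurd (Finset.mem_range.mpr (by omega)) hb
    · rw [Finset.sum_eq_zero]
      · rw [homogeneousComponent_eq_zero _ _ (by omega), zero_mul]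
      · intro b hb
        rw [Finset.mem_range] at hb
        rw [if_neg (by omega)]
  · rw [Finset.sum_eq_zero]
    intro b _
    rw [if_neg (by omega)]

theorem map_homogeneousComponent' {S : Type*} [CommRing S] (f : R →+* S) (n : ℕ)
    (p : MvPolynomial σ R) :
    map f (homogeneousComponent n p) = homogeneousComponent n (map f p) := by
  classical
  ext e
  rw [coeff_map, coeff_homogeneousComponent, coeff_homogeneousComponent, coeff_map]
  split_ifs <;> simp

theorem eval_mem_pow_succ {d : ℕ} (m : Ideal R) (x : Fin d → R) (hx : ∀ i, x i ∈ m)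
    (E : MvPolynomial (Fin d) R) {n : ℕ} (hE : E.IsHomogeneous n)
    (hc : ∀ e, E.coeff e ∈ m) : eval x E ∈ m ^ (n + 1) := by
  classical
  rw [eval_eq']
  refine Ideal.sum_mem _ ?_
  intro e he
  have hdeg : e.degree = n := by
    have := hE (mem_support_iff.mp he)
    rw [Finsupp.degree_eq_weight_one]
    exact this
  have h1 : ∏ i, x i ^ e i ∈ m ^ n := by
    have : ∏ i, x i ^ e i ∈ ∏ i : Fin d, m ^ e i :=
      Ideal.prod_mem_prod fun i _ => Ideal.pow_mem_pow (hx i) _
    rw [Finset.prod_pow_eq_pow_sum] at this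
    have h2 : ∑ i, e i = n := by
      rw [← hdeg, Finsupp.degree_eq_sum]
    rwa [h2] at this
  rw [pow_succ']
  exact Ideal.mul_mem_mul (hc e) h1
end

/-- Noetherianity criterion: `m` finitely generated, `A/m` Noetherian, and every finitely generated
ideal `m`-adically closed. -/
theorem isNoetherianRing_of_closed {A : Type*} [CommRing A] (m : Ideal A) {d : ℕ} (x : Fin d → A)
    (hx : Ideal.span (Set.range x) = m) [IsNoetherianRing (A ⧸ m)]
    (hclosed : ∀ I : Ideal A, I.FG → ∀ a, (∀ n, a ∈ I ⊔ m ^ n) → a ∈ I) :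
    IsNoetherianRing A := by
  classical
  rw [isNoetherianRing_iff_ideal_fg]
  intro I
  have hxm : ∀ i, x i ∈ m := fun i => hx ▸ Ideal.subset_span (Set.mem_range_self i)
  set φ : MvPolynomial (Fin d) A →+* MvPolynomial (Fin d) (A ⧸ m) :=
    MvPolynomial.map (Ideal.Quotient.mk m) with hφ
  have hφsurj : Function.Surjective φ := MvPolynomial.map_surjective _ Ideal.Quotient.mk_surjective
  let H : Set (MvPolynomial (Fin d) (A ⧸ m)) :=
    {F | ∃ (n : ℕ) (Ft : MvPolynomial (Fin d) A), Ft.IsHomogeneous n ∧ φ Ft = F ∧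
      eval x Ft ∈ I ⊔ m ^ (n + 1)}
  have hfg : (Ideal.span H).FG :=
    (isNoetherianRing_iff_ideal_fg (MvPolynomial (Fin d) (A ⧸ m))).mp inferInstance _
  obtain ⟨H0, hH0sub, hH0span⟩ := (Submodule.fg_span_iff_fg_span_finset_subset H).mp hfg
  have hdata : ∀ F ∈ H, ∃ (n : ℕ) (Ft : MvPolynomial (Fin d) A), Ft.IsHomogeneous n ∧ φ Ft = F ∧
      ∃ y ∈ I, ∃ z ∈ m ^ (n + 1), y + z = eval x Ft := by
    rintro F ⟨n, Ft, h1, h2, h3⟩
    exact ⟨n, Ft, h1, h2, Submodule.mem_sup.mp h3⟩
  choose! deg lift hhom hmap y hyI z hz hyz using hdata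
  set I0 : Ideal A := Ideal.span (y '' (H0 : Set _)) with hI0
  have hI0fg : I0.FG := Submodule.fg_span ((H0.finite_toSet).image y)
  have hI0le : I0 ≤ I := by
    rw [hI0, Ideal.span_le]
    rintro _ ⟨F, hF, rfl⟩
    exact hyI F (hH0sub hF)
  have hyI0 : ∀ F ∈ H0, y F ∈ I0 := fun F hF =>
    Ideal.subset_span ⟨F, Finset.mem_coe.mpr hF, rfl⟩
  -- key claim
  have key : ∀ n a, a ∈ I → a ∈ m ^ n → ∃ b ∈ I0, a - b ∈ m ^ (n + 1) := by
    intro n a haI ham
    rw [← hx] at ham
    obtain ⟨Gt, hGt, rfl⟩ := (Ideal.mem_span_pow_iff_exists_isHomogeneous x a).mp ham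
    have hGH : φ Gt ∈ H := ⟨n, Gt, hGt, rfl, Submodule.mem_sup_left haI⟩
    have hGspan : φ Gt ∈ Submodule.span (MvPolynomial (Fin d) (A ⧸ m)) (H0 : Set _) := by
      rw [← hH0span]; exact Submodule.subset_span hGH
    obtain ⟨c, -, hc⟩ := Submodule.mem_span_finset.mp hGspan
    choose ct hct using fun F => hφsurj (c F)
    -- the correction terms
    set T : MvPolynomial (Fin d) (A ⧸ m) → MvPolynomial (Fin d) A := fun F =>
      if deg F ≤ n then homogeneousComponent (n - deg F) (ct F) * lift F else 0 with hT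
    set E : MvPolynomial (Fin d) A := Gt - ∑ F ∈ H0, T F with hE
    have hThom : ∀ F ∈ H0, (T F).IsHomogeneous n := by
      intro F hF
      simp only [hT]
      split_ifs with hle
      · have := (homogeneousComponent_isHomogeneous (n - deg F) (ct F)).mul (hhom F (hH0sub hF))
        rwa [Nat.sub_add_cancel hle] at this
      · exact isHomogeneous_zero _ _ _
    have hEhom : E.IsHomogeneous n := hGt.sub (IsHomogeneous.sum _ _ _ hThom)
    have hφT : ∀ F ∈ H0, φ (T F) = homogeneousComponent n (c F * F) := by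
      intro F hF
      have hFhom : F.IsHomogeneous (deg F) := by
        have := (hhom F (hH0sub hF)).map (Ideal.Quotient.mk m)
        rwa [show MvPolynomial.map (Ideal.Quotient.mk m) (lift F) = F from hmap F (hH0sub hF)] at this
      rw [homogeneousComponent_mul_of_isHomogeneous _ _ hFhom]
      simp only [hT]
      split_ifs with hle
      · rw [map_mul, hmap F (hH0sub hF), hφ, map_homogeneousComponent', ← hφ, hct]
      · rw [map_zero]
    have hφE : φ E = 0 := by
      rw [hE, map_sub, map_sum, Finset.sum_congr rfl hφT, ← map_sum]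
      simp only [smul_eq_mul] at hc
      rw [hc, homogeneousComponent_of_mem (hGt.map _), if_pos rfl, sub_self]
    have hEcoeff : ∀ e, E.coeff e ∈ m := by
      intro e
      have : (φ E).coeff e = 0 := by rw [hφE, coeff_zero]
      rw [hφ, coeff_map] at this
      exact Ideal.Quotient.eq_zero_iff_mem.mp this
    have hEev : eval x E ∈ m ^ (n + 1) := eval_mem_pow_succ m x hxm E hEhom hEcoeff
    -- the element b
    set bF : MvPolynomial (Fin d) (A ⧸ m) → A := fun F =>
      if deg F ≤ n then eval x (homogeneousComponent (n - deg F) (ct F)) * y F else 0 with hbF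
    refine ⟨∑ F ∈ H0, bF F, Ideal.sum_mem _ fun F hF => ?_, ?_⟩
    · simp only [hbF]
      split_ifs
      · exact Ideal.mul_mem_left _ _ (hyI0 F hF)
      · exact Ideal.zero_mem _
    · have hGE : eval x Gt = eval x E + ∑ F ∈ H0, eval x (T F) := by
        rw [hE, map_sub, map_sum]; ring
      rw [hGE, add_sub_assoc, ← Finset.sum_sub_distrib]
      refine Ideal.add_mem _ hEev (Ideal.sum_mem _ fun F hF => ?_)
      simp only [hT, hbF]
      split_ifs with hle
      · rw [map_mul, ← hyz F (hH0sub hF), mul_add, add_sub_cancel_left]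
        have h1 : eval x (homogeneousComponent (n - deg F) (ct F)) ∈ m ^ (n - deg F) := by
          rw [← hx]
          exact (Ideal.mem_span_pow_iff_exists_isHomogeneous x _).mpr
            ⟨_, homogeneousComponent_isHomogeneous _ _, rfl⟩
        have h2 := Ideal.mul_mem_mul h1 (hz F (hH0sub hF))
        rwa [← pow_add, show n - deg F + (deg F + 1) = n + 1 by omega] at h2
      · rw [map_zero, sub_self]; exact Ideal.zero_mem _
  -- induction
  have step : ∀ a ∈ I, ∀ n, ∃ b ∈ I0, a - b ∈ m ^ n := by
    intro a ha n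
    induction n with
    | zero => exact ⟨0, Ideal.zero_mem _, by simp⟩
    | succ n ih =>
      obtain ⟨b, hb, hab⟩ := ih
      obtain ⟨b', hb', hab'⟩ := key n (a - b) (I.sub_mem ha (hI0le hb)) hab
      exact ⟨b + b', I0.add_mem hb hb', by rwa [← sub_sub]⟩
  have hle : I ≤ I0 := by
    intro a ha
    refine hclosed I0 hI0fg a fun n => ?_
    obtain ⟨b, hb, hab⟩ := step a ha n
    have : a = b + (a - b) := by ring
    rw [this]
    exact Submodule.add_mem_sup hb hab
  rw [le_antisymm hle hI0le]
  exact hI0fg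

end Groth.Agent.Lib.Helper26.NoethCrit
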