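import Mathlib
import Groth.Agent.Lib.Helper26.NoethCrit
import Groth.Agent.S2364

set_option autoImplicit false
universe u

namespace Groth.Agent.Lib.Helper26.DirLim

open Groth.Agent.Lib.Helper26.NoethCrit

/-- ideals of a Noetherian local ring are closed for the adic topology of a proper ideal. -/
theorem mem_of_forall_mem_sup_pow {A : Type*} [CommRing A] [IsNoetherianRing A] [IsLocalRing A]
    (m I : Ideal A) (hm : m ≠ ⊤) (a : A) (h : ∀ n, a ∈ I ⊔ m ^ n) : a ∈ I := by
  have h1 : ∀ n, (Ideal.Quotient.mk I a : A ⧸ I) ∈ m ^ n • (⊤ : Submodule A (A ⧸ I)) := by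
    intro n
    obtain ⟨u, hu, v, hv, huv⟩ := Submodule.mem_sup.mp (h n)
    have : (Ideal.Quotient.mk I a : A ⧸ I) = v • (Ideal.Quotient.mk I 1 : A ⧸ I) := by
      rw [← huv, map_add, Ideal.Quotient.eq_zero_iff_mem.mpr hu, zero_add]
      rw [Algebra.smul_def, map_one, mul_one]
      rfl
    rw [this]
    exact Submodule.smul_mem_smul hv Submodule.mem_top
  have h2 : (Ideal.Quotient.mk I a : A ⧸ I) ∈ (⨅ n, m ^ n • (⊤ : Submodule A (A ⧸ I))) :=
    Submodule.mem_iInf _ |>.mpr h1
  rw [Ideal.iInf_pow_smul_eq_bot_of_isLocalRing m hm, Submodule.mem_bot] at h2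
  exact Ideal.Quotient.eq_zero_iff_mem.mp h2

section
variable {ι : Type u} [Preorder ι] [Nonempty ι] [IsDirected ι (· ≤ ·)]
    (G : ι → Type u) [∀ i, CommRing (G i)]
    (f : ∀ i j, i ≤ j → G i →+* G j)

local notation "L" => Ring.DirectLimit G fun i j h => f i j h
local notation "of" => Ring.DirectLimit.of G (fun i j h => f i j h)

omit [Nonempty ι] [IsDirected ι (· ≤ ·)] in
theorem of_comp (i j : ι) (h : i ≤ j) (x : G i) : of j (f i j h x) = of i x :=
  Ring.DirectLimit.of_f (G := G) (f := fun i j h => f i j h) h x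

/-- finitely many elements of the limit come from a common stage above `i0`. -/
theorem exists_of_fin (i0 : ι) {l : ℕ} (x : Fin l → L) :
    ∃ (j : ι) (_ : i0 ≤ j) (y : Fin l → G j), ∀ k, x k = of j (y k) := by
  classical
  choose jk yk hyk using fun k => Ring.DirectLimit.exists_of (x k)
  obtain ⟨j, hj⟩ := Finite.exists_le (fun o : Option (Fin l) => o.elim i0 jk)
  have hj0 : i0 ≤ j := hj none
  have hjk : ∀ k, jk k ≤ j := fun k => hj (some k)
  refine ⟨j, hj0, fun k => f (jk k) j (hjk k) (yk k), fun k => ?_⟩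
  rw [← hyk k]
  exact (of_comp G f (jk k) j (hjk k) (yk k)).symm

variable [DirectedSystem G fun i j h => f i j h]

set_option maxHeartbeats 1000000 in
/-- flatness of the maps to the direct limit. -/
theorem of_flat (hflat : ∀ i j (h : i ≤ j), (f i j h).Flat) (i : ι) : (of i).Flat := by
  classical
  algebraize [of i]
  rw [← (of i).algebraMap_toAlgebra, RingHom.flat_algebraMap_iff,
    Module.Flat.iff_forall_isTrivialRelation]
  intro l a x hax
  obtain ⟨j, hij, y, hy⟩ := exists_of_fin G f i x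
  have h0 : of j (∑ k, f i j hij (a k) * y k) = 0 := by
    rw [map_sum, ← hax]
    refine Finset.sum_congr rfl fun k _ => ?_
    rw [map_mul, of_comp, hy k, Algebra.smul_def, RingHom.algebraMap_toAlgebra]
  obtain ⟨j', hjj', h0'⟩ := Ring.DirectLimit.of.zero_exact h0
  have hij' : i ≤ j' := hij.trans hjj'
  have hfl := hflat i j' hij'
  algebraize [f i j' hij']
  rw [← (f i j' hij').algebraMap_toAlgebra, RingHom.flat_algebraMap_iff] at hfl
  have hrel : ∑ k, a k • (f j j' hjj' (y k)) = 0 := by
    rw [← h0', map_sum]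
    refine Finset.sum_congr rfl fun k _ => ?_
    rw [map_mul]
    have : f j j' hjj' (f i j hij (a k)) = f i j' hij' (a k) :=
      DirectedSystem.map_map (f := fun i j h => f i j h) hij hjj' (a k)
    rw [this, Algebra.smul_def, RingHom.algebraMap_toAlgebra]
  obtain ⟨κ, b, z, hz1, hz2⟩ := Module.Flat.isTrivialRelation_of_sum_smul_eq_zero
    (R := G i) (M := G j') (f := a) (x := fun k => f j j' hjj' (y k)) hrel
  refine ⟨κ, b, fun t => of j' (z t), fun k => ?_, hz2⟩
  have hz1k : f j j' hjj' (y k) = ∑ t, b k t • z t := hz1 k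
  rw [hy k, ← of_comp G f j j' hjj', hz1k, map_sum]
  refine Finset.sum_congr rfl fun t _ => ?_
  rw [Algebra.smul_def, Algebra.smul_def, RingHom.algebraMap_toAlgebra,
    RingHom.algebraMap_toAlgebra, map_mul, of_comp]

set_option maxHeartbeats 1000000 in
theorem isNoetherianRing_directLimit [∀ i, IsLocalRing (G i)] [∀ i, IsNoetherianRing (G i)]
    (hloc : ∀ i j (h : i ≤ j), IsLocalHom (f i j h))
    (hmax : ∀ i j (h : i ≤ j),
      (IsLocalRing.maximalIdeal (G i)).map (f i j h) = IsLocalRing.maximalIdeal (G j))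
    (hflat : ∀ i j (h : i ≤ j), (f i j h).Flat) :
    IsNoetherianRing L := by
  classical
  obtain ⟨hlocal, hlocof, hmaxL⟩ := Groth.Agent.S2364.result G f hloc
  have hmaxL := hmaxL hmax
  obtain ⟨i0⟩ := (inferInstance : Nonempty ι)
  obtain ⟨d, x0, hx0⟩ := Submodule.fg_iff_exists_fin_generating_family.mp
    ((isNoetherianRing_iff_ideal_fg (G i0)).mp inferInstance (IsLocalRing.maximalIdeal (G i0)))
  have hx : Ideal.span (Set.range (fun t => of i0 (x0 t))) = IsLocalRing.maximalIdeal L := by
    rw [← hmaxL i0, ← show Ideal.span (Set.range x0) = IsLocalRing.maximalIdeal (G i0) from hx0,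
      Ideal.map_span, ← Set.range_comp]
    rfl
  haveI : IsNoetherianRing (L ⧸ IsLocalRing.maximalIdeal L) := by
    letI : Field (L ⧸ IsLocalRing.maximalIdeal L) := Ideal.Quotient.field _
    infer_instance
  refine isNoetherianRing_of_closed (IsLocalRing.maximalIdeal L) _ hx ?_
  intro I hI a ha
  obtain ⟨r, gen, hgen⟩ := Submodule.fg_iff_exists_fin_generating_family.mp hI
  -- put `a` and the generators at a common stage
  obtain ⟨j, -, y, hy⟩ := exists_of_fin G f i0 (Fin.cons a gen : Fin (r + 1) → L)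
  have hya : a = of j (y 0) := by simpa using hy 0
  have hyg : ∀ t : Fin r, gen t = of j (y t.succ) := fun t => by simpa using hy t.succ
  set Ij : Ideal (G j) := Ideal.span (Set.range fun t : Fin r => y t.succ) with hIj
  have hIjmap : Ij.map (of j) = I := by
    rw [hIj, Ideal.map_span, ← Set.range_comp, ← hgen]
    congr 1
    ext w
    simp only [Set.mem_range, Function.comp_apply]
    constructor
    · rintro ⟨t, rfl⟩; exact ⟨t, hyg t⟩
    · rintro ⟨t, rfl⟩; exact ⟨t, (hyg t).symm⟩
  have hflj := of_flat G f hflat j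
  haveI := hlocof j
  algebraize [of j]
  rw [← (of j).algebraMap_toAlgebra, RingHom.flat_algebraMap_iff] at hflj
  haveI : IsLocalHom (algebraMap (G j) L) := by
    rw [RingHom.algebraMap_toAlgebra]; infer_instance
  haveI : Module.FaithfullyFlat (G j) L := Module.FaithfullyFlat.of_flat_of_isLocalHom
  have hmem : ∀ n, y 0 ∈ Ij ⊔ IsLocalRing.maximalIdeal (G j) ^ n := by
    intro n
    have h1 : a ∈ (Ij ⊔ IsLocalRing.maximalIdeal (G j) ^ n).map (algebraMap (G j) L) := by
      rw [Ideal.map_sup, Ideal.map_pow, RingHom.algebraMap_toAlgebra, hIjmap, hmaxL j]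
      exact ha n
    rw [← Ideal.comap_map_eq_self_of_faithfullyFlat (B := L)
      (Ij ⊔ IsLocalRing.maximalIdeal (G j) ^ n), Ideal.mem_comap, RingHom.algebraMap_toAlgebra,
      ← hya]
    rw [RingHom.algebraMap_toAlgebra] at h1
    exact h1
  have hy0 : y 0 ∈ Ij := mem_of_forall_mem_sup_pow (IsLocalRing.maximalIdeal (G j)) Ij
    (Ideal.IsPrime.ne_top inferInstance) (y 0) hmem
  rw [hya, ← hIjmap]
  exact Ideal.mem_map_of_mem _ hy0

end

end Groth.Agent.Lib.Helper26.DirLim
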