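import Mathlib
import Groth.Agent.Lib.Helper26.Arith4

set_option autoImplicit false
universe u

namespace Groth.Agent.Lib.Helper26.Arith

open Submodule

variable (R : Type u) [CommRing R] [IsDomain R] [IsBezout R]
  (M : Type u) [AddCommGroup M] [Module R M] [Module.FinitePresentation R M]

theorem bezout_part1 :
    ∃ (r : ℕ) (e : M ≃ₗ[R] ((Fin r → R) × Submodule.torsion R M)),
      Module.FinitePresentation R (Submodule.torsion R M) := by
  classical
  let T := Submodule.torsion R M
  let Q := M ⧸ T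
  obtain ⟨n, j, hj⟩ := exists_injective_to_fin R Q
  have hfree : Module.Free R Q := Groth.Agent.Lib.Helper40.free_of_injective_to_fin n Q j hj
  obtain ⟨s, hs⟩ := Module.projective_lifting_property T.mkQ LinearMap.id T.mkQ_surjective
  obtain ⟨e0, he0⟩ := equiv_prod_ker_of_split T.mkQ s hs
  have hker : LinearMap.ker T.mkQ = T := Submodule.ker_mkQ T
  let b := Module.finBasis R Q
  let e1 : (Q × LinearMap.ker T.mkQ) ≃ₗ[R] ((Fin (Module.finrank R Q) → R) × T) :=
    LinearEquiv.prodCongr b.equivFun (LinearEquiv.ofEq _ _ hker)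
  let e : M ≃ₗ[R] ((Fin (Module.finrank R Q) → R) × T) := e0.symm.trans e1
  refine ⟨Module.finrank R Q, e, ?_⟩
  -- finite presentation of the torsion part
  let l : M →ₗ[R] T := (LinearMap.snd R (Fin (Module.finrank R Q) → R) T) ∘ₗ e.toLinearMap
  have hl : Function.Surjective l := by
    intro t
    refine ⟨e.symm (0, t), ?_⟩
    change (e (e.symm (0, t))).2 = t
    rw [LinearEquiv.apply_symm_apply]
  refine Module.finitePresentation_of_surjective l hl ?_
  have hk : LinearMap.ker l =
      (LinearMap.range (LinearMap.inl R (Fin (Module.finrank R Q) → R) T)).map e.symm.toLinearMap := by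
    ext x
    rw [LinearMap.mem_ker]
    constructor
    · intro hx
      refine ⟨e x, ⟨(e x).1, ?_⟩, by simp⟩
      ext
      · simp
      · simp only [LinearMap.inl_apply]
        have : (e x).2 = 0 := hx
        rw [this]
    · rintro ⟨_, ⟨y, rfl⟩, rfl⟩
      simp [l]
  rw [hk]
  exact Submodule.FG.map _ (Module.Finite.iff_fg.mp (Module.Finite.range _))

theorem bezout_part2 [Module.FinitePresentation R (Submodule.torsion R M)] :
    ∃ (n : ℕ) (f : Fin n → R), (∀ j, f j ≠ 0) ∧
      ∃ (i : Submodule.torsion R M →ₗ[R] ((j : Fin n) → R ⧸ Ideal.span {f j}))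
        (p : ((j : Fin n) → R ⧸ Ideal.span {f j}) →ₗ[R] Submodule.torsion R M),
        p ∘ₗ i = LinearMap.id := by
  classical
  let T := Submodule.torsion R M
  obtain ⟨ι, _, r, φ, σ, hφσ⟩ := exists_split (fun m _ => bezout_dvd_total R m) T
  -- components at zero generators vanish
  have hzero : ∀ (x : T) (k : ι), r k = 0 → σ x k = 0 := by
    intro x k hk
    obtain ⟨a, ha⟩ := (Submodule.mem_torsion_iff (x : M)).mp x.2
    have hax : (a : R) • x = 0 := by
      apply Subtype.ext
      exact ha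
    have h1 : (a : R) • σ x k = 0 := by
      have := congrFun (congrArg σ hax) k
      rw [map_smul, map_zero] at this
      exact this
    obtain ⟨z, hz⟩ := Submodule.Quotient.mk_surjective _ (σ x k)
    rw [← hz, ← Submodule.Quotient.mk_smul, Submodule.Quotient.mk_eq_zero, hk,
      Ideal.mem_span_singleton] at h1
    rw [← hz, Submodule.Quotient.mk_eq_zero, hk, Ideal.mem_span_singleton]
    rw [zero_dvd_iff] at h1 ⊢
    rw [smul_eq_mul] at h1
    rcases mul_eq_zero.mp h1 with h2 | h2
    · exact absurd h2 (nonZeroDivisors.coe_ne_zero a)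
    · exact h2
  let ι' := {k : ι // r k ≠ 0}
  let res : ((k : ι) → R ⧸ Ideal.span {r k}) →ₗ[R] ((k : ι') → R ⧸ Ideal.span {r k.1}) :=
    LinearMap.pi (fun k => LinearMap.proj k.1)
  let ext0 : ((k : ι') → R ⧸ Ideal.span {r k.1}) →ₗ[R] ((k : ι) → R ⧸ Ideal.span {r k}) :=
    { toFun := fun y k => if h : r k ≠ 0 then y ⟨k, h⟩ else 0
      map_add' := fun y z => by
        ext k
        by_cases h : r k ≠ 0
        · simp only [Pi.add_apply, dif_pos h]
        · simp only [Pi.add_apply, dif_neg h, add_zero]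
      map_smul' := fun c y => by
        ext k
        by_cases h : r k ≠ 0
        · simp only [Pi.smul_apply, dif_pos h, RingHom.id_apply]
        · simp only [Pi.smul_apply, dif_neg h, RingHom.id_apply, smul_zero] }
  have hext : ∀ x : T, ext0 (res (σ x)) = σ x := by
    intro x
    ext k
    change (if h : r k ≠ 0 then (res (σ x)) ⟨k, h⟩ else 0) = σ x k
    by_cases h : r k ≠ 0
    · rw [dif_pos h]; rfl
    · rw [dif_neg h]
      exact (hzero x k (not_not.mp h)).symm
  let en := Fintype.equivFin ι'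
  let ec : ((k : ι') → R ⧸ Ideal.span {r k.1}) ≃ₗ[R]
      ((j : Fin (Fintype.card ι')) → R ⧸ Ideal.span {r (en.symm j).1}) :=
    LinearEquiv.piCongrLeft' R (fun k : ι' => R ⧸ Ideal.span {r k.1}) en
  refine ⟨Fintype.card ι', fun j => r (en.symm j).1, fun j => (en.symm j).2,
    ec.toLinearMap ∘ₗ res ∘ₗ σ, φ ∘ₗ ext0 ∘ₗ ec.symm.toLinearMap, ?_⟩
  ext x
  simp only [LinearMap.comp_apply, LinearEquiv.coe_coe, LinearEquiv.symm_apply_apply,
    LinearMap.id_apply]
  rw [hext x]
  exact congrArg Subtype.val (LinearMap.congr_fun hφσ x)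

theorem bezout_main :
    (∃ r : ℕ, Nonempty (M ≃ₗ[R] ((Fin r → R) × Submodule.torsion R M))) ∧
      ∃ (n : ℕ) (f : Fin n → R), (∀ j, f j ≠ 0) ∧
        ∃ (i : Submodule.torsion R M →ₗ[R] ((j : Fin n) → R ⧸ Ideal.span {f j}))
          (p : ((j : Fin n) → R ⧸ Ideal.span {f j}) →ₗ[R] Submodule.torsion R M),
          p ∘ₗ i = LinearMap.id := by
  obtain ⟨r, e, hfp⟩ := bezout_part1 R M
  exact ⟨⟨r, ⟨e⟩⟩, bezout_part2 R M⟩

end Groth.Agent.Lib.Helper26.Arith
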