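import Mathlib
import Groth.Prelude

set_option autoImplicit false
set_option linter.unusedSimpArgs false
universe u
open QuadGrp

namespace Groth.Agent.Lib.Helper26.Cl3

variable (k : Type u) [CommRing k]

theorem splitForm_three_apply (x : Fin 3 → k) :
    splitForm k 3 x = x 1 * x 2 + x 0 * x 0 := by
  simp [splitForm]

abbrev Cl : Type u := CliffordAlgebra (splitForm k 3)

noncomputable def e (i : Fin 3) : Cl k := CliffordAlgebra.ι (splitForm k 3) (Pi.single i 1)

theorem h00 : e k 0 * e k 0 = 1 := by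
  rw [e, CliffordAlgebra.ι_sq_scalar, splitForm_three_apply]
  simp

theorem h11 : e k 1 * e k 1 = 0 := by
  rw [e, CliffordAlgebra.ι_sq_scalar, splitForm_three_apply]
  simp

theorem h22 : e k 2 * e k 2 = 0 := by
  rw [e, CliffordAlgebra.ι_sq_scalar, splitForm_three_apply]
  simp

theorem polar_apply (x y : Fin 3 → k) :
    QuadraticMap.polar (splitForm k 3) x y = x 1 * y 2 + y 1 * x 2 + 2 * x 0 * y 0 := by
  rw [QuadraticMap.polar, splitForm_three_apply, splitForm_three_apply, splitForm_three_apply]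
  simp only [Pi.add_apply]
  ring

theorem h10 : e k 1 * e k 0 = -(e k 0 * e k 1) := by
  have := CliffordAlgebra.ι_mul_ι_add_swap (Q := splitForm k 3) (Pi.single 1 1) (Pi.single 0 1)
  rw [polar_apply] at this
  simp at this
  exact eq_neg_of_add_eq_zero_left this

theorem h20 : e k 2 * e k 0 = -(e k 0 * e k 2) := by
  have := CliffordAlgebra.ι_mul_ι_add_swap (Q := splitForm k 3) (Pi.single 2 1) (Pi.single 0 1)
  rw [polar_apply] at this
  simp at this
  exact eq_neg_of_add_eq_zero_left this

theorem h21 : e k 2 * e k 1 = 1 - e k 1 * e k 2 := by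
  have := CliffordAlgebra.ι_mul_ι_add_swap (Q := splitForm k 3) (Pi.single 2 1) (Pi.single 1 1)
  rw [polar_apply] at this
  simp at this
  exact eq_sub_of_add_eq this

theorem ι_eq (m : Fin 3 → k) :
    CliffordAlgebra.ι (splitForm k 3) m = m 0 • e k 0 + m 1 • e k 1 + m 2 • e k 2 := by
  have : m = m 0 • Pi.single 0 1 + m 1 • Pi.single 1 1 + m 2 • Pi.single 2 1 := by
    ext i
    fin_cases i <;> simp
  conv_lhs => rw [this]
  simp only [map_add, map_smul, e]

theorem h00' (x : Cl k) : e k 0 * (e k 0 * x) = x := by rw [← mul_assoc, h00, one_mul]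
theorem h11' (x : Cl k) : e k 1 * (e k 1 * x) = 0 := by rw [← mul_assoc, h11, zero_mul]
theorem h22' (x : Cl k) : e k 2 * (e k 2 * x) = 0 := by rw [← mul_assoc, h22, zero_mul]
theorem h10' (x : Cl k) : e k 1 * (e k 0 * x) = -(e k 0 * (e k 1 * x)) := by
  rw [← mul_assoc, h10, neg_mul, mul_assoc]
theorem h20' (x : Cl k) : e k 2 * (e k 0 * x) = -(e k 0 * (e k 2 * x)) := by
  rw [← mul_assoc, h20, neg_mul, mul_assoc]
theorem h21' (x : Cl k) : e k 2 * (e k 1 * x) = x - e k 1 * (e k 2 * x) := by
  rw [← mul_assoc, h21, sub_mul, one_mul, mul_assoc]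

/-- the general even element -/
noncomputable def ev (a b c d : k) : Cl k :=
  a • 1 + b • (e k 0 * e k 1) + c • (e k 0 * e k 2) + d • (e k 1 * e k 2)

/-- its conjugate -/
noncomputable def evBar (a b c d : k) : Cl k :=
  (a + d) • 1 - b • (e k 0 * e k 1) - c • (e k 0 * e k 2) - d • (e k 1 * e k 2)

theorem ev_mul_evBar (a b c d : k) :
    ev k a b c d * evBar k a b c d = (a * a + a * d + b * c) • 1 := by
  simp only [ev, evBar, mul_assoc, mul_add, add_mul, mul_sub, sub_mul, neg_mul, mul_neg,
    smul_mul_assoc, mul_smul_comm, mul_one, one_mul, mul_zero, zero_mul, smul_add, smul_sub,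
    smul_neg, smul_smul, smul_zero, h00, h11, h22, h10, h20, h21, h00', h11', h22', h10', h20',
    h21']
  module

/-- the general odd element -/
noncomputable def od (a b c d : k) : Cl k :=
  a • e k 0 + b • e k 1 + c • e k 2 + d • (e k 0 * (e k 1 * e k 2))

theorem e0_ev (a b c d : k) : e k 0 * ev k a b c d = od k a b c d := by
  simp only [ev, od, mul_assoc, mul_add, add_mul, mul_sub, sub_mul, neg_mul, mul_neg,
    smul_mul_assoc, mul_smul_comm, mul_one, one_mul, mul_zero, zero_mul, smul_add, smul_sub,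
    smul_neg, smul_smul, smul_zero, h00, h11, h22, h10, h20, h21, h00', h11', h22', h10', h20',
    h21']

theorem e1_ev (a b c d : k) : e k 1 * ev k a b c d = od k 0 a 0 (-c) := by
  simp only [ev, od, mul_assoc, mul_add, add_mul, mul_sub, sub_mul, neg_mul, mul_neg,
    smul_mul_assoc, mul_smul_comm, mul_one, one_mul, mul_zero, zero_mul, smul_add, smul_sub,
    smul_neg, smul_smul, smul_zero, h00, h11, h22, h10, h20, h21, h00', h11', h22', h10', h20',
    h21']
  module

theorem e2_ev (a b c d : k) : e k 2 * ev k a b c d = od k (-b) 0 (a + d) b := by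
  simp only [ev, od, mul_assoc, mul_add, add_mul, mul_sub, sub_mul, neg_mul, mul_neg,
    smul_mul_assoc, mul_smul_comm, mul_one, one_mul, mul_zero, zero_mul, smul_add, smul_sub,
    smul_neg, smul_smul, smul_zero, h00, h11, h22, h10, h20, h21, h00', h11', h22', h10', h20',
    h21']
  module

theorem e0_od (a b c d : k) : e k 0 * od k a b c d = ev k a b c d := by
  simp only [ev, od, mul_assoc, mul_add, add_mul, mul_sub, sub_mul, neg_mul, mul_neg,
    smul_mul_assoc, mul_smul_comm, mul_one, one_mul, mul_zero, zero_mul, smul_add, smul_sub,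
    smul_neg, smul_smul, smul_zero, h00, h11, h22, h10, h20, h21, h00', h11', h22', h10', h20',
    h21']

theorem e1_od (a b c d : k) : e k 1 * od k a b c d = ev k 0 (-a) 0 c := by
  simp only [ev, od, mul_assoc, mul_add, add_mul, mul_sub, sub_mul, neg_mul, mul_neg,
    smul_mul_assoc, mul_smul_comm, mul_one, one_mul, mul_zero, zero_mul, smul_add, smul_sub,
    smul_neg, smul_smul, smul_zero, h00, h11, h22, h10, h20, h21, h00', h11', h22', h10', h20',
    h21']
  module

theorem e2_od (a b c d : k) : e k 2 * od k a b c d = ev k b 0 (-a - d) (-b) := by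
  simp only [ev, od, mul_assoc, mul_add, add_mul, mul_sub, sub_mul, neg_mul, mul_neg,
    smul_mul_assoc, mul_smul_comm, mul_one, one_mul, mul_zero, zero_mul, smul_add, smul_sub,
    smul_neg, smul_smul, smul_zero, h00, h11, h22, h10, h20, h21, h00', h11', h22', h10', h20',
    h21']
  module

theorem ev_add (a b c d a' b' c' d' : k) :
    ev k a b c d + ev k a' b' c' d' = ev k (a + a') (b + b') (c + c') (d + d') := by
  simp only [ev]
  module

theorem ev_smul (r a b c d : k) : r • ev k a b c d = ev k (r * a) (r * b) (r * c) (r * d) := by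
  simp only [ev]
  module

theorem od_add (a b c d a' b' c' d' : k) :
    od k a b c d + od k a' b' c' d' = od k (a + a') (b + b') (c + c') (d + d') := by
  simp only [od]
  module

theorem od_smul (r a b c d : k) : r • od k a b c d = od k (r * a) (r * b) (r * c) (r * d) := by
  simp only [od]
  module

theorem ι_mul_ev (m : Fin 3 → k) (a b c d : k) :
    ∃ a' b' c' d', CliffordAlgebra.ι (splitForm k 3) m * ev k a b c d = od k a' b' c' d' := by
  rw [ι_eq, add_mul, add_mul, smul_mul_assoc, smul_mul_assoc, smul_mul_assoc, e0_ev, e1_ev, e2_ev,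
    od_smul, od_smul, od_smul, od_add, od_add]
  exact ⟨_, _, _, _, rfl⟩

theorem ι_mul_od (m : Fin 3 → k) (a b c d : k) :
    ∃ a' b' c' d', CliffordAlgebra.ι (splitForm k 3) m * od k a b c d = ev k a' b' c' d' := by
  rw [ι_eq, add_mul, add_mul, smul_mul_assoc, smul_mul_assoc, smul_mul_assoc, e0_od, e1_od, e2_od,
    ev_smul, ev_smul, ev_smul, ev_add, ev_add]
  exact ⟨_, _, _, _, rfl⟩

theorem exists_ev_of_mem_even (x : Cl k)
    (hx : x ∈ CliffordAlgebra.evenOdd (splitForm k 3) 0) : ∃ a b c d, x = ev k a b c d := by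
  induction x, hx using CliffordAlgebra.even_induction with
  | algebraMap r =>
    refine ⟨r, 0, 0, 0, ?_⟩
    simp [ev, Algebra.algebraMap_eq_smul_one]
  | add x y hx hy ihx ihy =>
    obtain ⟨a, b, c, d, rfl⟩ := ihx
    obtain ⟨a', b', c', d', rfl⟩ := ihy
    exact ⟨_, _, _, _, ev_add k a b c d a' b' c' d'⟩
  | ι_mul_ι_mul m₁ m₂ x hx ih =>
    obtain ⟨a, b, c, d, rfl⟩ := ih
    obtain ⟨a', b', c', d', h1⟩ := ι_mul_ev k m₂ a b c d
    obtain ⟨a'', b'', c'', d'', h2⟩ := ι_mul_od k m₁ a' b' c' d'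
    exact ⟨a'', b'', c'', d'', by rw [mul_assoc, h1, h2]⟩

theorem ev_e0_evBar (a b c d : k) :
    ev k a b c d * e k 0 * evBar k a b c d =
      (a * a + a * d - b * c) • e k 0 + (-(2 * b * (a + d))) • e k 1 + (-(2 * a * c)) • e k 2 := by
  simp only [ev, evBar, mul_assoc, mul_add, add_mul, mul_sub, sub_mul, neg_mul, mul_neg,
    smul_mul_assoc, mul_smul_comm, mul_one, one_mul, mul_zero, zero_mul, smul_add, smul_sub,
    smul_neg, smul_smul, smul_zero, h00, h11, h22, h10, h20, h21, h00', h11', h22', h10', h20',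
    h21']
  module

theorem ev_e1_evBar (a b c d : k) :
    ev k a b c d * e k 1 * evBar k a b c d =
      (c * (a + d)) • e k 0 + ((a + d) * (a + d)) • e k 1 + (-(c * c)) • e k 2 := by
  simp only [ev, evBar, mul_assoc, mul_add, add_mul, mul_sub, sub_mul, neg_mul, mul_neg,
    smul_mul_assoc, mul_smul_comm, mul_one, one_mul, mul_zero, zero_mul, smul_add, smul_sub,
    smul_neg, smul_smul, smul_zero, h00, h11, h22, h10, h20, h21, h00', h11', h22', h10', h20',
    h21']
  module

theorem ev_e2_evBar (a b c d : k) :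
    ev k a b c d * e k 2 * evBar k a b c d =
      (a * b) • e k 0 + (-(b * b)) • e k 1 + (a * a) • e k 2 := by
  simp only [ev, evBar, mul_assoc, mul_add, add_mul, mul_sub, sub_mul, neg_mul, mul_neg,
    smul_mul_assoc, mul_smul_comm, mul_one, one_mul, mul_zero, zero_mul, smul_add, smul_sub,
    smul_neg, smul_smul, smul_zero, h00, h11, h22, h10, h20, h21, h00', h11', h22', h10', h20',
    h21']
  module

theorem ev_add_evBar (a b c d : k) : ev k a b c d + evBar k a b c d = (2 * a + d) • 1 := by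
  simp only [ev, evBar]
  module

theorem e_mem (i : Fin 3) : e k i ∈ LinearMap.range (CliffordAlgebra.ι (splitForm k 3)) :=
  ⟨_, rfl⟩

theorem ev_ι_evBar_mem (a b c d : k) (m : Fin 3 → k) :
    ev k a b c d * CliffordAlgebra.ι (splitForm k 3) m * evBar k a b c d ∈
      LinearMap.range (CliffordAlgebra.ι (splitForm k 3)) := by
  rw [ι_eq, mul_add, mul_add, add_mul, add_mul, mul_smul_comm, mul_smul_comm, mul_smul_comm,
    smul_mul_assoc, smul_mul_assoc, smul_mul_assoc, ev_e0_evBar, ev_e1_evBar, ev_e2_evBar]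
  have h0 := e_mem k 0
  have h1 := e_mem k 1
  have h2 := e_mem k 2
  refine Submodule.add_mem _ (Submodule.add_mem _ ?_ ?_) ?_ <;>
  · apply Submodule.smul_mem
    refine Submodule.add_mem _ (Submodule.add_mem _ ?_ ?_) ?_ <;>
    · apply Submodule.smul_mem
      assumption

end Groth.Agent.Lib.Helper26.Cl3

namespace Groth.Agent.Lib.Helper26.Cl3

variable (k : Type u) [Field k]

theorem conj_mem (u : (Cl k)ˣ) (hu : (u : Cl k) ∈ CliffordAlgebra.evenOdd (splitForm k 3) 0)
    (x : Cl k) (hx : x ∈ LinearMap.range (CliffordAlgebra.ι (splitForm k 3))) :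
    (u : Cl k) * x * (↑u⁻¹ : Cl k) ∈ LinearMap.range (CliffordAlgebra.ι (splitForm k 3)) := by
  obtain ⟨a, b, c, d, hev⟩ := exists_ev_of_mem_even k _ hu
  obtain ⟨m, rfl⟩ := hx
  have hN := ev_mul_evBar k a b c d
  rw [← hev] at hN
  by_cases h0 : a * a + a * d + b * c = 0
  · rw [h0, zero_smul] at hN
    have hbar : evBar k a b c d = 0 := by
      have : (↑u⁻¹ : Cl k) * ((u : Cl k) * evBar k a b c d) = 0 := by rw [hN, mul_zero]
      rwa [← mul_assoc, Units.inv_mul, one_mul] at this
    have hu' : (u : Cl k) = (2 * a + d) • 1 := by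
      have := ev_add_evBar k a b c d
      rwa [hbar, add_zero, ← hev] at this
    have hcomm : (u : Cl k) * CliffordAlgebra.ι (splitForm k 3) m =
        CliffordAlgebra.ι (splitForm k 3) m * (u : Cl k) := by
      rw [hu', smul_mul_assoc, mul_smul_comm, one_mul, mul_one]
    rw [hcomm, mul_assoc, Units.mul_inv, mul_one]
    exact ⟨m, rfl⟩
  · have hinv : (↑u⁻¹ : Cl k) = (a * a + a * d + b * c)⁻¹ • evBar k a b c d := by
      have : (↑u⁻¹ : Cl k) * ((u : Cl k) * evBar k a b c d) =
          (↑u⁻¹ : Cl k) * ((a * a + a * d + b * c) • 1) := by rw [hN]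
      rw [← mul_assoc, Units.inv_mul, one_mul, mul_smul_comm, mul_one] at this
      rw [this, smul_smul, inv_mul_cancel₀ h0, one_smul]
    rw [hinv, mul_smul_comm, hev]
    exact Submodule.smul_mem _ _ (ev_ι_evBar_mem k a b c d m)

theorem evenUnits_le_GPin' :
    QuadGrp.evenUnits (QuadGrp.splitForm k 3) ≤ QuadGrp.GPin' (QuadGrp.splitForm k 3) := by
  intro u hu
  rw [QuadGrp.mem_GPin']
  have hu' : (u : Cl k) ∈ CliffordAlgebra.evenOdd (splitForm k 3) 0 := hu
  have hui : ((u⁻¹ : (Cl k)ˣ) : Cl k) ∈ CliffordAlgebra.evenOdd (splitForm k 3) 0 :=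
    (QuadGrp.evenUnits (QuadGrp.splitForm k 3)).inv_mem hu
  ext x
  rw [← SetLike.mem_coe, Submodule.coe_pointwise_smul, Set.mem_smul_set_iff_inv_smul_mem,
    SetLike.mem_coe]
  constructor
  · intro h
    have := conj_mem k u hu' _ h
    have h2 : (u : Cl k) * ((ConjAct.toConjAct u)⁻¹ • x) * (↑u⁻¹ : Cl k) = x := by
      rw [← map_inv, ConjAct.units_smul_def, ConjAct.ofConjAct_toConjAct]
      simp [mul_assoc]
    rwa [h2] at this
  · intro h
    have := conj_mem k u⁻¹ hui _ h
    rw [← map_inv, ConjAct.units_smul_def, ConjAct.ofConjAct_toConjAct]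
    exact this

end Groth.Agent.Lib.Helper26.Cl3
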