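import Mathlib

universe u
open Polynomial

namespace Groth.Agent.Lib.Helper26.DVRRatio

section
variable {R : Type u} [CommRing R] [IsDomain R] [UniqueFactorizationMonoid R] (K : Type u) [Field K] [Algebra R K]
  [IsFractionRing R K]

theorem dvd_leadingCoeff_of_aeval_div_eq_zero (Δ₁ Δ₂ : R) (h2 : Δ₂ ≠ 0)
    (hcop : IsRelPrime Δ₁ Δ₂) {p : R[X]}
    (hp : aeval (algebraMap R K Δ₁ / algebraMap R K Δ₂) p = 0) : Δ₂ ∣ p.leadingCoeff := by
  have hs : Δ₂ ∈ nonZeroDivisors R := mem_nonZeroDivisors_of_ne_zero h2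
  have hroot : IsRoot (scaleRoots p Δ₂) Δ₁ := by
    apply isRoot_of_eval₂_map_eq_zero (IsFractionRing.injective R K)
    refine scaleRoots_aeval_eq_zero_of_aeval_mk'_eq_zero (M := nonZeroDivisors R)
      (s := ⟨Δ₂, hs⟩) ?_
    rw [IsFractionRing.mk'_eq_div]
    exact hp
  suffices h : Δ₂ ∣ p.leadingCoeff * Δ₁ ^ p.natDegree by
    exact (hcop.symm.pow_right).dvd_of_dvd_mul_right h
  rw [← coeff_scaleRoots_natDegree]
  apply dvd_term_of_isRoot_of_dvd_terms _ hroot
  intro j hj
  by_cases h : j < p.natDegree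
  · rw [coeff_scaleRoots]
    refine (dvd_mul_of_dvd_right ?_ _).mul_right _
    exact dvd_pow_self _ (by omega)
  · rw [← natDegree_scaleRoots p Δ₂] at *
    rw [coeff_eq_zero_of_natDegree_lt (lt_of_le_of_ne (not_lt.mp h) hj.symm), zero_mul]
    exact dvd_zero _

theorem mem_span_of_aeval_div_eq_zero (Δ₁ Δ₂ : R) (h2 : Δ₂ ≠ 0)
    (hcop : IsRelPrime Δ₁ Δ₂) (n : ℕ) : ∀ (p : R[X]), p.natDegree ≤ n →
    aeval (algebraMap R K Δ₁ / algebraMap R K Δ₂) p = 0 →
    p ∈ Ideal.span {C Δ₂ * X - C Δ₁} := by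
  have h2K : algebraMap R K Δ₂ ≠ 0 := by
    intro h
    exact h2 (IsFractionRing.injective R K (by rw [h, map_zero]))
  induction n with
  | zero =>
    intro p hpn hp
    rw [Polynomial.eq_C_of_natDegree_le_zero hpn] at hp ⊢
    rw [aeval_C] at hp
    have : p.coeff 0 = 0 := IsFractionRing.injective R K (by rw [hp, map_zero])
    rw [this, map_zero]
    exact Submodule.zero_mem _
  | succ n ih =>
    intro p hpn hp
    by_cases hlt : p.natDegree ≤ n
    · exact ih p hlt hp
    have hdeg : p.natDegree = n + 1 := by omega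
    obtain ⟨c, hc⟩ := dvd_leadingCoeff_of_aeval_div_eq_zero K Δ₁ Δ₂ h2 hcop hp
    set q : R[X] := p - C c * X ^ n * (C Δ₂ * X - C Δ₁) with hq
    have hgen : aeval (algebraMap R K Δ₁ / algebraMap R K Δ₂) (C Δ₂ * X - C Δ₁) = 0 := by
      simp only [map_sub, map_mul, aeval_C, aeval_X]
      field_simp
      ring
    have hq0 : aeval (algebraMap R K Δ₁ / algebraMap R K Δ₂) q = 0 := by
      rw [hq, map_sub, hp, map_mul, hgen, mul_zero, sub_zero]
    have hqdeg : q.natDegree ≤ n := by
      rw [Polynomial.natDegree_le_iff_coeff_eq_zero]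
      intro N hN
      by_cases hN1 : N = n + 1
      · subst hN1
        have : (C c * X ^ n * (C Δ₂ * X - C Δ₁)) = C (c * Δ₂) * X ^ (n + 1) - C (c * Δ₁) * X ^ n := by
          simp only [map_mul]
          ring
        rw [hq, this, coeff_sub, coeff_sub, coeff_C_mul, coeff_C_mul, coeff_X_pow, coeff_X_pow]
        simp only [if_true, mul_one]
        rw [if_neg (by omega), mul_zero, sub_zero, ← hdeg, coeff_natDegree, hc]
        ring
      · have hN2 : n + 1 < N := by omega
        have : (C c * X ^ n * (C Δ₂ * X - C Δ₁)) = C (c * Δ₂) * X ^ (n + 1) - C (c * Δ₁) * X ^ n := by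
          simp only [map_mul]
          ring
        rw [hq, this, coeff_sub, coeff_sub, coeff_C_mul, coeff_C_mul, coeff_X_pow, coeff_X_pow,
          if_neg (by omega), if_neg (by omega), coeff_eq_zero_of_natDegree_lt (by omega)]
        simp
    have hqmem := ih q hqdeg hq0
    have : p = q + C c * X ^ n * (C Δ₂ * X - C Δ₁) := by rw [hq]; ring
    rw [this]
    exact Ideal.add_mem _ hqmem (Ideal.mul_mem_left _ _ (Ideal.subset_span rfl))

end

end Groth.Agent.Lib.Helper26.DVRRatio
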