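import Mathlib
import Groth.Agent.Lib.Helper39.DVRDominate
import Groth.Agent.Lib.Helper26.DVRRatio

universe u
open Polynomial

namespace Groth.Agent.Lib.Helper26.DVRRatio

open Groth.Agent.Lib.Helper39.KA

theorem exists_dvr_hom (T : Type u) [CommRing T] [IsDomain T] [IsNoetherianRing T]
    [IsLocalRing T] (hT : ¬ IsField T) :
    ∃ (A : Type u) (_ : CommRing A) (_ : IsDomain A) (_ : IsDiscreteValuationRing A)
      (j : T →+* A), Function.Injective j ∧
        ∀ a ∈ IsLocalRing.maximalIdeal T, j a ∈ IsLocalRing.maximalIdeal A := by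
  obtain ⟨V, hV, hmem, hval⟩ := exists_dvr_dominating T (FractionRing T) hT
  have hinjL : Function.Injective (algebraMap T (FractionRing T)) :=
    IsFractionRing.injective T (FractionRing T)
  refine ⟨V, inferInstance, inferInstance, hV,
    (algebraMap T (FractionRing T)).codRestrict V (fun a => hmem a), ?_, ?_⟩
  · intro a b hab
    exact hinjL (congrArg Subtype.val hab)
  · intro a ha
    rw [ValuationSubring.valuation_lt_one_iff]
    exact hval a ha

theorem exists_dvr_ratio
    (R : Type u) [CommRing R] [IsDomain R] [IsNoetherianRing R] [UniqueFactorizationMonoid R]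
    [IsLocalRing R]
    (Δ₁ Δ₂ : R) (h₁ : ¬ IsUnit Δ₁) (h₂ : ¬ IsUnit Δ₂) (hcop : IsRelPrime Δ₁ Δ₂) :
    ∃ (A : Type u) (_ : CommRing A) (_ : IsDomain A) (_ : IsDiscreteValuationRing A) (f : R →+* A),
      IsLocalHom f ∧ Function.Injective f ∧ ¬ IsUnit (f Δ₁) ∧
        ∃ u : Aˣ, (u : A) - 1 ∈ IsLocalRing.maximalIdeal A ∧ f Δ₁ = (u : A) * f Δ₂ := by
  classical
  have h2 : Δ₂ ≠ 0 := by
    rintro rfl
    exact h₁ (hcop (dvd_refl Δ₁) (dvd_zero Δ₁))
  let K := FractionRing R
  have hinjK : Function.Injective (algebraMap R K) := IsFractionRing.injective R K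
  have h2K : algebraMap R K Δ₂ ≠ 0 := fun h => h2 (hinjK (by rw [h, map_zero]))
  let t : K := algebraMap R K Δ₁ / algebraMap R K Δ₂
  let φ : R[X] →ₐ[R] K := aeval t
  let I : Ideal R[X] := RingHom.ker φ.toRingHom
  have hIprime : I.IsPrime := RingHom.ker_isPrime φ.toRingHom
  let S := R[X] ⧸ I
  let ψ : R[X] →+* IsLocalRing.ResidueField R := eval₂RingHom (IsLocalRing.residue R) 1
  have hres : ∀ a, a ∈ IsLocalRing.maximalIdeal R → IsLocalRing.residue R a = 0 := fun a ha =>
    (IsLocalRing.residue_eq_zero_iff a).mpr ha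
  have hm1 : Δ₁ ∈ IsLocalRing.maximalIdeal R := h₁
  have hm2 : Δ₂ ∈ IsLocalRing.maximalIdeal R := h₂
  have hIψ : ∀ p ∈ I, ψ p = 0 := by
    intro p hp
    have hp' : aeval t p = 0 := hp
    have hmem := mem_span_of_aeval_div_eq_zero K Δ₁ Δ₂ h2 hcop p.natDegree p le_rfl hp'
    rw [Ideal.mem_span_singleton] at hmem
    obtain ⟨q, rfl⟩ := hmem
    rw [map_mul]
    have : ψ (C Δ₂ * X - C Δ₁) = 0 := by
      simp only [ψ, coe_eval₂RingHom, eval₂_sub, eval₂_mul, eval₂_C, eval₂_X]
      rw [hres _ hm1, hres _ hm2]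
      simp
    rw [this, zero_mul]
  let ψbar : S →+* IsLocalRing.ResidueField R := Ideal.Quotient.lift I ψ hIψ
  have hψbar : ∀ p, ψbar (Ideal.Quotient.mk I p) = ψ p := fun p => Ideal.Quotient.lift_mk I ψ hIψ
  have hψC : ∀ a, ψ (C a) = IsLocalRing.residue R a := fun a => by
    simp [ψ]
  have hψX : ψ X = 1 := by simp [ψ]
  have hsurj : Function.Surjective ψbar := by
    intro y
    obtain ⟨a, rfl⟩ := IsLocalRing.residue_surjective y
    exact ⟨Ideal.Quotient.mk I (C a), by rw [hψbar, hψC]⟩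
  let P : Ideal S := RingHom.ker ψbar
  have hPmax : P.IsMaximal := RingHom.ker_isMaximal_of_surjective ψbar hsurj
  have hPprime : P.IsPrime := hPmax.isPrime
  let SP := Localization.AtPrime P
  have hSdom : IsDomain S := Ideal.Quotient.isDomain I
  have hle : P.primeCompl ≤ nonZeroDivisors S := by
    intro x hx
    apply mem_nonZeroDivisors_of_ne_zero
    rintro rfl
    exact hx (Ideal.zero_mem P)
  have hSPdom : IsDomain SP := IsLocalization.isDomain_localization hle
  have hSPnoeth : IsNoetherianRing SP := IsLocalization.isNoetherianRing P.primeCompl SP inferInstance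
  have hinjSP : Function.Injective (algebraMap S SP) := IsLocalization.injective SP hle
  -- maps
  let g : R →+* SP := (algebraMap S SP).comp ((Ideal.Quotient.mk I).comp C)
  have hginj : Function.Injective g := by
    intro a b hab
    have h1 : Ideal.Quotient.mk I (C a) = Ideal.Quotient.mk I (C b) := hinjSP hab
    rw [Ideal.Quotient.eq] at h1
    have h3 : φ (C a - C b) = 0 := h1
    rw [map_sub] at h3
    have h4 : algebraMap R K a - algebraMap R K b = 0 := by
      simpa [φ] using h3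
    exact hinjK (sub_eq_zero.mp h4)
  have hmemP : ∀ p : R[X], ψ p = 0 → algebraMap S SP (Ideal.Quotient.mk I p) ∈
      IsLocalRing.maximalIdeal SP := by
    intro p hp
    rw [IsLocalization.AtPrime.to_map_mem_maximal_iff SP P]
    show ψbar (Ideal.Quotient.mk I p) = 0
    rw [hψbar, hp]
  have hgmax : ∀ a ∈ IsLocalRing.maximalIdeal R, g a ∈ IsLocalRing.maximalIdeal SP := by
    intro a ha
    apply hmemP
    rw [hψC, hres a ha]
  have hfield : ¬ IsField SP := by
    intro hF
    have hne : g Δ₂ ≠ 0 := fun h => h2 (hginj (by rw [h, map_zero]))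
    obtain ⟨y, hy⟩ := hF.mul_inv_cancel hne
    have hu : IsUnit (g Δ₂) := ⟨⟨g Δ₂, y, hy, by rw [mul_comm]; exact hy⟩, rfl⟩
    exact (hgmax Δ₂ hm2) hu
  obtain ⟨A, iA1, iA2, iA3, j, hjinj, hjmax⟩ := exists_dvr_hom SP hfield
  let f : R →+* A := j.comp g
  have hfmax : ∀ a ∈ IsLocalRing.maximalIdeal R, f a ∈ IsLocalRing.maximalIdeal A := by
    intro a ha
    exact hjmax (g a) (hgmax a ha)
  have hlocal : IsLocalHom f := by
    refine ⟨fun a ha => ?_⟩
    by_contra hna
    exact (hfmax a hna) ha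
  have hfinj : Function.Injective f := hjinj.comp hginj
  -- the unit
  let τ : A := j (algebraMap S SP (Ideal.Quotient.mk I X))
  have hτ1 : τ - 1 ∈ IsLocalRing.maximalIdeal A := by
    have h1 : τ - 1 = j (algebraMap S SP (Ideal.Quotient.mk I (X - 1))) := by
      simp [τ]
    rw [h1]
    apply hjmax
    apply hmemP
    rw [map_sub, hψX, map_one, sub_self]
  have hτu : IsUnit τ := by
    by_contra hn
    have h1 : τ ∈ IsLocalRing.maximalIdeal A := hn
    have h3 : (1 : A) ∈ IsLocalRing.maximalIdeal A := by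
      have := Ideal.sub_mem _ h1 hτ1
      simp at this
    exact (Ideal.ne_top_iff_one _).mp (IsLocalRing.maximalIdeal.isMaximal A).ne_top h3
  refine ⟨A, iA1, iA2, iA3, f, hlocal, hfinj, ?_, hτu.unit, ?_, ?_⟩
  · intro hu
    exact h₁ (hlocal.map_nonunit Δ₁ hu)
  · exact hτ1
  · have h0 : Ideal.Quotient.mk I (C Δ₁) = Ideal.Quotient.mk I X * Ideal.Quotient.mk I (C Δ₂) := by
      rw [← map_mul, Ideal.Quotient.eq]
      show φ (C Δ₁ - X * C Δ₂) = 0
      simp only [φ, map_sub, map_mul, aeval_C, aeval_X, t]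
      rw [div_mul_cancel₀ _ h2K, sub_self]
    show j (algebraMap S SP (Ideal.Quotient.mk I (C Δ₁))) = _
    rw [h0, map_mul, map_mul]
    rfl

end Groth.Agent.Lib.Helper26.DVRRatio
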