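import Mathlib

set_option autoImplicit false

namespace Groth.Agent.Lib.Helper26.SepTrace

open TensorProduct

section

variable {K L : Type*} [CommRing K] [CommRing L] [Algebra K L]

/-- `x ⊗ y ↦ ψ (s * x) • y` -/
noncomputable def slide (ψ : L →ₗ[K] K) (s : L) : L ⊗[K] L →ₗ[K] L :=
  TensorProduct.lift ((LinearMap.lsmul K L).comp (ψ.comp (LinearMap.mulLeft K s)))

@[simp] theorem slide_tmul (ψ : L →ₗ[K] K) (s x y : L) :
    slide ψ s (x ⊗ₜ[K] y) = ψ (s * x) • y := rfl

theorem slide_one_tmul_mul (ψ : L →ₗ[K] K) (s b : L) (w : L ⊗[K] L) :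
    slide ψ s ((1 ⊗ₜ[K] b) * w) = b * slide ψ s w := by
  induction w using TensorProduct.induction_on with
  | zero => simp
  | tmul x y =>
    rw [Algebra.TensorProduct.tmul_mul_tmul, one_mul, slide_tmul, slide_tmul, mul_smul_comm]
  | add w₁ w₂ h₁ h₂ => rw [mul_add, map_add, map_add, h₁, h₂, mul_add]

variable {ι : Type*} [Fintype ι] [DecidableEq ι] (β : Module.Basis ι K L)

theorem slide_trace (s : L) (w : L ⊗[K] L) :
    slide (Algebra.trace K L) s w = ∑ j, slide (β.coord j) s ((β j ⊗ₜ[K] 1) * w) := by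
  induction w using TensorProduct.induction_on with
  | zero => simp
  | tmul x y =>
    simp only [Algebra.TensorProduct.tmul_mul_tmul, one_mul, slide_tmul]
    rw [Algebra.trace_eq_matrix_trace β, Matrix.trace, Finset.sum_smul]
    apply Finset.sum_congr rfl
    intro j _
    rw [Matrix.diag_apply, Algebra.leftMulMatrix_eq_repr_mul, Module.Basis.coord_apply, mul_assoc,
      mul_comm (β j) x]
  | add w₁ w₂ h₁ h₂ =>
    simp only [mul_add, map_add, h₁, h₂, Finset.sum_add_distrib]

theorem sum_mul_slide_coord (s : L) (w : L ⊗[K] L) :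
    ∑ j, β j * slide (β.coord j) s w = s * Algebra.TensorProduct.lmul' K w := by
  induction w using TensorProduct.induction_on with
  | zero => simp
  | tmul x y =>
    simp only [slide_tmul, Algebra.TensorProduct.lmul'_apply_tmul, Module.Basis.coord_apply]
    have : ∀ j, β j * (β.repr (s * x) j • y) = (β.repr (s * x) j • β j) * y := by
      intro j
      rw [mul_smul_comm, smul_mul_assoc]
    simp_rw [this]
    rw [← Finset.sum_mul, β.sum_repr, mul_assoc]
  | add w₁ w₂ h₁ h₂ =>
    simp only [map_add, mul_add, Finset.sum_add_distrib, h₁, h₂]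

/-- the key identity: a separability element gives a dual basis for the trace form -/
theorem slide_trace_eq {ι : Type*} [Fintype ι] [DecidableEq ι] (β : Module.Basis ι K L)
    (t : L ⊗[K] L)
    (ht : ∀ s : L, ((1 : L) ⊗ₜ[K] s - s ⊗ₜ[K] (1 : L)) * t = 0)
    (ht1 : Algebra.TensorProduct.lmul' K t = 1) (s : L) : slide (Algebra.trace K L) s t = s := by
  have hcomm : ∀ b : L, (b ⊗ₜ[K] (1 : L)) * t = ((1 : L) ⊗ₜ[K] b) * t := by
    intro b
    have := ht b
    rw [sub_mul, sub_eq_zero] at this
    exact this.symm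
  rw [slide_trace β]
  simp_rw [hcomm, slide_one_tmul_mul]
  rw [sum_mul_slide_coord, ht1, mul_one]

end

section Consequences

variable {K L : Type*} [CommRing K] [CommRing L] [Algebra K L]
  {ι : Type*} [Fintype ι] [DecidableEq ι] (β : Module.Basis ι K L)
  (t : L ⊗[K] L) (ht : ∀ s : L, ((1 : L) ⊗ₜ[K] s - s ⊗ₜ[K] (1 : L)) * t = 0)
  (ht1 : Algebra.TensorProduct.lmul' K t = 1)

include β ht ht1

theorem eq_zero_of_trace_mul_eq_zero (s : L) (hs : ∀ x : L, Algebra.trace K L (s * x) = 0) :
    s = 0 := by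
  rw [← slide_trace_eq β t ht ht1 s]
  have : slide (Algebra.trace K L) s = 0 := by
    apply TensorProduct.ext'
    intro x y
    rw [slide_tmul, hs, zero_smul, LinearMap.zero_apply]
  rw [this, LinearMap.zero_apply]

theorem exists_trace_mul_eq (φ : L →ₗ[K] K) :
    ∃ s : L, ∀ z : L, Algebra.trace K L (s * z) = φ z := by
  let t' : L ⊗[K] L := Algebra.TensorProduct.comm K L L t
  have ht' : ∀ s : L, ((1 : L) ⊗ₜ[K] s - s ⊗ₜ[K] (1 : L)) * t' = 0 := by
    intro s
    have h1 := ht s
    have h2 : (s ⊗ₜ[K] (1 : L) - (1 : L) ⊗ₜ[K] s) * t = 0 := by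
      rw [← neg_sub, neg_mul, h1, neg_zero]
    have h3 := congrArg (Algebra.TensorProduct.comm K L L) h2
    rw [map_mul, map_sub, Algebra.TensorProduct.comm_tmul, Algebra.TensorProduct.comm_tmul,
      map_zero] at h3
    exact h3
  have hl : ∀ w : L ⊗[K] L, Algebra.TensorProduct.lmul' K (Algebra.TensorProduct.comm K L L w) =
      Algebra.TensorProduct.lmul' K w := by
    intro w
    induction w using TensorProduct.induction_on with
    | zero => simp
    | tmul x y => simp [mul_comm]
    | add w₁ w₂ h₁ h₂ => rw [map_add, map_add, map_add, h₁, h₂]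
  have ht1' : Algebra.TensorProduct.lmul' K t' = 1 := by rw [hl, ht1]
  refine ⟨slide φ 1 t, fun z => ?_⟩
  have key : ∀ w : L ⊗[K] L, Algebra.trace K L (slide φ 1 w * z) =
      φ (slide (Algebra.trace K L) z (Algebra.TensorProduct.comm K L L w)) := by
    intro w
    induction w using TensorProduct.induction_on with
    | zero => simp
    | tmul x y =>
      rw [slide_tmul, Algebra.TensorProduct.comm_tmul, slide_tmul, one_mul, smul_mul_assoc,
        map_smul, map_smul, smul_eq_mul, smul_eq_mul, mul_comm y z, mul_comm]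
    | add w₁ w₂ h₁ h₂ => rw [map_add, add_mul, map_add, h₁, h₂, map_add, map_add, map_add]
  rw [key, slide_trace_eq β t' ht' ht1' z]

end Consequences

section Etale

variable (K L : Type*) [CommRing K] [CommRing L] [Algebra K L] [Algebra.Etale K L]
  [Module.Free K L] [Module.Finite K L]

theorem exists_sep_elt : ∃ t : L ⊗[K] L,
    (∀ s : L, ((1 : L) ⊗ₜ[K] s - s ⊗ₜ[K] (1 : L)) * t = 0) ∧
      Algebra.TensorProduct.lmul' K t = 1 :=
  Algebra.FormallyUnramified.iff_exists_tensorProduct.mp inferInstance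

theorem etale_eq_zero_of_trace_mul_eq_zero (s : L)
    (hs : ∀ x : L, Algebra.trace K L (s * x) = 0) : s = 0 := by
  classical
  obtain ⟨t, ht, ht1⟩ := exists_sep_elt K L
  exact eq_zero_of_trace_mul_eq_zero (Module.Free.chooseBasis K L) t ht ht1 s hs

theorem etale_exists_trace_mul_eq (φ : L →ₗ[K] K) :
    ∃ s : L, ∀ z : L, Algebra.trace K L (s * z) = φ z := by
  classical
  obtain ⟨t, ht, ht1⟩ := exists_sep_elt K L
  exact exists_trace_mul_eq (Module.Free.chooseBasis K L) t ht ht1 φ

end Etale

end Groth.Agent.Lib.Helper26.SepTrace
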