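import Mathlib
import Groth.Prelude
import Groth.Agent.Lib.Helper26.SepTrace

set_option autoImplicit false

namespace Groth.Agent.Lib.Helper26.Dedekind

open QFDual Groth.Agent.Lib.Helper26.SepTrace

universe u

variable {A K B L : Type u} [CommRing A] [CommRing K] [CommRing B] [CommRing L]
  [Algebra A K] [Algebra A B] [Algebra B L] [Algebra K L] [Algebra A L]
  [IsScalarTower A K L] [IsScalarTower A B L]

theorem injective_AK (h : IsDedekindDefined A K B L) : Function.Injective (algebraMap A K) :=
  have := h.isFractionRing
  IsFractionRing.injective A K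

/-- every element of `L` is a fraction `b / s` -/
theorem exists_frac (h : IsDedekindDefined A K B L) (y : L) :
    ∃ (b : B) (k : K), IsUnit k ∧ y * algebraMap K L k = algebraMap B L b := by
  have := h.isLocalization
  have := h.isFractionRing
  obtain ⟨⟨b, m⟩, hbm⟩ := IsLocalization.surj (Algebra.algebraMapSubmonoid B (nonZeroDivisors A)) y
  obtain ⟨s, hs, hsm⟩ := m.2
  refine ⟨b, algebraMap A K s, IsLocalization.map_units K ⟨s, hs⟩, ?_⟩
  rw [← hbm, ← IsScalarTower.algebraMap_apply A K L, IsScalarTower.algebraMap_apply A B L, hsm]

theorem eq_zero_of_trace (h : IsDedekindDefined A K B L) (x : L)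
    (hx : ∀ b : B, Algebra.trace K L (x * algebraMap B L b) = 0) : x = 0 := by
  have := h.etale
  have := h.free
  have := h.finiteKL
  apply etale_eq_zero_of_trace_mul_eq_zero K L x
  intro y
  obtain ⟨b, k, hk, hy⟩ := exists_frac h y
  have h1 : Algebra.trace K L (x * y) * k = 0 := by
    rw [mul_comm, ← smul_eq_mul, ← map_smul, Algebra.smul_def, mul_comm, mul_assoc, hy, hx]
  exact (hk.mul_left_eq_zero).mp h1

theorem exists_extend (h : IsDedekindDefined A K B L) (φ : B →ₗ[A] A) :
    ∃ φ' : L →ₗ[K] K, ∀ b : B, φ' (algebraMap B L b) = algebraMap A K (φ b) := by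
  have := h.isLocalization
  have := h.isFractionRing
  let f : B →ₗ[A] L := (IsScalarTower.toAlgHom A B L).toLinearMap
  let g : A →ₗ[A] K := Algebra.linearMap A K
  let ψ : L →ₗ[A] K := IsLocalizedModule.map (nonZeroDivisors A) f g φ
  refine ⟨ψ.extendScalarsOfIsLocalization (nonZeroDivisors A) K, fun b => ?_⟩
  rw [LinearMap.extendScalarsOfIsLocalization_apply']
  exact IsLocalizedModule.map_apply (nonZeroDivisors A) f g φ b

/-- the value in `A` of the trace pairing -/
noncomputable def val (x : complementary A K B L) (b : B) : A := Classical.choose (x.2 b)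

theorem val_spec (x : complementary A K B L) (b : B) :
    algebraMap A K (val x b) = Algebra.trace K L ((x : L) * algebraMap B L b) :=
  Classical.choose_spec (x.2 b)

omit [IsScalarTower A B L] in
theorem trace_smulA (x : L) (a : A) (b' : L) :
    Algebra.trace K L (x * (algebraMap A L a * b')) =
      algebraMap A K a * Algebra.trace K L (x * b') := by
  have : x * (algebraMap A L a * b') = algebraMap A K a • (x * b') := by
    rw [IsScalarTower.algebraMap_apply A K L, Algebra.smul_def]
    ring
  rw [this, map_smul, smul_eq_mul]

/-- the map from the complementary module to `Hom_A(B, A)` -/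
noncomputable def toOmega (h : IsDedekindDefined A K B L) :
    complementary A K B L →ₗ[B] Disc.Omega A B where
  toFun x := ⟨
    { toFun := fun b => val x b
      map_add' := fun b c => by
        apply injective_AK h
        rw [map_add, val_spec, val_spec, val_spec, map_add, mul_add, map_add]
      map_smul' := fun a b => by
        apply injective_AK h
        rw [RingHom.id_apply, smul_eq_mul, (algebraMap A K).map_mul, val_spec, val_spec,
          Algebra.smul_def, (algebraMap B L).map_mul, ← IsScalarTower.algebraMap_apply A B L,
          trace_smulA] }⟩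
  map_add' x y := by
    apply Disc.Omega.ext
    apply LinearMap.ext
    intro b
    apply injective_AK h
    show algebraMap A K (val (x + y) b) = algebraMap A K (val x b + val y b)
    rw [map_add, val_spec, val_spec, val_spec, Submodule.coe_add, add_mul, map_add]
  map_smul' c x := by
    apply Disc.Omega.ext
    apply LinearMap.ext
    intro b
    apply injective_AK h
    show algebraMap A K (val (c • x) b) = algebraMap A K (val x (c * b))
    rw [val_spec, val_spec, Submodule.coe_smul, Algebra.smul_def, (algebraMap B L).map_mul]
    congr 1
    ring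

theorem toOmega_spec (h : IsDedekindDefined A K B L) (x : complementary A K B L) (b : B) :
    algebraMap A K ((toOmega h x).toLinearMap b) =
      Algebra.trace K L ((x : L) * algebraMap B L b) :=
  val_spec x b

theorem toOmega_bijective (h : IsDedekindDefined A K B L) : Function.Bijective (toOmega h) := by
  constructor
  · rw [injective_iff_map_eq_zero]
    intro x hx
    apply Subtype.ext
    apply eq_zero_of_trace h
    intro b
    rw [← toOmega_spec h x b, hx]
    simp
  · intro φ
    have := h.etale
    have := h.free
    have := h.finiteKL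
    obtain ⟨φ', hφ'⟩ := exists_extend h φ.toLinearMap
    obtain ⟨s, hs⟩ := etale_exists_trace_mul_eq K L φ'
    have hsmem : s ∈ complementary A K B L := fun b => ⟨φ.toLinearMap b, by rw [hs, hφ']⟩
    refine ⟨⟨s, hsmem⟩, ?_⟩
    apply Disc.Omega.ext
    apply LinearMap.ext
    intro b
    apply injective_AK h
    rw [toOmega_spec, hs, hφ']

theorem exists_equiv (h : IsDedekindDefined A K B L) :
    ∃ e : complementary A K B L ≃ₗ[B] Disc.Omega A B,
      ∀ (x : complementary A K B L) (b : B),
        algebraMap A K ((e x).toLinearMap b) = Algebra.trace K L ((x : L) * algebraMap B L b) :=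
  ⟨LinearEquiv.ofBijective (toOmega h) (toOmega_bijective h), fun x b => toOmega_spec h x b⟩

theorem trace_loc (h : IsDedekindDefined A K B L) [Module.Finite A B] [Module.Free A B] (z : B) :
    Algebra.trace K L (algebraMap B L z) = algebraMap A K (Algebra.trace A B z) := by
  have := h.isLocalization
  have := h.isFractionRing
  exact Algebra.trace_localization A (nonZeroDivisors A) (Rₘ := K) (Sₘ := L) z

theorem dedekindDifferent_eq (h : IsDedekindDefined A K B L) [Module.Finite A B]
    [Module.Free A B] :
    dedekindDifferent A K B L =
      Submodule.map (Algebra.linearMap B L) (different B (Disc.Omega.trace A B)) := by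
  ext x
  constructor
  · intro hx
    have h1 : (1 : L) ∈ complementary A K B L := by
      intro b
      rw [one_mul, trace_loc h]
      exact ⟨_, rfl⟩
    obtain ⟨b₀, hb₀⟩ := hx 1 h1
    rw [mul_one] at hb₀
    refine ⟨b₀, ?_, hb₀⟩
    show b₀ ∈ different B (Disc.Omega.trace A B)
    rw [mem_different_iff]
    intro m
    obtain ⟨y, rfl⟩ := (toOmega_bijective h).2 m
    obtain ⟨c, hc⟩ := hx y y.2
    refine ⟨c, ?_⟩
    apply Disc.Omega.ext
    apply LinearMap.ext
    intro z
    apply injective_AK h
    rw [Disc.Omega.smul_toLinearMap_apply, Disc.Omega.smul_toLinearMap_apply, toOmega_spec]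
    show algebraMap A K (Algebra.trace A B (c * z)) = _
    rw [← trace_loc h, (algebraMap B L).map_mul, (algebraMap B L).map_mul, hc, hb₀]
    congr 1
    ring
  · rintro ⟨b, hb, rfl⟩
    intro y hy
    have hb' : b ∈ different B (Disc.Omega.trace A B) := hb
    rw [mem_different_iff] at hb'
    obtain ⟨c, hc⟩ := hb' (toOmega h ⟨y, hy⟩)
    refine ⟨c, ?_⟩
    rw [← sub_eq_zero]
    apply eq_zero_of_trace h
    intro z
    rw [sub_mul, map_sub, sub_eq_zero]
    have h2 := congrArg (fun m : Disc.Omega A B => algebraMap A K (m.toLinearMap z)) hc
    simp only [Disc.Omega.smul_toLinearMap_apply] at h2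
    rw [toOmega_spec] at h2
    have h3 : algebraMap A K ((Disc.Omega.trace A B).toLinearMap (c * z)) =
        Algebra.trace K L (algebraMap B L c * algebraMap B L z) := by
      show algebraMap A K (Algebra.trace A B (c * z)) = _
      rw [← trace_loc h, (algebraMap B L).map_mul]
    rw [← h3, h2, Algebra.linearMap_apply, (algebraMap B L).map_mul]
    congr 1
    show y * (algebraMap B L b * algebraMap B L z) = algebraMap B L b * y * algebraMap B L z
    ring

end Groth.Agent.Lib.Helper26.Dedekind
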