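import Mathlib
import Groth.Prelude
import Groth.Agent.Lib.Helper26.DedekindCompl

set_option autoImplicit false

namespace Groth.Agent.Lib.Helper26.Dedekind

open QFDual TensorProduct

universe u

/-- trace of a finite free algebra computed from any projective coordinate system -/
theorem trace_eq_sum_of_coords {K L : Type*} [CommRing K] [CommRing L] [Algebra K L]
    [Module.Free K L] [Module.Finite K L] {n : ℕ} (F : Fin n → (L →ₗ[K] K)) (ℓ : Fin n → L)
    (hF : ∀ y : L, ∑ i, F i y • ℓ i = y) (x : L) :
    Algebra.trace K L x = ∑ i, F i (x * ℓ i) := by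
  rw [Algebra.trace_apply]
  have h1 : Algebra.lmul K L x = dualTensorHom K L L (∑ i, F i ⊗ₜ[K] (x * ℓ i)) := by
    apply LinearMap.ext
    intro y
    rw [map_sum, LinearMap.sum_apply]
    simp only [dualTensorHom_apply]
    show x * y = _
    conv_lhs => rw [← hF y, Finset.mul_sum]
    apply Finset.sum_congr rfl
    intro i _
    rw [mul_smul_comm]
  rw [h1, LinearMap.trace_eq_contract_apply, map_sum]
  simp only [contractLeft_apply]

variable {A K B L : Type u} [CommRing A] [CommRing K] [CommRing B] [CommRing L]
  [Algebra A K] [Algebra A B] [Algebra B L] [Algebra K L] [Algebra A L]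
  [IsScalarTower A K L] [IsScalarTower A B L]

theorem one_mem_complementary_of_flat (h : IsDedekindDefined A K B L) [Module.Flat A B] :
    (1 : L) ∈ complementary A K B L := by
  have := h.isNoetherianRing
  have := h.finite
  have := h.free
  have := h.finiteKL
  have hfp : Module.FinitePresentation A B := Module.finitePresentation_of_finite A B
  have hproj : Module.Projective A B := Module.Flat.projective_of_finitePresentation
  obtain ⟨n, f, g, _, _, hfg⟩ := Module.Finite.exists_comp_eq_id_of_projective A B
  -- coordinates
  let c : Fin n → (B →ₗ[A] A) := fun i => (LinearMap.proj i).comp g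
  let bb : Fin n → B := fun i => f (Pi.single i 1)
  have hc : ∀ z : B, ∑ i, c i z • bb i = z := by
    intro z
    have h1 : f (g z) = z := LinearMap.congr_fun hfg z
    conv_rhs => rw [← h1, ← (Pi.basisFun A (Fin n)).sum_repr (g z), map_sum]
    apply Finset.sum_congr rfl
    intro i _
    rw [map_smul]
    simp [c, bb]
  choose F hF using fun i => exists_extend h (c i)
  let ℓ : Fin n → L := fun i => algebraMap B L (bb i)
  have hFℓ : ∀ y : L, ∑ i, F i y • ℓ i = y := by
    intro y
    obtain ⟨b, k, hk, hy⟩ := exists_frac h y
    have h2 : k • y = algebraMap B L b := by rw [Algebra.smul_def, mul_comm, hy]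
    have h3 : k • (∑ i, F i y • ℓ i) = k • y := by
      rw [Finset.smul_sum, h2]
      conv_rhs => rw [← hc b, map_sum]
      apply Finset.sum_congr rfl
      intro i _
      have e1 : k • (F i y • ℓ i) = F i (k • y) • ℓ i := by
        rw [smul_smul, (F i).map_smul, smul_eq_mul]
      rw [e1, h2, hF, Algebra.smul_def (c i b) (bb i),
        (algebraMap B L).map_mul, ← IsScalarTower.algebraMap_apply A B L,
        IsScalarTower.algebraMap_apply A K L, ← Algebra.smul_def]
    obtain ⟨u, rfl⟩ := hk
    have := congrArg (fun w => (↑u⁻¹ : K) • w) h3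
    simpa [smul_smul] using this
  intro b
  rw [one_mul, trace_eq_sum_of_coords F ℓ hFℓ]
  apply Subring.sum_mem
  intro i _
  refine ⟨c i (b * bb i), ?_⟩
  rw [← hF, (algebraMap B L).map_mul]

end Groth.Agent.Lib.Helper26.Dedekind
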