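import Mathlib
import Groth.Agent.Lib.Helper26.Arith4

set_option autoImplicit false
set_option linter.unusedSectionVars false
set_option linter.style.haveILetI false
universe u

namespace Groth.Agent.Lib.Helper26.Ferrand

open TensorProduct

/-- A finite injective algebra `A → S` has an `A`-linear functional `S → A ⧸ q` not killing `1`,
for every prime `q` of `A`. -/
theorem exists_functional (A S : Type u) [CommRing A] [CommRing S] [Algebra A S]
    [Module.Finite A S] (hinj : Function.Injective (algebraMap A S)) (q : Ideal A) [q.IsPrime] :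
    ∃ g : S →ₗ[A] A ⧸ q, g 1 ≠ 0 := by
  haveI : Algebra.IsIntegral A S := Algebra.IsIntegral.of_finite A S
  obtain ⟨Q, -, hQp, hQ⟩ := Ideal.exists_ideal_over_prime_of_isIntegral q (⊥ : Ideal S) (by
    rw [← RingHom.ker_eq_comap_bot, (RingHom.injective_iff_ker_eq_bot _).1 hinj]; exact bot_le)
  haveI := hQp
  haveI : Q.LiesOver q := ⟨hQ.symm⟩
  haveI : IsDomain (A ⧸ q) := Ideal.Quotient.isDomain q
  haveI : IsDomain (S ⧸ Q) := Ideal.Quotient.isDomain Q
  haveI : Module.Finite A (S ⧸ Q) :=
    Module.Finite.of_surjective (Ideal.Quotient.mkₐ A Q).toLinearMap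
      (Ideal.Quotient.mkₐ_surjective A Q)
  haveI : Module.Finite (A ⧸ q) (S ⧸ Q) := Module.Finite.of_restrictScalars_finite A (A ⧸ q) (S ⧸ Q)
  haveI : Module.IsTorsionFree (A ⧸ q) (S ⧸ Q) := by
    rw [Module.isTorsionFree_iff_smul_eq_zero]
    intro r m hrm
    rw [Algebra.smul_def, mul_eq_zero] at hrm
    rcases hrm with h | h
    · left
      exact (FaithfulSMul.algebraMap_injective (A ⧸ q) (S ⧸ Q)) (h.trans (map_zero _).symm)
    · right; exact h
  obtain ⟨n, j, hj⟩ := Groth.Agent.Lib.Helper26.Arith.exists_injective_to_fin (A ⧸ q) (S ⧸ Q)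
  have h1 : j 1 ≠ 0 := by
    intro h
    exact one_ne_zero (hj (h.trans (map_zero j).symm))
  obtain ⟨i, hi⟩ : ∃ i, j 1 i ≠ 0 := by
    by_contra hc
    apply h1
    funext i
    by_contra hi
    exact hc ⟨i, hi⟩
  refine ⟨(((LinearMap.proj i).comp j).restrictScalars A).comp (Ideal.Quotient.mkₐ A Q).toLinearMap, ?_⟩
  simpa using hi

/-- A finite injective ring map `A → S` is "faithful for tensor products": `S ⊗ N = 0` forces
`N = 0`. -/
theorem subsingleton_of_tensor (A S : Type u) [CommRing A] [IsNoetherianRing A] [CommRing S]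
    [Algebra A S] [Module.Finite A S] (hinj : Function.Injective (algebraMap A S))
    (N : Type u) [AddCommGroup N] [Module A N] (h : Subsingleton (S ⊗[A] N)) :
    Subsingleton N := by
  by_contra hN
  rw [not_subsingleton_iff_nontrivial] at hN
  obtain ⟨n₀, hn₀⟩ := exists_ne (0 : N)
  obtain ⟨c, hc⟩ := CharacterModule.exists_character_apply_ne_zero_of_ne_zero hn₀
  haveI : Nontrivial (CharacterModule N) := ⟨⟨c, 0, fun h => hc (by rw [h]; rfl)⟩⟩
  obtain ⟨q, hq⟩ := associatedPrimes.nonempty A (CharacterModule N)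
  obtain ⟨hqp, c₀, hc₀⟩ := (isAssociatedPrime_iff).mp hq
  haveI := hqp
  obtain ⟨g, hg⟩ := exists_functional A S hinj q
  have hker : LinearMap.ker (LinearMap.toSpanSingleton A (CharacterModule N) c₀) = q := by
    ext r
    rw [hc₀, LinearMap.mem_ker, LinearMap.toSpanSingleton_apply, Submodule.mem_colon_singleton,
      Submodule.mem_bot]
  have hι : Function.Injective
      (Submodule.liftQ q (LinearMap.toSpanSingleton A (CharacterModule N) c₀) hker.ge) := by
    rw [← LinearMap.ker_eq_bot, Submodule.ker_liftQ, hker]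
    exact Submodule.mkQ_map_self q
  have hψ : (Submodule.liftQ q (LinearMap.toSpanSingleton A (CharacterModule N) c₀) hker.ge)
      (g 1) ≠ 0 := by
    intro h0
    exact hg (hι (h0.trans (map_zero _).symm))
  obtain ⟨n, hn⟩ : ∃ n, (Submodule.liftQ q (LinearMap.toSpanSingleton A (CharacterModule N) c₀)
      hker.ge) (g 1) n ≠ 0 := by
    by_contra hcon
    apply hψ
    ext n
    by_contra hn
    exact hcon ⟨n, hn⟩
  have h3 : CharacterModule.uncurry
      ((Submodule.liftQ q (LinearMap.toSpanSingleton A (CharacterModule N) c₀) hker.ge).comp g)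
      ((1 : S) ⊗ₜ[A] n) =
      (Submodule.liftQ q (LinearMap.toSpanSingleton A (CharacterModule N) c₀) hker.ge) (g 1) n := by
    rfl
  have h0 : (1 : S) ⊗ₜ[A] n = 0 := Subsingleton.elim _ _
  rw [h0, map_zero] at h3
  exact hn h3.symm

end Groth.Agent.Lib.Helper26.Ferrand
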