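import Mathlib
import Groth.Agent.Lib.Helper54.LocalFlat5
import Groth.Agent.Lib.Helper54.LocalFlat6

set_option autoImplicit false
set_option linter.unusedSectionVars false
set_option linter.style.haveILetI false
universe u

namespace Groth.Agent.Lib.Helper26.Ferrand

open TensorProduct Groth.Agent.Lib.Helper54.LocalFlat

/-- The descent property for a ring `A`. -/
def DescP (A : Type u) [CommRing A] : Prop :=
  ∀ (S : Type u) [CommRing S] [Algebra A S] [Module.Finite A S],
    Function.Injective (algebraMap A S) →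
    ∀ (M : Type u) [AddCommGroup M] [Module A M], Module.Flat S (S ⊗[A] M) → Module.Flat A M

/-- Base change to a quotient pair. -/
theorem flat_quotient_of_descP (A : Type u) [CommRing A] (S : Type u) [CommRing S] [Algebra A S]
    [Module.Finite A S] (M : Type u) [AddCommGroup M] [Module A M] [Module.Flat S (S ⊗[A] M)]
    (𝔞 : Ideal A) (𝔟 : Ideal S) [𝔟.LiesOver 𝔞] (IH : DescP (A ⧸ 𝔞)) :
    Module.Flat (A ⧸ 𝔞) ((A ⧸ 𝔞) ⊗[A] M) := by
  haveI : Module.Finite A (S ⧸ 𝔟) :=
    Module.Finite.of_surjective (Ideal.Quotient.mkₐ A 𝔟).toLinearMap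
      (Ideal.Quotient.mkₐ_surjective A 𝔟)
  haveI : Module.Finite (A ⧸ 𝔞) (S ⧸ 𝔟) := Module.Finite.of_restrictScalars_finite A (A ⧸ 𝔞) (S ⧸ 𝔟)
  haveI : Module.Flat (S ⧸ 𝔟) ((S ⧸ 𝔟) ⊗[A] M) := flat_baseChange_tower M S (S ⧸ 𝔟)
  refine IH (S ⧸ 𝔟) (FaithfulSMul.algebraMap_injective (A ⧸ 𝔞) (S ⧸ 𝔟)) ((A ⧸ 𝔞) ⊗[A] M) ?_
  exact Module.Flat.of_linearEquiv
    (AlgebraTensorModule.cancelBaseChange A (A ⧸ 𝔞) (S ⧸ 𝔟) (S ⧸ 𝔟) M)

/-- If `I ⊓ J = ⊥` and `M` is flat modulo `I` and modulo `J`, then `M` is flat. -/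
theorem flat_of_inf_eq_bot (A : Type u) [CommRing A] (M : Type u) [AddCommGroup M] [Module A M]
    (I J : Ideal A) (hIJ : I ⊓ J = ⊥)
    [Module.Flat (A ⧸ I) ((A ⧸ I) ⊗[A] M)] [Module.Flat (A ⧸ J) ((A ⧸ J) ⊗[A] M)] :
    Module.Flat A M := by
  have hmul : ∀ a ∈ I, ∀ b ∈ J, a * b = 0 := by
    intro a ha b hb
    have : a * b ∈ I ⊓ J := ⟨I.mul_mem_right _ ha, J.mul_mem_left _ hb⟩
    rw [hIJ] at this
    exact this
  have key : ∀ (I J : Ideal A), (∀ a ∈ I, ∀ b ∈ J, a * b = 0) → I ⊓ J = ⊥ →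
      Module.Flat (A ⧸ J) ((A ⧸ J) ⊗[A] M) → Function.Injective (I.subtype.rTensor M) := by
    intro I J hmul hIJ _
    have h1 : Function.Injective ((J.mkQ.comp I.subtype).rTensor M) := by
      apply rTensor_injective_of_torsion M J
      · intro x y hxy
        have h2 : (x : A) - y ∈ J := by
          have := hxy
          simp only [LinearMap.comp_apply, Submodule.subtype_apply, Submodule.mkQ_apply] at this
          exact (Submodule.Quotient.eq J).mp this
        have h3 : (x : A) - y ∈ I ⊓ J := ⟨I.sub_mem x.2 y.2, h2⟩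
        rw [hIJ] at h3
        exact Subtype.ext (sub_eq_zero.mp h3)
      · intro a ha x
        apply Subtype.ext
        rw [Submodule.coe_smul, smul_eq_mul, mul_comm]
        exact hmul _ x.2 _ ha
      · intro a ha x
        obtain ⟨r, rfl⟩ := Submodule.Quotient.mk_surjective _ x
        rw [← Submodule.Quotient.mk_smul, Submodule.Quotient.mk_eq_zero]
        exact J.mul_mem_right _ ha
    rw [LinearMap.rTensor_comp] at h1
    exact Function.Injective.of_comp h1
  have htorI := key I J hmul hIJ inferInstance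
  have htorJ := key J I (fun a ha b hb => by rw [mul_comm]; exact hmul b hb a ha)
    (by rw [inf_comm]; exact hIJ) inferInstance
  rw [Module.Flat.iff_rTensor_injective']
  intro 𝔞
  have h2 : Function.Injective ((𝔞 ⊔ I).subtype.rTensor M) := by
    apply rTensor_injective_of_cokernel_torsion I M htorI 1 (𝔞 ⊔ I).subtype
      (Submodule.injective_subtype _)
    intro a ha x
    rw [pow_one] at ha
    exact ⟨⟨a • x, Submodule.mem_sup_right (I.mul_mem_right _ ha)⟩, rfl⟩
  have h1 : Function.Injective ((Submodule.inclusion (le_sup_left : 𝔞 ≤ 𝔞 ⊔ I)).rTensor M) := by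
    apply rTensor_injective_of_cokernel_torsion J M htorJ 1 _
      (Submodule.inclusion_injective _)
    intro a ha x
    rw [pow_one] at ha
    obtain ⟨u, hu, i, hi, hx⟩ := Submodule.mem_sup.mp x.2
    refine ⟨⟨a * u, 𝔞.mul_mem_left _ hu⟩, ?_⟩
    apply Subtype.ext
    rw [Submodule.coe_inclusion, Submodule.coe_smul, ← hx, smul_eq_mul, mul_add,
      mul_comm a i, hmul i hi a ha, add_zero]
  have h3 : 𝔞.subtype = (𝔞 ⊔ I).subtype.comp (Submodule.inclusion (le_sup_left : 𝔞 ≤ 𝔞 ⊔ I)) := by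
    ext x; rfl
  rw [h3, LinearMap.rTensor_comp]
  exact h2.comp h1

end Groth.Agent.Lib.Helper26.Ferrand
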