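import Mathlib
import Groth.Agent.Lib.Helper54.LocalFlat5
import Groth.Agent.Lib.Helper54.LocalFlat6

set_option autoImplicit false
set_option linter.unusedSectionVars false
set_option linter.style.haveILetI false
universe u

namespace Groth.Agent.Lib.Helper26.Ferrand

open TensorProduct Groth.Agent.Lib.Helper54.LocalFlat

/-- Artin–Rees: some power `f ^ n S` contracts into `f A`. -/
theorem exists_pow_comap_le (A S : Type u) [CommRing A] [IsNoetherianRing A] [CommRing S]
    [Algebra A S] [Module.Finite A S] (hinj : Function.Injective (algebraMap A S)) (f : A) :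
    ∃ n : ℕ, (Ideal.span {algebraMap A S f ^ n}).comap (algebraMap A S) ≤ Ideal.span {f} := by
  obtain ⟨k, hk⟩ := Ideal.exists_pow_inf_eq_pow_smul (Ideal.span {f})
    (LinearMap.range (Algebra.linearMap A S))
  refine ⟨k + 1, fun a ha => ?_⟩
  rw [Ideal.mem_comap, Ideal.mem_span_singleton'] at ha
  obtain ⟨s, hs⟩ := ha
  have h1 : algebraMap A S a ∈ (Ideal.span {f}) ^ (k + 1) • (⊤ : Submodule A S) ⊓
      LinearMap.range (Algebra.linearMap A S) := by
    refine ⟨?_, ⟨a, rfl⟩⟩
    rw [Ideal.span_singleton_pow, Submodule.ideal_span_singleton_smul]
    refine ⟨s, Submodule.mem_top, ?_⟩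
    show f ^ (k + 1) • s = _
    rw [Algebra.smul_def, map_pow, mul_comm, hs]
  rw [hk (k + 1) (by omega), Nat.add_sub_cancel_left, pow_one,
    Submodule.ideal_span_singleton_smul] at h1
  obtain ⟨y, ⟨-, b, rfl⟩, hy⟩ := h1
  have h2 : algebraMap A S (f * b) = algebraMap A S a := by
    rw [map_mul, ← hy]
    show _ = f • (algebraMap A S b)
    rw [Algebra.smul_def]
  rw [← hinj h2]
  exact Ideal.mul_mem_right _ _ (Ideal.subset_span rfl)

end Groth.Agent.Lib.Helper26.Ferrand

namespace Groth.Agent.Lib.Helper26.Ferrand

open TensorProduct Groth.Agent.Lib.Helper54.LocalFlat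

/-- Generic freeness + faithfully flat descent: after inverting some `f ≠ 0`, flatness descends. -/
theorem exists_flat_away (A S : Type u) [CommRing A] [IsDomain A] [IsNoetherianRing A]
    [CommRing S] [IsDomain S] [Algebra A S] [Module.Finite A S]
    (hinj : Function.Injective (algebraMap A S)) :
    ∃ f : A, f ≠ 0 ∧ ∀ (M : Type u) [AddCommGroup M] [Module A M], Module.Flat S (S ⊗[A] M) →
      Module.Flat (Localization.Away f) (Localization.Away f ⊗[A] M) := by
  haveI : Module.FinitePresentation A S := Module.finitePresentation_of_finite A S
  obtain ⟨r, hr, hfree, -⟩ := Module.FinitePresentation.exists_free_localizedModule_powers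
    (nonZeroDivisors A) (LocalizedModule.mkLinearMap (nonZeroDivisors A) S) (FractionRing A)
  have hr0 : r ≠ 0 := nonZeroDivisors.ne_zero hr
  refine ⟨r, hr0, ?_⟩
  have hle : Algebra.algebraMapSubmonoid S (Submonoid.powers r) ≤ nonZeroDivisors S := by
    rintro _ ⟨a, ⟨n, rfl⟩, rfl⟩
    rw [map_pow]
    apply pow_mem
    rw [mem_nonZeroDivisors_iff_ne_zero]
    intro h
    exact hr0 (hinj (h.trans (map_zero _).symm))
  haveI : IsDomain (Localization (Algebra.algebraMapSubmonoid S (Submonoid.powers r))) :=
    IsLocalization.isDomain_localization hle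
  haveI : Module.Finite (Localization (Submonoid.powers r))
      (Localization (Algebra.algebraMapSubmonoid S (Submonoid.powers r))) :=
    Module.Finite.of_isLocalization A S (Submonoid.powers r)
  haveI : Algebra.IsIntegral (Localization (Submonoid.powers r))
      (Localization (Algebra.algebraMapSubmonoid S (Submonoid.powers r))) :=
    Algebra.IsIntegral.of_finite _ _
  haveI : FaithfulSMul (Localization (Submonoid.powers r))
      (Localization (Algebra.algebraMapSubmonoid S (Submonoid.powers r))) :=
    (faithfulSMul_iff_algebraMap_injective _ _).mpr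
      (localizationAlgebra_injective (Localization (Submonoid.powers r))
        (Localization (Algebra.algebraMapSubmonoid S (Submonoid.powers r))) hinj)
  haveI : Module.Free (Localization (Submonoid.powers r))
      (Localization (Algebra.algebraMapSubmonoid S (Submonoid.powers r))) := by
    haveI := hfree
    let e := IsLocalizedModule.iso (Submonoid.powers r)
      (IsScalarTower.toAlgHom A S
        (Localization (Algebra.algebraMapSubmonoid S (Submonoid.powers r)))).toLinearMap
    exact Module.Free.of_equiv
      (e.extendScalarsOfIsLocalization (Submonoid.powers r) (Localization (Submonoid.powers r)))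
  haveI : Module.FaithfullyFlat (Localization (Submonoid.powers r))
      (Localization (Algebra.algebraMapSubmonoid S (Submonoid.powers r))) := inferInstance
  intro M _ _ hM
  haveI := hM
  haveI : Module.Flat (Localization (Algebra.algebraMapSubmonoid S (Submonoid.powers r)))
      (Localization (Algebra.algebraMapSubmonoid S (Submonoid.powers r)) ⊗[A] M) :=
    flat_baseChange_tower M S _
  haveI : Module.Flat (Localization (Algebra.algebraMapSubmonoid S (Submonoid.powers r)))
      (Localization (Algebra.algebraMapSubmonoid S (Submonoid.powers r))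
        ⊗[Localization (Submonoid.powers r)] (Localization (Submonoid.powers r) ⊗[A] M)) :=
    Module.Flat.of_linearEquiv
      (AlgebraTensorModule.cancelBaseChange A (Localization (Submonoid.powers r))
        (Localization (Algebra.algebraMapSubmonoid S (Submonoid.powers r)))
        (Localization (Algebra.algebraMapSubmonoid S (Submonoid.powers r))) M)
  exact Module.Flat.of_flat_tensorProduct (Localization (Submonoid.powers r))
    (Localization (Submonoid.powers r) ⊗[A] M)
    (Localization (Algebra.algebraMapSubmonoid S (Submonoid.powers r)))

end Groth.Agent.Lib.Helper26.Ferrand
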