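import Mathlib
import Groth.Agent.Lib.Helper26.Ferr1
import Groth.Agent.Lib.Helper26.Ferr2
import Groth.Agent.Lib.Helper26.Ferr3

set_option autoImplicit false
set_option linter.unusedSectionVars false
set_option linter.style.haveILetI false
universe u

namespace Groth.Agent.Lib.Helper26.Ferrand

open TensorProduct Groth.Agent.Lib.Helper54.LocalFlat

/-- Domain case, for modules embedded in their base change. -/
theorem flat_of_embedded (A S : Type u) [CommRing A] [IsDomain A] [IsNoetherianRing A]
    [CommRing S] [IsDomain S] [Algebra A S] [Module.Finite A S]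
    (hinj : Function.Injective (algebraMap A S))
    (IH : ∀ 𝔞 : Ideal A, 𝔞 ≠ ⊥ → DescP (A ⧸ 𝔞)) (f : A) (hf0 : f ≠ 0)
    (hf : ∀ (M : Type u) [AddCommGroup M] [Module A M], Module.Flat S (S ⊗[A] M) →
      Module.Flat (Localization.Away f) (Localization.Away f ⊗[A] M))
    (M : Type u) [AddCommGroup M] [Module A M] [Module.Flat S (S ⊗[A] M)]
    (hemb : Function.Injective (TensorProduct.mk A S M 1)) : Module.Flat A M := by
  have hA : f ∈ nonZeroDivisors A := mem_nonZeroDivisors_of_ne_zero hf0
  have hM : ∀ x : M, f • x = 0 → x = 0 := by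
    intro x hx
    apply hemb
    rw [map_zero]
    have h1 : algebraMap A S f • ((1 : S) ⊗ₜ[A] x) = 0 := by
      rw [TensorProduct.smul_tmul', smul_eq_mul, mul_one, Algebra.algebraMap_eq_smul_one,
        TensorProduct.smul_tmul, hx, TensorProduct.tmul_zero]
    have h2 : algebraMap A S f ≠ 0 := fun h => hf0 (hinj (h.trans (map_zero _).symm))
    exact (smul_eq_zero.mp h1).resolve_left h2
  obtain ⟨n, hn⟩ := exists_pow_comap_le A S hinj f
  have h𝔞 : (Ideal.span {algebraMap A S f ^ n}).under A ≠ ⊥ := by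
    intro h
    have h1 : f ^ n ∈ (Ideal.span {algebraMap A S f ^ n}).under A := by
      rw [Ideal.under_def, Ideal.mem_comap, map_pow]
      exact Ideal.subset_span rfl
    rw [h] at h1
    exact pow_ne_zero n hf0 h1
  haveI h1 : Module.Flat (A ⧸ (Ideal.span {algebraMap A S f ^ n}).under A)
      ((A ⧸ (Ideal.span {algebraMap A S f ^ n}).under A) ⊗[A] M) :=
    flat_quotient_of_descP A S M _ (Ideal.span {algebraMap A S f ^ n}) (IH _ h𝔞)
  letI : Algebra (A ⧸ (Ideal.span {algebraMap A S f ^ n}).under A) (A ⧸ Ideal.span {f}) :=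
    (Ideal.Quotient.factor hn).toAlgebra
  haveI : IsScalarTower A (A ⧸ (Ideal.span {algebraMap A S f ^ n}).under A)
      (A ⧸ Ideal.span {f}) := IsScalarTower.of_algebraMap_eq (fun x => rfl)
  haveI : Module.Flat (A ⧸ Ideal.span {f}) ((A ⧸ Ideal.span {f}) ⊗[A] M) :=
    flat_baseChange_tower M (A ⧸ (Ideal.span {algebraMap A S f ^ n}).under A) (A ⧸ Ideal.span {f})
  haveI := hf M inferInstance
  exact flat_of_regular f M hA hM

end Groth.Agent.Lib.Helper26.Ferrand
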