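import Mathlib
import Groth.Agent.Lib.Helper26.Ferr4

set_option autoImplicit false
set_option linter.unusedSectionVars false
set_option linter.style.haveILetI false
universe u

namespace Groth.Agent.Lib.Helper26.Ferrand

open TensorProduct Groth.Agent.Lib.Helper54.LocalFlat

/-- Domain case. -/
theorem flat_of_domain (A S : Type u) [CommRing A] [IsDomain A] [IsNoetherianRing A]
    [CommRing S] [IsDomain S] [Algebra A S] [Module.Finite A S]
    (hinj : Function.Injective (algebraMap A S))
    (IH : ∀ 𝔞 : Ideal A, 𝔞 ≠ ⊥ → DescP (A ⧸ 𝔞))
    (M : Type u) [AddCommGroup M] [Module A M] [Module.Flat S (S ⊗[A] M)] : Module.Flat A M := by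
  obtain ⟨f, hf0, hf⟩ := exists_flat_away A S hinj
  set N₀ : Submodule A M := LinearMap.ker (TensorProduct.mk A S M 1) with hN₀
  have hzero : ∀ z : S ⊗[A] N₀, N₀.subtype.lTensor S z = 0 := by
    intro z
    induction z using TensorProduct.induction_on with
    | zero => simp
    | tmul s n =>
      rw [LinearMap.lTensor_tmul]
      have h1 : (1 : S) ⊗ₜ[A] (n : M) = 0 := n.2
      have h2 : s ⊗ₜ[A] (n : M) = s • ((1 : S) ⊗ₜ[A] (n : M)) := by
        rw [TensorProduct.smul_tmul', smul_eq_mul, mul_one]
      rw [Submodule.subtype_apply, h2, h1, smul_zero]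
    | add x y hx hy => rw [map_add, hx, hy, add_zero]
  have he₀inj : Function.Injective (N₀.mkQ.baseChange S) := by
    rw [injective_iff_map_eq_zero]
    intro x hx
    have hex := lTensor_exact S (LinearMap.exact_subtype_mkQ N₀) (Submodule.mkQ_surjective N₀)
    obtain ⟨z, rfl⟩ := (hex x).1 hx
    exact hzero z
  have he₀surj : Function.Surjective (N₀.mkQ.baseChange S) :=
    LinearMap.lTensor_surjective S (Submodule.mkQ_surjective N₀)
  haveI : Module.Flat S (S ⊗[A] (M ⧸ N₀)) :=
    Module.Flat.of_linearEquiv (LinearEquiv.ofBijective _ ⟨he₀inj, he₀surj⟩).symm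
  have hemb₁ : Function.Injective (TensorProduct.mk A S (M ⧸ N₀) 1) := by
    rw [injective_iff_map_eq_zero]
    intro x hx
    obtain ⟨m, rfl⟩ := Submodule.mkQ_surjective N₀ x
    have h1 : N₀.mkQ.baseChange S ((1 : S) ⊗ₜ[A] m) = 0 := hx
    have h2 := he₀inj (h1.trans (map_zero _).symm)
    rw [Submodule.mkQ_apply, Submodule.Quotient.mk_eq_zero]
    exact h2
  haveI hM₁ : Module.Flat A (M ⧸ N₀) := flat_of_embedded A S hinj IH f hf0 hf (M ⧸ N₀) hemb₁
  have hinjN : Function.Injective (N₀.subtype.lTensor S) :=
    LinearMap.lTensor_injective_of_exact_of_flat N₀.mkQ (Submodule.mkQ_surjective N₀) N₀.subtype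
      (Submodule.injective_subtype N₀) (LinearMap.exact_subtype_mkQ N₀) S
  have hsub : Subsingleton (S ⊗[A] N₀) := ⟨fun x y => hinjN (by rw [hzero, hzero])⟩
  have hN₀s : Subsingleton N₀ := subsingleton_of_tensor A S hinj N₀ hsub
  have hemb : Function.Injective (TensorProduct.mk A S M 1) := by
    rw [← LinearMap.ker_eq_bot]
    exact Submodule.eq_bot_of_subsingleton
  exact flat_of_embedded A S hinj IH f hf0 hf M hemb

end Groth.Agent.Lib.Helper26.Ferrand

namespace Groth.Agent.Lib.Helper26.Ferrand

open TensorProduct Groth.Agent.Lib.Helper54.LocalFlat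

/-- The inductive step: descent for all proper quotients implies descent for `A`. -/
theorem descP_step (A : Type u) [CommRing A] [IsNoetherianRing A]
    (IH : ∀ 𝔞 : Ideal A, 𝔞 ≠ ⊥ → DescP (A ⧸ 𝔞)) : DescP A := by
  intro S _ _ _ hinj M _ _ hM
  haveI := hM
  by_cases hred : IsReduced A
  swap
  · -- non-reduced case
    have hnil : nilradical A ≠ ⊥ := fun h => hred (nilradical_eq_bot_iff.mp h)
    haveI : (nilradical S).LiesOver (nilradical A) := ⟨by
      ext a
      rw [Ideal.under_def, Ideal.mem_comap, mem_nilradical, mem_nilradical]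
      exact (IsNilpotent.map_iff hinj).symm⟩
    haveI := flat_quotient_of_descP A S M (nilradical A) (nilradical S) (IH _ hnil)
    exact flat_of_injective_algebraMap (nilradical A) M S hinj
      (IsNoetherianRing.isNilpotent_nilradical A)
  · haveI := hred
    by_cases hdom : IsDomain A
    · -- domain case
      haveI := hdom
      haveI : Algebra.IsIntegral A S := Algebra.IsIntegral.of_finite A S
      obtain ⟨Q, -, hQp, hQ⟩ := Ideal.exists_ideal_over_prime_of_isIntegral (⊥ : Ideal A)
        (⊥ : Ideal S) (by
          rw [← RingHom.ker_eq_comap_bot, (RingHom.injective_iff_ker_eq_bot _).1 hinj])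
      haveI := hQp
      haveI : IsDomain (S ⧸ Q) := Ideal.Quotient.isDomain Q
      haveI : Module.Finite A (S ⧸ Q) :=
        Module.Finite.of_surjective (Ideal.Quotient.mkₐ A Q).toLinearMap
          (Ideal.Quotient.mkₐ_surjective A Q)
      have hinj' : Function.Injective (algebraMap A (S ⧸ Q)) := by
        rw [injective_iff_map_eq_zero]
        intro a ha
        have h1 : algebraMap A S a ∈ Q := by
          rw [← Ideal.Quotient.eq_zero_iff_mem]
          exact ha
        have h2 : a ∈ Q.comap (algebraMap A S) := h1
        rw [hQ] at h2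
        exact h2
      haveI : Module.Flat (S ⧸ Q) ((S ⧸ Q) ⊗[A] M) := flat_baseChange_tower M S (S ⧸ Q)
      exact flat_of_domain A (S ⧸ Q) hinj' IH M
    · -- reduced, not a domain
      by_cases htriv : Subsingleton A
      · haveI := htriv
        haveI : Subsingleton M := Module.subsingleton A M
        infer_instance
      · rw [not_subsingleton_iff_nontrivial] at htriv
        haveI := htriv
        obtain ⟨x, y, hxy, hx, hy⟩ : ∃ x y : A, x * y = 0 ∧ x ≠ 0 ∧ y ≠ 0 := by
          by_contra hcon
          apply hdom
          haveI : NoZeroDivisors A := ⟨fun {a b} hab => by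
            by_contra h
            rw [not_or] at h
            exact hcon ⟨a, b, hab, h.1, h.2⟩⟩
          exact NoZeroDivisors.to_isDomain A
        have memI : ∀ a : A, a ∈ LinearMap.ker (LinearMap.toSpanSingleton A A x) ↔ a * x = 0 := by
          intro a
          rw [LinearMap.mem_ker, LinearMap.toSpanSingleton_apply, smul_eq_mul]
        haveI : Ideal.LiesOver (LinearMap.ker (LinearMap.toSpanSingleton S S (algebraMap A S x)) : Ideal S)
            (LinearMap.ker (LinearMap.toSpanSingleton A A x) : Ideal A) := ⟨by
          ext a
          rw [memI, Ideal.under_def, Ideal.mem_comap, LinearMap.mem_ker,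
            LinearMap.toSpanSingleton_apply, smul_eq_mul, ← map_mul]
          constructor
          · intro h; rw [h, map_zero]
          · intro h; exact hinj (h.trans (map_zero _).symm)⟩
        have hI : (LinearMap.ker (LinearMap.toSpanSingleton A A x) : Ideal A) ≠ ⊥ := by
          intro h
          have h1 : y ∈ (LinearMap.ker (LinearMap.toSpanSingleton A A x) : Ideal A) := by
            rw [memI, mul_comm]; exact hxy
          rw [h] at h1
          exact hy h1
        set I : Ideal A := LinearMap.ker (LinearMap.toSpanSingleton A A x) with hIdef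
        have memJ : ∀ a : A, a ∈ Submodule.annihilator I ↔ ∀ i ∈ I, a * i = 0 := by
          intro a
          rw [Submodule.mem_annihilator]
          rfl
        haveI : Ideal.LiesOver (Submodule.annihilator (I.map (algebraMap A S)) : Ideal S)
            (Submodule.annihilator I : Ideal A) := ⟨by
          ext a
          rw [memJ, Ideal.under_def, Ideal.mem_comap, Submodule.mem_annihilator]
          constructor
          · intro h n hn
            refine Submodule.span_induction (p := fun n _ => algebraMap A S a • n = 0)
              ?_ ?_ ?_ ?_ hn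
            · rintro _ ⟨i, hi, rfl⟩
              rw [smul_eq_mul, ← map_mul, h i hi, map_zero]
            · exact smul_zero _
            · intro u v _ _ hu hv
              rw [smul_add, hu, hv, add_zero]
            · intro s u _ hu
              rw [smul_comm, hu, smul_zero]
          · intro h i hi
            apply hinj
            rw [map_mul, map_zero]
            exact h _ (Ideal.mem_map_of_mem _ hi)⟩
        have hJ : (Submodule.annihilator I : Ideal A) ≠ ⊥ := by
          intro h
          have h1 : x ∈ (Submodule.annihilator I : Ideal A) := by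
            rw [memJ]
            intro i hi
            rw [mul_comm]
            exact (memI i).mp hi
          rw [h] at h1
          exact hx h1
        have hIJ : I ⊓ (Submodule.annihilator I : Ideal A) = ⊥ := by
          rw [eq_bot_iff]
          rintro a ⟨ha1, ha2⟩
          have h1 : a * a = 0 := (memJ a).mp ha2 a ha1
          have h2 : a ^ 2 = 0 := by rw [pow_two]; exact h1
          exact pow_eq_zero_iff (two_ne_zero) |>.mp h2
        haveI := flat_quotient_of_descP A S M I
          (LinearMap.ker (LinearMap.toSpanSingleton S S (algebraMap A S x))) (IH I hI)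
        haveI := flat_quotient_of_descP A S M (Submodule.annihilator I)
          (Submodule.annihilator (I.map (algebraMap A S))) (IH _ hJ)
        exact flat_of_inf_eq_bot A M I (Submodule.annihilator I) hIJ

/-- Descent of flatness along finite injective maps, for all quotients of a Noetherian ring. -/
theorem descP_of_noetherian (R₀ : Type u) [CommRing R₀] [IsNoetherianRing R₀] :
    ∀ I : Ideal R₀, ∀ (A : Type u) [CommRing A] (φ : R₀ →+* A),
      Function.Surjective φ → RingHom.ker φ = I → DescP A := by
  intro I
  refine WellFoundedGT.induction (motive := fun I : Ideal R₀ => ∀ (A : Type u) [CommRing A]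
    (φ : R₀ →+* A), Function.Surjective φ → RingHom.ker φ = I → DescP A) I ?_
  intro I ih A _ φ hφ hker
  haveI : IsNoetherianRing A := isNoetherianRing_of_surjective R₀ A φ hφ
  apply descP_step A
  intro 𝔞 h𝔞
  refine ih (𝔞.comap φ) ?_ (A ⧸ 𝔞) ((Ideal.Quotient.mk 𝔞).comp φ)
    (Ideal.Quotient.mk_surjective.comp hφ) ?_
  · rw [← hker]
    refine lt_of_le_of_ne ?_ ?_
    · rw [RingHom.ker_eq_comap_bot]
      exact Ideal.comap_mono bot_le
    · intro h
      apply h𝔞
      rw [← Ideal.map_comap_of_surjective φ hφ 𝔞, ← h, Ideal.map_eq_bot_iff_le_ker]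
  · rw [RingHom.ker_eq_comap_bot, ← Ideal.comap_comap, ← RingHom.ker_eq_comap_bot,
      Ideal.mk_ker]

theorem descP_main (R : Type u) [CommRing R] [IsNoetherianRing R] : DescP R :=
  descP_of_noetherian R ⊥ R (RingHom.id R) Function.surjective_id (by
    rw [RingHom.ker_eq_bot_iff_eq_zero]; intro x hx; exact hx)

end Groth.Agent.Lib.Helper26.Ferrand
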