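import Mathlib

open DirectSum HomogeneousLocalization

namespace Groth.Agent.Lib.Helper26.GrLoc

universe u
variable {R S : Type u} [CommRing R] [CommRing S] [Algebra R S]
  (𝒜 : ℕ → Submodule R S) [GradedAlgebra 𝒜] {f : S} (hf : f ∈ 𝒜 1)

/-- graded components of `s ↦ s / f ^ deg s`. -/
noncomputable def chiComp (j : ℕ) : 𝒜 j →+ Away 𝒜 f where
  toFun s := Away.mk 𝒜 hf j s.1 (by simp [s.2])
  map_zero' := by
    apply HomogeneousLocalization.val_injective
    rw [Away.val_mk, HomogeneousLocalization.val_zero]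
    exact Localization.mk_zero _
  map_add' a b := by
    apply HomogeneousLocalization.val_injective
    rw [HomogeneousLocalization.val_add, Away.val_mk, Away.val_mk, Away.val_mk]
    rw [Localization.add_mk_self]
    rfl

theorem chiComp_val (j : ℕ) (s : 𝒜 j) :
    (chiComp 𝒜 hf j s).val = Localization.mk (s : S) (⟨f ^ j, j, rfl⟩ : Submonoid.powers f) := by
  change (Away.mk 𝒜 hf j s.1 _).val = _
  rw [Away.val_mk]

/-- the ring hom `S → S_(f)`, `s ↦ s / f ^ deg s` on homogeneous elements. -/
noncomputable def chi : S →+* Away 𝒜 f :=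
  (DirectSum.toSemiring (chiComp 𝒜 hf)
    (by
      apply HomogeneousLocalization.val_injective
      rw [chiComp_val, HomogeneousLocalization.val_one]
      simp only [pow_zero]
      exact Localization.mk_one)
    (by
      intro i j a b
      apply HomogeneousLocalization.val_injective
      rw [HomogeneousLocalization.val_mul, chiComp_val, chiComp_val, chiComp_val,
        Localization.mk_mul]
      congr 1
      ext
      simp [pow_add])).comp (DirectSum.decomposeRingEquiv 𝒜 : S ≃+* ⨁ i, 𝒜 i).toRingHom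

theorem chi_coe (j : ℕ) (s : 𝒜 j) : chi 𝒜 hf (s : S) = chiComp 𝒜 hf j s := by
  unfold chi
  simp only [RingEquiv.toRingHom_eq_coe, RingHom.coe_comp, RingHom.coe_coe, Function.comp_apply]
  change (toSemiring (chiComp 𝒜 hf) _ _) (DirectSum.decompose 𝒜 (s : S)) = _
  rw [DirectSum.decompose_coe, DirectSum.toSemiring_of]

theorem chi_of_mem {j : ℕ} {s : S} (hs : s ∈ 𝒜 j) :
    chi 𝒜 hf s = Away.mk 𝒜 hf j s (by simpa using hs) :=
  chi_coe 𝒜 hf j ⟨s, hs⟩

theorem chi_f : chi 𝒜 hf f = 1 := by
  rw [chi_of_mem 𝒜 hf hf]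
  apply HomogeneousLocalization.val_injective
  rw [Away.val_mk, HomogeneousLocalization.val_one]
  simp only [pow_one]
  exact Localization.mk_self (⟨f, 1, by simp⟩ : Submonoid.powers f)

theorem chi_algebraMap_val (r : R) :
    (chi 𝒜 hf (algebraMap R S r)).val =
      algebraMap S (Localization.Away f) (algebraMap R S r) := by
  rw [chi_of_mem 𝒜 hf (SetLike.algebraMap_mem_graded 𝒜 r), Away.val_mk]
  simp only [pow_zero]
  rw [Localization.mk_eq_mk', IsLocalization.mk'_eq_iff_eq_mul]
  simp

end Groth.Agent.Lib.Helper26.GrLoc
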