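import Mathlib

open DirectSum HomogeneousLocalization

namespace Groth.Agent.Lib.Helper26.GrLoc2

universe u
variable {R S : Type u} [CommRing R] [CommRing S] [Algebra R S]
  (𝒜 : ℕ → Submodule R S) [GradedAlgebra 𝒜]
variable {M : Type u} [AddCommGroup M] [Module R M] [Module S M] [IsScalarTower R S M]
variable {n : ℕ} (gens : Fin n → M)

/-- degree `k` piece: `R`-span of `𝒜 k • gens`. -/
def Npc (k : ℕ) : Submodule R M := Submodule.span R {m | ∃ s ∈ 𝒜 k, ∃ i, m = s • gens i}

instance gradedSMul : SetLike.GradedSMul 𝒜 (Npc 𝒜 gens) where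
  smul_mem := by
    intro i j a m ha hm
    change a • m ∈ Npc 𝒜 gens (i + j)
    unfold Npc at hm ⊢
    induction hm using Submodule.span_induction with
    | mem x hx =>
      obtain ⟨s, hs, l, rfl⟩ := hx
      rw [← mul_smul]
      exact Submodule.subset_span ⟨a * s, SetLike.mul_mem_graded ha hs, l, rfl⟩
    | zero => rw [smul_zero]; exact zero_mem _
    | add x y _ _ hx hy => rw [smul_add]; exact add_mem hx hy
    | smul r x _ hx => rw [smul_comm]; exact Submodule.smul_mem _ r hx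

/-- The graded module. -/
def NN : Type u := ⨁ k, Npc 𝒜 gens k

noncomputable instance : AddCommGroup (NN 𝒜 gens) :=
  inferInstanceAs (AddCommGroup (⨁ k, Npc 𝒜 gens k))

noncomputable instance instModR : Module R (NN 𝒜 gens) :=
  inferInstanceAs (Module R (⨁ k, Npc 𝒜 gens k))

noncomputable instance instModS : Module S (NN 𝒜 gens) :=
  GradedModule.isModule 𝒜 (Npc 𝒜 gens)

/-- inclusion of the degree `k` piece. -/
noncomputable def inc (k : ℕ) : Npc 𝒜 gens k →ₗ[R] NN 𝒜 gens :=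
  DirectSum.lof R ℕ (fun k => Npc 𝒜 gens k) k

theorem smul_inc {i j : ℕ} {a : S} (ha : a ∈ 𝒜 i) (y : Npc 𝒜 gens j) :
    a • inc 𝒜 gens j y =
      inc 𝒜 gens (i + j) ⟨a • (y : M), SetLike.GradedSMul.smul_mem ha y.2⟩ := by
  change DirectSum.decompose 𝒜 a • DirectSum.of (fun k => Npc 𝒜 gens k) j y = _
  rw [DirectSum.decompose_of_mem 𝒜 ha, DirectSum.Gmodule.of_smul_of]
  rfl

theorem NN_induction {p : NN 𝒜 gens → Prop} (h0 : p 0) (hinc : ∀ k y, p (inc 𝒜 gens k y))
    (hadd : ∀ x y, p x → p y → p (x + y)) : ∀ x, p x := fun x =>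
  DirectSum.induction_on (motive := p) x h0 hinc hadd

instance instTower : IsScalarTower R S (NN 𝒜 gens) where
  smul_assoc r s x := by
    induction x using NN_induction with
    | h0 => rw [smul_zero, smul_zero, smul_zero]
    | hadd x y hx hy => rw [smul_add, smul_add, smul_add, hx, hy]
    | hinc j y =>
      induction s using DirectSum.Decomposition.inductionOn 𝒜 with
      | zero => rw [smul_zero, zero_smul, smul_zero]
      | add a b ha hb => rw [smul_add, add_smul, add_smul, smul_add, ha, hb]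
      | homogeneous a =>
        obtain ⟨a, ha⟩ := a
        rw [smul_inc 𝒜 gens ((𝒜 _).smul_mem r ha), smul_inc 𝒜 gens ha, ← map_smul]
        congr 1
        ext
        exact smul_assoc r a (y : M)

/-- sum of components, `R`-linear. -/
noncomputable def gsumR : NN 𝒜 gens →ₗ[R] M :=
  DirectSum.toModule R ℕ M (fun k => (Npc 𝒜 gens k).subtype)

theorem gsumR_inc (k : ℕ) (y : Npc 𝒜 gens k) : gsumR 𝒜 gens (inc 𝒜 gens k y) = y := by
  exact DirectSum.toModule_lof (R := R) (N := M) (φ := fun k => (Npc 𝒜 gens k).subtype) k y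

/-- sum of components, `S`-linear. -/
noncomputable def gsum : NN 𝒜 gens →ₗ[S] M where
  toFun := gsumR 𝒜 gens
  map_add' := map_add _
  map_smul' s x := by
    simp only [RingHom.id_apply]
    induction x using NN_induction with
    | h0 => rw [smul_zero, map_zero, smul_zero]
    | hadd x y hx hy => rw [smul_add, map_add, map_add, smul_add, hx, hy]
    | hinc j y =>
      induction s using DirectSum.Decomposition.inductionOn 𝒜 with
      | zero => rw [zero_smul, zero_smul, map_zero]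
      | add a b ha hb => rw [add_smul, add_smul, map_add, ha, hb]
      | homogeneous a =>
        obtain ⟨a, ha⟩ := a
        rw [smul_inc 𝒜 gens ha, gsumR_inc, gsumR_inc]

theorem gsum_inc (k : ℕ) (y : Npc 𝒜 gens k) : gsum 𝒜 gens (inc 𝒜 gens k y) = y :=
  gsumR_inc 𝒜 gens k y

/-- the grading of `NN`. -/
noncomputable def grd (k : ℕ) : Submodule R (NN 𝒜 gens) := LinearMap.range (inc 𝒜 gens k)

/-- corestriction of `inc`. -/
noncomputable def rr (k : ℕ) : Npc 𝒜 gens k →ₗ[R] grd 𝒜 gens k :=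
  LinearMap.codRestrict (grd 𝒜 gens k) (inc 𝒜 gens k) (fun y => ⟨y, rfl⟩)

/-- the decomposition map. -/
noncomputable def DD : NN 𝒜 gens →ₗ[R] ⨁ i, grd 𝒜 gens i :=
  DirectSum.toModule R ℕ _ (fun k =>
      (DirectSum.lof R ℕ (fun i => grd 𝒜 gens i) k) ∘ₗ rr 𝒜 gens k)

theorem DD_inc (k : ℕ) (y : Npc 𝒜 gens k) :
    DD 𝒜 gens (inc 𝒜 gens k y) = DirectSum.of (fun i => grd 𝒜 gens i) k (rr 𝒜 gens k y) := by
  exact DirectSum.toModule_lof (R := R) (N := ⨁ i, grd 𝒜 gens i)
    (φ := fun k => (DirectSum.lof R ℕ (fun i => grd 𝒜 gens i) k) ∘ₗ rr 𝒜 gens k) k y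

noncomputable instance instDecomp : DirectSum.Decomposition (grd 𝒜 gens) where
  decompose' := DD 𝒜 gens
  left_inv := by
    intro x
    induction x using NN_induction with
    | h0 => rw [map_zero, map_zero]
    | hadd x y hx hy => rw [map_add, map_add, hx, hy]
    | hinc k y =>
      rw [DD_inc, DirectSum.coeAddMonoidHom_of]
      rfl
  right_inv := by
    intro z
    induction z using DirectSum.induction_on with
    | zero => rw [map_zero, map_zero]
    | add x y hx hy => rw [map_add, map_add, hx, hy]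
    | of k z =>
      obtain ⟨_, y, rfl⟩ := z
      rw [DirectSum.coeAddMonoidHom_of, DD_inc]
      rfl

instance instGrdSMul : SetLike.GradedSMul 𝒜 (grd 𝒜 gens) where
  smul_mem := by
    rintro i j a _ ha ⟨y, rfl⟩
    exact ⟨_, (smul_inc 𝒜 gens ha y).symm⟩

theorem gens_mem (i : Fin n) : gens i ∈ Npc 𝒜 gens 0 :=
  Submodule.subset_span ⟨1, SetLike.GradedOne.one_mem, i, (one_smul _ _).symm⟩

theorem span_top :
    Submodule.span S (Set.range fun i => inc 𝒜 gens 0 ⟨gens i, gens_mem 𝒜 gens i⟩) = ⊤ := by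
  rw [eq_top_iff]
  rintro x -
  induction x using NN_induction with
  | h0 => exact zero_mem _
  | hadd x y hx hy => exact add_mem hx hy
  | hinc k y =>
    obtain ⟨m, hm⟩ := y
    unfold Npc at hm
    induction hm using Submodule.span_induction with
    | mem x hx =>
      obtain ⟨s, hs, l, rfl⟩ := hx
      have := smul_inc 𝒜 gens hs (⟨gens l, gens_mem 𝒜 gens l⟩ : Npc 𝒜 gens 0)
      have h2 : inc 𝒜 gens k ⟨s • gens l, Submodule.subset_span ⟨s, hs, l, rfl⟩⟩ =
          s • inc 𝒜 gens 0 ⟨gens l, gens_mem 𝒜 gens l⟩ := this.symm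
      rw [h2]
      exact Submodule.smul_mem _ _ (Submodule.subset_span ⟨l, rfl⟩)
    | zero => exact (map_zero (inc 𝒜 gens k)).symm ▸ zero_mem _
    | add x y hx hy h1 h2 =>
      have : inc 𝒜 gens k ⟨x + y, add_mem hx hy⟩ =
          inc 𝒜 gens k ⟨x, hx⟩ + inc 𝒜 gens k ⟨y, hy⟩ := by rw [← map_add]; rfl
      rw [this]
      exact add_mem h1 h2
    | smul r x hx h1 =>
      have : inc 𝒜 gens k ⟨r • x, Submodule.smul_mem _ r hx⟩ =
          algebraMap R S r • inc 𝒜 gens k ⟨x, hx⟩ := by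
        rw [algebraMap_smul, ← map_smul]; rfl
      rw [this]
      exact Submodule.smul_mem _ _ h1

instance instFinite : Module.Finite S (NN 𝒜 gens) := by
  classical
  exact ⟨⟨Finset.univ.image fun i => inc 𝒜 gens 0 ⟨gens i, gens_mem 𝒜 gens i⟩, by
    rw [Finset.coe_image, Finset.coe_univ, Set.image_univ]
    exact span_top 𝒜 gens⟩⟩


section Loc

variable {f : S} (hf : f ∈ 𝒜 1) (h1 : ∀ m : M, f • m = m)

include h1 in
theorem pow_smul_eq (t : Submonoid.powers f) (m : M) : (t : S) • m = m := by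
  obtain ⟨_, k, rfl⟩ := t
  induction k with
  | zero => simp
  | succ k ih =>
    simp only at ih ⊢
    rw [pow_succ, mul_smul, h1, ih]

include h1 in
theorem isUnit_end (t : Submonoid.powers f) :
    IsUnit (algebraMap S (Module.End S M) t) := by
  have : algebraMap S (Module.End S M) t = 1 := by
    ext m
    simp [pow_smul_eq h1 t m]
  rw [this]
  exact isUnit_one

/-- the map `N_f → M`. -/
noncomputable def Phi : LocalizedModule (Submonoid.powers f) (NN 𝒜 gens) →ₗ[S] M :=
  LocalizedModule.lift (Submonoid.powers f) (gsum 𝒜 gens) (isUnit_end h1)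

theorem Phi_mk (x : NN 𝒜 gens) (t : Submonoid.powers f) :
    Phi 𝒜 gens h1 (LocalizedModule.mk x t) = gsum 𝒜 gens x := by
  unfold Phi
  rw [LocalizedModule.lift_mk, Module.End.algebraMap_isUnit_inv_apply_eq_iff, pow_smul_eq h1]

include hf in
theorem pow_mem (k : ℕ) : f ^ k ∈ 𝒜 k := by
  simpa using SetLike.pow_mem_graded k hf


/-- degree zero part of the localization. -/
noncomputable def Nf : Submodule R (LocalizedModule (Submonoid.powers f) (NN 𝒜 gens)) where
  carrier := {x | ∃ k : ℕ, ∃ n ∈ grd 𝒜 gens k, f ^ k • x = LocalizedModule.mk n 1}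
  zero_mem' := ⟨0, 0, zero_mem _, by rw [smul_zero, LocalizedModule.zero_mk]⟩
  add_mem' := by
    rintro x x' ⟨k, n, hn, hx⟩ ⟨k', n', hn', hx'⟩
    refine ⟨k + k', f ^ k' • n + f ^ k • n', ?_, ?_⟩
    · refine add_mem ?_ ?_
      · have := SetLike.GradedSMul.smul_mem (A := 𝒜) (B := grd 𝒜 gens) (pow_mem 𝒜 hf k') hn
        rw [add_comm]
        exact this
      · exact SetLike.GradedSMul.smul_mem (A := 𝒜) (B := grd 𝒜 gens) (pow_mem 𝒜 hf k) hn'
    · have e1 : f ^ (k + k') • x = LocalizedModule.mk (f ^ k' • n) 1 := by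
        rw [add_comm, pow_add, mul_smul, hx, LocalizedModule.smul'_mk]
      have e2 : f ^ (k + k') • x' = LocalizedModule.mk (f ^ k • n') 1 := by
        rw [pow_add, mul_smul, hx', LocalizedModule.smul'_mk]
      rw [smul_add, e1, e2, LocalizedModule.mk_add_mk]
      simp
  smul_mem' := by
    rintro r x ⟨k, n, hn, hx⟩
    refine ⟨k, r • n, Submodule.smul_mem _ r hn, ?_⟩
    rw [smul_comm, hx, LocalizedModule.smul'_mk]


theorem Phi_act {j : ℕ} (s : S) (x : LocalizedModule (Submonoid.powers f) (NN 𝒜 gens)) :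
    Phi 𝒜 gens h1 ((Localization.mk s (⟨f ^ j, j, rfl⟩ : Submonoid.powers f) :
      Localization (Submonoid.powers f)) • x) = s • Phi 𝒜 gens h1 x := by
  induction x using LocalizedModule.induction_on with
  | h n t => rw [LocalizedModule.mk_smul_mk, Phi_mk, Phi_mk, map_smul]

theorem pow_smul_act {j : ℕ} (s : S) (x : LocalizedModule (Submonoid.powers f) (NN 𝒜 gens)) :
    f ^ j • ((Localization.mk s (⟨f ^ j, j, rfl⟩ : Submonoid.powers f) :
      Localization (Submonoid.powers f)) • x) = s • x := by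
  induction x using LocalizedModule.induction_on with
  | h n t =>
    rw [LocalizedModule.mk_smul_mk, LocalizedModule.smul'_mk, LocalizedModule.smul'_mk]
    exact LocalizedModule.mk_cancel_common_left (⟨f ^ j, j, rfl⟩ : Submonoid.powers f) t (s • n)

theorem act_mem {j : ℕ} {s : S} (hs : s ∈ 𝒜 j)
    (x : LocalizedModule (Submonoid.powers f) (NN 𝒜 gens)) (hx : x ∈ Nf 𝒜 gens hf) :
    (Localization.mk s (⟨f ^ j, j, rfl⟩ : Submonoid.powers f) :
      Localization (Submonoid.powers f)) • x ∈ Nf 𝒜 gens hf := by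
  obtain ⟨k, n, hn, hx⟩ := hx
  refine ⟨j + k, s • n, SetLike.GradedSMul.smul_mem (A := 𝒜) (B := grd 𝒜 gens) hs hn, ?_⟩
  rw [add_comm j k, pow_add, mul_smul, pow_smul_act, smul_comm, hx, LocalizedModule.smul'_mk]

theorem Phi_inj (x : LocalizedModule (Submonoid.powers f) (NN 𝒜 gens)) (hx : x ∈ Nf 𝒜 gens hf)
    (h0 : Phi 𝒜 gens h1 x = 0) : x = 0 := by
  obtain ⟨k, _, ⟨y, rfl⟩, hx⟩ := hx
  have h2 : Phi 𝒜 gens h1 (f ^ k • x) = 0 := by rw [map_smul, h0, smul_zero]
  rw [hx, Phi_mk, gsum_inc] at h2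
  have hy : y = 0 := Subtype.ext h2
  rw [hy, map_zero, LocalizedModule.zero_mk] at hx
  have := IsLocalizedModule.smul_injective
    (LocalizedModule.mkLinearMap (Submonoid.powers f) (NN 𝒜 gens))
    (⟨f ^ k, k, rfl⟩ : Submonoid.powers f)
  apply this
  change f ^ k • x = (⟨f ^ k, k, rfl⟩ : Submonoid.powers f) • (0 : LocalizedModule _ _)
  rw [hx, smul_zero]

theorem Phi_surj (hg : Submodule.span S (Set.range gens) = ⊤) (m : M) :
    ∃ x ∈ Nf 𝒜 gens hf, Phi 𝒜 gens h1 x = m := by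
  have hm : m ∈ Submodule.span S (Set.range gens) := hg ▸ Submodule.mem_top
  induction hm using Submodule.span_induction with
  | mem m hm =>
    obtain ⟨i, rfl⟩ := hm
    refine ⟨LocalizedModule.mk (inc 𝒜 gens 0 ⟨gens i, gens_mem 𝒜 gens i⟩) 1,
      ⟨0, _, ⟨_, rfl⟩, by rw [pow_zero, one_smul]⟩, ?_⟩
    rw [Phi_mk, gsum_inc]
  | zero => exact ⟨0, zero_mem _, map_zero _⟩
  | add a b _ _ ha hb =>
    obtain ⟨x, hx, rfl⟩ := ha
    obtain ⟨y, hy, rfl⟩ := hb
    exact ⟨x + y, add_mem hx hy, map_add _ _ _⟩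
  | smul s a _ ha =>
    obtain ⟨x, hx, rfl⟩ := ha
    induction s using DirectSum.Decomposition.inductionOn 𝒜 with
    | zero => exact ⟨0, zero_mem _, by rw [map_zero, zero_smul]⟩
    | add a b ha hb =>
      obtain ⟨y, hy, hy'⟩ := ha
      obtain ⟨z, hz, hz'⟩ := hb
      exact ⟨y + z, add_mem hy hz, by rw [map_add, hy', hz', add_smul]⟩
    | homogeneous a =>
      rename_i j
      obtain ⟨a, ha⟩ := a
      exact ⟨_, act_mem 𝒜 gens hf ha x hx, Phi_act 𝒜 gens h1 (j := j) a x⟩

/-- The `R`-linear equivalence `N_(f) ≃ M`. -/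
noncomputable def eqv (hg : Submodule.span S (Set.range gens) = ⊤) :
    ↥(Nf 𝒜 gens hf) ≃ₗ[R] M :=
  LinearEquiv.ofBijective (((Phi 𝒜 gens h1).restrictScalars R).domRestrict (Nf 𝒜 gens hf))
    ⟨by
      rw [← LinearMap.ker_eq_bot, LinearMap.ker_eq_bot']
      intro x hx
      exact Subtype.ext (Phi_inj 𝒜 gens hf h1 x.1 x.2 hx),
     by
      intro m
      obtain ⟨x, hx, rfl⟩ := Phi_surj 𝒜 gens hf h1 hg m
      exact ⟨⟨x, hx⟩, rfl⟩⟩

theorem eqv_apply (hg : Submodule.span S (Set.range gens) = ⊤) (x : ↥(Nf 𝒜 gens hf)) :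
    eqv 𝒜 gens hf h1 hg x = Phi 𝒜 gens h1 x.1 := rfl

end Loc

/-- Abstract version of the construction. -/
theorem main {f : S} (hf : f ∈ 𝒜 1) (h1 : ∀ m : M, f • m = m)
    (hg : Submodule.span S (Set.range gens) = ⊤) :
    ∃ (N : Type u) (_ : AddCommGroup N) (_ : Module S N) (_ : Module R N) (_ : IsScalarTower R S N)
      (ℳ : ℕ → Submodule R N) (_ : DirectSum.Decomposition ℳ) (_ : SetLike.GradedSMul 𝒜 ℳ)
      (Nf : Submodule R (LocalizedModule (Submonoid.powers f) N)) (e' : ↥Nf ≃ₗ[R] M),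
      Module.Finite S N ∧
      (∀ x, x ∈ Nf ↔ ∃ k : ℕ, ∃ n ∈ ℳ k, f ^ k • x = LocalizedModule.mk n 1) ∧
      (∀ (k : ℕ) (s : S), s ∈ 𝒜 k → ∀ (x y : ↥Nf),
        (Localization.mk s (⟨f ^ k, k, rfl⟩ : Submonoid.powers f) :
          Localization (Submonoid.powers f)) •
            (x : LocalizedModule (Submonoid.powers f) N) = y → e' y = s • e' x) := by
  refine ⟨NN 𝒜 gens, inferInstance, inferInstance, inferInstance, inferInstance, grd 𝒜 gens,
    inferInstance, inferInstance, Nf 𝒜 gens hf, eqv 𝒜 gens hf h1 hg, inferInstance,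
    fun x => Iff.rfl, ?_⟩
  intro k s hs x y hxy
  rw [eqv_apply, eqv_apply, ← hxy, Phi_act]

end Groth.Agent.Lib.Helper26.GrLoc2
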