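/-
helper26: coprimality of polynomials over a local ring can be checked modulo the maximal ideal
when one of them is monic.
-/
import Mathlib.RingTheory.AdjoinRoot
import Mathlib.RingTheory.Nakayama
import Mathlib.RingTheory.LocalRing.ResidueField.Basic
import Mathlib.RingTheory.Polynomial.Basic

set_option autoImplicit false
universe u

namespace Groth.Agent.Lib.Helper26.HensML

open Polynomial IsLocalRing

theorem isCoprime_of_map_residue {R : Type u} [CommRing R] [IsLocalRing R] (g u : R[X])
    (hg : g.Monic) (h : IsCoprime (g.map (residue R)) (u.map (residue R))) : IsCoprime g u := by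
  classical
  obtain ⟨a0, b0, hab⟩ := h
  obtain ⟨a, rfl⟩ := Polynomial.map_surjective (residue R) residue_surjective a0
  obtain ⟨b, rfl⟩ := Polynomial.map_surjective (residue R) residue_surjective b0
  set w : R[X] := a * g + b * u - 1 with hw
  have hwI : w ∈ Ideal.map (C : R →+* R[X]) (maximalIdeal R) := by
    rw [Ideal.mem_map_C_iff]
    intro n
    rw [← residue_eq_zero_iff, ← Polynomial.coeff_map, hw, Polynomial.map_sub, Polynomial.map_add,
      Polynomial.map_mul, Polynomial.map_mul, Polynomial.map_one, hab, sub_self, coeff_zero]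
  have hwcoeff : ∀ p : R[X], ∀ n, (p * w).coeff n ∈ maximalIdeal R := by
    intro p n
    exact Ideal.mem_map_C_iff.1 (Ideal.mul_mem_left _ p hwI) n
  haveI : Module.Finite R (AdjoinRoot g) := hg.finite_adjoinRoot
  let N : Submodule R (AdjoinRoot g) :=
    (Ideal.span {AdjoinRoot.mk g u}).restrictScalars R
  have key : (⊤ : Submodule R (AdjoinRoot g)) ≤ N := by
    apply Submodule.le_of_le_smul_of_le_jacobson_bot Module.Finite.fg_top
      (IsLocalRing.maximalIdeal_le_jacobson ⊥)
    intro z _
    obtain ⟨p, rfl⟩ := AdjoinRoot.mk_surjective z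
    have e : AdjoinRoot.mk g p = AdjoinRoot.mk g (p * b) * AdjoinRoot.mk g u +
        (- AdjoinRoot.mk g (p * w)) := by
      have : p = p * b * u + p * a * g - p * w := by rw [hw]; ring
      conv_lhs => rw [this]
      simp only [map_sub, map_add, map_mul, AdjoinRoot.mk_self, mul_zero, add_zero]
      ring
    rw [e]
    apply Submodule.add_mem_sup
    · exact Ideal.mul_mem_left _ _ (Ideal.subset_span rfl)
    · apply Submodule.neg_mem
      rw [(p * w).as_sum_support, map_sum]
      apply Submodule.sum_mem
      intro i _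
      have : AdjoinRoot.mk g (monomial i ((p * w).coeff i)) =
          ((p * w).coeff i) • AdjoinRoot.mk g (X ^ i) := by
        rw [← C_mul_X_pow_eq_monomial, map_mul, AdjoinRoot.mk_C, Algebra.smul_def,
          AdjoinRoot.algebraMap_eq]
      rw [this]
      exact Submodule.smul_mem_smul (hwcoeff p i) Submodule.mem_top
  have h1 : (1 : AdjoinRoot g) ∈ N := key Submodule.mem_top
  obtain ⟨c, hc⟩ := Ideal.mem_span_singleton'.1 h1
  obtain ⟨b', rfl⟩ := AdjoinRoot.mk_surjective c
  have h2 : AdjoinRoot.mk g (b' * u - 1) = 0 := by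
    rw [map_sub, map_mul, hc, map_one, sub_self]
  rw [AdjoinRoot.mk_eq_zero] at h2
  obtain ⟨a', ha'⟩ := h2
  exact ⟨-a', b', by linear_combination ha'⟩

end Groth.Agent.Lib.Helper26.HensML
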