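/-
helper26: over a henselian local ring, every element of a countably generated Mittag-Leffler
module lies in a finitely generated direct summand (Stacks 0ASM-type splitting).
-/
import Groth.Agent.Lib.Helper26.HensML1
import Groth.Agent.Lib.Helper54.MLCount
import Groth.Agent.S0497
import Mathlib.LinearAlgebra.Matrix.Charpoly.LinearMap

set_option autoImplicit false
set_option maxHeartbeats 400000
universe u

namespace Groth.Agent.Lib.Helper26.HensML

open Polynomial IsLocalRing Groth.Agent.Lib.Helper54

theorem aeval_apply_of_fixed {R : Type u} [CommRing R] {M : Type u} [AddCommGroup M] [Module R M]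
    (α : Module.End R M) (x : M) (hx : α x = x) (p : R[X]) :
    aeval α p x = p.eval 1 • x := by
  refine p.induction_on ?_ ?_ ?_
  · intro a; simp [Module.algebraMap_end_apply]
  · intro p q hp hq; simp [hp, hq, add_smul]
  · intro n a hna
    rw [pow_succ, ← mul_assoc, map_mul, Module.End.mul_apply, aeval_X, hx, hna]
    simp

theorem exists_split (R : Type u) [CommRing R] [HenselianLocalRing R] (M : Type u)
    [AddCommGroup M] [Module R M] (hc : CAlg.IsCountablyGenerated R M)
    (hML : CAlg.IsMittagLeffler R M) (x : M) :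
    ∃ e : Module.End R M, e * e = e ∧ e x = x ∧ (LinearMap.range e).FG := by
  classical
  by_cases hx0 : x = 0
  · refine ⟨0, by simp, by simp [hx0], ?_⟩
    rw [LinearMap.range_zero]
    exact Submodule.fg_bot
  obtain ⟨Q, _, _, _, b, c, hcb⟩ := exists_endo_of_ml_countablyGenerated hML hc
    (LinearMap.toSpanSingleton R M x)
  set α : Module.End R M := c ∘ₗ b with hα
  have hαx : α x = x := by
    have := LinearMap.congr_fun hcb 1
    simpa using this
  set a' : Module.End R Q := b ∘ₗ c with ha'
  obtain ⟨P0, hP0mon, hP0⟩ := LinearMap.exists_monic_and_aeval_eq_zero R a'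
  -- intertwining
  have hpow : ∀ n : ℕ, (α ^ n) ∘ₗ c = c ∘ₗ (a' ^ n) := by
    intro n
    induction n with
    | zero => simp [Module.End.one_eq_id]
    | succ n ih =>
      rw [pow_succ α, pow_succ a', Module.End.mul_eq_comp, Module.End.mul_eq_comp, LinearMap.comp_assoc]
      have : α ∘ₗ c = c ∘ₗ a' := by rw [hα, ha', LinearMap.comp_assoc]
      rw [this, ← LinearMap.comp_assoc, ih, LinearMap.comp_assoc]
  have hint : ∀ p : R[X], (aeval α p) ∘ₗ c = c ∘ₗ (aeval a' p) := by
    intro p
    refine p.induction_on ?_ ?_ ?_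
    · intro r
      ext y
      simp [Module.algebraMap_end_apply]
    · intro p q hp hq
      rw [map_add, map_add, LinearMap.add_comp, LinearMap.comp_add, hp, hq]
    · intro n r _
      rw [map_mul, map_mul, aeval_C, aeval_C, map_pow, map_pow, aeval_X, aeval_X]
      ext y
      have := LinearMap.congr_fun (hpow (n + 1)) y
      simp only [LinearMap.comp_apply] at this
      simp only [Module.End.mul_apply, Module.algebraMap_end_apply, LinearMap.comp_apply,
        map_smul, this]
  have hF : aeval α (P0 * X) = 0 := by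
    rw [map_mul, aeval_X]
    show (aeval α P0) ∘ₗ (c ∘ₗ b) = 0
    rw [← LinearMap.comp_assoc, hint, hP0]
    simp
  -- 1 is a root of the reduction of P0
  have hroot : (P0.map (residue R)).eval 1 = 0 := by
    have h1 : (aeval α (P0 * X)) x = 0 := by rw [hF]; rfl
    rw [aeval_apply_of_fixed α x hαx, eval_mul, eval_X, mul_one] at h1
    have h2 : P0.eval 1 ∈ maximalIdeal R := by
      by_contra hnot
      have hu : IsUnit (P0.eval 1) := by
        by_contra hnu
        exact hnot ((mem_maximalIdeal _).2 hnu)
      apply hx0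
      have := congrArg (fun y => (hu.unit⁻¹ : Rˣ) • y) h1
      simpa [Units.smul_def, smul_smul] using this
    rw [Polynomial.eval_one_map]
    exact (residue_eq_zero_iff _).2 h2
  -- factor the reduction
  set Pb := P0.map (residue R) with hPb
  have hPbmon : Pb.Monic := hP0mon.map _
  obtain ⟨h0, hfac, hndvd⟩ :=
    Pb.exists_eq_pow_rootMultiplicity_mul_and_not_dvd hPbmon.ne_zero 1
  set m := Pb.rootMultiplicity 1 with hm
  have hg0mon : ((X - C (1 : ResidueField R)) ^ m).Monic := (monic_X_sub_C 1).pow m
  have hcop1 : IsCoprime (X - C (1 : ResidueField R)) h0 :=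
    (irreducible_X_sub_C (1 : ResidueField R)).coprime_iff_not_dvd.2 hndvd
  have hcop : IsCoprime ((X - C (1 : ResidueField R)) ^ m) h0 := hcop1.pow_left
  obtain ⟨g, h, hP0gh, hgmon, hgmap, hhmap⟩ :=
    Groth.Agent.S0497.result R P0 _ h0 hg0mon hcop hfac
  -- u = h * X
  have hcopX : IsCoprime (X - C (1 : ResidueField R)) X :=
    ⟨-1, 1, by simp⟩
  have hcop2 : IsCoprime (g.map (residue R)) ((h * X).map (residue R)) := by
    rw [hgmap, Polynomial.map_mul, hhmap, Polynomial.map_X]
    exact IsCoprime.mul_right hcop hcopX.pow_left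
  obtain ⟨a1, b1, hab⟩ := isCoprime_of_map_residue g (h * X) hgmon hcop2
  -- h(1) is a unit
  have hh1 : IsUnit (h.eval 1) := by
    by_contra hnu
    have h2 : h.eval 1 ∈ maximalIdeal R := (mem_maximalIdeal _).2 hnu
    have h3 : (h.map (residue R)).eval 1 = 0 := by
      rw [Polynomial.eval_one_map]
      exact (residue_eq_zero_iff _).2 h2
    rw [hhmap] at h3
    exact hndvd (dvd_iff_isRoot.2 h3)
  have hguα : aeval α (g * (h * X)) = 0 := by
    rw [← mul_assoc, ← hP0gh]
    exact hF
  set e : Module.End R M := aeval α (b1 * (h * X)) with he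
  have hone : aeval α (a1 * g) + e = 1 := by
    rw [he, ← map_add, hab, map_one]
  have hzero : aeval α (a1 * g) * e = 0 := by
    rw [he, ← map_mul]
    have : a1 * g * (b1 * (h * X)) = (a1 * b1) * (g * (h * X)) := by ring
    rw [this, map_mul, hguα, mul_zero]
  have hee : e * e = e := by
    have : e = (aeval α (a1 * g) + e) * e := by rw [hone, one_mul]
    rw [add_mul, hzero, zero_add] at this
    exact this.symm
  have hgx : g.eval 1 • x = 0 := by
    have h1 : (aeval α (g * (h * X))) x = 0 := by rw [hguα]; rfl
    rw [aeval_apply_of_fixed α x hαx, eval_mul, eval_mul, eval_X, mul_one] at h1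
    obtain ⟨v, hv⟩ := hh1.exists_right_inv
    calc g.eval 1 • x = (v * (g.eval 1 * h.eval 1)) • x := by
          rw [mul_comm (g.eval 1), ← mul_assoc, mul_comm v, hv, one_mul]
      _ = 0 := by rw [mul_smul, h1, smul_zero]
  have hex : e x = x := by
    have h1 : (aeval α (a1 * g) + e) x = x := by rw [hone]; rfl
    rw [LinearMap.add_apply, aeval_apply_of_fixed α x hαx, eval_mul, mul_smul, hgx, smul_zero,
      zero_add] at h1
    exact h1
  refine ⟨e, hee, hex, ?_⟩
  -- finite generation of the range
  set j : Q →ₗ[R] M := (aeval α (b1 * h)) ∘ₗ c with hj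
  have hej : e = j ∘ₗ b := by
    rw [he, hj, LinearMap.comp_assoc, ← hα, ← mul_assoc, map_mul, aeval_X]
    rfl
  have hrange : LinearMap.range e = LinearMap.range (e ∘ₗ j) := by
    apply le_antisymm
    · rintro _ ⟨y, rfl⟩
      refine ⟨b (e y), ?_⟩
      have h1 : e (e y) = e y := by rw [← Module.End.mul_apply, hee]
      rw [LinearMap.comp_apply, ← LinearMap.comp_apply j b, ← hej, ← Module.End.mul_apply,
        ← Module.End.mul_apply, hee, hee]
    · rintro _ ⟨y, rfl⟩
      exact ⟨j y, rfl⟩
  rw [hrange, LinearMap.range_eq_map]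
  exact (Module.Finite.fg_top).map _

end Groth.Agent.Lib.Helper26.HensML
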