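/-
helper26: over a henselian local ring, a countably generated Mittag-Leffler module is a direct
sum of finitely presented submodules (Stacks 0ASM).
-/
import Groth.Agent.Lib.Helper26.HensML2
import Groth.Agent.Lib.Helper54.MLKap
import Groth.Agent.Lib.Helper54.MLFin
import Groth.Agent.Lib.Helper54.MLFP

set_option autoImplicit false
set_option maxHeartbeats 400000
universe u

namespace Groth.Agent.Lib.Helper26.HensML

open Groth.Agent.Lib.Helper54

section Idem

variable {R : Type u} [CommRing R] {M : Type u} [AddCommGroup M] [Module R M]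

theorem idem_apply (q : Module.End R M) (hq : q * q = q) (y : M) : q (q y) = q y := by
  rw [← Module.End.mul_apply, hq]

theorem rangeRestrict_comp_subtype (q : Module.End R M) (hq : q * q = q) :
    q.rangeRestrict ∘ₗ (LinearMap.range q).subtype = LinearMap.id := by
  ext ⟨y, z, rfl⟩
  exact idem_apply q hq z

theorem isMittagLeffler_range_of_idem (q : Module.End R M) (hq : q * q = q)
    (hML : CAlg.IsMittagLeffler R M) : CAlg.IsMittagLeffler R (LinearMap.range q) :=
  isMittagLeffler_of_retract (LinearMap.range q).subtype q.rangeRestrict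
    (rangeRestrict_comp_subtype q hq) hML

theorem isCountablyGenerated_range (q : Module.End R M)
    (hc : CAlg.IsCountablyGenerated R M) : CAlg.IsCountablyGenerated R (LinearMap.range q) :=
  Kap.isCountablyGenerated_of_surjective q.rangeRestrict (LinearMap.surjective_rangeRestrict q) hc

theorem finitePresentation_range_of_idem (q : Module.End R M) (hq : q * q = q)
    (hML : CAlg.IsMittagLeffler R M) (hfg : (LinearMap.range q).FG) :
    Module.FinitePresentation R (LinearMap.range q) := by
  have : Module.Finite R (LinearMap.range q) := Module.Finite.iff_fg.2 hfg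
  have h1 := isMittagLeffler_range_of_idem q hq hML
  exact finitePresentation_of_piRightHom_bijective R (LinearMap.range q)
    (fun ι Q _ _ => ⟨h1 ι Q, piRightHom_surjective_of_finite R (LinearMap.range q) Q⟩)

end Idem

theorem exists_step (R : Type u) [CommRing R] [HenselianLocalRing R] (M : Type u)
    [AddCommGroup M] [Module R M] (hc : CAlg.IsCountablyGenerated R M)
    (hML : CAlg.IsMittagLeffler R M) (q : Module.End R M) (hq : q * q = q) (x : M) :
    ∃ e : Module.End R M, e * e = e ∧ e * q = e ∧ q * e = e ∧ e x = q x ∧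
      (LinearMap.range e).FG := by
  have hK_ML := isMittagLeffler_range_of_idem q hq hML
  have hK_cg := isCountablyGenerated_range q hc
  obtain ⟨e', he'e', he'x, he'fg⟩ :=
    exists_split R (LinearMap.range q) hK_cg hK_ML (q.rangeRestrict x)
  have hrr : ∀ k : LinearMap.range q, q.rangeRestrict (k : M) = k := fun k =>
    LinearMap.congr_fun (rangeRestrict_comp_subtype q hq) k
  have hqk : ∀ k : LinearMap.range q, q (k : M) = k := fun k => congrArg Subtype.val (hrr k)
  have hrrq : ∀ y : M, q.rangeRestrict (q y) = q.rangeRestrict y := fun y =>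
    Subtype.ext (idem_apply q hq y)
  have he'' : ∀ k, e' (e' k) = e' k := fun k => by rw [← Module.End.mul_apply, he'e']
  refine ⟨(LinearMap.range q).subtype ∘ₗ e' ∘ₗ q.rangeRestrict, ?_, ?_, ?_, ?_, ?_⟩
  · ext y
    simp only [Module.End.mul_apply, LinearMap.comp_apply, Submodule.subtype_apply]
    rw [hrr, he'']
  · ext y
    simp only [Module.End.mul_apply, LinearMap.comp_apply, Submodule.subtype_apply]
    rw [hrrq]
  · ext y
    simp only [Module.End.mul_apply, LinearMap.comp_apply, Submodule.subtype_apply]
    rw [hqk]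
  · simp only [LinearMap.comp_apply, Submodule.subtype_apply]
    rw [he'x]
    rfl
  · rw [LinearMap.range_comp, LinearMap.range_comp_of_range_eq_top _
      (LinearMap.range_rangeRestrict q)]
    exact he'fg.map _

open scoped Classical in
theorem exists_internal_fp (R : Type u) [CommRing R] [HenselianLocalRing R] (M : Type u)
    [AddCommGroup M] [Module R M] (hc : CAlg.IsCountablyGenerated R M)
    (hML : CAlg.IsMittagLeffler R M) :
    ∃ (ι : Type u) (N : ι → Submodule R M), DirectSum.IsInternal N ∧
      ∀ i, Module.FinitePresentation R (N i) := by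
  classical
  obtain ⟨x, hx⟩ := exists_seq_span_eq_top hc
  choose E hEE hEq hqE hEx hEfg using
    fun (q : {q : Module.End R M // q * q = q}) (y : M) => exists_step R M hc hML q.1 q.2 y
  let qs : ℕ → {q : Module.End R M // q * q = q} := fun n =>
    Nat.rec (⟨1, one_mul 1⟩ : {q : Module.End R M // q * q = q})
      (fun n q => ⟨q.1 - E q (x n), by
        rw [sub_mul, mul_sub, mul_sub, q.2, hqE, hEq, hEE, sub_self, sub_zero]⟩) n
  let es : ℕ → Module.End R M := fun n => E (qs n) (x n)
  have hq0 : (qs 0).1 = 1 := rfl
  have hqsucc : ∀ n, (qs (n + 1)).1 = (qs n).1 - es n := fun n => rfl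
  have ees : ∀ n, es n * es n = es n := fun n => hEE _ _
  have eq_ : ∀ n, es n * (qs n).1 = es n := fun n => hEq _ _
  have qe_ : ∀ n, (qs n).1 * es n = es n := fun n => hqE _ _
  have ex_ : ∀ n, es n (x n) = (qs n).1 (x n) := fun n => hEx _ _
  -- L2
  have L2 : ∀ n k, (qs (n + k)).1 * (qs n).1 = (qs (n + k)).1 ∧
      (qs n).1 * (qs (n + k)).1 = (qs (n + k)).1 := by
    intro n k
    induction k with
    | zero => exact ⟨(qs n).2, (qs n).2⟩
    | succ k ih =>
      have h1 : es (n + k) * (qs n).1 = es (n + k) := by
        rw [← eq_ (n + k), mul_assoc, ih.1]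
      have h2 : (qs n).1 * es (n + k) = es (n + k) := by
        rw [← qe_ (n + k), ← mul_assoc, ih.2]
      constructor
      · rw [← add_assoc, hqsucc, sub_mul, ih.1, h1]
      · rw [← add_assoc, hqsucc, mul_sub, ih.2, h2]
  -- L3
  have L3 : ∀ n, (qs (n + 1)).1 * es n = 0 ∧ es n * (qs (n + 1)).1 = 0 := by
    intro n
    constructor
    · rw [hqsucc, sub_mul, qe_, ees, sub_self]
    · rw [hqsucc, mul_sub, eq_, ees, sub_self]
  -- L4
  have L4 : ∀ i k, es (i + 1 + k) * es i = 0 ∧ es i * es (i + 1 + k) = 0 := by
    intro i k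
    constructor
    · rw [← eq_ (i + 1 + k), mul_assoc, ← (L2 (i + 1) k).1, mul_assoc, (L3 i).1, mul_zero,
        mul_zero]
    · rw [← qe_ (i + 1 + k), ← mul_assoc, ← (L2 (i + 1) k).2, ← mul_assoc, (L3 i).2, zero_mul,
        zero_mul]
  have L4' : ∀ i j, i ≠ j → es i * es j = 0 := by
    intro i j hij
    rcases lt_or_gt_of_ne hij with h | h
    · obtain ⟨k, rfl⟩ := Nat.exists_eq_add_of_lt h
      have := (L4 i k).2
      rwa [show i + 1 + k = i + k + 1 by omega] at this
    · obtain ⟨k, rfl⟩ := Nat.exists_eq_add_of_lt h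
      have := (L4 j k).1
      rwa [show j + 1 + k = j + k + 1 by omega] at this
  -- L5
  have L5 : ∀ n, ∑ i ∈ Finset.range n, es i = 1 - (qs n).1 := by
    intro n
    induction n with
    | zero => rw [Finset.sum_range_zero, hq0, sub_self]
    | succ n ih => rw [Finset.sum_range_succ, ih, hqsucc]; abel
  -- L6
  have L6 : ∀ n, (qs (n + 1)).1 (x n) = 0 := by
    intro n
    rw [hqsucc, LinearMap.sub_apply, ex_, sub_self]
  refine ⟨ULift.{u} ℕ, fun i => LinearMap.range (es i.down), ?_, ?_⟩
  · letI : DecidableEq (ULift.{u} ℕ) := fun a b => Classical.propDecidable (a = b)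
    rw [DirectSum.isInternal_submodule_iff_iSupIndep_and_iSup_eq_top]
    constructor
    · rw [iSupIndep_def]
      intro i
      rw [Submodule.disjoint_def]
      intro y hy1 hy2
      have h1 : es i.down y = y := by
        obtain ⟨z, rfl⟩ := hy1
        exact idem_apply _ (ees _) z
      have h2 : (⨆ (j : ULift.{u} ℕ) (_ : j ≠ i), LinearMap.range (es j.down)) ≤
          LinearMap.ker (es i.down) := by
        apply iSup₂_le
        rintro j hj _ ⟨z, rfl⟩
        rw [LinearMap.mem_ker, ← Module.End.mul_apply, L4' i.down j.down (fun h => hj (by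
          cases i; cases j; simp_all)), LinearMap.zero_apply]
      rw [← h1]
      exact LinearMap.mem_ker.1 (h2 hy2)
    · rw [eq_top_iff, ← hx, Submodule.span_le]
      rintro _ ⟨n, rfl⟩
      have h1 : x n = (∑ i ∈ Finset.range (n + 1), es i) (x n) := by
        rw [L5, LinearMap.sub_apply, L6, sub_zero]
        rfl
      rw [h1, LinearMap.sum_apply]
      apply Submodule.sum_mem
      intro i _
      exact Submodule.mem_iSup_of_mem (ULift.up i) ⟨x n, rfl⟩
  · intro i
    exact finitePresentation_range_of_idem (es i.down) (ees _) hML (hEfg _ _)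

end Groth.Agent.Lib.Helper26.HensML
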