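/-
helper26: over a henselian local ring, finitely generated submodules of a countably generated
Mittag-Leffler module lie in finitely generated direct summands; application to annihilators in
`N ⊗ M` (Raynaud-Gruson).
-/
import Groth.Agent.Lib.Helper26.HensML3
import Mathlib.RingTheory.FiniteType
import Mathlib.RingTheory.Nakayama
import Mathlib.LinearAlgebra.TensorProduct.Tower

set_option autoImplicit false
set_option maxHeartbeats 400000
universe u

namespace Groth.Agent.Lib.Helper26.HensML

open Groth.Agent.Lib.Helper54 TensorProduct IsLocalRing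

theorem one_sub_idem {A : Type*} [Ring A] (p : A) (h : p * p = p) :
    (1 - p) * (1 - p) = 1 - p := by
  rw [sub_mul, one_mul, mul_sub, mul_one, h, sub_self, sub_zero]

section Idem2

variable {R : Type u} [CommRing R] {M : Type u} [AddCommGroup M] [Module R M]

theorem fg_range_of_idem_of_le (e : Module.End R M) (he : e * e = e) (W : Submodule R M)
    (hW : W.FG) (hle : LinearMap.range e ≤ W) : (LinearMap.range e).FG := by
  have : LinearMap.range e = W.map e := by
    apply le_antisymm
    · rintro _ ⟨y, rfl⟩
      exact ⟨e y, hle ⟨y, rfl⟩, idem_apply e he y⟩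
    · rintro _ ⟨y, -, rfl⟩
      exact ⟨y, rfl⟩
  rw [this]
  exact hW.map e

end Idem2

theorem exists_idem_fixing (R : Type u) [CommRing R] [HenselianLocalRing R] (M : Type u)
    [AddCommGroup M] [Module R M] (hc : CAlg.IsCountablyGenerated R M)
    (hML : CAlg.IsMittagLeffler R M) (W : Submodule R M) (hW : W.FG) :
    ∃ e : Module.End R M, e * e = e ∧ (LinearMap.range e).FG ∧ ∀ w ∈ W, e w = w := by
  classical
  obtain ⟨F, rfl⟩ := hW
  have key : ∃ q : Module.End R M, q * q = q ∧ (∀ y ∈ F, q y = 0) ∧
      (LinearMap.range (1 - q)).FG := by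
    induction F using Finset.induction_on with
    | empty =>
      refine ⟨1, one_mul 1, by simp, ?_⟩
      rw [sub_self, LinearMap.range_zero]
      exact Submodule.fg_bot
    | insert y F _ ih =>
      obtain ⟨q, hq, hqF, hfg⟩ := ih
      obtain ⟨e, hee, heq, hqe, hex, hefg⟩ := exists_step R M hc hML q hq y
      have hq' : (q - e) * (q - e) = q - e := by
        rw [sub_mul, mul_sub, mul_sub, hq, hqe, heq, hee, sub_self, sub_zero]
      refine ⟨q - e, hq', ?_, ?_⟩
      · intro w hw
        rcases Finset.mem_insert.1 hw with rfl | hw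
        · rw [LinearMap.sub_apply, hex, sub_self]
        · rw [LinearMap.sub_apply, hqF w hw, ← heq, Module.End.mul_apply, hqF w hw, map_zero,
            sub_zero]
      · have hidem : (1 - (q - e)) * (1 - (q - e)) = 1 - (q - e) := one_sub_idem _ hq'
        apply fg_range_of_idem_of_le _ hidem (LinearMap.range (1 - q) ⊔ LinearMap.range e)
          (hfg.sup hefg)
        rintro _ ⟨z, rfl⟩
        have : (1 - (q - e)) z = (1 - q) z + e z := by
          simp only [LinearMap.sub_apply, Module.End.one_apply]
          abel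
        rw [this]
        exact Submodule.add_mem_sup ⟨z, rfl⟩ ⟨z, rfl⟩
  obtain ⟨q, hq, hqF, hfg⟩ := key
  refine ⟨1 - q, ?_, hfg, ?_⟩
  · exact one_sub_idem _ hq
  · intro w hw
    have hker : Submodule.span R (F : Set M) ≤ LinearMap.ker q := by
      rw [Submodule.span_le]
      intro y hy
      exact LinearMap.mem_ker.2 (hqF y hy)
    rw [LinearMap.sub_apply, Module.End.one_apply, LinearMap.mem_ker.1 (hker hw), sub_zero]

/-- Every element of `N ⊗ M` is fixed by `e ⊗ id` for some idempotent `e` with finitely
generated range. -/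
theorem exists_idem_rTensor_fixing (R : Type u) [CommRing R] [HenselianLocalRing R] (N : Type u)
    [AddCommGroup N] [Module R N] (hc : CAlg.IsCountablyGenerated R N)
    (hML : CAlg.IsMittagLeffler R N) (M : Type u) [AddCommGroup M] [Module R M]
    (z : N ⊗[R] M) :
    ∃ e : Module.End R N, e * e = e ∧ (LinearMap.range e).FG ∧ (e.rTensor M) z = z := by
  induction z using TensorProduct.induction_on with
  | zero => exact ⟨0, by simp, by rw [LinearMap.range_zero]; exact Submodule.fg_bot, by simp⟩
  | tmul n m =>
    obtain ⟨e, he, hfg, hfix⟩ := exists_idem_fixing R N hc hML (Submodule.span R {n})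
      (Submodule.fg_span_singleton n)
    refine ⟨e, he, hfg, ?_⟩
    rw [LinearMap.rTensor_tmul, hfix n (Submodule.mem_span_singleton_self n)]
  | add z1 z2 h1 h2 =>
    obtain ⟨e1, he1, hfg1, hz1⟩ := h1
    obtain ⟨e2, he2, hfg2, hz2⟩ := h2
    obtain ⟨e, he, hfg, hfix⟩ := exists_idem_fixing R N hc hML
      (LinearMap.range e1 ⊔ LinearMap.range e2) (hfg1.sup hfg2)
    refine ⟨e, he, hfg, ?_⟩
    have hc1 : e ∘ₗ e1 = e1 := by
      ext y
      exact hfix _ (Submodule.mem_sup_left ⟨y, rfl⟩)
    have hc2 : e ∘ₗ e2 = e2 := by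
      ext y
      exact hfix _ (Submodule.mem_sup_right ⟨y, rfl⟩)
    rw [map_add]
    conv_lhs => rw [← hz1, ← hz2]
    rw [← LinearMap.comp_apply, ← LinearMap.rTensor_comp, hc1, ← LinearMap.comp_apply,
      ← LinearMap.rTensor_comp, hc2, hz1, hz2]

end Groth.Agent.Lib.Helper26.HensML
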