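/-
helper26: Raynaud-Gruson: over a henselian local ring `R`, for an `S`-module `N` countably generated
and Mittag-Leffler over `R`, an element `g ≡ 1 mod m S` acts injectively on `N ⊗ M`.
-/
import Groth.Agent.Lib.Helper26.HensML4

set_option autoImplicit false
set_option maxHeartbeats 400000
universe u

namespace Groth.Agent.Lib.Helper26.HensML

open Groth.Agent.Lib.Helper54 TensorProduct IsLocalRing

theorem smul_sub_mem {R S : Type u} [CommRing R] [IsLocalRing R] [CommRing S] [Algebra R S]
    (N : Type u) [AddCommGroup N] [Module S N] [Module R N] [IsScalarTower R S N]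
    (s : S) (hs : s ∈ (maximalIdeal R).map (algebraMap R S)) :
    ∀ n : N, s • n ∈ (maximalIdeal R) • (⊤ : Submodule R N) := by
  refine Submodule.span_induction
    (p := fun s _ => ∀ n : N, s • n ∈ (maximalIdeal R) • (⊤ : Submodule R N)) ?_ ?_ ?_ ?_ hs
  · rintro _ ⟨a, ha, rfl⟩ n
    rw [algebraMap_smul]
    exact Submodule.smul_mem_smul ha Submodule.mem_top
  · intro n
    rw [zero_smul]
    exact Submodule.zero_mem _
  · intro x y _ _ hx hy n
    rw [add_smul]
    exact Submodule.add_mem _ (hx n) (hy n)
  · intro t x _ hx n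
    rw [smul_eq_mul, mul_comm, mul_smul]
    exact hx (t • n)

theorem eq_zero_of_smul_eq_zero {R S : Type u} [CommRing R] [HenselianLocalRing R] [CommRing S]
    [Algebra R S] (N : Type u) [AddCommGroup N] [Module S N] [Module R N] [IsScalarTower R S N]
    (hcg : CAlg.IsCountablyGenerated R N) (hML : CAlg.IsMittagLeffler R N) (M : Type u)
    [AddCommGroup M] [Module R M] (g : S)
    (hg : g - 1 ∈ (maximalIdeal R).map (algebraMap R S)) (z : N ⊗[R] M) (hz : g • z = 0) :
    z = 0 := by
  classical
  obtain ⟨e, he, hfg, hez⟩ := exists_idem_rTensor_fixing R N hcg hML M z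
  have : Module.Finite R (LinearMap.range e) := Module.Finite.iff_fg.2 hfg
  let μ : N →ₗ[R] N := DistribSMul.toLinearMap R N g
  let G : LinearMap.range e →ₗ[R] LinearMap.range e :=
    e.rangeRestrict ∘ₗ μ ∘ₗ (LinearMap.range e).subtype
  have hsub : ∀ n : N, g • n - n ∈ (maximalIdeal R) • (⊤ : Submodule R N) := by
    intro n
    have h1 : g • n - n = (g - 1) • n := by rw [sub_smul, one_smul]
    rw [h1]
    exact smul_sub_mem N (g - 1) hg n
  have hfixr : ∀ y : LinearMap.range e, e (y : N) = y := by
    rintro ⟨_, w, rfl⟩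
    exact idem_apply e he w
  have hGsurj : Function.Surjective G := by
    rw [← LinearMap.range_eq_top, eq_top_iff]
    apply Submodule.le_of_le_smul_of_le_jacobson_bot Module.Finite.fg_top
      (maximalIdeal_le_jacobson ⊥)
    intro y _
    have h0 : y = G y + (y - G y) := by abel
    rw [h0]
    refine Submodule.add_mem_sup (LinearMap.mem_range_self G y) ?_
    have h1 : y - G y = e.rangeRestrict ((y : N) - g • (y : N)) := by
      apply Subtype.ext
      show (y : N) - e (g • (y : N)) = e ((y : N) - g • (y : N))
      rw [map_sub, hfixr]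
    rw [h1]
    have h2 : (maximalIdeal R • (⊤ : Submodule R N)).map e.rangeRestrict ≤
        maximalIdeal R • (⊤ : Submodule R (LinearMap.range e)) := by
      rw [Submodule.map_smul'']
      exact Submodule.smul_mono le_rfl le_top
    apply h2
    refine ⟨_, ?_, rfl⟩
    rw [← neg_sub]
    exact Submodule.neg_mem _ (hsub (y : N))
  have hGinj : Function.Injective G :=
    OrzechProperty.injective_of_surjective_endomorphism G hGsurj
  set z' : (LinearMap.range e) ⊗[R] M := (e.rangeRestrict.rTensor M) z with hz'
  have hz'z : ((LinearMap.range e).subtype.rTensor M) z' = z := by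
    rw [hz', ← LinearMap.comp_apply, ← LinearMap.rTensor_comp]
    have h3 : (LinearMap.range e).subtype ∘ₗ e.rangeRestrict = e := by
      ext y; rfl
    rw [h3, hez]
  have hμ : ∀ t : N ⊗[R] M, (μ.rTensor M) t = g • t := by
    intro t
    induction t using TensorProduct.induction_on with
    | zero => simp
    | tmul n m => rw [LinearMap.rTensor_tmul, TensorProduct.smul_tmul']; rfl
    | add a b ha hb => rw [map_add, ha, hb, smul_add]
  have hGz' : (G.rTensor M) z' = 0 := by
    show ((e.rangeRestrict ∘ₗ μ ∘ₗ (LinearMap.range e).subtype).rTensor M) z' = 0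
    rw [LinearMap.rTensor_comp, LinearMap.rTensor_comp, LinearMap.comp_apply,
      LinearMap.comp_apply, hz'z, hμ, hz, map_zero]
  have hz'0 : z' = 0 := by
    have hinj : Function.Injective (G.rTensor M) :=
      (LinearEquiv.rTensor M (LinearEquiv.ofBijective G ⟨hGinj, hGsurj⟩)).injective
    exact hinj (hGz'.trans (map_zero _).symm)
  rw [← hz'z, hz'0, map_zero]

end Groth.Agent.Lib.Helper26.HensML
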