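import Groth.Agent.Lib.Helper24.FlatColim
import Groth.Agent.Lib.Helper8.MatSeq2
import Groth.Agent.Lib.Helper26.Ferr5

set_option autoImplicit false
set_option linter.unusedSectionVars false
set_option linter.style.haveILetI false
set_option maxHeartbeats 800000

universe u

open TensorProduct Function

namespace Groth.Agent.Lib.Helper26.IntDesc

open Groth.Agent.Lib.Helper8.MatCok

attribute [local instance] MvPolynomial.algebraMvPolynomial

/-- A module presented by a matrix with polynomial entries descending to `R₀` is the base change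
of the module presented by the descended matrix. -/
theorem model_equiv (R₀ R : Type u) [CommRing R₀] [CommRing R] [Algebra R₀ R] (n a b : ℕ)
    (K₀ : Matrix (Fin a) (Fin b) (MvPolynomial (Fin n) R₀))
    (M : Type u) [AddCommGroup M] [Module (MvPolynomial (Fin n) R) M] [Module R M]
    [IsScalarTower R (MvPolynomial (Fin n) R) M]
    (π : (Fin b → MvPolynomial (Fin n) R) →ₗ[MvPolynomial (Fin n) R] M) (hπ : Surjective π)
    (hex : Exact (Matrix.vecMulLinear (K₀.map (MvPolynomial.map (algebraMap R₀ R)))) π) :
    Nonempty (R ⊗[R₀] Cok K₀ ≃ₗ[R] M) := by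
  let e₁ : Cok (K₀.map (algebraMap (MvPolynomial (Fin n) R₀) (MvPolynomial (Fin n) R)))
      ≃ₗ[MvPolynomial (Fin n) R] M := hex.linearEquivOfSurjective hπ
  let e₂ := (isBaseChange_cokBC (MvPolynomial (Fin n) R) K₀).equiv
  let e₃ := Algebra.IsPushout.cancelBaseChange R₀ R (MvPolynomial (Fin n) R₀)
    (MvPolynomial (Fin n) R) (Cok K₀)
  exact ⟨e₃.symm ≪≫ₗ (e₂.restrictScalars R) ≪≫ₗ (e₁.restrictScalars R)⟩

end Groth.Agent.Lib.Helper26.IntDesc
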