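import Mathlib

set_option autoImplicit false
set_option linter.unusedSectionVars false
set_option linter.style.haveILetI false
set_option maxHeartbeats 800000

universe u

open TensorProduct Function

namespace Groth.Agent.Lib.Helper26.IntDesc

/-- Finitely many integral elements live in a finite extension of a finitely generated
subalgebra of the base. -/
theorem exists_finite_stage (R₀ R S : Type u) [CommRing R₀] [CommRing R] [CommRing S]
    [Algebra R₀ R] [Algebra R S] [Algebra R₀ S] [IsScalarTower R₀ R S]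
    [Algebra.IsIntegral R S] (hinj : Injective (algebraMap R S))
    (T : Subalgebra R₀ S) (hT : T.FG) :
    ∃ (R₁ : Subalgebra R₀ R) (T₁ : Subalgebra R₀ S) (ψ : R₁ →ₐ[R₀] T₁),
      R₁.FG ∧ T ≤ T₁ ∧ Injective ψ ∧ ψ.toRingHom.Finite ∧
      ∀ x : R₁, ((ψ x : T₁) : S) = algebraMap R S x := by
  classical
  obtain ⟨t, ht⟩ := hT
  have hint : ∀ s : S, ∃ p : Polynomial R, p.Monic ∧ Polynomial.eval₂ (algebraMap R S) s p = 0 :=
    fun s => Algebra.IsIntegral.isIntegral (R := R) s
  choose p hpm hp0 using hint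
  let c : Finset R := t.biUnion fun s => (p s).coeffs
  let R₁ : Subalgebra R₀ R := Algebra.adjoin R₀ (c : Set R)
  let g : R →ₐ[R₀] S := IsScalarTower.toAlgHom R₀ R S
  let T₁ : Subalgebra R₀ S := Algebra.adjoin R₀ ((t : Set S) ∪ g '' (c : Set R))
  have hR₁T₁ : ∀ x : R₁, g x ∈ T₁ := by
    intro x
    have h1 : g x ∈ R₁.map g := ⟨x, x.2, rfl⟩
    have h2 : R₁.map g = Algebra.adjoin R₀ (g '' (c : Set R)) := AlgHom.map_adjoin g _
    rw [h2] at h1
    exact Algebra.adjoin_mono Set.subset_union_right h1
  let ψ : R₁ →ₐ[R₀] T₁ := (g.comp R₁.val).codRestrict T₁ hR₁T₁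
  have hψ : ∀ x : R₁, ((ψ x : T₁) : S) = algebraMap R S x := fun x => rfl
  refine ⟨R₁, T₁, ψ, ⟨c, rfl⟩, ?_, ?_, ?_, hψ⟩
  · rw [← ht]
    exact Algebra.adjoin_mono Set.subset_union_left
  · intro x y hxy
    have := congrArg (fun z : T₁ => (z : S)) hxy
    simp only [hψ] at this
    exact Subtype.ext (hinj this)
  · letI : Algebra R₁ T₁ := ψ.toRingHom.toAlgebra
    haveI : IsScalarTower R₀ R₁ T₁ := IsScalarTower.of_algebraMap_eq fun x => (ψ.commutes x).symm
    haveI : Algebra.FiniteType R₀ T₁ :=
      (Subalgebra.fg_iff_finiteType T₁).1 ⟨t ∪ c.image g, by simp [T₁]⟩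
    haveI : Algebra.FiniteType R₁ T₁ := Algebra.FiniteType.of_restrictScalars_finiteType R₀ R₁ T₁
    -- integrality
    haveI : IsScalarTower R₀ R₁ S := IsScalarTower.of_algebraMap_eq fun x =>
      IsScalarTower.algebraMap_apply R₀ R S x
    have hle : T₁ ≤ (integralClosure R₁ S).restrictScalars R₀ := by
      refine Algebra.adjoin_le ?_
      rintro s (hs | ⟨r, hr, rfl⟩)
      · -- s ∈ t : integral via p s
        show IsIntegral R₁ s
        have hlift : p s ∈ Polynomial.lifts (algebraMap R₁ R) := by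
          rw [Polynomial.lifts_iff_coeffs_subset_range]
          intro z hz
          have hz' : z ∈ (c : Set R) := by
            simp only [c, Finset.coe_biUnion, Set.mem_iUnion]
            exact ⟨s, hs, hz⟩
          exact ⟨⟨z, Algebra.subset_adjoin hz'⟩, rfl⟩
        obtain ⟨q, hq, -, hqm⟩ := Polynomial.lifts_and_natDegree_eq_and_monic hlift (hpm s)
        refine ⟨q, hqm, ?_⟩
        have : Polynomial.eval₂ (algebraMap R₁ S) s q =
            Polynomial.eval₂ (algebraMap R S) s (q.map (algebraMap R₁ R)) := by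
          rw [Polynomial.eval₂_map]
          rfl
        rw [this, hq, hp0]
      · show IsIntegral R₁ (g r)
        have : g r = algebraMap R₁ S ⟨r, Algebra.subset_adjoin hr⟩ := rfl
        rw [this]
        exact isIntegral_algebraMap
    let j : T₁ →ₐ[R₁] S := { T₁.val with commutes' := fun x => rfl }
    have hjinj : Injective j := Subtype.val_injective
    haveI : Algebra.IsIntegral R₁ T₁ := ⟨fun x => by
      have h1 : IsIntegral R₁ (j x) := hle x.2
      exact (isIntegral_algHom_iff j hjinj).1 h1⟩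
    exact Algebra.IsIntegral.finite

end Groth.Agent.Lib.Helper26.IntDesc
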