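import Groth.Agent.Lib.Helper26.IntDesc1
import Groth.Agent.Lib.Helper26.IntDesc2

set_option autoImplicit false
set_option linter.unusedSectionVars false
set_option linter.style.haveILetI false
set_option maxHeartbeats 800000

universe u

open TensorProduct Function

namespace Groth.Agent.Lib.Helper26.IntDesc

open Groth.Agent.Lib.Helper8.MatCok Groth.Agent.Lib.Helper24.FlatColim

attribute [local instance] Algebra.TensorProduct.rightAlgebra

/-- Flatness of the base change of a fixed module passes along algebra maps. -/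
theorem flat_mono (R₀ N : Type u) [CommRing R₀] [AddCommGroup N] [Module R₀ N]
    (C C' : Type u) [CommRing C] [Algebra R₀ C] [CommRing C'] [Algebra R₀ C']
    (φ : C →ₐ[R₀] C') (h : Module.Flat C (C ⊗[R₀] N)) : Module.Flat C' (C' ⊗[R₀] N) := by
  letI : Algebra C C' := φ.toRingHom.toAlgebra
  haveI : IsScalarTower R₀ C C' := IsScalarTower.of_algebraMap_eq fun x ↦ (φ.commutes x).symm
  exact Module.Flat.of_linearEquiv (AlgebraTensorModule.cancelBaseChange R₀ C C' C' N).symm

/-- Flatness of the base change of a fixed module descends along finite injective maps from a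
Noetherian ring. -/
theorem flat_desc (R₀ N : Type u) [CommRing R₀] [AddCommGroup N] [Module R₀ N]
    (C C' : Type u) [CommRing C] [IsNoetherianRing C] [Algebra R₀ C] [CommRing C'] [Algebra R₀ C']
    (φ : C →ₐ[R₀] C') (hinj : Injective φ) (hfin : φ.toRingHom.Finite)
    (h : Module.Flat C' (C' ⊗[R₀] N)) : Module.Flat C (C ⊗[R₀] N) := by
  letI : Algebra C C' := φ.toRingHom.toAlgebra
  haveI : IsScalarTower R₀ C C' := IsScalarTower.of_algebraMap_eq fun x ↦ (φ.commutes x).symm
  haveI : Module.Finite C C' := hfin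
  have h' : Module.Flat C' (C' ⊗[C] (C ⊗[R₀] N)) :=
    Module.Flat.of_linearEquiv (AlgebraTensorModule.cancelBaseChange R₀ C C' C' N)
  exact Ferrand.descP_main C C' hinj (C ⊗[R₀] N) h'

/-- The core descent step over an abstract Noetherian base. -/
theorem core (R₀ R S : Type u) [CommRing R₀] [IsNoetherianRing R₀] [CommRing R] [CommRing S]
    [Algebra R₀ R] [Algebra R S] [Algebra R₀ S] [IsScalarTower R₀ R S] [Algebra.IsIntegral R S]
    (hinj : Injective (algebraMap R S)) (P₀ N : Type u) [CommRing P₀] [Algebra R₀ P₀]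
    [Algebra.FiniteType R₀ P₀] [AddCommGroup N] [Module R₀ N] [Module P₀ N]
    [IsScalarTower R₀ P₀ N] [Module.Finite P₀ N] (h : Module.Flat S (S ⊗[R₀] N)) :
    Module.Flat R (R ⊗[R₀] N) := by
  haveI : Module.Flat S ((P₀ ⊗[R₀] S) ⊗[P₀] N) :=
    Module.Flat.of_linearEquiv (Algebra.IsPushout.cancelBaseChange R₀ S P₀ (P₀ ⊗[R₀] S) N)
  obtain ⟨T, hT, hflat⟩ := exists_fg_flat R₀ P₀ N S
  have hT' : Module.Flat T (T ⊗[R₀] N) :=
    Module.Flat.of_linearEquiv (Algebra.IsPushout.cancelBaseChange R₀ T P₀ (P₀ ⊗[R₀] T) N).symm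
  obtain ⟨R₁, T₁, ψ, hR₁, hTT₁, hψinj, hψfin, -⟩ := exists_finite_stage R₀ R S hinj T hT
  have h1 : Module.Flat T₁ (T₁ ⊗[R₀] N) :=
    flat_mono R₀ N T T₁ (Subalgebra.inclusion hTT₁) hT'
  haveI : Algebra.FiniteType R₀ R₁ := (Subalgebra.fg_iff_finiteType R₁).1 hR₁
  haveI : IsNoetherianRing R₁ := Algebra.FiniteType.isNoetherianRing R₀ R₁
  have h2 : Module.Flat R₁ (R₁ ⊗[R₀] N) := flat_desc R₀ N R₁ T₁ ψ hψinj hψfin h1
  exact flat_mono R₀ N R₁ R R₁.val h2

/-- The statement for a presentation descending to an abstract Noetherian base. -/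
theorem main_abs (R₀ R S : Type u) [CommRing R₀] [IsNoetherianRing R₀] [CommRing R] [CommRing S]
    [Algebra R₀ R] [Algebra R S] [Algebra R₀ S] [IsScalarTower R₀ R S] [Algebra.IsIntegral R S]
    (hinj : Injective (algebraMap R S)) (n a b : ℕ)
    (K₀ : Matrix (Fin a) (Fin b) (MvPolynomial (Fin n) R₀))
    (M : Type u) [AddCommGroup M] [Module (MvPolynomial (Fin n) R) M] [Module R M]
    [IsScalarTower R (MvPolynomial (Fin n) R) M]
    (π : (Fin b → MvPolynomial (Fin n) R) →ₗ[MvPolynomial (Fin n) R] M) (hπ : Surjective π)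
    (hex : Exact (Matrix.vecMulLinear (K₀.map (MvPolynomial.map (algebraMap R₀ R)))) π)
    [Module.Flat S (S ⊗[R] M)] : Module.Flat R M := by
  obtain ⟨e⟩ := model_equiv R₀ R n a b K₀ M π hπ hex
  have hS : Module.Flat S (S ⊗[R₀] Cok K₀) :=
    (flat_tensor_iff_of_model R₀ (Cok K₀) M e S).mp inferInstance
  have h3 : Module.Flat R (R ⊗[R₀] Cok K₀) :=
    core R₀ R S hinj (MvPolynomial (Fin n) R₀) (Cok K₀) hS
  exact Module.Flat.of_linearEquiv e.symm

/-- **Descent of flatness along integral injective maps**, for finitely presented modules over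
polynomial rings. -/
theorem main (R S : Type u) [CommRing R] [CommRing S] [Algebra R S] [Algebra.IsIntegral R S]
    (hinj : Injective (algebraMap R S)) (n : ℕ)
    (M : Type u) [AddCommGroup M] [Module (MvPolynomial (Fin n) R) M] [Module R M]
    [IsScalarTower R (MvPolynomial (Fin n) R) M]
    [Module.FinitePresentation (MvPolynomial (Fin n) R) M]
    [Module.Flat S (S ⊗[R] M)] : Module.Flat R M := by
  classical
  obtain ⟨a, b, K, π, hπ, hex⟩ := exists_matrix_presentation (A := MvPolynomial (Fin n) R) M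
  let R₀ : Subalgebra ℤ R :=
    Algebra.adjoin ℤ (⋃ ij : Fin a × Fin b, ((K ij.1 ij.2).coeffs : Set R))
  have hfg : R₀.FG :=
    Subalgebra.fg_def.mpr ⟨_, Set.finite_iUnion (fun ij => Finset.finite_toSet _), rfl⟩
  have hmem : ∀ i j, K i j ∈ Set.range (MvPolynomial.map (σ := Fin n) (algebraMap R₀ R)) := by
    intro i j
    rw [MvPolynomial.mem_range_map_iff_coeffs_subset, Subalgebra.setRange_algebraMap]
    exact subset_trans (Set.subset_iUnion
      (fun ij : Fin a × Fin b => ((K ij.1 ij.2).coeffs : Set R)) (i, j)) Algebra.subset_adjoin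
  obtain ⟨K₀, hK₀⟩ :=
    exists_matrix_map_eq (MvPolynomial.map (σ := Fin n) (algebraMap R₀ R)) K hmem
  rw [← hK₀] at hex
  haveI : Algebra.FiniteType ℤ R₀ := (Subalgebra.fg_iff_finiteType R₀).1 hfg
  haveI : IsNoetherianRing R₀ := Algebra.FiniteType.isNoetherianRing ℤ R₀
  exact main_abs R₀ R S hinj n a b K₀ M π hπ hex

end Groth.Agent.Lib.Helper26.IntDesc
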