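import Mathlib
import Groth.Agent.Lib.Helper8.DoubleCx
import Groth.Agent.Lib.Helper33.DerivedHomVanish

set_option autoImplicit false
universe u

open CategoryTheory CategoryTheory.Limits HomologicalComplex DerivedCategory
attribute [local instance] HasDerivedCategory.standard

namespace Groth.Agent.Lib.Helper26.JacA

open Groth.Agent.Lib.Helper8

variable {B : Type u} [CommRing B]

theorem rel : (ComplexShape.up ℤ).Rel (-1) 0 := by simp
theorem ne : (-1 : ℤ) ≠ 0 := by decide

theorem Q_map_eq_of_homotopy {K L : CochainComplex (ModuleCat.{u} B) ℤ} {a b : K ⟶ L}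
    (h : Homotopy a b) : (Q : _ ⥤ DerivedCategory (ModuleCat.{u} B)).map a = Q.map b := by
  show Qh.map ((HomotopyCategory.quotient _ _).map a) = Qh.map ((HomotopyCategory.quotient _ _).map b)
  rw [HomotopyCategory.eq_of_homotopy a b h]

variable {C F : ModuleCat.{u} B} (d : C ⟶ F) (s : F ⟶ C) (g : B)

theorem smul_id_eq :
    g • 𝟙 (double d rel) = DoubleCx.doubleMap rel ne (g • 𝟙 C) (g • 𝟙 F)
      (by rw [Linear.smul_comp, Linear.comp_smul, Category.id_comp, Category.comp_id]) := by
  apply from_double_hom_ext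
  · rw [DoubleCx.doubleMap_f₀]
    simp [Linear.smul_comp, Linear.comp_smul]
  · rw [DoubleCx.doubleMap_f₁]
    simp [Linear.smul_comp, Linear.comp_smul]

/-- the residual endomorphism `e = g - s d` of `F` -/
noncomputable def e : F ⟶ F := g • 𝟙 F - s ≫ d

theorem d_e (hsd : d ≫ s = g • 𝟙 C) : d ≫ e d s g = 0 := by
  unfold e
  rw [Preadditive.comp_sub, Linear.comp_smul, Category.comp_id, ← Category.assoc, hsd,
    Linear.smul_comp, Category.id_comp, sub_self]

noncomputable def ψ (hsd : d ≫ s = g • 𝟙 C) : double d rel ⟶ double d rel :=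
  DoubleCx.doubleMap rel ne (0 : C ⟶ C) (e d s g) (by rw [zero_comp, d_e d s g hsd])

noncomputable def hty (hsd : d ≫ s = g • 𝟙 C) : Homotopy (g • 𝟙 (double d rel)) (ψ d s g hsd) := by
  rw [smul_id_eq]
  exact DoubleCx.doubleHomotopy rel ne _ _ _ _ _ _ s (by rw [add_zero, hsd])
    (by unfold e; abel)

/-- the single complex `F[0]` -/
noncomputable abbrev S (F : ModuleCat.{u} B) : CochainComplex (ModuleCat.{u} B) ℤ :=
  (HomologicalComplex.single (ModuleCat.{u} B) (ComplexShape.up ℤ) 0).obj F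

noncomputable def α (hsd : d ≫ s = g • 𝟙 C) : double d rel ⟶ S F :=
  mkHomToSingle ((doubleXIso₁ d rel ne).hom ≫ e d s g) (by
    intro i hi
    have hi' : i = -1 := by
      have : i + 1 = 0 := hi
      omega
    subst hi'
    rw [double_d d rel ne, Category.assoc, Category.assoc, Iso.inv_hom_id_assoc, d_e d s g hsd,
      comp_zero])

noncomputable def β : S F ⟶ double d rel :=
  mkHomFromSingle ((doubleXIso₁ d rel ne).inv) (by
    intro k _
    rw [double_d_eq_zero₀ d rel 0 k ne.symm, comp_zero])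

theorem α_β (hsd : d ≫ s = g • 𝟙 C) : α d s g hsd ≫ β d = ψ d s g hsd := by
  apply from_double_hom_ext
  · have hz : IsZero ((S F).X (-1)) := isZero_single_obj_X (ComplexShape.up ℤ) 0 F (-1) ne
    rw [comp_f, hz.eq_of_tgt ((α d s g hsd).f (-1)) 0, zero_comp]
    unfold ψ
    rw [DoubleCx.doubleMap_f₀, zero_comp, comp_zero]
  · unfold ψ α β
    rw [comp_f, mkHomToSingle_f, mkHomFromSingle_f, DoubleCx.doubleMap_f₁]
    simp

theorem smul_hom_eq_zero [Projective F] (hsd : d ≫ s = g • 𝟙 C)
    (Y : DerivedCategory (ModuleCat.{u} B)) [Y.IsLE (-1)]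
    (φ : (Q : _ ⥤ DerivedCategory (ModuleCat.{u} B)).obj (double d rel) ⟶ Y) : g • φ = 0 := by
  have h1 : g • φ = Q.map (g • 𝟙 (double d rel)) ≫ φ := by
    rw [Functor.map_smul, Linear.smul_comp, CategoryTheory.Functor.map_id, Category.id_comp]
  rw [h1, Q_map_eq_of_homotopy (hty d s g hsd), ← α_β d s g hsd, Functor.map_comp, Category.assoc]
  have h2 : (Q : _ ⥤ DerivedCategory (ModuleCat.{u} B)).map (β d) ≫ φ = 0 := by
    have eS : (DerivedCategory.singleFunctor (ModuleCat.{u} B) 0).obj F ≅ Q.obj (S F) :=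
      (singleFunctorIsoCompQ (ModuleCat.{u} B) 0).app F
    have h3 := Groth.Agent.Lib.Helper33.DerivedHomVanish.hom_single_projective_eq_zero F 0 (-1)
      (by decide) Y (eS.hom ≫ Q.map (β d) ≫ φ)
    have h4 := congrArg (fun t => eS.inv ≫ t) h3
    rw [Iso.inv_hom_id_assoc, comp_zero] at h4
    exact h4
  rw [h2, comp_zero]

theorem smul_id_eq_zero (hsd : d ≫ s = g • 𝟙 C) (hds : s ≫ d = g • 𝟙 F) :
    g • 𝟙 ((Q : _ ⥤ DerivedCategory (ModuleCat.{u} B)).obj (double d rel)) = 0 := by
  have h1 : g • 𝟙 ((Q : _ ⥤ DerivedCategory (ModuleCat.{u} B)).obj (double d rel)) =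
      Q.map (g • 𝟙 (double d rel)) := by
    rw [Functor.map_smul, CategoryTheory.Functor.map_id]
  rw [h1, Q_map_eq_of_homotopy (hty d s g hsd)]
  have : ψ d s g hsd = 0 := by
    unfold ψ
    apply from_double_hom_ext
    · rw [DoubleCx.doubleMap_f₀, zero_comp, comp_zero, zero_f]
    · rw [DoubleCx.doubleMap_f₁]
      have he : e d s g = 0 := by unfold e; rw [hds, sub_self]
      rw [he, zero_comp, comp_zero, zero_f]
  rw [this, Functor.map_zero]

end Groth.Agent.Lib.Helper26.JacA
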