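import Mathlib

set_option autoImplicit false
universe u

open Algebra MvPolynomial

namespace Groth.Agent.Lib.Helper26.JacB

variable {A S : Type u} [CommRing A] [CommRing S] [Algebra A S] {n m : ℕ}
  (Q : Presentation A S (Fin n) (Fin m)) (hmn : m ≤ n)

/-- class of the `j`-th relation in `I/I²` -/
noncomputable def fbar (j : Fin m) : Q.toExtension.Cotangent :=
  Extension.Cotangent.mk ⟨Q.relation j, Q.relation_mem_ker j⟩

/-- full Jacobian over `S` -/
noncomputable def Jfull : Matrix (Fin n) (Fin m) S :=
  Matrix.of fun i k => aeval Q.val (pderiv i (Q.relation k))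

/-- the `m × m` block over `S` -/
noncomputable def M : Matrix (Fin m) (Fin m) S :=
  Matrix.of fun i k => aeval Q.val (pderiv (Fin.castLE hmn i) (Q.relation k))

/-- `π' : S^m → I/I²` -/
noncomputable def pi' : (Fin m → S) →ₗ[S] Q.toExtension.Cotangent :=
  Fintype.linearCombination S (fbar Q)

theorem pi'_fbar (j : Fin m) : pi' Q (Pi.single j 1) = fbar Q j := by
  unfold pi'
  rw [Fintype.linearCombination_apply_single, one_smul]

theorem pi'_surjective : Function.Surjective (pi' Q) := by
  rw [← LinearMap.range_eq_top]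
  unfold pi'
  rw [Fintype.range_linearCombination]
  have h := Extension.Cotangent.span_eq_top_of_span_eq_ker (P := Q.toExtension) Q.relation
    Q.span_range_relation_eq_ker
  unfold fbar
  exact h

theorem repr_d_fbar (k : Fin m) (i : Fin n) :
    Q.cotangentSpaceBasis.repr (Q.toExtension.cotangentComplex (fbar Q k)) i = Jfull Q i k := by
  unfold fbar Jfull
  rw [Extension.cotangentComplex_mk, Generators.cotangentSpaceBasis_repr_one_tmul]
  rfl

theorem equivFun_d_pi' (v : Fin m → S) :
    Q.cotangentSpaceBasis.equivFun (Q.toExtension.cotangentComplex (pi' Q v)) =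
      (Jfull Q).mulVec v := by
  ext i
  unfold pi'
  rw [Fintype.linearCombination_apply, map_sum, map_sum, Finset.sum_apply, Matrix.mulVec,
    dotProduct]
  refine Finset.sum_congr rfl fun k _ => ?_
  rw [LinearMap.map_smul, LinearEquiv.map_smul, Pi.smul_apply, Module.Basis.equivFun_apply,
    repr_d_fbar, smul_eq_mul, mul_comm]

/-- projection to the first `m` coordinates -/
noncomputable def pr : (Fin n → S) →ₗ[S] (Fin m → S) := LinearMap.funLeft S S (Fin.castLE hmn)

theorem pr_Jfull (v : Fin m → S) : pr hmn ((Jfull Q).mulVec v) = (M Q hmn).mulVec v := by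
  ext i
  rfl

/-- the homotopy `s : ⊕ S dxᵢ → I/I²` -/
noncomputable def sLin : Q.toExtension.CotangentSpace →ₗ[S] Q.toExtension.Cotangent :=
  pi' Q ∘ₗ Matrix.mulVecLin (Matrix.adjugate (M Q hmn)) ∘ₗ pr hmn ∘ₗ
    Q.cotangentSpaceBasis.equivFun.toLinearMap

theorem sLin_apply (y : Q.toExtension.CotangentSpace) :
    sLin Q hmn y = pi' Q ((Matrix.adjugate (M Q hmn)).mulVec
      (pr hmn (Q.cotangentSpaceBasis.equivFun y))) := rfl

theorem s_d (x : Q.toExtension.Cotangent) :
    sLin Q hmn (Q.toExtension.cotangentComplex x) = (M Q hmn).det • x := by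
  obtain ⟨v, rfl⟩ := pi'_surjective Q x
  rw [sLin_apply, equivFun_d_pi', pr_Jfull, Matrix.mulVec_mulVec, Matrix.adjugate_mul,
    Matrix.smul_mulVec, Matrix.one_mulVec, LinearMap.map_smul]

theorem d_s (hnm : n = m) (y : Q.toExtension.CotangentSpace) :
    Q.toExtension.cotangentComplex (sLin Q hmn y) = (M Q hmn).det • y := by
  subst hnm
  apply Q.cotangentSpaceBasis.equivFun.injective
  rw [sLin_apply, equivFun_d_pi', LinearEquiv.map_smul]
  have hc : ∀ i : Fin n, Fin.castLE hmn i = i := fun i => Fin.ext rfl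
  have hJ : Jfull Q = M Q hmn := by
    ext i k
    unfold Jfull M
    rw [Matrix.of_apply, Matrix.of_apply, hc]
  have hp : pr hmn (Q.cotangentSpaceBasis.equivFun y) = Q.cotangentSpaceBasis.equivFun y := by
    ext i
    unfold pr
    rw [LinearMap.funLeft_apply, hc]
  rw [hJ, hp, Matrix.mulVec_mulVec, Matrix.mul_adjugate, Matrix.smul_mulVec, Matrix.one_mulVec]

end Groth.Agent.Lib.Helper26.JacB
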