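import Groth.Prelude.Def_LCI2
import Groth.Agent.Lib.Helper26.JacA
import Groth.Agent.Lib.Helper26.JacB
import Groth.Agent.Lib.Helper8.NLCompare

set_option autoImplicit false
universe u

open CategoryTheory CategoryTheory.Limits HomologicalComplex DerivedCategory Algebra MvPolynomial
attribute [local instance] HasDerivedCategory.standard

namespace Groth.Agent.Lib.Helper26.JacC

open Groth.Agent.Lib.Helper8 Groth.Agent.Lib.Helper26

variable {A S : Type u} [CommRing A] [CommRing S] [Algebra A S] {n m : ℕ}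
  (Q : Presentation A S (Fin n) (Fin m)) (hmn : m ≤ n)

/-- `d` as a morphism of `ModuleCat` -/
noncomputable abbrev dC : ModuleCat.of S Q.toExtension.Cotangent ⟶ ModuleCat.of S Q.toExtension.CotangentSpace :=
  ModuleCat.ofHom Q.toExtension.cotangentComplex

noncomputable abbrev sC : ModuleCat.of S Q.toExtension.CotangentSpace ⟶ ModuleCat.of S Q.toExtension.Cotangent :=
  ModuleCat.ofHom (JacB.sLin Q hmn)

theorem hsd : dC Q ≫ sC Q hmn = (JacB.M Q hmn).det • 𝟙 (ModuleCat.of S Q.toExtension.Cotangent) := by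
  refine ModuleCat.hom_ext (LinearMap.ext fun x => ?_)
  exact JacB.s_d Q hmn x

theorem hds (hnm : n = m) :
    sC Q hmn ≫ dC Q = (JacB.M Q hmn).det • 𝟙 (ModuleCat.of S Q.toExtension.CotangentSpace) := by
  refine ModuleCat.hom_ext (LinearMap.ext fun x => ?_)
  exact JacB.d_s Q hmn hnm x

instance : Projective (ModuleCat.of S Q.toExtension.CotangentSpace) :=
  (IsProjective.iff_projective (R := S) Q.toExtension.CotangentSpace).mp inferInstance

/-- the comparison iso `NL ≅ two-term complex of Q` -/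
noncomputable def nlIsoQ : LCI.NL A S ≅ DRing.toD (NLCompare.nlCx Q.toExtension) :=
  NLCompare.nlIso
    ((Generators.self A S).defaultHom Q.toGenerators).toExtensionHom
    (Q.toGenerators.defaultHom (Generators.self A S)).toExtensionHom

theorem part1 (Y : Dual.D S) [Y.IsLE (-1)] (φ : LCI.NL A S ⟶ Y) :
    (JacB.M Q hmn).det • φ = 0 := by
  have h := JacA.smul_hom_eq_zero (dC Q) (sC Q hmn) _ (hsd Q hmn) Y ((nlIsoQ Q).inv ≫ φ)
  have h2 : φ = (nlIsoQ Q).hom ≫ ((nlIsoQ Q).inv ≫ φ) := by rw [Iso.hom_inv_id_assoc]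
  rw [h2, ← Linear.comp_smul, h, comp_zero]

theorem part2 (hnm : n = m) : (JacB.M Q hmn).det • 𝟙 (LCI.NL A S) = 0 := by
  have h := JacA.smul_id_eq_zero (dC Q) (sC Q hmn) _ (hsd Q hmn) (hds Q hmn hnm)
  have h2 : 𝟙 (LCI.NL A S) = (nlIsoQ Q).hom ≫ 𝟙 _ ≫ (nlIsoQ Q).inv := by simp
  rw [h2, ← Linear.comp_smul, ← Linear.smul_comp]
  erw [h]
  rw [zero_comp, comp_zero]

end Groth.Agent.Lib.Helper26.JacC
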