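import Mathlib.Algebra.Algebra.Bilinear
import Mathlib.Algebra.BigOperators.Fin
import Mathlib.Algebra.CharP.Basic
import Mathlib.Algebra.CharP.Lemmas
import Mathlib.Algebra.Polynomial.AlgebraMap
import Mathlib.Algebra.Polynomial.Degree.Lemmas
import Mathlib.Algebra.Polynomial.Derivative
import Mathlib.Algebra.Polynomial.Eval.Coeff
import Mathlib.Algebra.Polynomial.Eval.Degree
import Mathlib.Data.Fin.Tuple.Basic
import Mathlib.Data.Fintype.BigOperators
import Mathlib.Data.List.OfFn
import Mathlib.Data.Nat.Choose.Dvd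
import Mathlib.Data.Nat.Choose.Sum
import Mathlib.Data.ZMod.Basic
import Mathlib.FieldTheory.Finite.Basic
import Mathlib.Algebra.Lie.OfAssociative
import Groth.Prelude.Def_PLie

/-!
# Jacobson's formula for `p`-th powers in an associative algebra of characteristic `p`
(helper26 shared library)
-/

set_option autoImplicit false

namespace Groth.Agent.Lib.Helper26.Jacobson

open Finset Polynomial

section PartA


open Finset

/-- `C(p-1,k) ≡ (-1)^k mod p`. -/
theorem choose_pred_prime (p : ℕ) [hp : Fact p.Prime] (k : ℕ) (hk : k ≤ p - 1) :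
    (((p - 1).choose k : ℕ) : ZMod p) = (-1) ^ k := by
  induction k with
  | zero => simp
  | succ k ih =>
    have hp1 : p - 1 + 1 = p := Nat.sub_add_cancel hp.out.one_le
    have h1 : (p - 1 + 1).choose (k + 1) = (p - 1).choose k + (p - 1).choose (k + 1) :=
      Nat.choose_succ_succ' _ _
    rw [hp1] at h1
    have h2 : p ∣ p.choose (k + 1) :=
      Nat.Prime.dvd_choose_self hp.out (Nat.succ_ne_zero k) (by omega)
    have h3 : ((p.choose (k + 1) : ℕ) : ZMod p) = 0 := (ZMod.natCast_eq_zero_iff _ _).mpr h2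
    rw [h1, Nat.cast_add, ih (by omega)] at h3
    rw [pow_succ]
    linear_combination h3

theorem sign_choose (p : ℕ) [hp : Fact p.Prime] (m : ℕ) (hm : m ≤ p - 1) :
    ((((-1 : ℤ) ^ (p - 1 - m) * ((p - 1).choose m : ℤ) : ℤ)) : ZMod p) = 1 := by
  push_cast
  rw [choose_pred_prime p m hm, ← pow_add, Nat.sub_add_cancel hm]
  exact ZMod.pow_card_sub_one_eq_one (by
    intro h
    have : (1 : ZMod p) = 0 := by
      have := congrArg (fun z => -z) h
      simp at this
    exact one_ne_zero this)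

variable {R : Type*} [CommRing R] {E : Type*} [Ring E] [Algebra R E]

theorem natCast_end_eq_zero (p : ℕ) [CharP R p] : ((p : ℕ) : Module.End R E) = 0 := by
  rw [← map_natCast (algebraMap R (Module.End R E)), CharP.cast_eq_zero, map_zero]

/-- `ad(Y)^p = ad(Y^p)` in characteristic `p`. -/
theorem ad_pow_char (p : ℕ) [hp : Fact p.Prime] [CharP R p] (Y : E) :
    (LinearMap.mulLeft R Y - LinearMap.mulRight R Y) ^ p =
      LinearMap.mulLeft R (Y ^ p) - LinearMap.mulRight R (Y ^ p) := by
  rcases subsingleton_or_nontrivial (Module.End R E) with h | h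
  · exact Subsingleton.elim _ _
  · have : CharP (Module.End R E) p :=
      (CharP.charP_iff_prime_eq_zero hp.out).mpr (natCast_end_eq_zero p)
    rw [sub_pow_char_of_commute _ (LinearMap.commute_mulLeft_right Y Y), LinearMap.pow_mulLeft,
      LinearMap.pow_mulRight]

theorem neg_mulRight_pow_apply (Y : E) (j : ℕ) (c : E) :
    ((-LinearMap.mulRight R Y) ^ j) c = ((-1 : ℤ) ^ j) • (c * Y ^ j) := by
  induction j generalizing c with
  | zero => simp
  | succ j ih =>
    rw [pow_succ, Module.End.mul_apply, LinearMap.neg_apply, LinearMap.mulRight_apply, map_neg, ih,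
      pow_succ, pow_succ', mul_assoc]
    simp

/-- `ad(Y)^(p-1) c = Σ Y^k c Y^(p-1-k)` in characteristic `p`. -/
theorem ad_pow_pred (p : ℕ) [hp : Fact p.Prime] [CharP R p] (Y c : E) :
    ((LinearMap.mulLeft R Y - LinearMap.mulRight R Y) ^ (p - 1)) c =
      ∑ k ∈ range p, Y ^ k * c * Y ^ (p - 1 - k) := by
  have hcomm : Commute (LinearMap.mulLeft R Y) (-LinearMap.mulRight R Y) :=
    (LinearMap.commute_mulLeft_right Y Y).neg_right
  rw [sub_eq_add_neg, hcomm.add_pow]
  have hp1 : p - 1 + 1 = p := Nat.sub_add_cancel hp.out.one_le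
  rw [hp1, LinearMap.sum_apply]
  apply Finset.sum_congr rfl
  intro m hm
  have hm' : m ≤ p - 1 := by
    have := Finset.mem_range.mp hm
    omega
  have hz : ((((-1 : ℤ) ^ (p - 1 - m) * ((p - 1).choose m : ℤ) : ℤ)) : R) = 1 := by
    rw [← map_intCast (ZMod.castHom (dvd_refl p) R), sign_choose p m hm', map_one]
  rw [Module.End.mul_apply, Module.End.mul_apply, Module.End.natCast_apply,
    neg_mulRight_pow_apply, LinearMap.pow_mulLeft, LinearMap.mulLeft_apply]
  have : Y ^ m * ((-1 : ℤ) ^ (p - 1 - m) • (((p - 1).choose m) • c * Y ^ (p - 1 - m))) =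
      (((-1 : ℤ) ^ (p - 1 - m) * ((p - 1).choose m : ℤ) : ℤ)) • (Y ^ m * c * Y ^ (p - 1 - m)) := by
    rw [mul_smul_comm, smul_mul_assoc, mul_smul_comm, ← natCast_zsmul, smul_smul, mul_assoc]
  rw [this, ← Int.cast_smul_eq_zsmul R, hz, one_smul]


end PartA
section PartB


open Finset Polynomial

variable {R : Type*} [CommRing R] {A : Type*} [Ring A] [Algebra R A]

/-- commutator words in an associative ring -/
def wordA {ι : Type*} (x : ι → A) (c : A) : List ι → A
  | [] => c
  | i :: w => x i * wordA x c w - wordA x c w * x i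

/-- the pair `(a₀, a₁)` indexed by `Bool`. -/
def pairA (a₀ a₁ : A) : Bool → A := fun b => if b then a₁ else a₀

/-- number of `true` values. -/
def cnt {n : ℕ} (u : Fin n → Bool) : ℕ := ∑ i, if u i then 1 else 0

theorem cnt_cons {n : ℕ} (b : Bool) (u : Fin n → Bool) :
    cnt (Fin.cons b u : Fin (n + 1) → Bool) = (if b then 1 else 0) + cnt u := by
  unfold cnt
  rw [Fin.sum_univ_succ]
  simp

/-- the polynomial `a₁ T + a₀`. -/
noncomputable def Ypoly (a₀ a₁ : A) : A[X] := monomial 1 a₁ + monomial 0 a₀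

theorem derivative_Ypoly (a₀ a₁ : A) : derivative (Ypoly a₀ a₁) = monomial 0 a₁ := by
  unfold Ypoly
  rw [derivative_add, derivative_monomial, derivative_monomial]
  simp

theorem derivative_Y_pow (a₀ a₁ : A) (n : ℕ) :
    derivative ((Ypoly a₀ a₁) ^ n) =
      ∑ k ∈ range n, (Ypoly a₀ a₁) ^ k * monomial 0 a₁ * (Ypoly a₀ a₁) ^ (n - 1 - k) := by
  induction n with
  | zero => simp
  | succ n ih =>
    rw [pow_succ, derivative_mul, ih, derivative_Ypoly, Finset.sum_range_succ, Finset.sum_mul]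
    congr 1
    · apply Finset.sum_congr rfl
      intro k hk
      have hk' := Finset.mem_range.mp hk
      rw [mul_assoc, ← pow_succ]
      congr 2
      omega
    · simp

theorem adY_monomial (a₀ a₁ : A) (m : ℕ) (w : A) :
    (LinearMap.mulLeft R (Ypoly a₀ a₁) - LinearMap.mulRight R (Ypoly a₀ a₁)) (monomial m w) =
      monomial (m + 1) (a₁ * w - w * a₁) + monomial m (a₀ * w - w * a₀) := by
  rw [LinearMap.sub_apply, LinearMap.mulLeft_apply, LinearMap.mulRight_apply]
  unfold Ypoly
  rw [add_mul, mul_add, monomial_mul_monomial, monomial_mul_monomial, monomial_mul_monomial,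
    monomial_mul_monomial, zero_add, add_zero, add_comm 1 m, map_sub, map_sub]
  abel

theorem adY_pow_monomial (a₀ a₁ c : A) (n : ℕ) :
    ((LinearMap.mulLeft R (Ypoly a₀ a₁) - LinearMap.mulRight R (Ypoly a₀ a₁)) ^ n) (monomial 0 c) =
      ∑ u : Fin n → Bool, monomial (cnt u) (wordA (pairA a₀ a₁) c (List.ofFn u)) := by
  induction n with
  | zero =>
    simp [cnt, wordA]
  | succ n ih =>
    rw [pow_succ', Module.End.mul_apply, ih, map_sum]
    rw [← (Fin.consEquiv (fun _ : Fin (n + 1) => Bool)).sum_comp, Fintype.sum_prod_type,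
      Fintype.sum_bool, ← Finset.sum_add_distrib]
    apply Finset.sum_congr rfl
    intro u _
    rw [adY_monomial]
    simp only [Fin.consEquiv, Equiv.coe_fn_mk, cnt_cons, List.ofFn_cons, wordA, pairA]
    simp [add_comm]


end PartB



section PartC
variable {A : Type*} [Ring A]


theorem natDegree_Ypoly_le (a₀ a₁ : A) : (Ypoly a₀ a₁).natDegree ≤ 1 := by
  unfold Ypoly
  refine (natDegree_add_le _ _).trans ?_
  rw [max_le_iff]
  exact ⟨natDegree_monomial_le _, (natDegree_monomial_le _).trans (Nat.zero_le _)⟩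

theorem natDegree_Y_pow_le (a₀ a₁ : A) (n : ℕ) : (Ypoly a₀ a₁ ^ n).natDegree ≤ n := by
  refine natDegree_pow_le.trans ?_
  calc n * (Ypoly a₀ a₁).natDegree ≤ n * 1 := Nat.mul_le_mul_left _ (natDegree_Ypoly_le a₀ a₁)
    _ = n := mul_one n

theorem coeff_Y_pow_top (a₀ a₁ : A) (n : ℕ) : coeff (Ypoly a₀ a₁ ^ n) n = a₁ ^ n := by
  induction n with
  | zero => simp
  | succ n ih =>
    have hY : Ypoly a₀ a₁ ^ n * Ypoly a₀ a₁ =
        Ypoly a₀ a₁ ^ n * monomial 1 a₁ + Ypoly a₀ a₁ ^ n * monomial 0 a₀ := by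
      rw [← mul_add]; rfl
    rw [pow_succ, hY]
    rw [coeff_add, coeff_mul_monomial, coeff_mul_monomial_zero, ih,
      coeff_eq_zero_of_natDegree_lt (lt_of_le_of_lt (natDegree_Y_pow_le a₀ a₁ n) (Nat.lt_succ_self n)),
      zero_mul, add_zero, pow_succ]

/-- evaluation at a central element as a ring hom. -/
noncomputable def evC (x : A) (hx : ∀ a : A, Commute a x) : A[X] →+* A :=
  eval₂RingHom' (RingHom.id A) x hx

theorem evC_Ypoly (a₀ a₁ x : A) (hx : ∀ a : A, Commute a x) :
    evC x hx (Ypoly a₀ a₁) = a₁ * x + a₀ := by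
  unfold evC Ypoly
  simp [eval₂RingHom', eval₂_add, eval₂_monomial]

theorem coeff_Y_pow_zero (a₀ a₁ : A) (n : ℕ) : coeff (Ypoly a₀ a₁ ^ n) 0 = a₀ ^ n := by
  have h1 : evC 0 (fun a => Commute.zero_right a) (Ypoly a₀ a₁ ^ n) = a₀ ^ n := by
    rw [map_pow, evC_Ypoly, mul_zero, zero_add]
  have h2 : evC 0 (fun a => Commute.zero_right a) (Ypoly a₀ a₁ ^ n) =
      coeff (Ypoly a₀ a₁ ^ n) 0 := by
    unfold evC
    change eval₂ (RingHom.id A) 0 _ = _
    rw [eval₂_at_zero]
    rfl
  rw [← h2, h1]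

theorem sum_coeff_Y_pow (a₀ a₁ : A) (n : ℕ) :
    ∑ k ∈ range (n + 1), coeff (Ypoly a₀ a₁ ^ n) k = (a₁ + a₀) ^ n := by
  have h1 : evC 1 (fun a => Commute.one_right a) (Ypoly a₀ a₁ ^ n) = (a₁ + a₀) ^ n := by
    rw [map_pow, evC_Ypoly, mul_one]
  have h2 : evC 1 (fun a => Commute.one_right a) (Ypoly a₀ a₁ ^ n) =
      ∑ k ∈ range (n + 1), coeff (Ypoly a₀ a₁ ^ n) k := by
    unfold evC
    change eval₂ (RingHom.id A) 1 _ = _
    rw [eval₂_eq_sum_range' _ (lt_of_le_of_lt (natDegree_Y_pow_le a₀ a₁ n) (Nat.lt_succ_self n))]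
    simp
  rw [← h2, h1]


end PartC

section PartD

variable {R : Type*} [CommRing R] {A : Type*} [Ring A] [Algebra R A]

/-- The derivative of `(a₁ T + a₀)^p` as a sum over words. -/
theorem derivative_Y_pow_prime (p : ℕ) [hp : Fact p.Prime] [CharP R p] (a₀ a₁ : A) :
    derivative ((Ypoly a₀ a₁) ^ p) =
      ∑ u : Fin (p - 1) → Bool, monomial (cnt u) (wordA (pairA a₀ a₁) a₁ (List.ofFn u)) := by
  rw [derivative_Y_pow, ← ad_pow_pred (R := R) p (Ypoly a₀ a₁) (monomial 0 a₁), adY_pow_monomial]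

theorem coeff_succ_mul (p : ℕ) [hp : Fact p.Prime] [CharP R p] (a₀ a₁ : A) (m : ℕ) :
    coeff ((Ypoly a₀ a₁) ^ p) (m + 1) * ((m : A) + 1) =
      ∑ u : Fin (p - 1) → Bool,
        if cnt u = m then wordA (pairA a₀ a₁) a₁ (List.ofFn u) else 0 := by
  rw [← coeff_derivative, derivative_Y_pow_prime (R := R), finsetSum_coeff]
  apply Finset.sum_congr rfl
  intro u _
  rw [coeff_monomial]

/-- the scalar `1/(m+1)`. -/
noncomputable def lam (R : Type*) [CommRing R] (p : ℕ) [CharP R p] (m : ℕ) : R :=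
  ZMod.castHom (dvd_refl p) R (((m + 1 : ℕ) : ZMod p)⁻¹)

theorem lam_mul (p : ℕ) [hp : Fact p.Prime] [CharP R p] (m : ℕ) (hm : m + 1 < p) :
    lam R p m * ((m + 1 : ℕ) : R) = 1 := by
  unfold lam
  rw [← map_natCast (ZMod.castHom (dvd_refl p) R), ← map_mul, inv_mul_cancel₀, map_one]
  intro h
  rw [ZMod.natCast_eq_zero_iff] at h
  exact absurd (Nat.le_of_dvd (Nat.succ_pos m) h) (by omega)

theorem coeff_succ_eq (p : ℕ) [hp : Fact p.Prime] [CharP R p] (a₀ a₁ : A) (m : ℕ)
    (hm : m + 1 < p) :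
    coeff ((Ypoly a₀ a₁) ^ p) (m + 1) =
      lam R p m • ∑ u : Fin (p - 1) → Bool,
        if cnt u = m then wordA (pairA a₀ a₁) a₁ (List.ofFn u) else 0 := by
  rw [← coeff_succ_mul (R := R) p a₀ a₁ m]
  have : ((m : A) + 1) = algebraMap R A ((m + 1 : ℕ) : R) := by
    rw [map_natCast]; push_cast; rfl
  rw [this, ← Algebra.commutes, ← Algebra.smul_def, smul_smul, lam_mul p m hm, one_smul]

/-- number of `false` values in terms of `cnt`. -/
theorem card_false_add_cnt {n : ℕ} (u : Fin n → Bool) :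
    Fintype.card {i // u i = false} + cnt u = n := by
  rw [Fintype.card_subtype]
  have h1 : cnt u = (Finset.univ.filter (fun i => u i = true)).card := by
    unfold cnt
    rw [Finset.card_filter]
  rw [h1]
  have h2 := Finset.card_filter_add_card_filter_not (s := (Finset.univ : Finset (Fin n)))
    (fun i => u i = true)
  rw [Finset.card_univ, Fintype.card_fin] at h2
  rw [add_comm]
  convert h2 using 3
  ext i
  simp

/-- **Jacobson's formula** in an associative algebra of prime characteristic. -/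
theorem jacobson_assoc (p : ℕ) [hp : Fact p.Prime] [CharP R p] (a₀ a₁ : A) :
    (a₀ + a₁) ^ p = a₀ ^ p + a₁ ^ p - ∑ t : Fin (p - 1) → Bool,
      ((ZMod.castHom (dvd_refl p) R) ((Fintype.card {i // t i = false} : ZMod p)⁻¹)) •
        wordA (pairA a₀ a₁) a₁ (List.ofFn t) := by
  have hp1 : p - 1 + 1 = p := Nat.sub_add_cancel hp.out.one_le
  have hsum := sum_coeff_Y_pow a₀ a₁ p
  rw [add_comm a₁ a₀] at hsum
  rw [← hsum]
  -- split the sum of coefficients
  have hsplit : ∑ k ∈ range (p + 1), coeff (Ypoly a₀ a₁ ^ p) k =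
      a₀ ^ p + a₁ ^ p + ∑ m ∈ range (p - 1), coeff (Ypoly a₀ a₁ ^ p) (m + 1) := by
    rw [Finset.sum_range_succ, coeff_Y_pow_top]
    have h3 : range p = range (p - 1 + 1) := by rw [hp1]
    rw [h3, Finset.sum_range_succ', coeff_Y_pow_zero]
    abel
  rw [hsplit, sub_eq_add_neg]
  congr 1
  -- the middle coefficients
  have hmid : ∑ m ∈ range (p - 1), coeff (Ypoly a₀ a₁ ^ p) (m + 1) =
      ∑ u : Fin (p - 1) → Bool,
        (if cnt u < p - 1 then lam R p (cnt u) else 0) • wordA (pairA a₀ a₁) a₁ (List.ofFn u) := by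
    have h1 : ∀ m ∈ range (p - 1), coeff (Ypoly a₀ a₁ ^ p) (m + 1) =
        ∑ u : Fin (p - 1) → Bool,
          if cnt u = m then lam R p m • wordA (pairA a₀ a₁) a₁ (List.ofFn u) else 0 := by
      intro m hm
      have hm' := Finset.mem_range.mp hm
      rw [coeff_succ_eq (R := R) p a₀ a₁ m (by omega), Finset.smul_sum]
      apply Finset.sum_congr rfl
      intro u _
      split_ifs <;> simp
    rw [Finset.sum_congr rfl h1, Finset.sum_comm]
    apply Finset.sum_congr rfl
    intro u _
    rw [Finset.sum_ite_eq]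
    split_ifs with h1 h2 h2
    · rfl
    · exact absurd (Finset.mem_range.mp h1) h2
    · exact absurd (Finset.mem_range.mpr h2) h1
    · rw [zero_smul]
  rw [hmid, ← Finset.sum_neg_distrib]
  apply Finset.sum_congr rfl
  intro u _
  rw [← neg_smul]
  congr 1
  have hcard := card_false_add_cnt u
  split_ifs with h
  · -- cnt u < p - 1
    unfold lam
    rw [← map_neg, ← inv_neg]
    congr 2
    have : ((Fintype.card {i // u i = false} : ℕ) : ZMod p) + ((cnt u + 1 : ℕ) : ZMod p) = 0 := by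
      rw [← Nat.cast_add, ZMod.natCast_eq_zero_iff]
      have : Fintype.card {i // u i = false} + (cnt u + 1) = p := by omega
      rw [this]
    rw [eq_neg_iff_add_eq_zero, add_comm]
    exact this
  · -- cnt u = p - 1
    have h0 : Fintype.card {i // u i = false} = 0 := by omega
    rw [h0]
    simp

end PartD

section Transfer

universe u v w

variable {R : Type u} [CommRing R] (p : ℕ) [hp : Fact p.Prime] [CharP R p]
  {L : Type v} [LieRing L] [LieAlgebra R L] {A : Type w} [Ring A] [Algebra R A]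

theorem map_bracketWord (e : L →ₗ[R] A) (he : ∀ x y : L, e ⁅x, y⁆ = e x * e y - e y * e x)
    {ι : Type*} (x : ι → L) (c : L) (w : List ι) :
    e (PLie.bracketWord x c w) = wordA (fun i => e (x i)) (e c) w := by
  induction w with
  | nil => rfl
  | cons i w ih =>
    rw [PLie.bracketWord_cons, he, ih]
    rfl

theorem map_pair (e : L →ₗ[R] A) (x₀ x₁ : L) :
    (fun b => e (PLie.pair x₀ x₁ b)) = pairA (e x₀) (e x₁) := by
  funext b
  cases b <;> simp [PLie.pair, pairA]

theorem map_jacobson (e : L →ₗ[R] A) (he : ∀ x y : L, e ⁅x, y⁆ = e x * e y - e y * e x)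
    (x₀ x₁ : L) :
    e (PLie.jacobson R p x₀ x₁) = ∑ t : Fin (p - 1) → Bool,
      ((ZMod.castHom (dvd_refl p) R) ((Fintype.card {i // t i = false} : ZMod p)⁻¹)) •
        wordA (pairA (e x₀) (e x₁)) (e x₁) (List.ofFn t) := by
  unfold PLie.jacobson
  rw [map_sum]
  apply Finset.sum_congr rfl
  intro t _
  rw [map_smul, map_bracketWord e he, map_pair]

theorem map_ad_pow (e : L →ₗ[R] A) (he : ∀ x y : L, e ⁅x, y⁆ = e x * e y - e y * e x)
    (x y : L) (k : ℕ) :
    e ((LieAlgebra.ad R L x ^ k) y) =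
      ((LinearMap.mulLeft R (e x) - LinearMap.mulRight R (e x)) ^ k) (e y) := by
  induction k generalizing y with
  | zero => simp
  | succ k ih =>
    rw [pow_succ, Module.End.mul_apply, ih, pow_succ, Module.End.mul_apply, LieAlgebra.ad_apply, he]
    rfl

/-- A Lie algebra embedded in an associative algebra of characteristic `p` and stable under `p`-th
powers carries a `p`-map. -/
noncomputable def pmapOfAssoc (e : L →ₗ[R] A) (hinj : Function.Injective e)
    (he : ∀ x y : L, e ⁅x, y⁆ = e x * e y - e y * e x) (φ : L → L)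
    (hφ : ∀ x : L, e (φ x) = e x ^ p) : PLie.PMap R p L where
  toFun := φ
  map_smul c x := by
    apply hinj
    rw [hφ, map_smul, map_smul, hφ, smul_pow]
  ad_map x := by
    apply LinearMap.ext
    intro y
    apply hinj
    rw [map_ad_pow e he, ad_pow_char, LieAlgebra.ad_apply, he, hφ]
    rfl
  map_add x₀ x₁ := by
    apply hinj
    rw [hφ, map_add, jacobson_assoc (R := R) p (e x₀) (e x₁), map_sub, map_add, hφ, hφ,
      map_jacobson p e he]

@[simp] theorem pmapOfAssoc_apply (e : L →ₗ[R] A) (hinj : Function.Injective e)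
    (he : ∀ x y : L, e ⁅x, y⁆ = e x * e y - e y * e x) (φ : L → L)
    (hφ : ∀ x : L, e (φ x) = e x ^ p) (x : L) :
    (pmapOfAssoc p e hinj he φ hφ) x = φ x := rfl

end Transfer

end Groth.Agent.Lib.Helper26.Jacobson
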