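import Groth.Agent.Lib.Helper26.Jacobson
import Groth.Agent.Lib.Helper26.PBW

/-!
# Jacobson's theorem on the existence of `p`-maps (helper26 shared library)

`L` a Lie algebra over a commutative ring `R` of prime characteristic `p`, free with basis `b`.
If `(ad (b i))^p = ad (y i)` for all `i`, there is a unique `p`-map with `b i ↦ y i`
(`exists_pmap_of_basis`, `pmap_ext_of_basis`).  The proof uses the embedding of `L` in its
enveloping algebra (PBW) and Jacobson's formula.
-/

set_option autoImplicit false

namespace Groth.Agent.Lib.Helper26.JacobsonThm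

open Groth.Agent.Lib.Helper26.Jacobson

universe u v w

variable {R : Type u} [CommRing R] (p : ℕ) [hp : Fact p.Prime] [CharP R p]
  {L : Type v} [LieRing L] [LieAlgebra R L] {A : Type w} [Ring A] [Algebra R A]

/-- A Lie algebra embedded in an associative algebra of characteristic `p`, such that `p`-th
powers land in the image up to a `p`-semilinear correction commuting with the image, carries a
`p`-map. -/
noncomputable def pmapOfAssocCorr (e : L →ₗ[R] A) (hinj : Function.Injective e)
    (he : ∀ x y : L, e ⁅x, y⁆ = e x * e y - e y * e x) (f : L → A)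
    (hfc : ∀ x w : L, Commute (f x) (e w)) (hfadd : ∀ x x' : L, f (x + x') = f x + f x')
    (hfsmul : ∀ (c : R) (x : L), f (c • x) = c ^ p • f x)
    (φ : L → L) (hφ : ∀ x : L, e (φ x) = e x ^ p - f x) : PLie.PMap R p L where
  toFun := φ
  map_smul c x := by
    apply hinj
    rw [hφ, map_smul, map_smul, hφ, smul_pow, hfsmul, smul_sub]
  ad_map x := by
    apply LinearMap.ext
    intro y
    apply hinj
    rw [map_ad_pow e he, ad_pow_char, LieAlgebra.ad_apply, he, hφ]
    simp only [LinearMap.sub_apply, LinearMap.mulLeft_apply, LinearMap.mulRight_apply]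
    have := (hfc x y).eq
    rw [sub_mul, mul_sub, this]
    abel
  map_add x₀ x₁ := by
    apply hinj
    rw [hφ, map_add, jacobson_assoc (R := R) p (e x₀) (e x₁), map_sub, map_add, hφ, hφ,
      map_jacobson p e he, hfadd]
    abel

@[simp] theorem pmapOfAssocCorr_apply (e : L →ₗ[R] A) (hinj : Function.Injective e)
    (he : ∀ x y : L, e ⁅x, y⁆ = e x * e y - e y * e x) (f : L → A)
    (hfc : ∀ x w : L, Commute (f x) (e w)) (hfadd : ∀ x x' : L, f (x + x') = f x + f x')
    (hfsmul : ∀ (c : R) (x : L), f (c • x) = c ^ p • f x)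
    (φ : L → L) (hφ : ∀ x : L, e (φ x) = e x ^ p - f x) (x : L) :
    (pmapOfAssocCorr p e hinj he f hfc hfadd hfsmul φ hφ) x = φ x := rfl

/-- two `p`-maps agreeing on a spanning family agree -/
theorem pmap_ext_of_span {s : Set L} (hs : Submodule.span R s = ⊤) (φ ψ : PLie.PMap R p L)
    (h : ∀ x ∈ s, φ x = ψ x) : φ = ψ := by
  have key : ∀ x : L, φ x = ψ x := by
    intro x
    have hx : x ∈ Submodule.span R s := by rw [hs]; trivial
    induction hx using Submodule.span_induction with
    | mem x hx => exact h x hx
    | zero =>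
      have h1 := φ.map_smul 0 0
      have h2 := ψ.map_smul 0 0
      rw [zero_smul, zero_pow hp.out.ne_zero, zero_smul] at h1 h2
      exact h1.trans h2.symm
    | add x x' _ _ h1 h2 =>
      have e1 := φ.map_add x x'
      have e2 := ψ.map_add x x'
      change φ (x + x') = ψ (x + x')
      change φ x = ψ x at h1
      change φ x' = ψ x' at h2
      change φ (x + x') = _ at e1
      change ψ (x + x') = _ at e2
      rw [e1, e2]
      change φ x + φ x' - _ = ψ x + ψ x' - _
      rw [h1, h2]
    | smul c x _ h1 =>
      have e1 := φ.map_smul c x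
      have e2 := ψ.map_smul c x
      change φ (c • x) = _ at e1
      change ψ (c • x) = _ at e2
      change φ x = ψ x at h1
      rw [e1, e2]
      change c ^ p • φ x = c ^ p • ψ x
      rw [h1]
  cases φ with
  | mk f1 a1 b1 c1 =>
    cases ψ with
    | mk f2 a2 b2 c2 =>
      have : f1 = f2 := funext key
      subst this
      rfl

theorem pmap_ext_of_basis {ι : Type*} (b : Module.Basis ι R L) (φ ψ : PLie.PMap R p L)
    (h : ∀ i, φ (b i) = ψ (b i)) : φ = ψ := by
  apply pmap_ext_of_span p b.span_eq
  rintro _ ⟨i, rfl⟩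
  exact h i

attribute [local instance] LieRing.ofAssociativeRing

/-- **Jacobson's theorem**: existence of a `p`-map with prescribed values on a basis. -/
theorem exists_pmap_of_basis {ι : Type*} (b : Module.Basis ι R L) (y : ι → L)
    (hy : ∀ i : ι, LieAlgebra.ad R L (b i) ^ p = LieAlgebra.ad R L (y i)) :
    ∃ φ : PLie.PMap R p L, ∀ i : ι, φ (b i) = y i := by
  classical
  let _ : LinearOrder ι := IsWellOrder.linearOrder WellOrderingRel
  let e : L →ₗ[R] UniversalEnvelopingAlgebra R L :=
    LieHom.toLinearMap (UniversalEnvelopingAlgebra.ι R)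
  have hinj : Function.Injective e := PBW.ι_injective_of_basis b
  have he : ∀ x w : L, e ⁅x, w⁆ = e x * e w - e w * e x := by
    intro x w
    change UniversalEnvelopingAlgebra.ι R ⁅x, w⁆ = _
    rw [LieHom.map_lie, LieRing.of_associative_ring_bracket]
    rfl
  let z : ι → UniversalEnvelopingAlgebra R L := fun i => e (b i) ^ p - e (y i)
  have hz : ∀ (i : ι) (w : L), Commute (z i) (e w) := by
    intro i w
    have h1 := map_ad_pow e he (b i) w p
    rw [hy i, LieAlgebra.ad_apply, he, ad_pow_char] at h1
    simp only [LinearMap.sub_apply, LinearMap.mulLeft_apply, LinearMap.mulRight_apply] at h1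
    change (e (b i) ^ p - e (y i)) * e w = e w * (e (b i) ^ p - e (y i))
    rw [sub_mul, mul_sub]
    have h2 : e (b i) ^ p * e w - e (y i) * e w = e w * e (b i) ^ p - e w * e (y i) := by
      rw [sub_eq_sub_iff_sub_eq_sub]
      exact h1.symm
    exact h2
  let f : L → UniversalEnvelopingAlgebra R L := fun x => (b.repr x).sum (fun i c => c ^ p • z i)
  have hfadd : ∀ x x' : L, f (x + x') = f x + f x' := by
    intro x x'
    change (b.repr (x + x')).sum _ = _
    rw [map_add]
    apply Finsupp.sum_add_index'
    · intro i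
      rw [zero_pow hp.out.ne_zero, zero_smul]
    · intro i c c'
      rw [add_pow_char, add_smul]
  have hfsmul : ∀ (c : R) (x : L), f (c • x) = c ^ p • f x := by
    intro c x
    change (b.repr (c • x)).sum _ = c ^ p • (b.repr x).sum _
    rw [map_smul, Finsupp.sum_smul_index', Finsupp.smul_sum]
    · apply Finsupp.sum_congr
      intro i _
      rw [smul_eq_mul, mul_pow, mul_smul]
    · intro i
      rw [zero_pow hp.out.ne_zero, zero_smul]
  have hfc : ∀ x w : L, Commute (f x) (e w) := by
    intro x w
    change Commute ((b.repr x).sum _) _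
    rw [Finsupp.sum]
    apply Commute.sum_left
    intro i _
    exact (hz i w).smul_left _
  have hfb : ∀ i, f (b i) = z i := by
    intro i
    change (b.repr (b i)).sum _ = _
    rw [b.repr_self, Finsupp.sum_single_index]
    · rw [one_pow, one_smul]
    · rw [zero_pow hp.out.ne_zero, zero_smul]
  have hf0 : f 0 = 0 := by
    change (b.repr 0).sum _ = _
    rw [map_zero, Finsupp.sum_zero_index]
  let V : Submodule R L :=
    { carrier := {x | ∃ x' : L, e x' = e x ^ p - f x}
      add_mem' := by
        rintro x w ⟨x', hx'⟩ ⟨w', hw'⟩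
        refine ⟨x' + w' - PLie.jacobson R p x w, ?_⟩
        rw [map_add, jacobson_assoc (R := R) p (e x) (e w), map_sub, map_add, hx', hw',
          map_jacobson p e he, hfadd]
        abel
      zero_mem' := by
        refine ⟨0, ?_⟩
        rw [map_zero, zero_pow hp.out.ne_zero, hf0, sub_zero]
      smul_mem' := by
        rintro c x ⟨x', hx'⟩
        refine ⟨c ^ p • x', ?_⟩
        rw [map_smul, hx', map_smul, smul_pow, hfsmul, smul_sub] }
  have hV : V = ⊤ := by
    rw [eq_top_iff, ← b.span_eq, Submodule.span_le]
    rintro _ ⟨i, rfl⟩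
    refine ⟨y i, ?_⟩
    rw [hfb]
    change e (y i) = e (b i) ^ p - (e (b i) ^ p - e (y i))
    abel
  have hall : ∀ x : L, ∃ x' : L, e x' = e x ^ p - f x := by
    intro x
    have : x ∈ V := by rw [hV]; trivial
    exact this
  choose φ hφ using hall
  refine ⟨pmapOfAssocCorr p e hinj he f hfc hfadd hfsmul φ hφ, ?_⟩
  intro i
  rw [pmapOfAssocCorr_apply]
  apply hinj
  rw [hφ, hfb]
  change e (b i) ^ p - (e (b i) ^ p - e (y i)) = e (y i)
  abel

end Groth.Agent.Lib.Helper26.JacobsonThm
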