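import Mathlib

universe u

namespace Groth.Agent.Lib.Helper26.KPlace

open Polynomial

section Chevalley
variable {k : Type u} [Field k] {K : Type u} [Field K] [Algebra k K]

/-- multiplicatively closed `k`-subspaces not containing `1` -/
def Good (m : Submodule k K) : Prop := (∀ a ∈ m, ∀ b ∈ m, a * b ∈ m) ∧ (1 : K) ∉ m

theorem exists_maximal_good (m₀ : Submodule k K) (h₀ : Good m₀) :
    ∃ m, m₀ ≤ m ∧ Maximal (fun m : Submodule k K => Good m) m := by
  refine zorn_le_nonempty₀ {m : Submodule k K | Good m} ?_ m₀ h₀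
  intro c hc hchain y hy
  have hne : c.Nonempty := ⟨y, hy⟩
  have hdir : DirectedOn (· ≤ ·) c := hchain.directedOn
  refine ⟨sSup c, ⟨?_, ?_⟩, fun z hz => le_sSup hz⟩
  · intro a ha b hb
    rw [Submodule.mem_sSup_of_directed hne hdir] at ha hb ⊢
    obtain ⟨m₁, hm₁, ha⟩ := ha
    obtain ⟨m₂, hm₂, hb⟩ := hb
    rcases hchain.total hm₁ hm₂ with h | h
    · exact ⟨m₂, hm₂, (hc hm₂).1 a (h ha) b hb⟩
    · exact ⟨m₁, hm₁, (hc hm₁).1 a ha b (h hb)⟩
  · intro h1
    rw [Submodule.mem_sSup_of_directed hne hdir] at h1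
    obtain ⟨m₁, hm₁, h1⟩ := h1
    exact (hc hm₁).2 h1

end Chevalley

theorem mul_lt_one_of_le_of_lt {Γ : Type*} [LinearOrderedCommMonoidWithZero Γ] {a b : Γ}
    (ha : a ≤ 1) (hb : b < 1) : a * b < 1 :=
  lt_of_le_of_lt (mul_le_of_le_one_left' ha) hb

section Chevalley
variable {k : Type u} [Field k] [IsAlgClosed k] {K : Type u} [Field K] [Algebra k K]

omit [IsAlgClosed k] in
/-- the subring `k + m` -/
def subringOf (m : Submodule k K) (hm : Good m) : Subring K where
  carrier := {x | ∃ c : k, x - algebraMap k K c ∈ m}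
  mul_mem' := by
    rintro x x' ⟨c, hc⟩ ⟨c', hc'⟩
    refine ⟨c * c', ?_⟩
    have : x * x' - algebraMap k K (c * c') =
        (x - algebraMap k K c) * (x' - algebraMap k K c') + c • (x' - algebraMap k K c') +
          c' • (x - algebraMap k K c) := by
      rw [Algebra.smul_def, Algebra.smul_def, map_mul]
      ring
    rw [this]
    exact m.add_mem (m.add_mem (hm.1 _ hc _ hc') (m.smul_mem _ hc')) (m.smul_mem _ hc)
  one_mem' := ⟨1, by rw [map_one, sub_self]; exact m.zero_mem⟩
  add_mem' := by
    rintro x x' ⟨c, hc⟩ ⟨c', hc'⟩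
    refine ⟨c + c', ?_⟩
    have : x + x' - algebraMap k K (c + c') =
        (x - algebraMap k K c) + (x' - algebraMap k K c') := by
      rw [map_add]; ring
    rw [this]
    exact m.add_mem hc hc'
  zero_mem' := ⟨0, by rw [map_zero, sub_self]; exact m.zero_mem⟩
  neg_mem' := by
    rintro x ⟨c, hc⟩
    refine ⟨-c, ?_⟩
    have : -x - algebraMap k K (-c) = -(x - algebraMap k K c) := by
      rw [map_neg]; ring
    rw [this]
    exact m.neg_mem hc

theorem exists_place (m₀ : Submodule k K) (h₀ : Good m₀) :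
    ∃ V : ValuationSubring K, (∀ c : k, algebraMap k K c ∈ V) ∧ (∀ z ∈ m₀, z ∈ V.nonunits) ∧
      ∀ x ∈ V, ∃ c : k, x - algebraMap k K c ∈ V.nonunits := by
  classical
  obtain ⟨m, hm₀, hmax⟩ := exists_maximal_good m₀ h₀
  have hm : Good m := hmax.prop
  let S : Subring K := subringOf m hm
  have hmS : ∀ z ∈ m, z ∈ S := fun z hz => ⟨0, by rw [map_zero, sub_zero]; exact hz⟩
  have hkS : ∀ c : k, algebraMap k K c ∈ S := fun c => ⟨c, by rw [sub_self]; exact m.zero_mem⟩
  -- the ideal `m` of `S`
  let I : Ideal S :=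
    { carrier := {x | x.1 ∈ m}
      add_mem' := fun {a b} ha hb => m.add_mem ha hb
      zero_mem' := m.zero_mem
      smul_mem' := by
        rintro ⟨s, c, hc⟩ ⟨x, hxS⟩ (hx : x ∈ m)
        show s * x ∈ m
        have : s * x = (s - algebraMap k K c) * x + c • x := by
          rw [Algebra.smul_def]; ring
        rw [this]
        exact m.add_mem (hm.1 _ hc _ hx) (m.smul_mem _ hx) }
  have hI : I ≠ ⊤ := by
    intro h
    have : (1 : S) ∈ I := by rw [h]; trivial
    exact hm.2 this
  obtain ⟨V, hSV, hIV⟩ := Ideal.image_subset_nonunits_valuationSubring I hI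
  have hmV : ∀ z ∈ m, z ∈ V.nonunits := fun z hz =>
    hIV ⟨⟨z, hmS z hz⟩, hz, rfl⟩
  have hkV : ∀ c : k, algebraMap k K c ∈ V := fun c => hSV (hkS c)
  refine ⟨V, hkV, fun z hz => hmV z (hm₀ hz), ?_⟩
  intro x hx
  -- valuation facts
  set v := V.valuation with hv
  have hvV : ∀ z, z ∈ V ↔ v z ≤ 1 := fun z => (V.valuation_le_one_iff z).symm
  have hvN : ∀ z, z ∈ V.nonunits ↔ v z < 1 := fun z => ValuationSubring.mem_nonunits_iff V
  have haevalV : ∀ q : k[X], aeval x q ∈ V := by
    intro q
    induction q using Polynomial.induction_on' with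
    | add p q hp hq => rw [map_add]; exact V.add_mem _ _ hp hq
    | monomial n a =>
      rw [aeval_monomial]
      exact V.mul_mem _ _ (hkV a) (pow_mem hx n)
  -- the ideal of polynomials with small value
  let 𝔭 : Ideal k[X] :=
    { carrier := {q | v (aeval x q) < 1}
      add_mem' := by
        intro a b ha hb
        show v (aeval x (a + b)) < 1
        rw [map_add]
        exact Valuation.map_add_lt _ ha hb
      zero_mem' := by
        show v (aeval x (0 : k[X])) < 1
        rw [map_zero, map_zero]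
        exact zero_lt_one
      smul_mem' := by
        intro r q hq
        show v (aeval x (r • q)) < 1
        rw [smul_eq_mul, map_mul, map_mul]
        exact mul_lt_one_of_le_of_lt ((hvV _).mp (haevalV r)) hq }
  have h𝔭1 : (1 : k[X]) ∉ 𝔭 := by
    intro h
    have h' : v (aeval x (1 : k[X])) < 1 := h
    rw [map_one, map_one] at h'
    exact lt_irrefl _ h'
  -- a common root
  obtain ⟨c, hc⟩ : ∃ c : k, ∀ q ∈ 𝔭, q.eval c = 0 := by
    obtain ⟨p₀, hp₀⟩ := (IsPrincipalIdealRing.principal 𝔭).principal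
    by_cases h0 : p₀ = 0
    · refine ⟨0, fun q hq => ?_⟩
      rw [hp₀, h0] at hq
      have : q = 0 := by simpa using hq
      rw [this, eval_zero]
    · have hdeg : p₀.degree ≠ 0 := by
        intro hd
        have hunit : IsUnit p₀ := Polynomial.isUnit_iff_degree_eq_zero.mpr hd
        apply h𝔭1
        rw [hp₀]
        have htop : Ideal.span {p₀} = ⊤ := Ideal.span_singleton_eq_top.mpr hunit
        show (1 : k[X]) ∈ Ideal.span {p₀}
        rw [htop]
        trivial
      obtain ⟨c, hc⟩ := IsAlgClosed.exists_root p₀ hdeg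
      refine ⟨c, fun q hq => ?_⟩
      rw [hp₀] at hq
      obtain ⟨r, rfl⟩ := Ideal.mem_span_singleton'.mp hq
      rw [eval_mul, hc.eq_zero, mul_zero]
  -- the bigger subspace
  let m' : Submodule k K :=
    { carrier := {z | ∃ q : k[X], q.eval c = 0 ∧ v (z - aeval x q) < 1}
      add_mem' := by
        rintro z z' ⟨q, hq, hz⟩ ⟨q', hq', hz'⟩
        refine ⟨q + q', by rw [eval_add, hq, hq', add_zero], ?_⟩
        have : z + z' - aeval x (q + q') = (z - aeval x q) + (z' - aeval x q') := by
          rw [map_add]; ring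
        rw [this]
        exact Valuation.map_add_lt _ hz hz'
      zero_mem' := ⟨0, eval_zero, by rw [map_zero, sub_zero, map_zero]; exact zero_lt_one⟩
      smul_mem' := by
        rintro a z ⟨q, hq, hz⟩
        refine ⟨C a * q, by rw [eval_mul, hq, mul_zero], ?_⟩
        have : a • z - aeval x (C a * q) = algebraMap k K a * (z - aeval x q) := by
          rw [map_mul, aeval_C, Algebra.smul_def]; ring
        rw [this, map_mul]
        exact mul_lt_one_of_le_of_lt ((hvV _).mp (hkV a)) hz }
  have hm'V : ∀ z ∈ m', z ∈ V := by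
    rintro z ⟨q, -, hz⟩
    have h1 : z - aeval x q ∈ V := (hvV _).mpr hz.le
    have : z = (z - aeval x q) + aeval x q := by ring
    rw [this]
    exact V.add_mem _ _ h1 (haevalV q)
  have hm'good : Good m' := by
    refine ⟨?_, ?_⟩
    · rintro z hzm z' hzm'
      have hzV := hm'V z hzm
      obtain ⟨q, hq, hz⟩ := hzm
      obtain ⟨q', hq', hz'⟩ := hzm'
      refine ⟨q * q', by rw [eval_mul, hq, zero_mul], ?_⟩
      have : z * z' - aeval x (q * q') = z * (z' - aeval x q') + aeval x q' * (z - aeval x q) := by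
        rw [map_mul]; ring
      rw [this]
      apply Valuation.map_add_lt
      · rw [map_mul]
        exact mul_lt_one_of_le_of_lt ((hvV _).mp hzV) hz'
      · rw [map_mul]
        exact mul_lt_one_of_le_of_lt ((hvV _).mp (haevalV q')) hz
    · rintro ⟨q, hq, hz⟩
      have h1 : (1 - q) ∈ 𝔭 := by
        show v (aeval x (1 - q)) < 1
        rw [map_sub, map_one]
        exact hz
      have := hc _ h1
      rw [eval_sub, eval_one, hq, sub_zero] at this
      exact one_ne_zero this
  have hmm' : m ≤ m' := by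
    intro z hz
    exact ⟨0, eval_zero, by rw [map_zero, sub_zero]; exact (hvN z).mp (hmV z hz)⟩
  have hm'm : m' ≤ m := hmax.le_of_ge hm'good hmm'
  have hxc : x - algebraMap k K c ∈ m' := by
    refine ⟨X - C c, by simp, ?_⟩
    have : x - algebraMap k K c - aeval x (X - C c) = 0 := by
      rw [map_sub, aeval_X, aeval_C]; ring
    rw [this, map_zero]
    exact zero_lt_one
  exact ⟨c, hmV _ (hm'm hxc)⟩

end Chevalley

end Groth.Agent.Lib.Helper26.KPlace
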