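import Mathlib
import Groth.Agent.Lib.Helper26.KPlace

universe u

namespace Groth.Agent.Lib.Helper26.KPlace

section LiftField
variable {k : Type u} [Field k] [IsAlgClosed k]
  {P : Type u} [CommRing P] [Algebra k P] {K₀ : Type u} [Field K₀] [Algebra k K₀]

theorem exists_valuation_lift_field (g : P →ₐ[k] K₀) (y : P →ₐ[k] k)
    (hg0 : ∀ f : P, g f = 0 → y f = 0) :
    ∃ (R : Type u) (_ : CommRing R) (_ : IsDomain R) (_ : ValuationRing R) (_ : Algebra k R)
      (res : R →ₐ[k] k) (Ξ : K₀ →ₐ[k] FractionRing R) (h : P →ₐ[k] R),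
      RingHom.ker res = IsLocalRing.maximalIdeal R ∧
        (IsScalarTower.toAlgHom k R (FractionRing R)).comp h = Ξ.comp g ∧
          res.comp h = y := by
  classical
  let m₀ : Submodule k K₀ :=
    Submodule.map g.toLinearMap ((RingHom.ker y).restrictScalars k)
  have hm₀ : Good m₀ := by
    refine ⟨?_, ?_⟩
    · rintro _ ⟨f, hf, rfl⟩ _ ⟨f', hf', rfl⟩
      refine ⟨f * f', ?_, ?_⟩
      · exact Ideal.mul_mem_left _ f hf'
      · show g (f * f') = g f * g f'
        exact map_mul g f f'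
    · rintro ⟨f, hf, hf1⟩
      have hf1' : g f = 1 := hf1
      have h1 : g (f - 1) = 0 := by rw [map_sub, hf1', map_one, sub_self]
      have h2 := hg0 _ h1
      have hf' : y f = 0 := hf
      rw [map_sub, hf', map_one] at h2
      have h3 : (0 : k) - 1 = 0 := h2
      simp at h3
  obtain ⟨V, hkV, hm₀V, hVk⟩ := exists_place m₀ hm₀
  -- the algebra structure
  let algV : Algebra k V := ((algebraMap k K₀).codRestrict V hkV).toAlgebra
  have towV : IsScalarTower k V K₀ := IsScalarTower.of_algebraMap_eq (fun c => rfl)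
  have hgsub : ∀ f : P, g f - algebraMap k K₀ (y f) ∈ V.nonunits := by
    intro f
    apply hm₀V
    refine ⟨f - algebraMap k P (y f), ?_, ?_⟩
    · show y (f - algebraMap k P (y f)) = 0
      rw [map_sub, AlgHom.commutes]
      simp
    · show g (f - algebraMap k P (y f)) = _
      rw [map_sub, AlgHom.commutes]
  have hgV : ∀ f : P, g f ∈ V := by
    intro f
    have h1 : g f - algebraMap k K₀ (y f) ∈ V := ValuationSubring.nonunits_subset (hgsub f)
    have : g f = (g f - algebraMap k K₀ (y f)) + algebraMap k K₀ (y f) := by ring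
    rw [this]
    exact V.add_mem _ _ h1 (hkV _)
  let h : P →ₐ[k] V :=
    { toRingHom := (g : P →+* K₀).codRestrict V hgV
      commutes' := fun c => Subtype.ext (g.commutes c) }
  -- the residue field
  let κ := IsLocalRing.ResidueField V
  have hinj : Function.Injective (algebraMap k κ) := (algebraMap k κ).injective
  have hmem_max : ∀ x : V, (x : K₀) ∈ V.nonunits → x ∈ IsLocalRing.maximalIdeal V := by
    intro x hx
    rw [ValuationSubring.valuation_lt_one_iff]
    exact (ValuationSubring.mem_nonunits_iff V).mp hx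
  have hsurj : Function.Surjective (algebraMap k κ) := by
    intro r
    obtain ⟨x, rfl⟩ := IsLocalRing.residue_surjective r
    obtain ⟨c, hc⟩ := hVk x.1 x.2
    refine ⟨c, ?_⟩
    have h1 : x - algebraMap k V c ∈ IsLocalRing.maximalIdeal V := hmem_max _ hc
    have h2 : IsLocalRing.residue V (x - algebraMap k V c) = 0 :=
      (IsLocalRing.residue_eq_zero_iff _).mpr h1
    rw [map_sub, sub_eq_zero] at h2
    rw [h2]
    rfl
  let e : k ≃ₐ[k] κ := AlgEquiv.ofBijective (Algebra.ofId k κ) ⟨hinj, hsurj⟩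
  let res : V →ₐ[k] k := (e.symm : κ →ₐ[k] k).comp (IsScalarTower.toAlgHom k V κ)
  -- the fraction field identification
  let e' : K₀ ≃ₐ[V] FractionRing V :=
    IsLocalization.algEquiv (nonZeroDivisors V) K₀ (FractionRing V)
  let Ξ : K₀ →ₐ[k] FractionRing V := (e'.restrictScalars k : K₀ →ₐ[k] FractionRing V)
  refine ⟨V, inferInstance, inferInstance, inferInstance, algV, res, Ξ, h, ?_, ?_, ?_⟩
  · ext x
    rw [RingHom.mem_ker]
    show e.symm (IsLocalRing.residue V x) = 0 ↔ _
    rw [map_eq_zero_iff _ e.symm.injective, IsLocalRing.residue_eq_zero_iff]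
  · ext f
    show algebraMap V (FractionRing V) (h f) = e' (g f)
    have : g f = algebraMap V K₀ (h f) := rfl
    rw [this, e'.commutes]
  · ext f
    show e.symm (IsLocalRing.residue V (h f)) = y f
    rw [AlgEquiv.symm_apply_eq]
    show IsLocalRing.residue V (h f) = algebraMap k κ (y f)
    have h1 : h f - algebraMap k V (y f) ∈ IsLocalRing.maximalIdeal V := hmem_max _ (hgsub f)
    have h2 : IsLocalRing.residue V (h f - algebraMap k V (y f)) = 0 :=
      (IsLocalRing.residue_eq_zero_iff _).mpr h1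
    rw [map_sub, sub_eq_zero] at h2
    rw [h2]
    rfl

end LiftField

section Lift
variable {k : Type u} [Field k] [IsAlgClosed k]
  {P A : Type u} [CommRing P] [CommRing A] [Algebra k P] [Algebra k A]

omit [IsAlgClosed k] in
theorem exists_prime_of_ker_le (o : P →ₐ[k] A) (y : P →ₐ[k] k)
    (hy : RingHom.ker o ≤ RingHom.ker y) :
    ∃ 𝔮 : Ideal A, 𝔮.IsPrime ∧ ∀ f : P, o f ∈ 𝔮 → y f = 0 := by
  have hkerprime : (RingHom.ker y).IsPrime := RingHom.ker_isPrime y
  let M₀ : Submonoid P := (RingHom.ker y).primeCompl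
  let M : Submonoid A := M₀.map (o : P →* A)
  have hdisj : Disjoint ((⊥ : Ideal A) : Set A) (M : Set A) := by
    rw [Set.disjoint_left]
    rintro a ha ⟨f, hf, rfl⟩
    have h0 : o f = 0 := ha
    exact hf (hy h0)
  obtain ⟨𝔮, h𝔮, -, h𝔮M⟩ := Ideal.exists_le_prime_disjoint (⊥ : Ideal A) M hdisj
  refine ⟨𝔮, h𝔮, fun f hf => ?_⟩
  by_contra hne
  have h1 : o f ∈ M := ⟨f, hne, rfl⟩
  exact Set.disjoint_left.mp h𝔮M hf h1

theorem exists_valuation_lift (o : P →ₐ[k] A) (y : P →ₐ[k] k)
    (hy : RingHom.ker o ≤ RingHom.ker y) :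
    ∃ (R : Type u) (_ : CommRing R) (_ : IsDomain R) (_ : ValuationRing R) (_ : Algebra k R)
      (res : R →ₐ[k] k) (Ξ : A →ₐ[k] FractionRing R) (h : P →ₐ[k] R),
      RingHom.ker res = IsLocalRing.maximalIdeal R ∧
        (IsScalarTower.toAlgHom k R (FractionRing R)).comp h = Ξ.comp o ∧
          res.comp h = y := by
  obtain ⟨𝔮, h𝔮, hkey⟩ := exists_prime_of_ker_le o y hy
  have := h𝔮
  let ψ : A →ₐ[k] FractionRing (A ⧸ 𝔮) :=
    (IsScalarTower.toAlgHom k (A ⧸ 𝔮) (FractionRing (A ⧸ 𝔮))).comp (Ideal.Quotient.mkₐ k 𝔮)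
  have hg0 : ∀ f : P, (ψ.comp o) f = 0 → y f = 0 := by
    intro f hf
    apply hkey
    have h1 : algebraMap (A ⧸ 𝔮) (FractionRing (A ⧸ 𝔮)) (Ideal.Quotient.mk 𝔮 (o f)) = 0 := hf
    have h2 : Ideal.Quotient.mk 𝔮 (o f) = 0 :=
      IsFractionRing.injective (A ⧸ 𝔮) (FractionRing (A ⧸ 𝔮)) (by rw [h1, map_zero])
    exact Ideal.Quotient.eq_zero_iff_mem.mp h2
  obtain ⟨R, i1, i2, i3, i4, res, Ξ₀, h, h1, h2, h3⟩ :=
    exists_valuation_lift_field (ψ.comp o) y hg0
  exact ⟨R, i1, i2, i3, i4, res, Ξ₀.comp ψ, h, h1, by rw [h2]; rfl, h3⟩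

end Lift

end Groth.Agent.Lib.Helper26.KPlace
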