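import Mathlib

set_option autoImplicit false

namespace Groth.Agent.Lib.Helper26.KapLocal

universe u v

section Shear

variable {R : Type u} [CommRing R] {I : Type v}

/-- a shear automorphism of `I →₀ R` removing a coordinate that is a combination of the others -/
theorem exists_shear [DecidableEq I] (z : I →₀ R) (l : I)
    (hl : z l ∈ Ideal.span ((fun j => z j) '' ((z.support.erase l : Finset I) : Set I))) :
    ∃ h : (I →₀ R) ≃ₗ[R] (I →₀ R), h z = z.erase l := by
  obtain ⟨c, hc⟩ := (Submodule.mem_span_image_finset_iff_exists_fun' R).mp hl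
  let ψ : (I →₀ R) →ₗ[R] R := ∑ j ∈ z.support.erase l, c j • Finsupp.lapply j
  have hψ : ∀ w, ψ w = ∑ j ∈ z.support.erase l, c j * w j := by
    intro w
    simp [ψ, LinearMap.sum_apply]
  have hψl : ψ (Finsupp.single l 1) = 0 := by
    rw [hψ]
    apply Finset.sum_eq_zero
    intro j hj
    rw [Finsupp.single_apply, if_neg (Finset.ne_of_mem_erase hj).symm, mul_zero]
  let N : (I →₀ R) →ₗ[R] (I →₀ R) := (LinearMap.toSpanSingleton R (I →₀ R) (Finsupp.single l 1)).comp ψ
  have hN : ∀ w, N w = ψ w • Finsupp.single l 1 := fun w => rfl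
  have hNN : ∀ w, N (N w) = 0 := by
    intro w
    rw [hN, hN, map_smul, hψl, smul_zero, zero_smul]
  let h : (I →₀ R) ≃ₗ[R] (I →₀ R) :=
    LinearEquiv.ofLinearMap (LinearMap.id - N) (LinearMap.id + N)
      (LinearMap.ext fun w => by
        show (w + N w) - N (w + N w) = w
        rw [map_add, hNN]
        abel)
      (LinearMap.ext fun w => by
        show (w - N w) + N (w - N w) = w
        rw [map_sub, hNN]
        abel)
  refine ⟨h, ?_⟩
  show z - N z = _
  rw [hN, hψ, Finsupp.erase_eq_sub_single]
  congr 1
  have : ∑ j ∈ z.support.erase l, c j * z j = z l := by simpa [smul_eq_mul] using hc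
  rw [this, Finsupp.smul_single, smul_eq_mul, mul_one]

/-- after an automorphism, no coordinate is a combination of the others -/
theorem exists_minimal [DecidableEq I] (z₀ : I →₀ R) :
    ∃ g : (I →₀ R) ≃ₗ[R] (I →₀ R), ∀ l ∈ (g z₀).support,
      (g z₀) l ∉ Ideal.span ((fun j => (g z₀) j) '' (((g z₀).support.erase l : Finset I) : Set I)) := by
  induction hn : z₀.support.card using Nat.strong_induction_on generalizing z₀ with
  | _ n ih =>
    by_cases hgood : ∀ l ∈ z₀.support,
        z₀ l ∉ Ideal.span ((fun j => z₀ j) '' ((z₀.support.erase l : Finset I) : Set I))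
    · exact ⟨LinearEquiv.refl R _, by simpa using hgood⟩
    · push Not at hgood
      obtain ⟨l, hl, hmem⟩ := hgood
      obtain ⟨h, hh⟩ := exists_shear z₀ l hmem
      have hcard : (h z₀).support.card < n := by
        rw [hh, Finsupp.support_erase, Finset.card_erase_of_mem hl, ← hn]
        exact Nat.sub_lt (Finset.card_pos.mpr ⟨l, hl⟩) one_pos
      obtain ⟨g, hg⟩ := ih _ hcard (h z₀) rfl
      exact ⟨h.trans g, hg⟩

end Shear


section Local

variable {R : Type u} [CommRing R] [IsLocalRing R] {I : Type v}

theorem sum_coord_eq [DecidableEq I] (z : I →₀ R) (e : (I →₀ R) →ₗ[R] (I →₀ R)) (he : e z = z)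
    (l : I) : ∑ j ∈ z.support, z j * (e (Finsupp.single j 1)) l = z l := by
  have h1 : e z = ∑ j ∈ z.support, z j • e (Finsupp.single j 1) := by
    conv_lhs => rw [← Finsupp.sum_single z]
    rw [Finsupp.sum, map_sum]
    apply Finset.sum_congr rfl
    intro j _
    rw [← Finsupp.smul_single_one, map_smul]
  have h2 := congrArg (fun w : I →₀ R => w l) (h1.symm.trans he)
  simpa [Finsupp.finsetSum_apply] using h2

theorem diag_isUnit [DecidableEq I] (z : I →₀ R)
    (hz : ∀ l ∈ z.support,
      z l ∉ Ideal.span ((fun j => z j) '' ((z.support.erase l : Finset I) : Set I)))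
    (e : (I →₀ R) →ₗ[R] (I →₀ R)) (he : e z = z) (l : I) (hl : l ∈ z.support) :
    IsUnit ((e (Finsupp.single l 1)) l) := by
  by_contra hnu
  have hu : IsUnit (1 - (e (Finsupp.single l 1)) l) :=
    IsLocalRing.isUnit_one_sub_self_of_mem_nonunits _ hnu
  have h2 := sum_coord_eq z e he l
  rw [← Finset.add_sum_erase _ _ hl] at h2
  have h3 : z l * (1 - (e (Finsupp.single l 1)) l) =
      ∑ j ∈ z.support.erase l, z j * (e (Finsupp.single j 1)) l := by
    linear_combination (-1 : R) * h2
  apply hz l hl
  have hmem : z l * (1 - (e (Finsupp.single l 1)) l) ∈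
      Ideal.span ((fun j => z j) '' ((z.support.erase l : Finset I) : Set I)) := by
    rw [h3]
    apply Ideal.sum_mem
    intro j hj
    exact Ideal.mul_mem_right _ _ (Ideal.subset_span ⟨j, hj, rfl⟩)
  obtain ⟨u, hu'⟩ := hu
  have := Ideal.mul_mem_right (↑u⁻¹ : R) _ hmem
  rwa [← hu', mul_assoc, Units.mul_inv, mul_one] at this

theorem offDiag_nonunit [DecidableEq I] (z : I →₀ R)
    (hz : ∀ l ∈ z.support,
      z l ∉ Ideal.span ((fun j => z j) '' ((z.support.erase l : Finset I) : Set I)))
    (e : (I →₀ R) →ₗ[R] (I →₀ R)) (he : e z = z) (j l : I) (hj : j ∈ z.support)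
    (hl : l ∈ z.support) (hjl : j ≠ l) : ¬ IsUnit ((e (Finsupp.single j 1)) l) := by
  intro hu
  have h2 := sum_coord_eq z e he l
  rw [← Finset.add_sum_erase _ _ hj] at h2
  have h3 : z j * (e (Finsupp.single j 1)) l =
      z l - ∑ j' ∈ z.support.erase j, z j' * (e (Finsupp.single j' 1)) l := by
    linear_combination h2
  apply hz j hj
  have hmem : z j * (e (Finsupp.single j 1)) l ∈
      Ideal.span ((fun j' => z j') '' ((z.support.erase j : Finset I) : Set I)) := by
    rw [h3]
    apply Ideal.sub_mem
    · exact Ideal.subset_span ⟨l, Finset.mem_erase.mpr ⟨hjl.symm, hl⟩, rfl⟩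
    · apply Ideal.sum_mem
      intro j' hj'
      exact Ideal.mul_mem_right _ _ (Ideal.subset_span ⟨j', hj', rfl⟩)
  obtain ⟨u, hu'⟩ := hu
  have := Ideal.mul_mem_right (↑u⁻¹ : R) _ hmem
  rwa [← hu', mul_assoc, Units.mul_inv, mul_one] at this

theorem isUnit_det_of_fixed [DecidableEq I] (z : I →₀ R)
    (hz : ∀ l ∈ z.support,
      z l ∉ Ideal.span ((fun j => z j) '' ((z.support.erase l : Finset I) : Set I)))
    (e : (I →₀ R) →ₗ[R] (I →₀ R)) (he : e z = z) :
    IsUnit (Matrix.of (fun (j l : z.support) => (e (Finsupp.single (j : I) 1)) (l : I))).det := by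
  rw [← IsLocalRing.residue_ne_zero_iff_isUnit, RingHom.map_det]
  have hdiag : (IsLocalRing.residue R).mapMatrix
      (Matrix.of (fun (j l : z.support) => (e (Finsupp.single (j : I) 1)) (l : I))) =
      Matrix.diagonal (fun l : z.support =>
        IsLocalRing.residue R ((e (Finsupp.single (l : I) 1)) (l : I))) := by
    ext j l
    by_cases hjl : j = l
    · subst hjl
      simp
    · rw [Matrix.diagonal_apply_ne _ hjl]
      simp only [RingHom.mapMatrix_apply, Matrix.map_apply, Matrix.of_apply]
      rw [IsLocalRing.residue_eq_zero_iff, IsLocalRing.mem_maximalIdeal]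
      exact offDiag_nonunit z hz e he j l j.2 l.2 (fun h => hjl (Subtype.ext h))
  rw [hdiag, Matrix.det_diagonal, Finset.prod_ne_zero_iff]
  intro l _
  rw [IsLocalRing.residue_ne_zero_iff_isUnit]
  exact diag_isUnit z hz e he l l.2

end Local

section Summand

theorem isCompl_range_ker {R : Type*} [Ring R] {A B : Type*} [AddCommGroup A] [Module R A]
    [AddCommGroup B] [Module R B] (ι : A →ₗ[R] B) (ρ : B →ₗ[R] A) (h : ∀ t, ρ (ι t) = t) :
    IsCompl (LinearMap.range ι) (LinearMap.ker ρ) := by
  constructor
  · rw [Submodule.disjoint_def]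
    rintro y ⟨t, rfl⟩ hy
    rw [LinearMap.mem_ker, h] at hy
    rw [hy, map_zero]
  · rw [codisjoint_iff, eq_top_iff]
    intro y _
    have : y = ι (ρ y) + (y - ι (ρ y)) := by abel
    rw [this]
    apply Submodule.add_mem_sup
    · exact ⟨_, rfl⟩
    · rw [LinearMap.mem_ker, map_sub, h, sub_self]

variable {R : Type u} [CommRing R] [IsLocalRing R] {M : Type v} [AddCommGroup M] [Module R M]

/-- Over a local ring, every element of a projective module lies in a finite free direct summand. -/
theorem exists_free_summand [Module.Projective R M] (x : M) :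
    ∃ F M' : Submodule R M, IsCompl F M' ∧ x ∈ F ∧ Module.Free R F ∧ Module.Finite R F := by
  classical
  obtain ⟨i, hi⟩ := Module.projective_def'.mp (inferInstance : Module.Projective R M)
  have hi' : ∀ m, Finsupp.linearCombination R id (i m) = m := fun m => LinearMap.congr_fun hi m
  obtain ⟨g, hg⟩ := exists_minimal (i x)
  let i' : M →ₗ[R] (M →₀ R) := g.toLinearMap.comp i
  let π' : (M →₀ R) →ₗ[R] M := (Finsupp.linearCombination R id).comp g.symm.toLinearMap
  have hπi : ∀ m, π' (i' m) = m := by
    intro m
    show Finsupp.linearCombination R id (g.symm (g (i m))) = m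
    rw [LinearEquiv.symm_apply_apply, hi']
  set z : M →₀ R := g (i x) with hzdef
  have hzx : i' x = z := rfl
  let e : (M →₀ R) →ₗ[R] (M →₀ R) := i'.comp π'
  have hez : e z = z := by
    show i' (π' z) = z
    rw [← hzx, hπi]
  let C : Matrix z.support z.support R :=
    Matrix.of (fun (j l : z.support) => (e (Finsupp.single (j : M) 1)) (l : M))
  have hC : IsUnit C.det := isUnit_det_of_fixed z hg e hez
  let u : z.support → M := fun j => π' (Finsupp.single (j : M) 1)
  let ι : (z.support → R) →ₗ[R] M := Fintype.linearCombination R u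
  let q : M →ₗ[R] (z.support → R) :=
    LinearMap.pi (fun l : z.support => (Finsupp.lapply (l : M)).comp i')
  have hq : ∀ m l, q m l = (i' m) (l : M) := fun m l => rfl
  have hqι : ∀ t, q (ι t) = Matrix.vecMul t C := by
    intro t
    ext l
    rw [hq]
    show (i' (Fintype.linearCombination R u t)) (l : M) = _
    rw [Fintype.linearCombination_apply, map_sum, Finsupp.finsetSum_apply, Matrix.vecMul, dotProduct]
    apply Finset.sum_congr rfl
    intro j _
    rw [map_smul, Finsupp.smul_apply, smul_eq_mul]
    rfl
  let ρ : M →ₗ[R] (z.support → R) := (Matrix.vecMulLinear C⁻¹).comp q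
  have hρι : ∀ t, ρ (ι t) = t := by
    intro t
    show Matrix.vecMul (q (ι t)) C⁻¹ = t
    rw [hqι, Matrix.vecMul_vecMul, Matrix.mul_nonsing_inv _ hC, Matrix.vecMul_one]
  have hinj : Function.Injective ι := Function.LeftInverse.injective hρι
  refine ⟨LinearMap.range ι, LinearMap.ker ρ, isCompl_range_ker ι ρ hρι, ?_, ?_, ?_⟩
  · refine ⟨fun j => z (j : M), ?_⟩
    show Fintype.linearCombination R u (fun j => z (j : M)) = x
    rw [Fintype.linearCombination_apply]
    have h1 : x = π' z := by rw [← hzx, hπi]
    conv_rhs => rw [h1, ← Finsupp.sum_single z, Finsupp.sum, map_sum]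
    rw [← Finset.sum_coe_sort z.support]
    apply Finset.sum_congr rfl
    intro j _
    rw [← Finsupp.smul_single_one, map_smul]
  · exact Module.Free.of_equiv (LinearEquiv.ofInjective ι hinj)
  · exact Module.Finite.equiv (LinearEquiv.ofInjective ι hinj)

end Summand

section Countable

variable {R : Type u} [CommRing R] [IsLocalRing R] {M : Type v} [AddCommGroup M] [Module R M]

theorem projective_of_isCompl [Module.Projective R M] (p q : Submodule R M) (h : IsCompl p q) :
    Module.Projective R p :=
  Module.Projective.of_split p.subtype (p.projectionOnto q h)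
    (Submodule.projectionOnto_comp_subtype h)

theorem exists_extend [Module.Projective R M] (S : Set M) (hS : LinearIndepOn R id S)
    (N : Submodule R M) (hN : IsCompl (Submodule.span R S) N) (x : M) :
    ∃ S' : Set M, S ⊆ S' ∧ LinearIndepOn R id S' ∧
      (∃ N' : Submodule R M, IsCompl (Submodule.span R S') N') ∧ x ∈ Submodule.span R S' := by
  have : Module.Projective R N := projective_of_isCompl N _ hN.symm
  let b : N := N.projectionOnto _ hN.symm x
  have hxb : x - (b : M) ∈ Submodule.span R S := by
    rw [← Submodule.projectionOnto_apply_eq_zero_iff hN.symm, map_sub,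
      Submodule.projectionOnto_apply_left, sub_self]
  obtain ⟨F, M'', hFM, hbF, hfree, hfin⟩ := exists_free_summand (R := R) b
  let bF := Module.Free.chooseBasis R F
  let f : F →ₗ[R] M := N.subtype.comp F.subtype
  have hf : Function.Injective f := fun a a' h => Subtype.ext (Subtype.ext h)
  let T : Set M := Set.range (f ∘ bF)
  have hT : LinearIndepOn R id T :=
    (bF.linearIndependent.map' f (LinearMap.ker_eq_bot.mpr hf)).linearIndepOn_id
  have hspanT : Submodule.span R T = F.map N.subtype := by
    show Submodule.span R (Set.range (f ∘ bF)) = _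
    rw [Set.range_comp, ← Submodule.map_span, bF.span_eq, Submodule.map_top,
      LinearMap.range_comp, Submodule.range_subtype]
  have hFN : F.map N.subtype ≤ N := by
    rintro _ ⟨a, _, rfl⟩
    exact a.2
  have hsup : F.map N.subtype ⊔ M''.map N.subtype = N := by
    rw [← Submodule.map_sup, hFM.sup_eq_top, Submodule.map_top, Submodule.range_subtype]
  have hdisj : Disjoint (F.map N.subtype) (M''.map N.subtype) := by
    rw [Submodule.disjoint_def]
    rintro _ ⟨a, ha, rfl⟩ ⟨a', ha', h⟩
    have : a' = a := Subtype.ext h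
    subst this
    have h0 : a' = 0 := by
      have := hFM.disjoint
      rw [Submodule.disjoint_def] at this
      exact this a' ha ha'
    rw [h0, map_zero]
  refine ⟨S ∪ T, Set.subset_union_left, ?_, ⟨M''.map N.subtype, ?_⟩, ?_⟩
  · apply hS.id_union hT
    rw [hspanT]
    exact hN.disjoint.mono_right hFN
  · rw [Submodule.span_union, hspanT]
    constructor
    · apply Disjoint.disjoint_sup_left_of_disjoint_sup_right hdisj
      rw [hsup]
      exact hN.disjoint
    · rw [codisjoint_iff, sup_assoc, hsup]
      exact hN.sup_eq_top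
  · rw [Submodule.span_union, hspanT]
    have : x = (x - (b : M)) + (b : M) := by abel
    rw [this]
    exact Submodule.add_mem_sup hxb ⟨b, hbF, rfl⟩

/-- A countably generated projective module over a local ring is free. -/
theorem free_of_countable [Module.Projective R M]
    (hM : ∃ s : Set M, s.Countable ∧ Submodule.span R s = ⊤) : Module.Free R M := by
  obtain ⟨s, hs, hspan⟩ := hM
  obtain ⟨f, hf⟩ := (hs.insert (0 : M)).exists_eq_range (Set.insert_nonempty _ _)
  let St := {S : Set M // LinearIndepOn R id S ∧ ∃ N, IsCompl (Submodule.span R S) N}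
  have key : ∀ (n : ℕ) (S : St), ∃ S' : St, S.1 ⊆ S'.1 ∧ f n ∈ Submodule.span R S'.1 := by
    intro n S
    obtain ⟨N, hN⟩ := S.2.2
    obtain ⟨S', h1, h2, h3, h4⟩ := exists_extend S.1 S.2.1 N hN (f n)
    exact ⟨⟨S', h2, h3⟩, h1, h4⟩
  let init : St := ⟨∅, linearIndepOn_empty _ _, ⊤, by
    rw [Submodule.span_empty]
    exact isCompl_bot_top⟩
  let seq : ℕ → St := fun n => Nat.rec init (fun n S => (key n S).choose) n
  have hseq : ∀ n, seq (n + 1) = (key n (seq n)).choose := fun n => rfl
  have hsub : ∀ n, (seq n).1 ⊆ (seq (n + 1)).1 := by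
    intro n
    rw [hseq]
    exact (key n (seq n)).choose_spec.1
  have hmem : ∀ n, f n ∈ Submodule.span R (seq (n + 1)).1 := by
    intro n
    rw [hseq]
    exact (key n (seq n)).choose_spec.2
  have hmono : Monotone (fun n => (seq n).1) := monotone_nat_of_le_succ hsub
  have hdir : Directed (· ⊆ ·) (fun n => (seq n).1) := hmono.directed_le
  have hli : LinearIndepOn R id (⋃ n, (seq n).1) :=
    linearIndepOn_iUnion_of_directed hdir (fun n => (seq n).2.1)
  have htop : ⊤ ≤ Submodule.span R (Set.range (fun y : (⋃ n, (seq n).1) => (y : M))) := by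
    rw [Subtype.range_coe, ← hspan]
    apply Submodule.span_le.mpr
    intro y hy
    have hy' : y ∈ insert (0 : M) s := Set.mem_insert_of_mem _ hy
    rw [hf] at hy'
    obtain ⟨n, rfl⟩ := hy'
    exact Submodule.span_mono (Set.subset_iUnion (fun n => (seq n).1) (n + 1)) (hmem n)
  exact Module.Free.of_basis (Module.Basis.mk hli htop)

end Countable

end Groth.Agent.Lib.Helper26.KapLocal
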