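import Mathlib
import Groth.Agent.Lib.Helper54.Kaplansky
import Groth.Agent.Lib.Helper26.KapLocal

set_option autoImplicit false

namespace Groth.Agent.Lib.Helper26.KapLocal

universe u v

section Final

open Groth.Agent.Lib.Helper54.Kap

theorem free_of_isInternal {R : Type u} [CommRing R] [IsLocalRing R] {M : Type u}
    [AddCommGroup M] [Module R M] [Module.Projective R M] {κ : Type u} [DecidableEq κ]
    (L : κ → Submodule R M) (hL : DirectSum.IsInternal L)
    (hLc : ∀ k, CAlg.IsCountablyGenerated R (L k)) : Module.Free R M := by
  obtain ⟨hind, hsup⟩ := (DirectSum.isInternal_submodule_iff_iSupIndep_and_iSup_eq_top L).1 hL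
  have hfree : ∀ k, Module.Free R (L k) := by
    intro k
    have hcompl : IsCompl (L k) (⨆ j ≠ k, L j) := by
      refine ⟨hind k, ?_⟩
      rw [codisjoint_iff, eq_top_iff, ← hsup]
      apply iSup_le
      intro j
      by_cases hj : j = k
      · rw [hj]
        exact le_sup_left
      · exact le_sup_of_le_right (le_iSup₂ (f := fun j (_ : j ≠ k) => L j) j hj)
    have : Module.Projective R (L k) := projective_of_isCompl _ _ hcompl
    exact free_of_countable (hLc k)
  exact Module.Free.of_basis (hL.collectedBasis (fun k => Module.Free.chooseBasis R (L k)))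

theorem isInternal_single (R : Type u) [CommRing R] (P : Type u) [DecidableEq P] :
    DirectSum.IsInternal
      (fun x : P => Submodule.span R {(Finsupp.single x (1 : R) : P →₀ R)}) := by
  have hv : LinearIndependent R (fun x : P => (Finsupp.single x (1 : R) : P →₀ R)) :=
    (Finsupp.basisSingleOne (R := R) (ι := P)).linearIndependent
  have hvspan : Submodule.span R (Set.range (fun x : P => (Finsupp.single x (1 : R) : P →₀ R)))
      = ⊤ := (Finsupp.basisSingleOne (R := R) (ι := P)).span_eq
  rw [DirectSum.isInternal_submodule_iff_iSupIndep_and_iSup_eq_top]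
  refine ⟨hv.iSupIndep_span_singleton, ?_⟩
  rw [← Submodule.span_range_eq_iSup, hvspan]

theorem free_of_isCompl_of_isInternal {R : Type u} [CommRing R] [IsLocalRing R] {M : Type u}
    [AddCommGroup M] [Module R M] [Module.Projective R M] {ι : Type u} [DecidableEq ι]
    (N : ι → Submodule R M) (hN : DirectSum.IsInternal N)
    (hc : ∀ i, CAlg.IsCountablyGenerated R (N i)) (P Q : Submodule R M) (hPQ : IsCompl P Q) :
    Module.Free R P := by
  have hN' := (DirectSum.isInternal_submodule_iff_iSupIndep_and_iSup_eq_top N).1 hN
  obtain ⟨κ, L, hL, hLc⟩ := kaplansky N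
    ((@DirectSum.isInternal_submodule_iff_iSupIndep_and_iSup_eq_top R _ ι
      (fun a b => Classical.propDecidable (a = b)) M _ _ N).2 hN')
    hc P Q hPQ
  have : Module.Projective R P := projective_of_isCompl _ _ hPQ
  classical
  exact free_of_isInternal L hL hLc

theorem free_of_projective (R : Type u) [CommRing R] [IsLocalRing R] (P : Type u)
    [AddCommGroup P] [Module R P] [Module.Projective R P] : Module.Free R P := by
  classical
  obtain ⟨s, hs⟩ := Module.projective_def'.mp (inferInstance : Module.Projective R P)
  have hs' : ∀ m, Finsupp.linearCombination R id (s m) = m := fun m => LinearMap.congr_fun hs m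
  have hc : ∀ x : P, CAlg.IsCountablyGenerated R
      (Submodule.span R {(Finsupp.single x (1 : R) : P →₀ R)}) := fun x =>
    isCountablyGenerated_of_CG _ ⟨{Finsupp.single x (1 : R)}, Set.countable_singleton _, rfl⟩
  have hPQ : IsCompl (LinearMap.range s) (LinearMap.ker (Finsupp.linearCombination R id)) :=
    isCompl_range_ker s _ hs'
  have hsinj : Function.Injective s := Function.LeftInverse.injective hs'
  have : Module.Free R (LinearMap.range s) :=
    free_of_isCompl_of_isInternal _ (isInternal_single R P) hc _ _ hPQ
  exact Module.Free.of_equiv (LinearEquiv.ofInjective s hsinj).symm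

end Final

end Groth.Agent.Lib.Helper26.KapLocal
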