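import Mathlib

set_option autoImplicit false

namespace Groth.Agent.Lib.Helper26.Lat

open Module

section General

variable {A : Type*} [CommRing A] {V : Type*} [AddCommGroup V] [Module A V]

/-- relative length `ℓ(M / (M ∩ N))` -/
noncomputable def rl (M N : Submodule A V) : ℕ∞ :=
  Module.length A (↥M ⧸ N.submoduleOf M)

theorem rl_inf_right (M N : Submodule A V) : rl M (M ⊓ N) = rl M N := by
  unfold rl
  have : (M ⊓ N).submoduleOf M = N.submoduleOf M := by
    ext x
    simp [Submodule.submoduleOf]
  rw [this]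

theorem rl_inf_left (M N : Submodule A V) : rl M (N ⊓ M) = rl M N := by
  rw [inf_comm, rl_inf_right]

theorem rl_self (M : Submodule A V) : rl M M = 0 := by
  unfold rl
  rw [Module.length_eq_zero_iff, Submodule.Quotient.subsingleton_iff]
  ext x
  simp [Submodule.submoduleOf]

theorem rl_of_le {M N : Submodule A V} (h : M ≤ N) : rl M N = 0 := by
  rw [← rl_inf_right, inf_eq_left.mpr h, rl_self]

/-- additivity of relative length in a chain `N ≤ P ≤ M` -/
theorem rl_add {N P M : Submodule A V} (hNP : N ≤ P) (hPM : P ≤ M) :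
    rl M N = rl M P + rl P N := by
  unfold rl
  have h1 : N.submoduleOf P ≤ (N.submoduleOf M).comap (Submodule.inclusion hPM) := by
    intro x hx
    exact hx
  have h2 : N.submoduleOf M ≤ (P.submoduleOf M).comap LinearMap.id := by
    intro x hx
    exact hNP hx
  let α : (↥P ⧸ N.submoduleOf P) →ₗ[A] (↥M ⧸ N.submoduleOf M) :=
    Submodule.mapQ _ _ (Submodule.inclusion hPM) h1
  let β : (↥M ⧸ N.submoduleOf M) →ₗ[A] (↥M ⧸ P.submoduleOf M) :=
    Submodule.mapQ _ _ LinearMap.id h2
  have hα : Function.Injective α := by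
    rw [← LinearMap.ker_eq_bot, LinearMap.ker_eq_bot']
    intro v hv
    obtain ⟨v, rfl⟩ := Submodule.Quotient.mk_surjective _ v
    have : Submodule.inclusion hPM v ∈ N.submoduleOf M := by
      simpa [α, Submodule.mapQ_apply, Submodule.Quotient.mk_eq_zero] using hv
    rw [Submodule.Quotient.mk_eq_zero]
    exact this
  have hβ : Function.Surjective β := by
    intro v
    obtain ⟨v, rfl⟩ := Submodule.Quotient.mk_surjective _ v
    exact ⟨Submodule.Quotient.mk v, rfl⟩
  have hex : Function.Exact α β := by
    intro v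
    obtain ⟨v, rfl⟩ := Submodule.Quotient.mk_surjective _ v
    constructor
    · intro hv
      have : v ∈ P.submoduleOf M := by
        simpa [β, Submodule.mapQ_apply, Submodule.Quotient.mk_eq_zero] using hv
      have hvP : (v : V) ∈ P := this
      exact ⟨Submodule.Quotient.mk ⟨v, hvP⟩, rfl⟩
    · rintro ⟨u, hu⟩
      obtain ⟨u, rfl⟩ := Submodule.Quotient.mk_surjective _ u
      rw [← hu]
      simp only [α, β, Submodule.mapQ_apply, LinearMap.id_coe, id_eq]
      rw [Submodule.Quotient.mk_eq_zero]
      exact u.2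
  rw [Module.length_eq_add_of_exact α β hα hβ hex, add_comm]

/-- transport of relative length along an injective linear map -/
theorem rl_map {W : Type*} [AddCommGroup W] [Module A W] (ψ : V →ₗ[A] W)
    (hψ : Function.Injective ψ) (M N : Submodule A V) :
    rl (M.map ψ) (N.map ψ) = rl M N := by
  unfold rl
  symm
  refine (Submodule.Quotient.equiv _ _ (Submodule.equivMapOfInjective ψ hψ M) ?_).length_eq
  ext ⟨y, hy⟩
  simp only [Submodule.mem_map, Submodule.submoduleOf, Submodule.mem_comap, Submodule.subtype_apply]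
  constructor
  · rintro ⟨⟨x, hxM⟩, hxN, hxy⟩
    refine ⟨x, hxN, ?_⟩
    have := congrArg Subtype.val hxy
    simpa using this
  · rintro ⟨x, hxN, hxy⟩
    obtain ⟨x', hx'M, hx'y⟩ := hy
    have hxx' : x = x' := hψ (hxy.trans hx'y.symm)
    subst hxx'
    refine ⟨⟨x, hx'M⟩, hxN, ?_⟩
    apply Subtype.ext
    simpa using hxy

end General

end Groth.Agent.Lib.Helper26.Lat
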