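import Mathlib
import Groth.Agent.Lib.Helper26.Lat1

set_option autoImplicit false

namespace Groth.Agent.Lib.Helper26.Lat

open Module

section Comm

variable {A : Type*} [CommRing A] [IsDomain A]
variable {K : Type*} [Field K] [Algebra A K] [IsFractionRing A K]
variable {V : Type*} [AddCommGroup V] [Module K V] [Module A V] [IsScalarTower A K V]

theorem exists_smul_mem_of_mem_span (N : Submodule A V) (x : V)
    (hx : x ∈ Submodule.span K (N : Set V)) : ∃ a : A, a ≠ 0 ∧ a • x ∈ N := by
  induction hx using Submodule.span_induction with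
  | mem x hx => exact ⟨1, one_ne_zero, by simpa using hx⟩
  | zero => exact ⟨1, one_ne_zero, by simp⟩
  | add x y _ _ hx hy =>
    obtain ⟨a, ha, hax⟩ := hx
    obtain ⟨b, hb, hby⟩ := hy
    refine ⟨a * b, mul_ne_zero ha hb, ?_⟩
    rw [smul_add]
    refine N.add_mem ?_ ?_
    · rw [mul_comm, mul_smul]; exact N.smul_mem b hax
    · rw [mul_smul]; exact N.smul_mem a hby
  | smul k x _ hx =>
    obtain ⟨a, ha, hax⟩ := hx
    obtain ⟨c, d, rfl⟩ := IsLocalization.exists_mk'_eq (nonZeroDivisors A) k
    refine ⟨d * a, mul_ne_zero (nonZeroDivisors.ne_zero d.2) ha, ?_⟩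
    have : ((d : A) * a) • (IsLocalization.mk' K c d • x) = c • (a • x) := by
      rw [← algebraMap_smul K ((d : A) * a), smul_smul, map_mul, mul_right_comm,
        IsLocalization.mk'_spec', ← map_mul, algebraMap_smul, mul_smul]
    rw [this]
    exact N.smul_mem c hax

theorem exists_smul_le (M N : Submodule A V) (hM : M.FG)
    (hN : Submodule.span K (N : Set V) = ⊤) : ∃ a : A, a ≠ 0 ∧ ∀ x ∈ M, a • x ∈ N := by
  classical
  obtain ⟨S, rfl⟩ := hM
  have key : ∃ a : A, a ≠ 0 ∧ ∀ s ∈ S, a • s ∈ N := by
    induction S using Finset.induction_on with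
    | empty => exact ⟨1, one_ne_zero, by simp⟩
    | insert s S _ ih =>
      obtain ⟨a, ha, haS⟩ := ih
      obtain ⟨b, hb, hbs⟩ := exists_smul_mem_of_mem_span N s (by rw [hN]; trivial)
      refine ⟨a * b, mul_ne_zero ha hb, ?_⟩
      intro t ht
      rcases Finset.mem_insert.mp ht with rfl | ht
      · rw [mul_smul]; exact N.smul_mem a hbs
      · rw [mul_comm, mul_smul]; exact N.smul_mem b (haS t ht)
  obtain ⟨a, ha, haS⟩ := key
  refine ⟨a, ha, ?_⟩
  intro x hx
  induction hx using Submodule.span_induction with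
  | mem x hx => exact haS x hx
  | zero => simp
  | add x y _ _ hx hy => rw [smul_add]; exact N.add_mem hx hy
  | smul r x _ hx => rw [smul_comm]; exact N.smul_mem r hx

variable [IsNoetherianRing A] [Ring.KrullDimLE 1 A]

theorem rl_lt_top_of_smul_le (M N : Submodule A V) (hM : M.FG) (a : A) (ha : a ≠ 0)
    (h : ∀ x ∈ M, a • x ∈ N) : rl M N < ⊤ := by
  classical
  unfold rl
  have : Module.Finite A ↥M := Module.Finite.iff_fg.mpr hM
  obtain ⟨n, f, hf⟩ := Module.Finite.exists_fin' A ↥M
  let g : (Fin n → A) →ₗ[A] (↥M ⧸ N.submoduleOf M) := (N.submoduleOf M).mkQ ∘ₗ f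
  have hg : Function.Surjective g := (Submodule.mkQ_surjective _).comp hf
  let P : Submodule A (Fin n → A) := Submodule.pi Set.univ (fun _ : Fin n => Ideal.span {a})
  have hP : P ≤ LinearMap.ker g := by
    intro c hc
    have hc' : ∀ i, ∃ c' : A, a * c' = c i := by
      intro i
      have := hc i (Set.mem_univ i)
      exact Ideal.mem_span_singleton'.mp (by simpa [mul_comm] using this) |>.imp fun c' h => by
        rw [mul_comm]; exact h
    choose c' hc' using hc'
    have : c = a • c' := by
      funext i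
      simp [hc' i]
    rw [LinearMap.mem_ker, this, map_smul]
    show a • (Submodule.Quotient.mk (f c') : ↥M ⧸ N.submoduleOf M) = 0
    rw [← Submodule.Quotient.mk_smul, Submodule.Quotient.mk_eq_zero]
    exact h _ (f c').2
  have hsurj : Function.Surjective (P.liftQ g hP) := by
    intro y
    obtain ⟨c, rfl⟩ := hg y
    exact ⟨Submodule.Quotient.mk c, rfl⟩
  refine lt_of_le_of_lt (Module.length_le_of_surjective _ hsurj) ?_
  rw [(Submodule.quotientPi (fun _ : Fin n => (Ideal.span {a} : Submodule A A))).length_eq,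
    Module.length_pi_of_fintype, ENat.sum_lt_top]
  intro i _
  exact Ring.ord_lt_top (mem_nonZeroDivisors_of_ne_zero ha)

end Comm

end Groth.Agent.Lib.Helper26.Lat
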