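import Mathlib
import Groth.Agent.Lib.Helper26.Lat2

set_option autoImplicit false

namespace Groth.Agent.Lib.Helper26.Lat

open Module

section Dist

variable {A : Type*} [CommRing A] {V : Type*} [AddCommGroup V] [Module A V]

/-- the distance between two submodules (meaningful for commensurable ones) -/
noncomputable def dist (M M' : Submodule A V) : ℤ :=
  ((rl M (M ⊓ M')).toNat : ℤ) - ((rl M' (M ⊓ M')).toNat : ℤ)

theorem dist_eq_of_le (M M' N : Submodule A V) (hN : N ≤ M ⊓ M') (h1 : rl M N < ⊤)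
    (h2 : rl M' N < ⊤) : dist M M' = ((rl M N).toNat : ℤ) - ((rl M' N).toNat : ℤ) := by
  unfold dist
  have e1 := rl_add hN (inf_le_left : M ⊓ M' ≤ M)
  have e2 := rl_add hN (inf_le_right : M ⊓ M' ≤ M')
  rw [e1] at h1
  rw [e2] at h2
  have f1 : rl M (M ⊓ M') ≠ ⊤ := fun h => by rw [h] at h1; simp at h1
  have f2 : rl (M ⊓ M') N ≠ ⊤ := fun h => by rw [h] at h1; simp at h1
  have f3 : rl M' (M ⊓ M') ≠ ⊤ := fun h => by rw [h] at h2; simp at h2
  rw [e1, e2, ENat.toNat_add f1 f2, ENat.toNat_add f3 f2]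
  push_cast
  ring

theorem dist_comm (M M' : Submodule A V) : dist M M' = - dist M' M := by
  unfold dist
  rw [inf_comm M' M]
  ring

theorem dist_triangle (M₁ M₂ M₃ : Submodule A V) (N : Submodule A V)
    (hN1 : N ≤ M₁) (hN2 : N ≤ M₂) (hN3 : N ≤ M₃)
    (h1 : rl M₁ N < ⊤) (h2 : rl M₂ N < ⊤) (h3 : rl M₃ N < ⊤) :
    dist M₁ M₃ = dist M₁ M₂ + dist M₂ M₃ := by
  rw [dist_eq_of_le M₁ M₃ N (le_inf hN1 hN3) h1 h3, dist_eq_of_le M₁ M₂ N (le_inf hN1 hN2) h1 h2,
    dist_eq_of_le M₂ M₃ N (le_inf hN2 hN3) h2 h3]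
  ring

theorem dist_map {W : Type*} [AddCommGroup W] [Module A W] (ψ : V →ₗ[A] W)
    (hψ : Function.Injective ψ) (M M' : Submodule A V) :
    dist (M.map ψ) (M'.map ψ) = dist M M' := by
  unfold dist
  rw [← Submodule.map_inf ψ hψ, rl_map ψ hψ, rl_map ψ hψ]

end Dist

section Lattice

variable {A : Type*} [CommRing A] [IsDomain A] [IsNoetherianRing A] [Ring.KrullDimLE 1 A]
variable {K : Type*} [Field K] [Algebra A K] [IsFractionRing A K]
variable {V : Type*} [AddCommGroup V] [Module K V] [Module A V] [IsScalarTower A K V]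

theorem rl_lt_top (M N : Submodule A V) (hM : M.FG)
    (hN : Submodule.span K (N : Set V) = ⊤) : rl M N < ⊤ := by
  obtain ⟨a, ha, h⟩ := exists_smul_le (K := K) M N hM hN
  exact rl_lt_top_of_smul_le M N hM a ha h

theorem rl_inf3_lt_top (M N₁ N₂ N₃ : Submodule A V) (hM : M.FG)
    (h₁ : Submodule.span K (N₁ : Set V) = ⊤) (h₂ : Submodule.span K (N₂ : Set V) = ⊤)
    (h₃ : Submodule.span K (N₃ : Set V) = ⊤) : rl M (N₁ ⊓ N₂ ⊓ N₃) < ⊤ := by
  obtain ⟨a, ha, h1⟩ := exists_smul_le (K := K) M N₁ hM h₁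
  obtain ⟨b, hb, h2⟩ := exists_smul_le (K := K) M N₂ hM h₂
  obtain ⟨c, hc, h3⟩ := exists_smul_le (K := K) M N₃ hM h₃
  refine rl_lt_top_of_smul_le M _ hM (a * b * c) (mul_ne_zero (mul_ne_zero ha hb) hc) ?_
  intro x hx
  refine ⟨⟨?_, ?_⟩, ?_⟩
  · have : (a * b * c) • x = (b * c) • (a • x) := by rw [← mul_smul]; ring_nf
    rw [this]; exact N₁.smul_mem _ (h1 x hx)
  · have : (a * b * c) • x = (a * c) • (b • x) := by rw [← mul_smul]; ring_nf
    rw [this]; exact N₂.smul_mem _ (h2 x hx)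
  · have : (a * b * c) • x = (a * b) • (c • x) := by rw [← mul_smul]
    rw [this]; exact N₃.smul_mem _ (h3 x hx)

/-- additivity of the distance for lattices -/
theorem dist_add (M₁ M₂ M₃ : Submodule A V) [Submodule.IsLattice K M₁]
    [Submodule.IsLattice K M₂] [Submodule.IsLattice K M₃] :
    dist M₁ M₃ = dist M₁ M₂ + dist M₂ M₃ := by
  have s1 := Submodule.IsLattice.span_eq_top (A := K) (M := M₁)
  have s2 := Submodule.IsLattice.span_eq_top (A := K) (M := M₂)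
  have s3 := Submodule.IsLattice.span_eq_top (A := K) (M := M₃)
  have f1 := Submodule.IsLattice.fg (A := K) (M := M₁)
  have f2 := Submodule.IsLattice.fg (A := K) (M := M₂)
  have f3 := Submodule.IsLattice.fg (A := K) (M := M₃)
  refine dist_triangle M₁ M₂ M₃ (M₁ ⊓ M₂ ⊓ M₃) (inf_le_left.trans inf_le_left)
    (inf_le_left.trans inf_le_right) inf_le_right ?_ ?_ ?_
  · exact rl_inf3_lt_top (K := K) M₁ M₁ M₂ M₃ f1 s1 s2 s3
  · exact rl_inf3_lt_top (K := K) M₂ M₁ M₂ M₃ f2 s1 s2 s3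
  · exact rl_inf3_lt_top (K := K) M₃ M₁ M₂ M₃ f3 s1 s2 s3

end Lattice

end Groth.Agent.Lib.Helper26.Lat
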