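import Mathlib
import Groth.Prelude.Def_Tame
import Groth.Agent.Lib.Helper26.Lat3

set_option autoImplicit false

namespace Groth.Agent.Lib.Helper26.Lat

open Module

section Ord

universe u v
variable {A : Type u} [CommRing A] [IsDomain A] [IsNoetherianRing A] [Ring.KrullDimLE 1 A]
variable {K : Type v} [Field K] [Algebra A K] [IsFractionRing A K]

theorem ordFrac_div (x y : A) (hx : x ≠ 0) (hy : y ≠ 0) :
    CycAlg.ordFrac A K (algebraMap A K x / algebraMap A K y) =
      ((Ring.ord A x).toNat : ℤ) - ((Ring.ord A y).toNat : ℤ) := by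
  have hx' : x ∈ nonZeroDivisors A := mem_nonZeroDivisors_of_ne_zero hx
  have hy' : y ∈ nonZeroDivisors A := mem_nonZeroDivisors_of_ne_zero hy
  have hnx : Ring.ord A x = ((Ring.ord A x).toNat : ℕ∞) := (ENat.natCast_toNat (Ring.ord_ne_top hx')).symm
  have hny : Ring.ord A y = ((Ring.ord A y).toNat : ℕ∞) := (ENat.natCast_toNat (Ring.ord_ne_top hy')).symm
  unfold CycAlg.ordFrac
  rw [dif_pos ⟨inferInstance, inferInstance, inferInstance, inferInstance⟩]
  rw [map_div₀, Ring.ordFrac_eq_ord A hx, Ring.ordFrac_eq_ord A hy,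
    Ring.ordMonoidWithZeroHom_eq_coe A hx' hnx, Ring.ordMonoidWithZeroHom_eq_coe A hy' hny]
  rw [← WithZero.coe_div, WithZero.recZeroCoe_coe]
  simp

end Ord

end Groth.Agent.Lib.Helper26.Lat
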