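import Mathlib
import Groth.Agent.Lib.Helper26.CokDet10
import Groth.Agent.Lib.Helper26.Lat4

set_option autoImplicit false

namespace Groth.Agent.Lib.Helper26.Lat

open Module

section Free

universe u
variable {A : Type u} [CommRing A] [IsDomain A]
variable {K : Type u} [Field K] [Algebra A K] [IsFractionRing A K]
variable {V : Type u} [AddCommGroup V] [Module K V] [Module A V] [IsScalarTower A K V]
variable {n : ℕ} (b : Basis (Fin n) K V)

theorem rl_top {W : Type*} [AddCommGroup W] [Module A W] (P : Submodule A W) :
    rl ⊤ P = Module.length A (W ⧸ P) := by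
  unfold rl
  refine (Submodule.Quotient.equiv _ _ (Submodule.topEquiv) ?_).length_eq
  ext x
  simp [Submodule.submoduleOf]

/-- the `A`-linear parametrization of the free lattice spanned by a `K`-basis -/
noncomputable def frame : (Fin n → A) →ₗ[A] V := Fintype.linearCombination A b

theorem frame_injective : Function.Injective (frame (A := A) b) := by
  have h1 : LinearIndependent A b :=
    b.linearIndependent.restrict_scalars' (R := A)
  exact linearIndependent_iff_injective_fintypeLinearCombination.mp h1

theorem range_frame : LinearMap.range (frame (A := A) b) = Submodule.span A (Set.range b) :=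
  Fintype.range_linearCombination A b

theorem frame_apply (c : Fin n → A) : frame b c = ∑ j, c j • b j :=
  Fintype.linearCombination_apply A b c

theorem comp_frame (ψ : V →ₗ[A] V) (N : Matrix (Fin n) (Fin n) A)
    (h : ∀ j, ψ (b j) = ∑ i, N i j • b i) :
    ψ ∘ₗ frame b = frame b ∘ₗ N.mulVecLin := by
  apply LinearMap.ext
  intro c
  simp only [LinearMap.comp_apply, frame_apply, map_sum, map_smul, h, Matrix.mulVecLin_apply,
    Matrix.mulVec, dotProduct, Finset.smul_sum, Finset.sum_smul, smul_smul]
  rw [Finset.sum_comm]
  refine Finset.sum_congr rfl fun i _ => Finset.sum_congr rfl fun j _ => ?_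
  rw [mul_comm]

theorem map_le_of_matrix (ψ : V →ₗ[A] V) (N : Matrix (Fin n) (Fin n) A)
    (h : ∀ j, ψ (b j) = ∑ i, N i j • b i) :
    (Submodule.span A (Set.range b)).map ψ ≤ Submodule.span A (Set.range b) := by
  rw [Submodule.map_span_le]
  rintro _ ⟨j, rfl⟩
  rw [h]
  exact Submodule.sum_mem _ fun i _ => Submodule.smul_mem _ _ (Submodule.subset_span ⟨i, rfl⟩)

theorem rl_free (ψ : V →ₗ[A] V) (N : Matrix (Fin n) (Fin n) A)
    (h : ∀ j, ψ (b j) = ∑ i, N i j • b i) :
    rl (Submodule.span A (Set.range b)) ((Submodule.span A (Set.range b)).map ψ) =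
      CokDet.cokLen N := by
  have e1 : Submodule.span A (Set.range b) = (⊤ : Submodule A (Fin n → A)).map (frame b) := by
    rw [Submodule.map_top, range_frame]
  have e2 : (Submodule.span A (Set.range b)).map ψ =
      (LinearMap.range N.mulVecLin).map (frame b) := by
    rw [← range_frame, ← LinearMap.range_comp, comp_frame b ψ N h, LinearMap.range_comp]
  rw [e2, e1, rl_map _ (frame_injective b), rl_top]
  rfl

end Free

end Groth.Agent.Lib.Helper26.Lat
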