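import Mathlib
import Groth.Agent.Lib.Helper26.Lat5

set_option autoImplicit false

namespace Groth.Agent.Lib.Helper26.Lat

open Module

section Free

universe u
variable {A : Type u} [CommRing A] [IsDomain A] [IsNoetherianRing A] [Ring.KrullDimLE 1 A]
variable {K : Type u} [Field K] [Algebra A K] [IsFractionRing A K]
variable {V : Type u} [AddCommGroup V] [Module K V] [Module A V] [IsScalarTower A K V]

theorem isLattice_map (M : Submodule A V) [Submodule.IsLattice K M] (φ : V ≃ₗ[K] V) :
    Submodule.IsLattice K (M.map (φ.toLinearMap.restrictScalars A)) where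
  fg := (Submodule.IsLattice.fg (A := K) (M := M)).map _
  span_eq_top := by
    have h := Submodule.IsLattice.span_eq_top (A := K) (M := M)
    have : ((M.map (φ.toLinearMap.restrictScalars A) : Submodule A V) : Set V) =
        φ.toLinearMap '' (M : Set V) := by
      ext x; simp
    rw [this, Submodule.span_image, h, Submodule.map_top, LinearMap.range_eq_top]
    exact φ.surjective

theorem dist_free {n : ℕ} (b : Basis (Fin n) K V) (φ : V ≃ₗ[K] V) :
    dist (Submodule.span A (Set.range b))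
        ((Submodule.span A (Set.range b)).map (φ.toLinearMap.restrictScalars A)) =
      CycAlg.ordFrac A K (LinearMap.det φ.toLinearMap) := by
  classical
  set F := Submodule.span A (Set.range b) with hF
  set φ' := φ.toLinearMap.restrictScalars A with hφ'
  have hφ'inj : Function.Injective φ' := φ.injective
  set Mφ := LinearMap.toMatrix b b φ.toLinearMap with hMφ
  -- clear denominators
  obtain ⟨d, hd⟩ := IsLocalization.exist_integer_multiples_of_finite (nonZeroDivisors A)
    (fun ij : Fin n × Fin n => Mφ ij.1 ij.2)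
  choose N₁' hN₁' using hd
  let a : A := d
  have ha : a ≠ 0 := nonZeroDivisors.ne_zero d.2
  let N₁ : Matrix (Fin n) (Fin n) A := Matrix.of fun i j => N₁' (i, j)
  have hN₁ : ∀ i j, algebraMap A K (N₁ i j) = algebraMap A K a * Mφ i j := by
    intro i j
    have := hN₁' (i, j)
    simp only [Matrix.of_apply, N₁]
    rw [this, Algebra.smul_def]
  let N₂ : Matrix (Fin n) (Fin n) A := Matrix.diagonal fun _ => a
  let ψ₂ : V →ₗ[A] V := a • LinearMap.id
  let ψ₁ : V →ₗ[A] V := φ' ∘ₗ ψ₂
  have hψ₂ : ∀ j, ψ₂ (b j) = ∑ i, N₂ i j • b i := by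
    intro j
    simp only [ψ₂, N₂, LinearMap.smul_apply, LinearMap.id_apply, Matrix.diagonal_apply]
    rw [Finset.sum_eq_single j]
    · simp
    · intro i _ hij; simp [hij]
    · simp
  have hψ₁ : ∀ j, ψ₁ (b j) = ∑ i, N₁ i j • b i := by
    intro j
    simp only [ψ₁, ψ₂, LinearMap.comp_apply, LinearMap.smul_apply, LinearMap.id_apply, map_smul]
    have h1 : φ' (b j) = ∑ i, Mφ i j • b i := by
      have := (b.sum_repr (φ (b j))).symm
      simp only [hMφ, LinearMap.toMatrix_apply]
      exact this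
    rw [h1, Finset.smul_sum]
    refine Finset.sum_congr rfl fun i _ => ?_
    rw [← algebraMap_smul K a, smul_smul, ← hN₁, algebraMap_smul]
  -- determinants
  have hdetφ : LinearMap.det φ.toLinearMap ≠ 0 := (LinearEquiv.isUnit_det' φ).ne_zero
  have hdetN₁ : algebraMap A K N₁.det = algebraMap A K a ^ n * LinearMap.det φ.toLinearMap := by
    have h1 : N₁.map (algebraMap A K) = algebraMap A K a • Mφ := by
      ext i j
      simp [hN₁]
    have h2 := RingHom.map_det (algebraMap A K) N₁
    rw [h2, RingHom.mapMatrix_apply, h1, Matrix.det_smul, Fintype.card_fin,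
      LinearMap.det_toMatrix b]
  have hane : algebraMap A K a ≠ 0 := by
    rw [Ne, map_eq_zero_iff _ (IsFractionRing.injective A K)]; exact ha
  have hN₁ne : N₁.det ≠ 0 := by
    intro h0
    rw [h0, map_zero] at hdetN₁
    exact mul_ne_zero (pow_ne_zero n hane) hdetφ hdetN₁.symm
  have hdetN₂ : N₂.det = a ^ n := by
    simp [N₂, Matrix.det_diagonal]
  -- lengths
  have r1 : rl F (F.map ψ₁) = Ring.ord A N₁.det := by
    rw [rl_free b ψ₁ N₁ hψ₁]
    exact CokDet.cokLen_eq_ord_det_general N₁ (mem_nonZeroDivisors_of_ne_zero hN₁ne)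
  have r2 : rl F (F.map ψ₂) = Ring.ord A (a ^ n) := by
    rw [rl_free b ψ₂ N₂ hψ₂, ← hdetN₂]
    exact CokDet.cokLen_eq_ord_det_general N₂
      (by rw [hdetN₂]; exact mem_nonZeroDivisors_of_ne_zero (pow_ne_zero n ha))
  have hcomp : F.map ψ₁ = (F.map ψ₂).map φ' := by
    rw [← Submodule.map_comp]
  have r3 : rl (F.map φ') (F.map ψ₁) = Ring.ord A (a ^ n) := by
    rw [hcomp, rl_map φ' hφ'inj, r2]
  have hle1 : F.map ψ₁ ≤ F := map_le_of_matrix b ψ₁ N₁ hψ₁
  have hle2 : F.map ψ₁ ≤ F.map φ' := by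
    rw [hcomp]
    exact Submodule.map_mono (map_le_of_matrix b ψ₂ N₂ hψ₂)
  have hfin1 : Ring.ord A N₁.det < ⊤ := Ring.ord_lt_top (mem_nonZeroDivisors_of_ne_zero hN₁ne)
  have hfin2 : Ring.ord A (a ^ n) < ⊤ :=
    Ring.ord_lt_top (mem_nonZeroDivisors_of_ne_zero (pow_ne_zero n ha))
  rw [dist_eq_of_le F (F.map φ') (F.map ψ₁) (le_inf hle1 hle2) (by rw [r1]; exact hfin1)
    (by rw [r3]; exact hfin2), r1, r3,
    ← ordFrac_div (K := K) N₁.det (a ^ n) hN₁ne (pow_ne_zero n ha)]
  congr 1
  rw [hdetN₁, map_pow, mul_div_cancel_left₀ _ (pow_ne_zero n hane)]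

end Free

end Groth.Agent.Lib.Helper26.Lat
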