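import Mathlib
import Groth.Agent.Lib.Helper26.Lat6

set_option autoImplicit false

namespace Groth.Agent.Lib.Helper26.Lat

open Module

section Main

universe u
variable {A : Type u} [CommRing A] [IsDomain A] [IsNoetherianRing A] [Ring.KrullDimLE 1 A]
variable {K : Type u} [Field K] [Algebra A K] [IsFractionRing A K]
variable {V : Type u} [AddCommGroup V] [Module K V] [Module A V] [IsScalarTower A K V]
  [FiniteDimensional K V]

theorem isLattice_span_basis {n : ℕ} (b : Basis (Fin n) K V) :
    Submodule.IsLattice K (Submodule.span A (Set.range b)) where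
  fg := Submodule.fg_span (Set.finite_range b)
  span_eq_top := by
    refine top_le_iff.mp ?_
    rw [← b.span_eq]
    exact Submodule.span_mono Submodule.subset_span

theorem dist_map_self (M : Submodule A V) [Submodule.IsLattice K M] (φ : V ≃ₗ[K] V) :
    dist M (M.map (φ.toLinearMap.restrictScalars A)) =
      CycAlg.ordFrac A K (LinearMap.det φ.toLinearMap) := by
  set φ' := φ.toLinearMap.restrictScalars A with hφ'
  have hφ'inj : Function.Injective φ' := φ.injective
  let b := Module.finBasis K V
  set F := Submodule.span A (Set.range b) with hF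
  have : Submodule.IsLattice K F := isLattice_span_basis b
  have : Submodule.IsLattice K (M.map φ') := isLattice_map M φ
  have : Submodule.IsLattice K (F.map φ') := isLattice_map F φ
  rw [dist_add (K := K) M F (M.map φ'), dist_add (K := K) F (F.map φ') (M.map φ'),
    dist_map φ' hφ'inj, dist_free b φ, dist_comm F M]
  ring

theorem main (M : Submodule A V) [Submodule.IsLattice K M] (φ : V ≃ₗ[K] V) :
    Submodule.IsLattice K (M.map (φ.toLinearMap.restrictScalars A)) ∧
      Module.length A (↥M ⧸ (M ⊓ M.map (φ.toLinearMap.restrictScalars A)).submoduleOf M) < ⊤ ∧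
      Module.length A (↥(M.map (φ.toLinearMap.restrictScalars A)) ⧸
          (M ⊓ M.map (φ.toLinearMap.restrictScalars A)).submoduleOf
            (M.map (φ.toLinearMap.restrictScalars A))) < ⊤ ∧
      ((Module.length A (↥M ⧸ (M ⊓ M.map (φ.toLinearMap.restrictScalars A)).submoduleOf M)).toNat : ℤ) -
          ((Module.length A (↥(M.map (φ.toLinearMap.restrictScalars A)) ⧸
            (M ⊓ M.map (φ.toLinearMap.restrictScalars A)).submoduleOf
              (M.map (φ.toLinearMap.restrictScalars A)))).toNat : ℤ) =
        CycAlg.ordFrac A K (LinearMap.det φ.toLinearMap) := by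
  have hL : Submodule.IsLattice K (M.map (φ.toLinearMap.restrictScalars A)) := isLattice_map M φ
  refine ⟨hL, ?_, ?_, dist_map_self M φ⟩
  · have := rl_lt_top (K := K) M (M.map (φ.toLinearMap.restrictScalars A))
      (Submodule.IsLattice.fg (A := K)) (Submodule.IsLattice.span_eq_top (A := K))
    rw [← rl_inf_right] at this
    exact this
  · have := rl_lt_top (K := K) (M.map (φ.toLinearMap.restrictScalars A)) M
      (Submodule.IsLattice.fg (A := K)) (Submodule.IsLattice.span_eq_top (A := K))
    rw [← rl_inf_left] at this
    exact this

end Main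

end Groth.Agent.Lib.Helper26.Lat
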