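import Mathlib

/-!
# Three-dimensional Lie algebras with a basis: the adjoint representation in matrices
(helper26 shared library)

`L` a Lie algebra over a commutative ring `R` with basis `bs : Module.Basis (Fin 3) R L` and
structure constants `⁅bs 0, bs 1⁆ = ∑ A k • bs k`, `⁅bs 0, bs 2⁆ = ∑ B k • bs k`,
`⁅bs 1, bs 2⁆ = ∑ C k • bs k`.  `T A B C j` is the matrix of `ad (bs j)`.
-/

set_option autoImplicit false

namespace Groth.Agent.Lib.Helper26.Lie3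

universe u v

variable {R : Type u} [CommRing R] {L : Type v} [LieRing L] [LieAlgebra R L]
  (bs : Module.Basis (Fin 3) R L)

/-- the matrices of `ad (bs j)` in terms of the structure constants -/
def T (A B C : Fin 3 → R) : Fin 3 → Matrix (Fin 3) (Fin 3) R :=
  ![!![0, A 0, B 0; 0, A 1, B 1; 0, A 2, B 2],
    !![-A 0, 0, C 0; -A 1, 0, C 1; -A 2, 0, C 2],
    !![-B 0, -C 0, 0; -B 1, -C 1, 0; -B 2, -C 2, 0]]

variable {A B C : Fin 3 → R}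

theorem toMatrix_ad_basis
    (hxy : ⁅bs 0, bs 1⁆ = A 0 • bs 0 + A 1 • bs 1 + A 2 • bs 2)
    (hxz : ⁅bs 0, bs 2⁆ = B 0 • bs 0 + B 1 • bs 1 + B 2 • bs 2)
    (hyz : ⁅bs 1, bs 2⁆ = C 0 • bs 0 + C 1 • bs 1 + C 2 • bs 2) (j : Fin 3) :
    LinearMap.toMatrix bs bs (LieAlgebra.ad R L (bs j)) = T A B C j := by
  have hyx : ⁅bs 1, bs 0⁆ = -(A 0 • bs 0 + A 1 • bs 1 + A 2 • bs 2) := by
    rw [← lie_skew, hxy]
  have hzx : ⁅bs 2, bs 0⁆ = -(B 0 • bs 0 + B 1 • bs 1 + B 2 • bs 2) := by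
    rw [← lie_skew, hxz]
  have hzy : ⁅bs 2, bs 1⁆ = -(C 0 • bs 0 + C 1 • bs 1 + C 2 • bs 2) := by
    rw [← lie_skew, hyz]
  ext r s
  rw [LinearMap.toMatrix_apply, LieAlgebra.ad_apply]
  fin_cases j <;> fin_cases s <;> fin_cases r <;>
    simp [T, hxy, hxz, hyz, hyx, hzx, hzy]

theorem toMatrix_ad
    (hxy : ⁅bs 0, bs 1⁆ = A 0 • bs 0 + A 1 • bs 1 + A 2 • bs 2)
    (hxz : ⁅bs 0, bs 2⁆ = B 0 • bs 0 + B 1 • bs 1 + B 2 • bs 2)
    (hyz : ⁅bs 1, bs 2⁆ = C 0 • bs 0 + C 1 • bs 1 + C 2 • bs 2) (w : L) :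
    LinearMap.toMatrix bs bs (LieAlgebra.ad R L w) = ∑ k, bs.repr w k • T A B C k := by
  conv_lhs => rw [← bs.sum_repr w]
  rw [map_sum, map_sum]
  apply Finset.sum_congr rfl
  intro k _
  rw [map_smul, map_smul, toMatrix_ad_basis bs hxy hxz hyz]

theorem ad_pow_eq_ad_iff
    (hxy : ⁅bs 0, bs 1⁆ = A 0 • bs 0 + A 1 • bs 1 + A 2 • bs 2)
    (hxz : ⁅bs 0, bs 2⁆ = B 0 • bs 0 + B 1 • bs 1 + B 2 • bs 2)
    (hyz : ⁅bs 1, bs 2⁆ = C 0 • bs 0 + C 1 • bs 1 + C 2 • bs 2) (j : Fin 3) (n : ℕ) (w : L) :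
    LieAlgebra.ad R L (bs j) ^ n = LieAlgebra.ad R L w ↔
      T A B C j ^ n = ∑ k, bs.repr w k • T A B C k := by
  have e : ∀ f : L →ₗ[R] L, LinearMap.toMatrixAlgEquiv bs f = LinearMap.toMatrix bs bs f :=
    fun f => rfl
  rw [← toMatrix_ad bs hxy hxz hyz, ← toMatrix_ad_basis bs hxy hxz hyz j,
    ← e, ← e, ← map_pow (LinearMap.toMatrixAlgEquiv bs)]
  exact (LinearMap.toMatrixAlgEquiv bs).injective.eq_iff.symm

theorem ad_pow_eq_ad_smul_iff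
    (hxy : ⁅bs 0, bs 1⁆ = A 0 • bs 0 + A 1 • bs 1 + A 2 • bs 2)
    (hxz : ⁅bs 0, bs 2⁆ = B 0 • bs 0 + B 1 • bs 1 + B 2 • bs 2)
    (hyz : ⁅bs 1, bs 2⁆ = C 0 • bs 0 + C 1 • bs 1 + C 2 • bs 2) (j : Fin 3) (n : ℕ) (c : R)
    (m : Fin 3) :
    LieAlgebra.ad R L (bs j) ^ n = LieAlgebra.ad R L (c • bs m) ↔
      T A B C j ^ n = c • T A B C m := by
  rw [ad_pow_eq_ad_iff bs hxy hxz hyz]
  have : ∑ k, bs.repr (c • bs m) k • T A B C k = c • T A B C m := by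
    simp [Finsupp.single_apply]
  rw [this]

theorem ad_pow_eq_ad_zero_iff
    (hxy : ⁅bs 0, bs 1⁆ = A 0 • bs 0 + A 1 • bs 1 + A 2 • bs 2)
    (hxz : ⁅bs 0, bs 2⁆ = B 0 • bs 0 + B 1 • bs 1 + B 2 • bs 2)
    (hyz : ⁅bs 1, bs 2⁆ = C 0 • bs 0 + C 1 • bs 1 + C 2 • bs 2) (j : Fin 3) (n : ℕ) :
    LieAlgebra.ad R L (bs j) ^ n = LieAlgebra.ad R L 0 ↔ T A B C j ^ n = 0 := by
  rw [ad_pow_eq_ad_iff bs hxy hxz hyz]
  simp

attribute [local instance] LieRing.ofAssociativeRing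

/-- the Jacobi identity, in matrix form -/
theorem jacobi_matrix
    (hxy : ⁅bs 0, bs 1⁆ = A 0 • bs 0 + A 1 • bs 1 + A 2 • bs 2)
    (hxz : ⁅bs 0, bs 2⁆ = B 0 • bs 0 + B 1 • bs 1 + B 2 • bs 2)
    (hyz : ⁅bs 1, bs 2⁆ = C 0 • bs 0 + C 1 • bs 1 + C 2 • bs 2) :
    ∑ k, C k • T A B C k = T A B C 1 * T A B C 2 - T A B C 2 * T A B C 1 := by
  have e : ∀ f : L →ₗ[R] L, LinearMap.toMatrixAlgEquiv bs f = LinearMap.toMatrix bs bs f :=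
    fun f => rfl
  have h := (LieAlgebra.ad R L).map_lie (bs 1) (bs 2)
  rw [LieRing.of_associative_ring_bracket] at h
  have h2 := congrArg (LinearMap.toMatrixAlgEquiv bs) h
  rw [map_sub, map_mul, map_mul] at h2
  simp only [e] at h2
  rw [toMatrix_ad_basis bs hxy hxz hyz, toMatrix_ad_basis bs hxy hxz hyz,
    toMatrix_ad bs hxy hxz hyz] at h2
  rw [← h2]
  apply Finset.sum_congr rfl
  intro k _
  rw [hyz]
  fin_cases k <;> simp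

end Groth.Agent.Lib.Helper26.Lie3
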