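/-
helper26: descent of the Mittag-Leffler property for flat modules along finite injective maps
of Noetherian rings (Ferrand-style devissage on the family of test modules).
-/
import Groth.Agent.Lib.Helper54.MLBase
import Groth.Agent.Lib.Helper26.Ferr1
import Mathlib.RingTheory.Flat.Basic
import Mathlib.LinearAlgebra.TensorProduct.Quotient
import Mathlib.RingTheory.Noetherian.Basic

set_option autoImplicit false
universe u

namespace Groth.Agent.Lib.Helper26.MLFin

open TensorProduct Function Groth.Agent.Lib.Helper54

section Key

variable {R : Type u} [CommRing R] {M : Type u} [AddCommGroup M] [Module R M]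

/-- Kernel reduction: for a flat module `M` and maps of families `j i : Q i → X i`, injectivity
of the comparison map for the family `X` and for the family of kernels gives injectivity for
`Q`. -/
theorem piRightHom_injective_of_ker [Module.Flat R M] {ι : Type u} (Q X : ι → Type u)
    [∀ i, AddCommGroup (Q i)] [∀ i, Module R (Q i)] [∀ i, AddCommGroup (X i)]
    [∀ i, Module R (X i)] (j : ∀ i, Q i →ₗ[R] X i)
    (hX : Injective (TensorProduct.piRightHom R R M X))
    (hK : Injective (TensorProduct.piRightHom R R M (fun i => ↥(LinearMap.ker (j i))))) :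
    Injective (TensorProduct.piRightHom R R M Q) := by
  classical
  rw [injective_iff_map_eq_zero]
  intro x hx
  let p : (∀ i, Q i) →ₗ[R] (∀ i, X i) := LinearMap.pi (fun i => (j i).comp (LinearMap.proj i))
  let k : (∀ i, ↥(LinearMap.ker (j i))) →ₗ[R] (∀ i, Q i) :=
    LinearMap.pi (fun i => (LinearMap.ker (j i)).subtype.comp (LinearMap.proj i))
  have hex : Function.Exact k p := by
    intro y
    constructor
    · intro hy
      refine ⟨fun i => ⟨y i, ?_⟩, ?_⟩
      · exact congrFun hy i
      · funext i; rfl
    · rintro ⟨z, rfl⟩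
      funext i
      exact (z i).2
  have h1 : p.lTensor M x = 0 := by
    apply hX
    rw [map_zero]
    funext i
    rw [piRightHom_apply, ← LinearMap.lTensor_comp_apply]
    have : (LinearMap.proj i).comp p = (j i).comp (LinearMap.proj i) := by
      ext y; rfl
    rw [this, LinearMap.lTensor_comp_apply, ← piRightHom_apply, hx]
    simp
  obtain ⟨y, rfl⟩ := (Module.Flat.lTensor_exact M hex x).1 h1
  have h2 : y = 0 := by
    apply hK
    rw [map_zero]
    funext i
    apply Module.Flat.lTensor_preserves_injective_linearMap (M := M)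
      (LinearMap.ker (j i)).subtype (Submodule.injective_subtype _)
    rw [piRightHom_apply, ← LinearMap.lTensor_comp_apply]
    have : (LinearMap.ker (j i)).subtype.comp (LinearMap.proj i) = (LinearMap.proj i).comp k := by
      ext y; rfl
    rw [this, LinearMap.lTensor_comp_apply, ← piRightHom_apply, hx]
    simp
  rw [h2, map_zero]

end Key

section Main

variable (R : Type u) [CommRing R] (M : Type u) [AddCommGroup M] [Module R M]

/-- The comparison map is injective for all families of modules killed by `I`. -/
def PhiI (I : Ideal R) : Prop :=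
  ∀ (ι : Type u) (Q : ι → Type u) [∀ i, AddCommGroup (Q i)] [∀ i, Module R (Q i)],
    (∀ i, ∀ a ∈ I, ∀ x : Q i, a • x = 0) →
      Injective (TensorProduct.piRightHom R R M Q)

variable {R M}

/-- Elements of the kernel of `Q → S ⊗ Q` are killed by a lift of `g 1`, when `I` kills `Q`. -/
theorem smul_eq_zero_of_mk_eq_zero {S : Type u} [CommRing S] [Algebra R S] (I : Ideal R)
    (g : S →ₗ[R] R ⧸ I) (f : R) (hf : Ideal.Quotient.mk I f = g 1)
    {Q : Type u} [AddCommGroup Q] [Module R Q] (hQ : ∀ a ∈ I, ∀ x : Q, a • x = 0)
    (q : Q) (hq : (1 : S) ⊗ₜ[R] q = 0) : f • q = 0 := by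
  have h1 : (g.rTensor Q) ((1 : S) ⊗ₜ[R] q) = 0 := by rw [hq, map_zero]
  rw [LinearMap.rTensor_tmul, ← hf] at h1
  have h2 := congrArg (TensorProduct.quotTensorEquivQuotSMul Q I) h1
  rw [TensorProduct.quotTensorEquivQuotSMul_mk_tmul, map_zero,
    Submodule.Quotient.mk_eq_zero] at h2
  have h3 : (I • (⊤ : Submodule R Q)) ≤ ⊥ :=
    Submodule.smul_le.2 (fun a ha x _ => (Submodule.mem_bot R).2 (hQ a ha x))
  exact (Submodule.mem_bot R).1 (h3 h2)

/-- Descent of the Mittag-Leffler property for flat modules along a finite injective map of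
rings with Noetherian source. -/
theorem isMittagLeffler_of_finite_injective (R S : Type u) [CommRing R] [IsNoetherianRing R]
    [CommRing S] [Algebra R S] [Module.Finite R S]
    (hinj : Injective (algebraMap R S)) (M : Type u) [AddCommGroup M] [Module R M]
    [Module.Flat R M] (hML : CAlg.IsMittagLeffler S (S ⊗[R] M)) :
    CAlg.IsMittagLeffler R M := by
  classical
  have hstar : ∀ (ι : Type u) (X : ι → Type u) [∀ i, AddCommGroup (X i)] [∀ i, Module S (X i)]
      [∀ i, Module R (X i)] [∀ i, IsScalarTower R S (X i)],
      Injective (TensorProduct.piRightHom R R M X) := by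
    intro ι X _ _ _ _
    rw [injective_iff_map_eq_zero]
    intro x hx
    obtain ⟨y, rfl⟩ := (bcEquiv R S M (∀ i, X i)).surjective x
    have h0 : TensorProduct.piRightHom S S (S ⊗[R] M) X y = 0 := by
      funext i
      apply (bcEquiv R S M (X i)).injective
      rw [← bcEquiv_piRightHom, hx]
      simp
    rw [hML ι X (h0.trans (map_zero _).symm), map_zero]
  have key : ∀ I : Ideal R, PhiI R M I := by
    intro I
    refine IsNoetherian.induction (P := fun I : Ideal R => PhiI R M I) ?_ I
    intro I ih
    intro ι Q _ _ hQ
    by_cases htop : I = ⊤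
    · have : ∀ i, Subsingleton (Q i) := fun i => ⟨fun a b => by
        have h1 := hQ i 1 (htop ▸ Submodule.mem_top)
        rw [← one_smul R a, ← one_smul R b, h1 a, h1 b]⟩
      have : Subsingleton (M ⊗[R] (∀ i, Q i)) := inferInstance
      exact Function.injective_of_subsingleton _
    by_cases hp : Ideal.IsPrime I
    · have := hp
      obtain ⟨g, hg⟩ := Groth.Agent.Lib.Helper26.Ferrand.exists_functional R S hinj I
      obtain ⟨f, hf⟩ := Ideal.Quotient.mk_surjective (g 1)
      have hfI : f ∉ I := fun h => hg (by
        rw [← hf]; exact Ideal.Quotient.eq_zero_iff_mem.2 h)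
      refine piRightHom_injective_of_ker Q (fun i => S ⊗[R] Q i)
        (fun i => TensorProduct.mk R S (Q i) 1) (hstar ι _) ?_
      apply ih (I ⊔ Ideal.span {f}) (lt_of_le_of_ne le_sup_left ?_)
      · intro i a ha x
        obtain ⟨b, hb, c, hc, rfl⟩ := Submodule.mem_sup.1 ha
        obtain ⟨r, rfl⟩ := Ideal.mem_span_singleton'.1 hc
        have h1 : b • x = 0 := Subtype.ext (hQ i b hb x.1)
        have h2 : f • x = 0 := Subtype.ext
          (smul_eq_zero_of_mk_eq_zero I g f hf (hQ i) x.1 (LinearMap.mem_ker.1 x.2))
        rw [add_smul, h1, zero_add, mul_smul, h2, smul_zero]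
      · intro h
        apply hfI
        rw [h]
        exact Ideal.mem_sup_right (Ideal.mem_span_singleton_self f)
    · obtain ⟨a, b, hab, ha, hb⟩ : ∃ a b, a * b ∈ I ∧ a ∉ I ∧ b ∉ I := by
        rw [Ideal.isPrime_iff] at hp
        push Not at hp
        exact hp htop
      refine piRightHom_injective_of_ker Q
        (fun i => ↥(LinearMap.range (LinearMap.lsmul R (Q i) b)))
        (fun i => (LinearMap.lsmul R (Q i) b).rangeRestrict) ?_ ?_
      · apply ih (I ⊔ Ideal.span {a}) (lt_of_le_of_ne le_sup_left ?_)
        · intro i c hc x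
          obtain ⟨c1, hc1, c2, hc2, rfl⟩ := Submodule.mem_sup.1 hc
          obtain ⟨r, rfl⟩ := Ideal.mem_span_singleton'.1 hc2
          obtain ⟨y, hy⟩ := x.2
          have h1 : c1 • x = 0 := Subtype.ext (hQ i c1 hc1 x.1)
          have h2 : a • x = 0 := by
            apply Subtype.ext
            show a • (x : Q i) = 0
            rw [← hy]
            show a • (b • y) = 0
            rw [← mul_smul]
            exact hQ i _ hab y
          rw [add_smul, h1, zero_add, mul_smul, h2, smul_zero]
        · intro h
          apply ha
          rw [h]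
          exact Ideal.mem_sup_right (Ideal.mem_span_singleton_self a)
      · apply ih (I ⊔ Ideal.span {b}) (lt_of_le_of_ne le_sup_left ?_)
        · intro i c hc x
          obtain ⟨c1, hc1, c2, hc2, rfl⟩ := Submodule.mem_sup.1 hc
          obtain ⟨r, rfl⟩ := Ideal.mem_span_singleton'.1 hc2
          have h1 : c1 • x = 0 := Subtype.ext (hQ i c1 hc1 x.1)
          have h2 : b • x = 0 := by
            apply Subtype.ext
            have := LinearMap.mem_ker.1 x.2
            show b • (x : Q i) = 0
            exact congrArg Subtype.val this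
          rw [add_smul, h1, zero_add, mul_smul, h2, smul_zero]
        · intro h
          apply hb
          rw [h]
          exact Ideal.mem_sup_right (Ideal.mem_span_singleton_self b)
  intro ι Q _ _
  exact key ⊥ ι Q (fun i a ha x => by
    rw [(Submodule.mem_bot R).1 ha, zero_smul])

end Main

end Groth.Agent.Lib.Helper26.MLFin
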