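/-
helper26: the Raynaud-Gruson devissage of helper54 (RGDescent2) with the descent input abstracted,
so that it applies to ring maps that are not flat.
-/
import Groth.Agent.Lib.Helper54.RGDescent2

set_option autoImplicit false
set_option maxHeartbeats 400000
universe u

namespace Groth.Agent.Lib.Helper26.MLFin

open TensorProduct Function Groth.Agent.Lib.Helper54 Groth.Agent.Lib.Helper54.RG

variable (R S : Type u) [CommRing R] [CommRing S] [Algebra R S]
  (M : Type u) [AddCommGroup M] [Module R M]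

/-- Raynaud-Gruson devissage with the descent input abstracted: if `S ⊗ M` is projective and
every quotient of `M` with projective base change is flat and Mittag-Leffler, then `M` is
projective. -/
theorem projective_of_descent [Module.Projective S (S ⊗[R] M)]
    (hdesc : ∀ N : Submodule R M, Module.Projective S (S ⊗[R] (M ⧸ N)) →
      Module.Flat R (M ⧸ N) ∧ CAlg.IsMittagLeffler R (M ⧸ N)) : Module.Projective R M := by
  classical
  have hbot : Module.Flat R M ∧ CAlg.IsMittagLeffler R M := by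
    have e : (M ⧸ (⊥ : Submodule R M)) ≃ₗ[R] M := Submodule.quotEquivOfEqBot ⊥ rfl
    haveI : Module.Projective S (S ⊗[R] (M ⧸ (⊥ : Submodule R M))) :=
      Module.Projective.of_equiv' (TensorProduct.AlgebraTensorModule.congr
        (LinearEquiv.refl S S) e.symm)
    obtain ⟨h1, h2⟩ := hdesc ⊥ inferInstance
    exact ⟨Module.Flat.of_linearEquiv e.symm, isMittagLeffler_of_linearEquiv R e.symm h2⟩
  obtain ⟨I, Q, hind, hsup, hQcg⟩ := exists_indep_cg_of_projective (R := S) (S ⊗[R] M)
  have hQc : ∀ i, ∃ t : Set (S ⊗[R] M), t.Countable ∧ Submodule.span S t = Q i := fun i =>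
    Kap.CG_of_isCountablyGenerated (Q i) (hQcg i)
  have hfmq : ∀ (N : Submodule R M) (I' : Set I), N.baseChange S = Kap.MJ Q I' →
      Module.Flat R (M ⧸ N) ∧ CAlg.IsMittagLeffler R (M ⧸ N) := by
    intro N I' hNI
    exact hdesc N (projective_baseChange_quotient R S M Q hind hsup N I' hNI)
  haveI : Module.Flat R M := hbot.1
  have hML : CAlg.IsMittagLeffler R M := hbot.2
  -- the extension step
  have hext : ∀ z : Submodule R M × Set I × Set (Submodule R M),
      (z.1.baseChange S = Kap.MJ Q z.2.1 ∧ sSupIndep z.2.2 ∧ sSup z.2.2 = z.1 ∧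
        ∀ L ∈ z.2.2, Kap.CG L) → ∀ x : M,
      ∃ z' : Submodule R M × Set I × Set (Submodule R M),
        (z'.1.baseChange S = Kap.MJ Q z'.2.1 ∧ sSupIndep z'.2.2 ∧ sSup z'.2.2 = z'.1 ∧
          ∀ L ∈ z'.2.2, Kap.CG L) ∧ z ≤ z' ∧ x ∈ z'.1 := by
    rintro ⟨N, I', 𝓛⟩ ⟨hNI, h𝓛ind, h𝓛sup, h𝓛cg⟩ x
    dsimp only at hNI h𝓛ind h𝓛sup h𝓛cg
    obtain ⟨A, C, hxA, hA, -, hAC⟩ :=
      exists_adapted_closure R S M Q hsup hQc {x} (Set.countable_singleton x)
    have hN₁ : (Submodule.span R A).baseChange S = Kap.MJ Q C := by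
      rw [Submodule.baseChange_span, hAC]
      rfl
    have hN' : (N ⊔ Submodule.span R A).baseChange S = Kap.MJ Q (I' ∪ C) := by
      rw [baseChange_sup, hNI, hN₁, Kap.MJ_union]
    obtain ⟨hflat, hMLq⟩ := hfmq N I' hNI
    obtain ⟨hflat', -⟩ := hfmq _ _ hN'
    obtain ⟨C', hdisj, hsupC, hC'cg⟩ :=
      exists_cg_complement N (Submodule.span R A) ⟨A, hA, rfl⟩ hMLq
    refine ⟨(N ⊔ Submodule.span R A, I' ∪ C, insert C' 𝓛), ⟨hN', ?_, ?_, ?_⟩,
      ⟨le_sup_left, Set.subset_union_left, Set.subset_insert _ _⟩,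
      Submodule.mem_sup_right (Submodule.subset_span (hxA (Set.mem_singleton x)))⟩
    · apply Kap.sSupIndep_insert h𝓛ind
      rw [h𝓛sup]
      exact hdisj.symm
    · show sSup (insert C' 𝓛) = N ⊔ Submodule.span R A
      rw [sSup_insert, h𝓛sup, sup_comm, hsupC]
    · intro L hL
      rcases hL with rfl | hL
      · exact hC'cg
      · exact h𝓛cg L hL
  -- Zorn's lemma
  obtain ⟨z, hzmax⟩ := zorn_le₀ {z : Submodule R M × Set I × Set (Submodule R M) |
      z.1.baseChange S = Kap.MJ Q z.2.1 ∧ sSupIndep z.2.2 ∧ sSup z.2.2 = z.1 ∧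
        ∀ L ∈ z.2.2, Kap.CG L} (by
    intro c hcS hchain
    refine ⟨(⨆ z ∈ c, z.1, ⋃ z ∈ c, z.2.1, ⋃ z ∈ c, z.2.2), ⟨?_, ?_, ?_, ?_⟩, ?_⟩
    · show (⨆ z ∈ c, z.1).baseChange S = Kap.MJ Q (⋃ z ∈ c, z.2.1)
      apply le_antisymm
      · rw [Submodule.baseChange_eq_span, Submodule.span_le]
        rintro _ ⟨m, hm, rfl⟩
        have hle : (⨆ z ∈ c, z.1) ≤ ((Kap.MJ Q (⋃ z ∈ c, z.2.1)).restrictScalars R).comap
            (TensorProduct.mk R S M 1) := by
          apply iSup₂_le
          intro z hz m hm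
          have h1 : (1 : S) ⊗ₜ[R] m ∈ z.1.baseChange S :=
            Submodule.tmul_mem_baseChange_of_mem 1 hm
          rw [(hcS hz).1] at h1
          exact Kap.MJ_mono Q (Set.subset_biUnion_of_mem
            (u := fun z : Submodule R M × Set I × Set (Submodule R M) => z.2.1) hz) h1
        exact hle hm
      · apply iSup₂_le
        intro i hi
        obtain ⟨z, hz, hiz⟩ := Set.mem_iUnion₂.1 hi
        calc Q i ≤ Kap.MJ Q z.2.1 := Kap.le_MJ Q hiz
          _ = z.1.baseChange S := (hcS hz).1.symm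
          _ ≤ _ := Submodule.baseChange_mono S
            (le_biSup (fun z : Submodule R M × Set I × Set (Submodule R M) => z.1) hz)
    · have : (⋃ z ∈ c, z.2.2) = ⋃₀ ((fun z : Submodule R M × Set I × Set (Submodule R M) =>
          z.2.2) '' c) := by
        rw [Set.sUnion_image]
      show sSupIndep (⋃ z ∈ c, z.2.2)
      rw [this]
      apply iSupIndep_sUnion_of_directed
      · rintro _ ⟨z₁, hz₁, rfl⟩ _ ⟨z₂, hz₂, rfl⟩
        rcases hchain.total hz₁ hz₂ with h | h
        · exact ⟨z₂.2.2, ⟨z₂, hz₂, rfl⟩, h.2.2, le_rfl⟩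
        · exact ⟨z₁.2.2, ⟨z₁, hz₁, rfl⟩, le_rfl, h.2.2⟩
      · rintro _ ⟨z, hz, rfl⟩
        exact (hcS hz).2.1
    · show sSup (⋃ z ∈ c, z.2.2) = ⨆ z ∈ c, z.1
      apply le_antisymm
      · apply sSup_le
        intro L hL
        obtain ⟨z, hz, hLz⟩ := Set.mem_iUnion₂.1 hL
        calc L ≤ sSup z.2.2 := le_sSup hLz
          _ = z.1 := (hcS hz).2.2.1
          _ ≤ _ := le_biSup (fun z : Submodule R M × Set I × Set (Submodule R M) => z.1) hz
      · apply iSup₂_le
        intro z hz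
        rw [← (hcS hz).2.2.1]
        exact sSup_le_sSup (Set.subset_biUnion_of_mem
          (u := fun z : Submodule R M × Set I × Set (Submodule R M) => z.2.2) hz)
    · intro L hL
      obtain ⟨z, hz, hLz⟩ := Set.mem_iUnion₂.1 hL
      exact (hcS hz).2.2.2 L hLz
    · intro z hz
      exact ⟨le_biSup (fun z : Submodule R M × Set I × Set (Submodule R M) => z.1) hz,
        Set.subset_biUnion_of_mem
          (u := fun z : Submodule R M × Set I × Set (Submodule R M) => z.2.1) hz,
        Set.subset_biUnion_of_mem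
          (u := fun z : Submodule R M × Set I × Set (Submodule R M) => z.2.2) hz⟩)
  have hzgood := hzmax.prop
  have htop : z.1 = ⊤ := by
    rw [eq_top_iff]
    intro x _
    obtain ⟨z', hz', hle, hx⟩ := hext z hzgood x
    exact (hzmax.le_of_ge hz' hle).1 hx
  apply projective_of_flat_ml_indep_cg M hML (fun k : ↥z.2.2 => k.1)
  · exact (sSupIndep_iff z.2.2).1 hzgood.2.1
  · rw [← sSup_eq_iSup', hzgood.2.2.1, htop]
  · intro k
    exact Kap.isCountablyGenerated_of_CG k.1 (hzgood.2.2.2 k.1 k.2)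


end Groth.Agent.Lib.Helper26.MLFin
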