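import Groth.Agent.Lib.Helper26.Jacobson
import Mathlib.Data.Matrix.Block
import Mathlib.LinearAlgebra.Matrix.Notation
import Mathlib.LinearAlgebra.Basis.Basic
import Mathlib.Tactic.Module

/-!
# `p`-maps on three-dimensional Lie algebras `R x ⋉ (R y ⊕ R z)` (helper26 shared library)

If `x` acts on the abelian ideal `⟨y, z⟩` through a matrix `M` with `M ^ p = μ • M`, and `a • M = 0`
only for `a = 0`, then there is a `p`-map with `x ↦ μ x`, `y ↦ 0`, `z ↦ 0`.
-/

set_option autoImplicit false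

namespace Groth.Agent.Lib.Helper26.PLieSemidirect

open Matrix Groth.Agent.Lib.Helper26.Jacobson

universe u v

variable {R : Type u} [CommRing R]

/-- the block matrix attached to `(a, V)`. -/
def blk (M : Matrix (Fin 2) (Fin 2) R) (a : R) (V : Matrix (Fin 2) (Fin 1) R) :
    Matrix (Fin 2 ⊕ Fin 1) (Fin 2 ⊕ Fin 1) R :=
  Matrix.fromBlocks (a • M) V 0 0

theorem blk_mul (M : Matrix (Fin 2) (Fin 2) R) (a a' : R) (V V' : Matrix (Fin 2) (Fin 1) R) :
    blk M a V * blk M a' V' = Matrix.fromBlocks ((a * a') • (M * M)) (a • (M * V')) 0 0 := by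
  unfold blk
  rw [Matrix.fromBlocks_multiply]
  simp [Matrix.smul_mul, Matrix.mul_smul, smul_smul, mul_comm]

theorem blk_pow (M : Matrix (Fin 2) (Fin 2) R) (a : R) (V : Matrix (Fin 2) (Fin 1) R) (k : ℕ) :
    blk M a V ^ (k + 1) =
      Matrix.fromBlocks (a ^ (k + 1) • M ^ (k + 1)) (a ^ k • (M ^ k * V)) 0 0 := by
  induction k with
  | zero => simp [blk]
  | succ k ih =>
    rw [pow_succ, ih]
    unfold blk
    rw [Matrix.fromBlocks_multiply]
    congr 1
    · rw [Matrix.mul_zero, add_zero, Matrix.smul_mul, Matrix.mul_smul, smul_smul, ← pow_succ,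
        ← pow_succ]
    · rw [Matrix.mul_zero, add_zero, Matrix.smul_mul]
    · simp
    · simp

variable (p : ℕ) [hp : Fact p.Prime] [CharP R p]
  {L : Type v} [LieRing L] [LieAlgebra R L]

/-- the column of `y,z`-coordinates. -/
noncomputable def colV (bs : Module.Basis (Fin 3) R L) (u : L) : Matrix (Fin 2) (Fin 1) R :=
  fun i _ => bs.repr u i.succ

/-- the embedding into block matrices. -/
noncomputable def emb (bs : Module.Basis (Fin 3) R L) (M : Matrix (Fin 2) (Fin 2) R) :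
    L →ₗ[R] Matrix (Fin 2 ⊕ Fin 1) (Fin 2 ⊕ Fin 1) R where
  toFun u := blk M (bs.repr u 0) (colV bs u)
  map_add' u u' := by
    unfold blk
    rw [Matrix.fromBlocks_add, map_add, Finsupp.add_apply, add_smul, add_zero]
    congr 1
    · ext i j
      simp [colV]
    · simp
  map_smul' c u := by
    unfold blk
    rw [Matrix.fromBlocks_smul, map_smul, Finsupp.smul_apply, smul_eq_mul, mul_smul]
    simp only [RingHom.id_apply, smul_zero]
    congr 1
    ext i j
    simp [colV]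

theorem emb_apply (bs : Module.Basis (Fin 3) R L) (M : Matrix (Fin 2) (Fin 2) R) (u : L) :
    emb bs M u = blk M (bs.repr u 0) (colV bs u) := rfl

theorem expand (bs : Module.Basis (Fin 3) R L) (u : L) :
    u = bs.repr u 0 • bs 0 + bs.repr u 1 • bs 1 + bs.repr u 2 • bs 2 := by
  have := (bs.sum_repr u).symm
  rw [Fin.sum_univ_three] at this
  exact this

theorem repr_comb (bs : Module.Basis (Fin 3) R L) (α β γ : R) :
    bs.repr (α • bs 0 + β • bs 1 + γ • bs 2) 0 = α ∧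
    bs.repr (α • bs 0 + β • bs 1 + γ • bs 2) 1 = β ∧
    bs.repr (α • bs 0 + β • bs 1 + γ • bs 2) 2 = γ := by
  simp

theorem emb_comb (bs : Module.Basis (Fin 3) R L) (M : Matrix (Fin 2) (Fin 2) R) (α β γ : R) :
    emb bs M (α • bs 0 + β • bs 1 + γ • bs 2) = blk M α (Matrix.of ![![β], ![γ]]) := by
  obtain ⟨h0, h1, h2⟩ := repr_comb bs α β γ
  rw [emb_apply, h0]
  congr 1
  ext i j
  fin_cases i <;> fin_cases j
  · exact h1
  · exact h2

theorem emb_injective (bs : Module.Basis (Fin 3) R L) (M : Matrix (Fin 2) (Fin 2) R)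
    (hM : ∀ a : R, a • M = 0 → a = 0) : Function.Injective (emb bs M) := by
  rw [← LinearMap.ker_eq_bot, LinearMap.ker_eq_bot']
  intro u hu
  rw [emb_apply] at hu
  unfold blk at hu
  have h11 : bs.repr u 0 • M = 0 := by
    ext i j
    have := congrFun (congrFun hu (Sum.inl i)) (Sum.inl j)
    simpa using this
  have h12 : ∀ i : Fin 2, bs.repr u i.succ = 0 := by
    intro i
    have := congrFun (congrFun hu (Sum.inl i)) (Sum.inr 0)
    simpa [colV] using this
  have h0 := hM _ h11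
  have h1 : bs.repr u 1 = 0 := h12 0
  have h2 : bs.repr u 2 = 0 := h12 1
  rw [expand bs u, h0, h1, h2]
  simp

variable (bs : Module.Basis (Fin 3) R L) (m11 m12 m21 m22 : R)

theorem lie_formula
    (hxy : ⁅bs 0, bs 1⁆ = m11 • bs 1 + m21 • bs 2)
    (hxz : ⁅bs 0, bs 2⁆ = m12 • bs 1 + m22 • bs 2)
    (hyz : ⁅bs 1, bs 2⁆ = 0) (u u' : L) :
    ⁅u, u'⁆ = (0 : R) • bs 0 +
      (bs.repr u 0 * (m11 * bs.repr u' 1 + m12 * bs.repr u' 2) -
        bs.repr u' 0 * (m11 * bs.repr u 1 + m12 * bs.repr u 2)) • bs 1 +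
      (bs.repr u 0 * (m21 * bs.repr u' 1 + m22 * bs.repr u' 2) -
        bs.repr u' 0 * (m21 * bs.repr u 1 + m22 * bs.repr u 2)) • bs 2 := by
  have hyx : ⁅bs 1, bs 0⁆ = -(m11 • bs 1 + m21 • bs 2) := by rw [← lie_skew, hxy]
  have hzx : ⁅bs 2, bs 0⁆ = -(m12 • bs 1 + m22 • bs 2) := by rw [← lie_skew, hxz]
  have hzy : ⁅bs 2, bs 1⁆ = 0 := by rw [← lie_skew, hyz, neg_zero]
  conv_lhs => rw [expand bs u, expand bs u']
  simp only [add_lie, lie_add, smul_lie, lie_smul, lie_self, hxy, hxz, hyz, hyx, hzx, hzy]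
  module

theorem emb_lie
    (hxy : ⁅bs 0, bs 1⁆ = m11 • bs 1 + m21 • bs 2)
    (hxz : ⁅bs 0, bs 2⁆ = m12 • bs 1 + m22 • bs 2)
    (hyz : ⁅bs 1, bs 2⁆ = 0) (u u' : L) :
    emb bs !![m11, m12; m21, m22] ⁅u, u'⁆ =
      emb bs !![m11, m12; m21, m22] u * emb bs !![m11, m12; m21, m22] u' -
        emb bs !![m11, m12; m21, m22] u' * emb bs !![m11, m12; m21, m22] u := by
  rw [lie_formula bs m11 m12 m21 m22 hxy hxz hyz u u', emb_comb, emb_apply, emb_apply, blk_mul,
    blk_mul]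
  unfold blk
  ext i j
  rcases i with i | i <;> rcases j with j | j
  · simp only [Matrix.fromBlocks_apply₁₁, Matrix.sub_apply, Matrix.smul_apply, smul_eq_mul]
    ring
  · fin_cases i <;> fin_cases j
    · simp [colV, Fin.sum_univ_two, Matrix.vecMul, dotProduct]
    · simp [colV, Fin.sum_univ_two, Matrix.vecMul, dotProduct]
  · simp
  · simp

/-- the candidate `p`-map. -/
noncomputable def phi (μ : R) (u : L) : L :=
  (bs.repr u 0 ^ p * μ) • bs 0 +
    (bs.repr u 0 ^ (p - 1) • (!![m11, m12; m21, m22] ^ (p - 1) * colV bs u)) 0 0 • bs 1 +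
    (bs.repr u 0 ^ (p - 1) • (!![m11, m12; m21, m22] ^ (p - 1) * colV bs u)) 1 0 • bs 2

omit [CharP R p] in
theorem emb_phi (μ : R) (hμ : !![m11, m12; m21, m22] ^ p = μ • !![m11, m12; m21, m22]) (u : L) :
    emb bs !![m11, m12; m21, m22] (phi p bs m11 m12 m21 m22 μ u) =
      emb bs !![m11, m12; m21, m22] u ^ p := by
  have hp1 : p - 1 + 1 = p := Nat.sub_add_cancel hp.out.one_le
  rw [emb_apply (u := u)]
  conv_rhs => rw [← hp1, blk_pow, hp1, hμ]
  unfold phi
  rw [emb_comb]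
  unfold blk
  congr 1
  · rw [smul_smul]
  · ext i j
    fin_cases i <;> fin_cases j <;> rfl

/-- **Main result**: the `p`-map on `R x ⋉ ⟨y, z⟩`. -/
theorem exists_pmap (μ : R)
    (hxy : ⁅bs 0, bs 1⁆ = m11 • bs 1 + m21 • bs 2)
    (hxz : ⁅bs 0, bs 2⁆ = m12 • bs 1 + m22 • bs 2)
    (hyz : ⁅bs 1, bs 2⁆ = 0)
    (hμ : !![m11, m12; m21, m22] ^ p = μ • !![m11, m12; m21, m22])
    (hM : ∀ a : R, a • !![m11, m12; m21, m22] = 0 → a = 0) :
    ∃ φ : PLie.PMap R p L, φ (bs 0) = μ • bs 0 ∧ φ (bs 1) = 0 ∧ φ (bs 2) = 0 := by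
  have hp1 : p - 1 ≠ 0 := by
    have := hp.out.two_le
    omega
  have hp0 : p ≠ 0 := hp.out.ne_zero
  have hc0 : colV bs (bs 0) = 0 := by
    ext i j
    fin_cases i <;> simp [colV]
  have hr1 : bs.repr (bs 1) 0 = 0 := by simp
  have hr2 : bs.repr (bs 2) 0 = 0 := by simp
  refine ⟨pmapOfAssoc p (emb bs !![m11, m12; m21, m22]) (emb_injective bs _ hM)
    (emb_lie bs m11 m12 m21 m22 hxy hxz hyz) (phi p bs m11 m12 m21 m22 μ)
    (emb_phi p bs m11 m12 m21 m22 μ hμ), ?_, ?_, ?_⟩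
  · rw [pmapOfAssoc_apply]
    unfold phi
    simp [hc0]
  · rw [pmapOfAssoc_apply]
    unfold phi
    rw [hr1]
    simp [hp1, hp0]
  · rw [pmapOfAssoc_apply]
    unfold phi
    rw [hr2]
    simp [hp1, hp0]

end Groth.Agent.Lib.Helper26.PLieSemidirect
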