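import Mathlib

set_option autoImplicit false
set_option linter.unusedSectionVars false
set_option linter.style.haveILetI false

universe u

open TensorProduct

namespace Groth.Agent.Lib.Helper26.PerfArt

/-- A nontrivial ring in which every element is nilpotent or a unit, with finitely generated
nilradical, is Artinian. -/
theorem isArtinianRing_of_nil_or_unit (R : Type*) [CommRing R] [Nontrivial R]
    (h : ∀ x : R, IsNilpotent x ∨ IsUnit x) (hfg : (nilradical R).FG) : IsArtinianRing R := by
  have hprime : ∀ I : Ideal R, I.IsPrime → I = nilradical R := by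
    intro I hI
    refine le_antisymm ?_ (nilradical_le_prime I)
    intro x hx
    rcases h x with hx' | hx'
    · exact mem_nilradical.2 hx'
    · exact absurd (Ideal.eq_top_of_isUnit_mem _ hx hx') hI.ne_top
  have hmax : (nilradical R).IsMaximal := by
    obtain ⟨m, hm⟩ := Ideal.exists_maximal R
    rw [← hprime m hm.isPrime]
    exact hm
  haveI : IsNoetherianRing R := IsNoetherianRing.of_prime fun I hI => by
    rw [hprime I hI]; exact hfg
  rw [isArtinianRing_iff_krullDimLE_zero, Ring.krullDimLE_zero_iff]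
  intro I hI
  rw [hprime I hI]
  exact hmax

variable (p : ℕ) [Fact p.Prime] (k K P : Type*) [Field k] [CharP k p] [Field K] [Algebra k K]
  [Field P] [Algebra k P] [IsPRadical (algebraMap k P) p]

/-- Some `p`-power of an element of `K ⊗ P` lies in `K`. -/
theorem exists_pow_mem_range (x : K ⊗[k] P) :
    ∃ (n : ℕ) (a : K), x ^ p ^ n = a ⊗ₜ 1 := by
  haveI : Nontrivial (K ⊗[k] P) := inferInstance
  haveI : CharP (K ⊗[k] P) p :=
    charP_of_injective_algebraMap (algebraMap k (K ⊗[k] P)).injective p
  induction x with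
  | zero => exact ⟨0, 0, by simp⟩
  | tmul a b =>
    obtain ⟨n, c, hc⟩ := IsPRadical.pow_mem (algebraMap k P) p b
    refine ⟨n, c • a ^ p ^ n, ?_⟩
    rw [Algebra.TensorProduct.tmul_pow, ← hc, Algebra.algebraMap_eq_smul_one,
      TensorProduct.tmul_smul, TensorProduct.smul_tmul']
  | add x y hx hy =>
    obtain ⟨n, a, ha⟩ := hx
    obtain ⟨m, b, hb⟩ := hy
    refine ⟨n + m, a ^ p ^ m + b ^ p ^ n, ?_⟩
    rw [add_pow_char_pow, pow_add, pow_mul, ha, pow_mul', hb, Algebra.TensorProduct.tmul_pow,
      Algebra.TensorProduct.tmul_pow, one_pow, one_pow, TensorProduct.add_tmul]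

include p in
/-- Every element of `K ⊗ P` is nilpotent or a unit. -/
theorem nil_or_unit (x : K ⊗[k] P) : IsNilpotent x ∨ IsUnit x := by
  obtain ⟨n, a, ha⟩ := exists_pow_mem_range p k K P x
  by_cases h0 : a = 0
  · left
    refine ⟨p ^ n, ?_⟩
    rw [ha, h0, TensorProduct.zero_tmul]
  · right
    have hu : IsUnit (x ^ p ^ n) := by
      rw [ha]
      exact (IsUnit.mk0 a h0).map (Algebra.TensorProduct.includeLeft : K →ₐ[k] K ⊗[k] P)
    exact (isUnit_pow_iff (pow_ne_zero n (Fact.out : p.Prime).ne_zero)).1 hu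

end Groth.Agent.Lib.Helper26.PerfArt
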