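import Mathlib

set_option autoImplicit false
set_option linter.unusedSectionVars false
set_option linter.style.haveILetI false

universe u

open TensorProduct

namespace Groth.Agent.Lib.Helper26.PerfArt

section Common

variable (k K P k' : Type*) [Field k] [Field K] [Algebra k K] [Field P] [Algebra k P]
  [Field k'] [Algebra k k'] [Algebra k' P] [IsScalarTower k k' P]

/-- The ring isomorphism `P ⊗[k'] (k' ⊗[k] K) ≃ K ⊗[k] P`. -/
noncomputable def fEquiv : P ⊗[k'] (k' ⊗[k] K) ≃+* K ⊗[k] P :=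
  (Algebra.TensorProduct.cancelBaseChange k k' P P K).toRingEquiv.trans
    (Algebra.TensorProduct.comm k P K).toRingEquiv

/-- The map `k' ⊗[k] K → K ⊗[k] P`. -/
noncomputable def psi : k' ⊗[k] K →ₐ[k] K ⊗[k] P :=
  (Algebra.TensorProduct.map (AlgHom.id k K) (IsScalarTower.toAlgHom k k' P)).comp
    (Algebra.TensorProduct.comm k k' K).toAlgHom

theorem fEquiv_includeRight (a : k' ⊗[k] K) :
    fEquiv k K P k' ((1 : P) ⊗ₜ[k'] a) = psi k K P k' a := by
  induction a with
  | zero => simp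
  | tmul c κ =>
    show (Algebra.TensorProduct.comm k P K) ((Algebra.TensorProduct.cancelBaseChange k k' P P K)
      ((1 : P) ⊗ₜ[k'] (c ⊗ₜ[k] κ))) = (Algebra.TensorProduct.map (AlgHom.id k K)
        (IsScalarTower.toAlgHom k k' P)) ((Algebra.TensorProduct.comm k k' K) (c ⊗ₜ[k] κ))
    rw [Algebra.TensorProduct.cancelBaseChange_tmul, Algebra.TensorProduct.comm_tmul,
      Algebra.TensorProduct.comm_tmul, Algebra.TensorProduct.map_tmul, AlgHom.id_apply,
      IsScalarTower.toAlgHom_apply, Algebra.smul_def, mul_one]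
  | add x y hx hy =>
    rw [TensorProduct.tmul_add, map_add, map_add, hx, hy]

/-- The quotient map `P ⊗[k'] A → P ⊗[k'] (A ⧸ nilradical A)`. -/
noncomputable def qMap : P ⊗[k'] (k' ⊗[k] K) →ₐ[k'] P ⊗[k'] ((k' ⊗[k] K) ⧸ nilradical (k' ⊗[k] K)) :=
  Algebra.TensorProduct.map (AlgHom.id k' P) (Ideal.Quotient.mkₐ k' (nilradical (k' ⊗[k] K)))

theorem qMap_surjective : Function.Surjective (qMap k K P k') :=
  Algebra.TensorProduct.map_surjective (AlgHom.id k' P) _ Function.surjective_id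
    (Ideal.Quotient.mkₐ_surjective k' _)

theorem ker_qMap : RingHom.ker (qMap k K P k') =
    (nilradical (k' ⊗[k] K)).map
      (Algebra.TensorProduct.includeRight : k' ⊗[k] K →ₐ[k'] P ⊗[k'] (k' ⊗[k] K)) := by
  have := Algebra.TensorProduct.lTensor_ker (A := P)
    (Ideal.Quotient.mkₐ k' (nilradical (k' ⊗[k] K))) (Ideal.Quotient.mkₐ_surjective k' _)
  have h2 : RingHom.ker (Ideal.Quotient.mkₐ k' (nilradical (k' ⊗[k] K))) =
      nilradical (k' ⊗[k] K) := Ideal.Quotient.mkₐ_ker k' _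
  rw [h2] at this
  exact this

theorem map_le_nilradical : (nilradical (k' ⊗[k] K)).map
    (Algebra.TensorProduct.includeRight : k' ⊗[k] K →ₐ[k'] P ⊗[k'] (k' ⊗[k] K)) ≤
      nilradical (P ⊗[k'] (k' ⊗[k] K)) := by
  rw [Ideal.map_le_iff_le_comap]
  intro a ha
  exact mem_nilradical.2 ((mem_nilradical.1 ha).map _)

/-- If the quotient is reduced, the nilradical of `P ⊗ A` is extended from `A`. -/
theorem nilradical_eq_of_isReduced
    [IsReduced (P ⊗[k'] ((k' ⊗[k] K) ⧸ nilradical (k' ⊗[k] K)))] :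
    nilradical (P ⊗[k'] (k' ⊗[k] K)) = (nilradical (k' ⊗[k] K)).map
      (Algebra.TensorProduct.includeRight : k' ⊗[k] K →ₐ[k'] P ⊗[k'] (k' ⊗[k] K)) := by
  refine le_antisymm ?_ (map_le_nilradical k K P k')
  intro x hx
  rw [← ker_qMap, RingHom.mem_ker]
  exact ((mem_nilradical.1 hx).map (qMap k K P k')).eq_zero

/-- If the nilradical of `P ⊗ A` is extended from `A`, the quotient is reduced. -/
theorem isReduced_of_nilradical_le
    (h : nilradical (P ⊗[k'] (k' ⊗[k] K)) ≤ (nilradical (k' ⊗[k] K)).map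
      (Algebra.TensorProduct.includeRight : k' ⊗[k] K →ₐ[k'] P ⊗[k'] (k' ⊗[k] K))) :
    IsReduced (P ⊗[k'] ((k' ⊗[k] K) ⧸ nilradical (k' ⊗[k] K))) := by
  refine ⟨fun w hw => ?_⟩
  obtain ⟨z, rfl⟩ := qMap_surjective k K P k' w
  obtain ⟨n, hn⟩ := hw
  rw [← map_pow, ← RingHom.mem_ker, ker_qMap] at hn
  have h1 : z ^ n ∈ nilradical (P ⊗[k'] (k' ⊗[k] K)) := map_le_nilradical k K P k' hn
  have h2 : z ∈ nilradical (P ⊗[k'] (k' ⊗[k] K)) := by
    rw [mem_nilradical] at h1 ⊢
    obtain ⟨m, hm⟩ := h1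
    exact ⟨n * m, by rw [pow_mul, hm]⟩
  have h3 := h h2
  rw [← ker_qMap] at h3
  exact h3

end Common

end Groth.Agent.Lib.Helper26.PerfArt
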