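import Groth.Agent.Lib.Helper26.PerfArt1
import Groth.Agent.Lib.Helper26.PerfArt2
import Groth.Agent.Lib.Helper40.PerfectRed

set_option autoImplicit false
set_option linter.unusedSectionVars false
set_option linter.style.haveILetI false
set_option maxHeartbeats 800000

universe u

open TensorProduct

namespace Groth.Agent.Lib.Helper26.PerfArt

section Backward

variable (p : ℕ) [Fact p.Prime] (k K : Type u) [Field k] [CharP k p] [Field K] [Algebra k K]
  (P : Type u) [Field P] [Algebra k P] [PerfectRing P p] [IsPRadical (algebraMap k P) p]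

include p in
theorem isArtinian_of_exists (k' : Type u) [Field k'] [Algebra k k'] [Module.Finite k k']
    [IsPurelyInseparable k k']
    [Algebra.IsGeometricallyReduced k' ((k' ⊗[k] K) ⧸ nilradical (k' ⊗[k] K))] :
    IsArtinianRing (K ⊗[k] P) := by
  haveI : ExpChar k p := ExpChar.prime Fact.out
  haveI : CharP P p := charP_of_injective_algebraMap (algebraMap k P).injective p
  haveI : ExpChar P p := ExpChar.prime Fact.out
  haveI : CharP k' p := charP_of_injective_algebraMap (algebraMap k k').injective p
  haveI : ExpChar k' p := ExpChar.prime Fact.out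
  let j : k' →+* P := PerfectRing.lift (algebraMap k k') (algebraMap k P) p
  have hj : j.comp (algebraMap k k') = algebraMap k P := PerfectRing.lift_comp _ _ p
  letI : Algebra k' P := j.toAlgebra
  haveI : IsScalarTower k k' P :=
    IsScalarTower.of_algebraMap_eq (fun x => (RingHom.congr_fun hj x).symm)
  haveI : IsPurelyInseparable k P := IsPRadical.isPurelyInseparable k P p
  haveI : Algebra.IsAlgebraic k P := inferInstance
  haveI : Algebra.IsAlgebraic k' P := Algebra.IsAlgebraic.tower_top (K := k) k'
  haveI : IsReduced (P ⊗[k'] ((k' ⊗[k] K) ⧸ nilradical (k' ⊗[k] K))) := inferInstance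
  have hnil := nilradical_eq_of_isReduced k K P k'
  haveI : IsNoetherianRing (K ⊗[k] k') := Algebra.FiniteType.isNoetherianRing K (K ⊗[k] k')
  haveI : IsNoetherianRing (k' ⊗[k] K) :=
    isNoetherianRing_of_ringEquiv (K ⊗[k] k') (Algebra.TensorProduct.comm k K k').toRingEquiv
  have hfg : (nilradical (P ⊗[k'] (k' ⊗[k] K))).FG := by
    rw [hnil]
    exact Ideal.FG.map (IsNoetherian.noetherian (nilradical (k' ⊗[k] K))) _
  have hnu : ∀ x : P ⊗[k'] (k' ⊗[k] K), IsNilpotent x ∨ IsUnit x := by
    intro x
    rcases nil_or_unit p k K P (fEquiv k K P k' x) with h | h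
    · left
      exact (IsNilpotent.map_iff (fEquiv k K P k').injective).1 h
    · right
      exact (isUnit_map_iff (fEquiv k K P k') x).1 h
  haveI : Nontrivial (P ⊗[k'] (k' ⊗[k] K)) := (fEquiv k K P k').symm.injective.nontrivial
  haveI := isArtinianRing_of_nil_or_unit _ hnu hfg
  exact (fEquiv k K P k').surjective.isArtinianRing

end Backward

end Groth.Agent.Lib.Helper26.PerfArt
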