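import Groth.Agent.Lib.Helper26.PerfArt1
import Groth.Agent.Lib.Helper26.PerfArt2
import Groth.Agent.Lib.Helper40.PerfectRed

set_option autoImplicit false
set_option linter.unusedSectionVars false
set_option linter.style.haveILetI false
set_option maxHeartbeats 800000

universe u

open TensorProduct

namespace Groth.Agent.Lib.Helper26.PerfArt

section Level

variable (k K P : Type*) [Field k] [Field K] [Algebra k K] [Field P] [Algebra k P]

/-- The range of `K ⊗ E → K ⊗ P` for an intermediate field `E`. -/
noncomputable def lvl (E : IntermediateField k P) : Subalgebra k (K ⊗[k] P) :=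
  (Algebra.TensorProduct.map (AlgHom.id k K) E.val).range

theorem lvl_mono {E E' : IntermediateField k P} (h : E ≤ E') : lvl k K P E ≤ lvl k K P E' := by
  rintro _ ⟨y, rfl⟩
  refine ⟨Algebra.TensorProduct.map (AlgHom.id k K) (IntermediateField.inclusion h) y, ?_⟩
  induction y with
  | zero => simp
  | tmul a b => simp
  | add x y hx hy => simp only [map_add, hx, hy]

theorem exists_mem_lvl (x : K ⊗[k] P) :
    ∃ S : Finset P, x ∈ lvl k K P (IntermediateField.adjoin k (S : Set P)) := by
  classical
  induction x with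
  | zero => exact ⟨∅, Subalgebra.zero_mem _⟩
  | tmul a b =>
    refine ⟨{b}, ⟨a ⊗ₜ ⟨b, IntermediateField.subset_adjoin k _ (by simp)⟩, ?_⟩⟩
    simp
  | add x y hx hy =>
    obtain ⟨S, hS⟩ := hx
    obtain ⟨T, hT⟩ := hy
    refine ⟨S ∪ T, Subalgebra.add_mem _ ?_ ?_⟩
    · exact lvl_mono k K P (IntermediateField.adjoin.mono k _ _ (by simp)) hS
    · exact lvl_mono k K P (IntermediateField.adjoin.mono k _ _ (by simp)) hT

theorem exists_forall_mem_lvl (s : Finset (K ⊗[k] P)) :
    ∃ S : Finset P, ∀ x ∈ s, x ∈ lvl k K P (IntermediateField.adjoin k (S : Set P)) := by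
  classical
  induction s using Finset.induction_on with
  | empty => exact ⟨∅, by simp⟩
  | insert a s _ ih =>
    obtain ⟨S, hS⟩ := ih
    obtain ⟨T, hT⟩ := exists_mem_lvl k K P a
    refine ⟨S ∪ T, fun x hx => ?_⟩
    rcases Finset.mem_insert.1 hx with rfl | hx
    · exact lvl_mono k K P (IntermediateField.adjoin.mono k _ _ (by simp)) hT
    · exact lvl_mono k K P (IntermediateField.adjoin.mono k _ _ (by simp)) (hS x hx)

end Level

end Groth.Agent.Lib.Helper26.PerfArt

namespace Groth.Agent.Lib.Helper26.PerfArt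

section Forward

variable (p : ℕ) [Fact p.Prime] (k K : Type u) [Field k] [CharP k p] [Field K] [Algebra k K]
  (P : Type u) [Field P] [Algebra k P] [PerfectRing P p] [IsPRadical (algebraMap k P) p]

theorem psi_injective (k K P k' : Type*) [Field k] [Field K] [Algebra k K] [Field P] [Algebra k P]
    [Field k'] [Algebra k k'] [Algebra k' P] [IsScalarTower k k' P] :
    Function.Injective (psi k K P k') := by
  have h1 : Function.Injective (Algebra.TensorProduct.map (AlgHom.id k K)
      (IsScalarTower.toAlgHom k k' P)) :=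
    Module.Flat.lTensor_preserves_injective_linearMap (M := K)
      (IsScalarTower.toAlgHom k k' P).toLinearMap (algebraMap k' P).injective
  exact h1.comp (Algebra.TensorProduct.comm k k' K).injective

include p in
/-- Abstract form: generators of the nilradical coming from `k' ⊗ K` force geometric
reducedness of `(k' ⊗ K)_red` over `k'`. -/
theorem geomRed_of_gens (k' : Type u) [Field k'] [Algebra k k'] [Algebra k' P]
    [IsScalarTower k k' P] [Algebra.IsAlgebraic k' P]
    (s : Set (K ⊗[k] P)) (hs : Ideal.span s = nilradical (K ⊗[k] P))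
    (hS : ∀ x ∈ s, ∃ y : k' ⊗[k] K, psi k K P k' y = x) :
    Algebra.IsGeometricallyReduced k' ((k' ⊗[k] K) ⧸ nilradical (k' ⊗[k] K)) := by
  haveI : CharP P p := charP_of_injective_algebraMap (algebraMap k P).injective p
  have hle : nilradical (P ⊗[k'] (k' ⊗[k] K)) ≤ (nilradical (k' ⊗[k] K)).map
      (Algebra.TensorProduct.includeRight : k' ⊗[k] K →ₐ[k'] P ⊗[k'] (k' ⊗[k] K)) := by
    intro z hz
    have h1 : fEquiv k K P k' z ∈ nilradical (K ⊗[k] P) :=
      mem_nilradical.2 ((mem_nilradical.1 hz).map _)
    have h2 : Ideal.span s ≤ Ideal.map (fEquiv k K P k')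
        ((nilradical (k' ⊗[k] K)).map
          (Algebra.TensorProduct.includeRight : k' ⊗[k] K →ₐ[k'] P ⊗[k'] (k' ⊗[k] K))) := by
      rw [Ideal.span_le]
      intro x hx
      obtain ⟨y, hψ⟩ := hS x hx
      have hxnil : IsNilpotent x := by
        have : x ∈ nilradical (K ⊗[k] P) := by
          rw [← hs]; exact Ideal.subset_span hx
        exact mem_nilradical.1 this
      have hynil : y ∈ nilradical (k' ⊗[k] K) := by
        rw [mem_nilradical]
        rw [← hψ] at hxnil
        exact (IsNilpotent.map_iff (psi_injective k K P k')).1 hxnil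
      have hx' : x = fEquiv k K P k' ((1 : P) ⊗ₜ[k'] y) := by
        rw [fEquiv_includeRight, hψ]
      rw [hx']
      exact Ideal.mem_map_of_mem _ (Ideal.mem_map_of_mem _ hynil)
    rw [← hs] at h1
    have h3 := h2 h1
    rw [Ideal.mem_map_of_equiv] at h3
    obtain ⟨w, hw, hwz⟩ := h3
    rwa [← (fEquiv k K P k').injective hwz]
  haveI hred : IsReduced (P ⊗[k'] ((k' ⊗[k] K) ⧸ nilradical (k' ⊗[k] K))) :=
    isReduced_of_nilradical_le k K P k' hle
  rw [Algebra.isGeometricallyReduced_field_iff]
  let j' : P →ₐ[k'] AlgebraicClosure k' := IsAlgClosed.lift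
  letI : Algebra P (AlgebraicClosure k') := j'.toRingHom.toAlgebra
  haveI : IsScalarTower k' P (AlgebraicClosure k') :=
    IsScalarTower.of_algebraMap_eq (fun x => (j'.commutes x).symm)
  haveI : IsReduced (AlgebraicClosure k' ⊗[P] (P ⊗[k'] ((k' ⊗[k] K) ⧸ nilradical (k' ⊗[k] K)))) :=
    Groth.Agent.Lib.Helper40.PerfectRed.isReduced_tensorProduct P p (AlgebraicClosure k')
      (P ⊗[k'] ((k' ⊗[k] K) ⧸ nilradical (k' ⊗[k] K)))
  exact isReduced_of_injective
    (Algebra.TensorProduct.cancelBaseChange k' P (AlgebraicClosure k') (AlgebraicClosure k')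
      ((k' ⊗[k] K) ⧸ nilradical (k' ⊗[k] K))).symm
    (Algebra.TensorProduct.cancelBaseChange k' P (AlgebraicClosure k') (AlgebraicClosure k')
      ((k' ⊗[k] K) ⧸ nilradical (k' ⊗[k] K))).symm.injective

/-- Elements of the level of `E` come from `E ⊗ K` through `psi`. -/
theorem exists_psi_eq_of_mem_lvl (k K P : Type*) [Field k] [Field K] [Algebra k K] [Field P]
    [Algebra k P] (E : IntermediateField k P) (x : K ⊗[k] P) (hx : x ∈ lvl k K P E) :
    ∃ y : E ⊗[k] K, psi k K P E y = x := by
  obtain ⟨y', hy'⟩ := hx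
  refine ⟨Algebra.TensorProduct.comm k K E y', ?_⟩
  rw [← hy']
  have key : ∀ w : K ⊗[k] E, psi k K P E (Algebra.TensorProduct.comm k K E w) =
      Algebra.TensorProduct.map (AlgHom.id k K) E.val w := by
    intro w
    induction w with
    | zero => simp
    | tmul a b => simp [psi]
    | add u v hu hv => simp only [map_add, hu, hv]
  exact key y'

include p in
theorem exists_of_isArtinian [IsArtinianRing (K ⊗[k] P)] :
    ∃ (k' : Type u) (_ : Field k') (_ : Algebra k k'), Module.Finite k k' ∧
      IsPurelyInseparable k k' ∧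
      Algebra.IsGeometricallyReduced k' ((k' ⊗[k] K) ⧸ nilradical (k' ⊗[k] K)) := by
  classical
  haveI : ExpChar k p := ExpChar.prime Fact.out
  haveI : IsPurelyInseparable k P := IsPRadical.isPurelyInseparable k P p
  haveI : Algebra.IsAlgebraic k P := inferInstance
  haveI : IsNoetherianRing (K ⊗[k] P) := inferInstance
  obtain ⟨s, hs⟩ := (IsNoetherian.noetherian (nilradical (K ⊗[k] P)))
  obtain ⟨S, hS⟩ := exists_forall_mem_lvl k K P s
  haveI : Module.Finite k (IntermediateField.adjoin k (S : Set P)) :=
    IntermediateField.finiteDimensional_adjoin (fun x _ => Algebra.IsIntegral.isIntegral x)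
  haveI : IsPurelyInseparable k (IntermediateField.adjoin k (S : Set P)) :=
    IsPurelyInseparable.tower_bot k (IntermediateField.adjoin k (S : Set P)) P
  haveI : Algebra.IsAlgebraic (IntermediateField.adjoin k (S : Set P)) P :=
    Algebra.IsAlgebraic.tower_top (K := k) (IntermediateField.adjoin k (S : Set P))
  refine ⟨IntermediateField.adjoin k (S : Set P), inferInstance, inferInstance, inferInstance,
    inferInstance, ?_⟩
  exact geomRed_of_gens p k K P (IntermediateField.adjoin k (S : Set P)) (s : Set (K ⊗[k] P)) hs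
    (fun x hx => exists_psi_eq_of_mem_lvl k K P _ x (hS x hx))

end Forward

end Groth.Agent.Lib.Helper26.PerfArt
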