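import Mathlib

open scoped BigOperators

namespace Groth.Agent.Lib.Helper26.PruferA

variable {K : Type*} [Field K]

/-- geometric sum -/
noncomputable def gs (z : K) (s : ℕ) : K := ∑ k ∈ Finset.range s, z ^ k

lemma gs_succ (z : K) (s : ℕ) : gs z (s + 1) = gs z s + z ^ s := by
  simp [gs, Finset.sum_range_succ]

/-- If `z ∉ V`, then `v (gs z (s+1)) = v z ^ s`. -/
lemma val_gs_of_not_mem (V : ValuationSubring K) (z : K) (hz : z ∉ V) (s : ℕ) :
    V.valuation (gs z (s + 1)) = V.valuation z ^ s := by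
  have h1 : 1 < V.valuation z := by
    rw [← not_le, V.valuation_le_one_iff]; exact hz
  induction s with
  | zero => simp [gs]
  | succ n ih =>
    rw [gs_succ]
    have hlt : V.valuation (gs z (n + 1)) < V.valuation (z ^ (n + 1)) := by
      rw [ih, map_pow, pow_succ]
      have hpos : 0 < V.valuation z ^ n := by
        apply pow_pos; exact lt_trans zero_lt_one h1
      calc V.valuation z ^ n = V.valuation z ^ n * 1 := (mul_one _).symm
        _ < V.valuation z ^ n * V.valuation z := by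
            exact (mul_lt_mul_iff_right₀ hpos).mpr h1
    rw [Valuation.map_add_eq_of_lt_right _ hlt, map_pow]

lemma cond_of_not_mem (V : ValuationSubring K) (z : K) (hz : z ∉ V) (s : ℕ) (hs : 2 ≤ s) :
    (gs z s)⁻¹ ∈ V ∧ z * (gs z s)⁻¹ ∈ V := by
  obtain ⟨n, rfl⟩ : ∃ n, s = n + 2 := ⟨s - 2, by omega⟩
  have h1 : 1 < V.valuation z := by
    rw [← not_le, V.valuation_le_one_iff]; exact hz
  have hv := val_gs_of_not_mem V z hz (n + 1)
  have hz0 : V.valuation z ≠ 0 := (lt_trans zero_lt_one h1).ne'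
  constructor
  · rw [← V.valuation_le_one_iff, map_inv₀, hv]
    apply inv_le_one_of_one_le₀
    exact one_le_pow₀ h1.le
  · rw [← V.valuation_le_one_iff, map_mul, map_inv₀, hv, pow_succ, mul_inv_rev, ← mul_assoc,
      mul_inv_cancel₀ hz0, one_mul]
    apply inv_le_one_of_one_le₀
    exact one_le_pow₀ h1.le

end Groth.Agent.Lib.Helper26.PruferA

namespace Groth.Agent.Lib.Helper26.PruferA

variable {K : Type*} [Field K]

lemma cond_of_mem (V : ValuationSubring K) (z : K) (hz : z ∈ V) :
    ∃ c : ℕ, 1 ≤ c ∧ ∀ s : ℕ, c ∣ s - 1 → 1 ≤ s →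
      gs z s ∈ V ∧ (gs z s)⁻¹ ∈ V ∧ gs z s ≠ 0 := by
  classical
  set k := IsLocalRing.ResidueField V with hk
  set z' : V := ⟨z, hz⟩ with hz'
  set zb : k := IsLocalRing.residue V z' with hzb
  set c1 : ℕ := if orderOf zb = 0 then 1 else orderOf zb with hc1
  set c2 : ℕ := if ringChar k = 0 then 1 else ringChar k with hc2
  have hc1pos : 1 ≤ c1 := by
    rw [hc1]; split_ifs with h
    · exact le_rfl
    · exact Nat.one_le_iff_ne_zero.mpr h
  have hc2pos : 1 ≤ c2 := by
    rw [hc2]; split_ifs with h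
    · exact le_rfl
    · exact Nat.one_le_iff_ne_zero.mpr h
  refine ⟨c1 * c2, Nat.mul_pos hc1pos hc2pos, ?_⟩
  intro s hdvd hs
  set g : V := ∑ i ∈ Finset.range s, z' ^ i with hg
  have hgK : (g : K) = gs z s := by
    simp [hg, gs, hz']
  have hF : IsLocalRing.residue V g = ∑ i ∈ Finset.range s, zb ^ i := by
    simp [hg, hzb, map_sum, map_pow]
  have hne : IsLocalRing.residue V g ≠ 0 := by
    intro h0
    rw [hF] at h0
    by_cases h1 : zb = 1
    · rw [h1] at h0
      simp only [one_pow, Finset.sum_const, Finset.card_range, nsmul_eq_mul, mul_one] at h0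
      have hd : ringChar k ∣ s := (ringChar.spec k s).mp h0
      by_cases hr : ringChar k = 0
      · rw [hr] at hd
        have : s = 0 := Nat.eq_zero_of_zero_dvd hd
        omega
      · have hc2' : c2 = ringChar k := by rw [hc2, if_neg hr]
        have hd2 : ringChar k ∣ s - 1 := by
          refine Dvd.dvd.trans ?_ hdvd
          rw [← hc2']; exact Dvd.intro_left c1 rfl
        have hd1 : ringChar k ∣ 1 := by
          have := (Nat.dvd_sub hd hd2)
          have e : s - (s - 1) = 1 := by omega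
          rwa [e] at this
        have := Nat.dvd_one.mp hd1
        exact CharP.ringChar_ne_one this
    · have hmul := geom_sum_mul zb s
      rw [h0, zero_mul] at hmul
      have hpow : zb ^ s = 1 := by
        have := hmul.symm
        exact sub_eq_zero.mp this
      have hd : orderOf zb ∣ s := orderOf_dvd_of_pow_eq_one hpow
      by_cases ho : orderOf zb = 0
      · rw [ho] at hd
        have : s = 0 := Nat.eq_zero_of_zero_dvd hd
        omega
      · have hc1' : c1 = orderOf zb := by rw [hc1, if_neg ho]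
        have hd2 : orderOf zb ∣ s - 1 := by
          refine Dvd.dvd.trans ?_ hdvd
          rw [← hc1']; exact Dvd.intro c2 rfl
        have hd1 : orderOf zb ∣ 1 := by
          have := (Nat.dvd_sub hd hd2)
          have e : s - (s - 1) = 1 := by omega
          rwa [e] at this
        have := Nat.dvd_one.mp hd1
        exact h1 (orderOf_eq_one_iff.mp this)
  have hunit : IsUnit g := (IsLocalRing.residue_ne_zero_iff_isUnit g).mp hne
  obtain ⟨w, hw⟩ := hunit.exists_right_inv
  have hwK : (g : K) * (w : K) = 1 := by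
    have := congrArg (fun x : V => (x : K)) hw
    simpa using this
  refine ⟨hgK ▸ g.2, ?_, ?_⟩
  · rw [← hgK]
    have : (g : K)⁻¹ = w := inv_eq_of_mul_eq_one_right hwK
    rw [this]; exact w.2
  · rw [← hgK]
    exact left_ne_zero_of_mul_eq_one hwK

end Groth.Agent.Lib.Helper26.PruferA

namespace Groth.Agent.Lib.Helper26.PruferA

variable {K : Type*} [Field K]

/-- Matsumura 12.2 trick: for a finite family of valuation subrings and `z : K`, there is
`s ≥ 2` with `u = (1 + z + ⋯ + z^(s-1))⁻¹` and `z u` in all `V j`, and `u` a unit of `V j`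
whenever `z ∈ V j`. -/
theorem exists_gs {ι : Type*} [Finite ι] (V : ι → ValuationSubring K) (z : K) :
    ∃ s : ℕ, 2 ≤ s ∧ ∀ j, (gs z s)⁻¹ ∈ V j ∧ z * (gs z s)⁻¹ ∈ V j ∧
      (z ∈ V j → gs z s ∈ V j ∧ gs z s ≠ 0) := by
  classical
  have := Fintype.ofFinite ι
  have hc : ∀ j, ∃ c : ℕ, 1 ≤ c ∧ (z ∈ V j → ∀ s : ℕ, c ∣ s - 1 → 1 ≤ s →
      gs z s ∈ V j ∧ (gs z s)⁻¹ ∈ V j ∧ gs z s ≠ 0) := by
    intro j
    by_cases hz : z ∈ V j
    · obtain ⟨c, hc1, hc2⟩ := cond_of_mem (V j) z hz
      exact ⟨c, hc1, fun _ => hc2⟩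
    · exact ⟨1, le_rfl, fun h => absurd h hz⟩
  choose c hc1 hc2 using hc
  have hprod : 1 ≤ ∏ j, c j := by
    apply Nat.one_le_iff_ne_zero.mpr
    apply Finset.prod_ne_zero_iff.mpr
    intro j _
    exact Nat.one_le_iff_ne_zero.mp (hc1 j)
  refine ⟨1 + ∏ j, c j, by omega, ?_⟩
  intro j
  have hd : c j ∣ (1 + ∏ j, c j) - 1 := by
    rw [Nat.add_sub_cancel_left]
    exact Finset.dvd_prod_of_mem c (Finset.mem_univ j)
  by_cases hz : z ∈ V j
  · obtain ⟨h1, h2, h3⟩ := hc2 j hz _ hd (by omega)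
    exact ⟨h2, (V j).mul_mem _ _ hz h2, fun _ => ⟨h1, h3⟩⟩
  · obtain ⟨h1, h2⟩ := cond_of_not_mem (V j) z hz (1 + ∏ j, c j) (by omega)
    exact ⟨h1, h2, fun h => absurd h hz⟩

end Groth.Agent.Lib.Helper26.PruferA
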