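import Mathlib
import Groth.Agent.Lib.Helper73.DimFormula

namespace Groth.Agent.Lib.Helper26.PruferB
universe u

open Groth.Agent.Lib.Helper73.DimFormula

/-- A birational (not necessarily finite type) overring `D` of a Noetherian domain `A`
has `dim D ≤ dim A`. -/
theorem ringKrullDim_le_of_birational (A D : Type u) [CommRing A] [IsDomain A]
    [IsNoetherianRing A] [CommRing D] [IsDomain D] [Algebra A D] [FaithfulSMul A D]
    (h : ∀ x : D, ∃ a b : A, b ≠ 0 ∧ x * algebraMap A D b = algebraMap A D a) :
    ringKrullDim D ≤ ringKrullDim A := by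
  unfold ringKrullDim
  conv_lhs => unfold Order.krullDim
  apply iSup_le
  intro l
  have hx : ∀ j : Fin l.length, ∃ x : D, x ∈ (l j.succ).asIdeal ∧
      x ∉ (l j.castSucc).asIdeal := by
    intro j
    have hlt : l j.castSucc < l j.succ := l.step j
    have : (l j.castSucc).asIdeal < (l j.succ).asIdeal := hlt
    obtain ⟨x, hx1, hx2⟩ := SetLike.exists_of_lt this
    exact ⟨x, hx1, hx2⟩
  choose x hx1 hx2 using hx
  let B : Subalgebra A D := Algebra.adjoin A (Set.range x)
  have hfg : B.FG := by
    have := Subalgebra.fg_adjoin_finset (R := A) (Set.finite_range x).toFinset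
    simpa using this
  have : Algebra.FiniteType A B := (Subalgebra.fg_iff_finiteType B).mp hfg
  have : FaithfulSMul A B := by
    rw [faithfulSMul_iff_algebraMap_injective]
    intro a b hab
    apply FaithfulSMul.algebraMap_injective A D
    have := congrArg (fun t : B => (t : D)) hab
    simpa using this
  let q : Fin (l.length + 1) → PrimeSpectrum B :=
    fun j => ⟨(l j).asIdeal.comap (algebraMap B D), inferInstance⟩
  have hstep : ∀ j : Fin l.length, q j.castSucc < q j.succ := by
    intro j
    have hle : (l j.castSucc).asIdeal ≤ (l j.succ).asIdeal := (l.step j).le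
    have hxB : x j ∈ B := Algebra.subset_adjoin ⟨j, rfl⟩
    refine lt_of_le_of_ne (Ideal.comap_mono hle) ?_
    intro heq
    have h1 : (⟨x j, hxB⟩ : B) ∈ (q j.succ).asIdeal := by
      show algebraMap B D ⟨x j, hxB⟩ ∈ (l j.succ).asIdeal
      exact hx1 j
    have h2 : (⟨x j, hxB⟩ : B) ∉ (q j.castSucc).asIdeal := by
      show algebraMap B D ⟨x j, hxB⟩ ∉ (l j.castSucc).asIdeal
      exact hx2 j
    rw [heq] at h2
    exact h2 h1
  let lB : LTSeries (PrimeSpectrum B) := ⟨l.length, q, hstep⟩
  have hlen : (l.length : ℕ∞) ≤ (q (Fin.last _)).asIdeal.height := by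
    rw [PrimeSpectrum.height_eq_orderHeight]
    exact Order.length_le_height_last (p := lB)
  set Q : Ideal B := (q (Fin.last _)).asIdeal with hQ
  have : Q.IsPrime := (q (Fin.last _)).isPrime
  have hineq := height_add_trdeg_le A B (Q.under A) Q
  have : Algebra.IsAlgebraic A B := by
    constructor
    intro b
    obtain ⟨a, c, hc, hac⟩ := h (b : D)
    refine ⟨Polynomial.C c * Polynomial.X - Polynomial.C a, ?_, ?_⟩
    · intro h0
      have := congrArg (fun p : Polynomial A => p.coeff 1) h0
      simp only [Polynomial.coeff_sub, Polynomial.coeff_C_mul, Polynomial.coeff_X_one, mul_one,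
        Polynomial.coeff_C, one_ne_zero, if_false, sub_zero, Polynomial.coeff_zero] at this
      exact hc this
    · apply Subtype.ext
      simp only [map_sub, map_mul, Polynomial.aeval_C, Polynomial.aeval_X]
      show ((algebraMap A B c * b - algebraMap A B a : B) : D) = 0
      rw [Subalgebra.coe_sub, Subalgebra.coe_mul, sub_eq_zero, mul_comm]
      exact hac
  rw [trdeg_eq_zero (R := A) (A := B), add_zero] at hineq
  have h2 : (Q.height : Cardinal.{u}) ≤ ((Q.under A).height : Cardinal.{u}) :=
    le_trans (le_add_right le_rfl) hineq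
  have h3 : Q.height ≤ (Q.under A).height := Cardinal.ofENat_le_ofENat.mp h2
  have h4 : ((Q.under A).height : WithBot ℕ∞) ≤ Order.krullDim (PrimeSpectrum A) :=
    Ideal.height_le_ringKrullDim_of_ne_top (Ideal.IsPrime.ne_top inferInstance)
  calc ((l.length : ℕ∞) : WithBot ℕ∞) ≤ (Q.height : WithBot ℕ∞) := by exact_mod_cast hlen
    _ ≤ ((Q.under A).height : WithBot ℕ∞) := by exact_mod_cast h3
    _ ≤ _ := h4

end Groth.Agent.Lib.Helper26.PruferB
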