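import Mathlib
import Groth.Agent.Lib.Helper26.PruferA

namespace Groth.Agent.Lib.Helper26.PruferC


variable {R : Type*} [CommRing R] [IsDomain R] (K : Type*) [Field K] [Algebra R K]
  [IsFractionRing R K]

/-- The localization at a prime, as a valuation subring of the fraction field. -/
noncomputable def Vp (p : Ideal R) [p.IsPrime] [ValuationRing (Localization.AtPrime p)] :
    ValuationSubring K :=
  { toSubring :=
      (Localization.subalgebra.ofField K p.primeCompl p.primeCompl_le_nonZeroDivisors).toSubring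
    mem_or_inv_mem' := by
      intro x
      set S := Localization.subalgebra.ofField K p.primeCompl p.primeCompl_le_nonZeroDivisors
        with hS
      let e : Localization.AtPrime p ≃ₐ[R] S :=
        IsLocalization.algEquiv p.primeCompl (Localization.AtPrime p) S
      haveI : ValuationRing S :=
        Function.Surjective.valuationRing (e : Localization.AtPrime p →+* S) e.surjective
      rcases ValuationRing.isInteger_or_isInteger S (K := K) x with ⟨y, hy⟩ | ⟨y, hy⟩
      · left
        show x ∈ S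
        rw [← hy]; exact y.2
      · right
        show x⁻¹ ∈ S
        rw [← hy]; exact y.2 }

lemma mem_Vp (p : Ideal R) [p.IsPrime] [ValuationRing (Localization.AtPrime p)] (x : K) :
    x ∈ Vp K p ↔ ∃ a b : R, b ∉ p ∧ x = algebraMap R K a * (algebraMap R K b)⁻¹ := by
  show x ∈ Localization.subalgebra.ofField K p.primeCompl p.primeCompl_le_nonZeroDivisors ↔ _
  constructor
  · rintro ⟨a, b, hb, h⟩
    exact ⟨a, b, hb, h⟩
  · rintro ⟨a, b, hb, h⟩
    exact ⟨a, b, hb, h⟩


end Groth.Agent.Lib.Helper26.PruferC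

namespace Groth.Agent.Lib.Helper26.PruferC

open Groth.Agent.Lib.Helper26.PruferA

section abstract

variable {R : Type*} [CommRing R] [IsDomain R] {K : Type*} [Field K] [Algebra R K]
  [IsFractionRing R K]
  (V : MaximalSpectrum R → ValuationSubring K)
  (hV : ∀ m x, x ∈ V m ↔ ∃ a b : R, b ∉ m.asIdeal ∧ x = algebraMap R K a * (algebraMap R K b)⁻¹)
  (K₀ : Subfield K) (R' : Subring R) (hR' : ∀ x, x ∈ R' ↔ algebraMap R K x ∈ K₀)

include hV in
lemma inter (x : K) (hx : ∀ m, x ∈ V m) : ∃ r : R, algebraMap R K r = x := by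
  have h := MaximalSpectrum.iInf_localization_eq_bot R K
  have hx' : x ∈ (⨅ v : MaximalSpectrum R,
      Localization.subalgebra.ofField K _ v.asIdeal.primeCompl_le_nonZeroDivisors) := by
    rw [Algebra.mem_iInf]
    intro m
    obtain ⟨a, b, hb, h⟩ := (hV m x).mp (hx m)
    exact ⟨a, b, hb, h⟩
  rw [h, Algebra.mem_bot] at hx'
  exact hx'

include hV hR' in
lemma key2 [Finite (MaximalSpectrum R)] (m : MaximalSpectrum R) (z : K) (hz0 : z ∈ K₀)
    (hz : z ∈ V m) :
    ∃ a b : R, a ∈ R' ∧ b ∈ R' ∧ b ∉ m.asIdeal ∧ z * algebraMap R K b = algebraMap R K a := by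
  obtain ⟨s, hs, hcond⟩ := exists_gs V z
  have hg0 : gs z s ∈ K₀ := by
    unfold gs
    exact Subfield.sum_mem _ (fun i _ => Subfield.pow_mem _ hz0 i)
  obtain ⟨b, hb⟩ := inter V hV ((gs z s)⁻¹) (fun j => (hcond j).1)
  obtain ⟨a, ha⟩ := inter V hV (z * (gs z s)⁻¹) (fun j => (hcond j).2.1)
  refine ⟨a, b, ?_, ?_, ?_, ?_⟩
  · rw [hR', ha]; exact Subfield.mul_mem _ hz0 (Subfield.inv_mem _ hg0)
  · rw [hR', hb]; exact Subfield.inv_mem _ hg0
  · intro hbm
    obtain ⟨hgV, hgne⟩ := (hcond m).2.2 hz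
    obtain ⟨c, d, hd, hcd⟩ := (hV m _).mp hgV
    have hd0 : algebraMap R K d ≠ 0 := by
      intro h0
      have : d = 0 := (IsFractionRing.injective R K) (by rw [h0, map_zero])
      exact hd (this ▸ m.asIdeal.zero_mem)
    have h1 : algebraMap R K b * gs z s = 1 := by
      rw [hb]; exact inv_mul_cancel₀ hgne
    rw [hcd, ← mul_assoc, mul_inv_eq_iff_eq_mul₀ hd0, one_mul, ← map_mul] at h1
    have : b * c = d := IsFractionRing.injective R K h1
    exact hd (this ▸ m.asIdeal.mul_mem_right c hbm)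
  · rw [hb, ha]

include hR' in
lemma unit_of_not_mem (x : R) (hx : x ∈ R') (hxm : ∀ m : MaximalSpectrum R, x ∉ m.asIdeal) :
    ∃ y ∈ R', x * y = 1 := by
  have hu : IsUnit x := by
    by_contra hnu
    obtain ⟨M, hM, hxM⟩ := exists_max_ideal_of_mem_nonunits hnu
    exact hxm ⟨M, hM⟩ hxM
  obtain ⟨y, hy⟩ := hu.exists_right_inv
  refine ⟨y, ?_, hy⟩
  rw [hR']
  have h1 : algebraMap R K x * algebraMap R K y = 1 := by rw [← map_mul, hy, map_one]
  have : algebraMap R K y = (algebraMap R K x)⁻¹ := eq_inv_of_mul_eq_one_right h1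
  rw [this]
  exact Subfield.inv_mem _ ((hR' x).mp hx)

/-- the contraction of a maximal ideal of `R` to `R'`. -/
def nm (m : MaximalSpectrum R) : Ideal R' := m.asIdeal.comap R'.subtype

instance (m : MaximalSpectrum R) : (nm R' m).IsPrime := by
  haveI := m.isMaximal.isPrime
  exact Ideal.comap_isPrime _ _

include hR' in
lemma le_some [Finite (MaximalSpectrum R)] (I : Ideal R') (hI : I ≠ ⊤) :
    ∃ m : MaximalSpectrum R, I ≤ nm R' m := by
  classical
  haveI := Fintype.ofFinite (MaximalSpectrum R)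
  obtain ⟨M₀, hM₀⟩ := Ideal.exists_maximal R
  let m₀ : MaximalSpectrum R := ⟨M₀, hM₀⟩
  have key := Ideal.subset_union_prime (R := R') (s := (Finset.univ : Finset (MaximalSpectrum R)))
    (f := fun m => nm R' m) m₀ m₀ (fun i _ _ _ => inferInstance) (I := I)
  by_contra hcon
  push_neg at hcon
  have hnot : ¬ ((I : Set R') ⊆ ⋃ i ∈ ((Finset.univ : Finset (MaximalSpectrum R)) : Set _),
      (nm R' i : Set R')) := by
    intro h
    obtain ⟨i, _, hi⟩ := key.mp h
    exact hcon i hi
  rw [Set.not_subset] at hnot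
  obtain ⟨x, hxI, hx⟩ := hnot
  simp only [Finset.coe_univ, Set.mem_univ, Set.iUnion_true, Set.mem_iUnion, SetLike.mem_coe,
    not_exists] at hx
  obtain ⟨y, hy, hxy⟩ := unit_of_not_mem K₀ R' hR' (x : R) x.2 (fun m hm => hx m hm)
  apply hI
  rw [Ideal.eq_top_iff_one]
  have : (1 : R') = x * ⟨y, hy⟩ := by
    apply Subtype.ext
    simp [hxy]
  rw [this]
  exact I.mul_mem_right _ hxI

include hR' in
lemma finite_maxSpec [Finite (MaximalSpectrum R)] : Finite (MaximalSpectrum R') := by
  have h : ∀ M : MaximalSpectrum R', ∃ m : MaximalSpectrum R, M.asIdeal ≤ nm R' m :=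
    fun M => le_some K₀ R' hR' M.asIdeal M.isMaximal.ne_top
  choose φ hφ using h
  apply Finite.of_injective φ
  intro M₁ M₂ h12
  have e1 : M₁.asIdeal = nm R' (φ M₁) :=
    M₁.isMaximal.eq_of_le (Ideal.IsPrime.ne_top inferInstance) (hφ M₁)
  have e2 : M₂.asIdeal = nm R' (φ M₂) :=
    M₂.isMaximal.eq_of_le (Ideal.IsPrime.ne_top inferInstance) (hφ M₂)
  ext1
  rw [e1, e2, h12]

include hV hR' in
lemma dvd_of_mem [Finite (MaximalSpectrum R)] (m : MaximalSpectrum R) (p' : Ideal R')
    [p'.IsPrime] (hp' : p' ≤ nm R' m) (x y : R') (hy : y ≠ 0)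
    (h : algebraMap R K x * (algebraMap R K y)⁻¹ ∈ V m) :
    algebraMap R' (Localization.AtPrime p') y ∣ algebraMap R' (Localization.AtPrime p') x := by
  have hz0 : algebraMap R K x * (algebraMap R K y)⁻¹ ∈ K₀ :=
    Subfield.mul_mem _ ((hR' x).mp x.2) (Subfield.inv_mem _ ((hR' y).mp y.2))
  obtain ⟨a, b, ha, hb, hbm, hab⟩ := key2 V hV K₀ R' hR' m _ hz0 h
  have hy0 : algebraMap R K y ≠ 0 := by
    intro h0
    have : (y : R) = 0 := (IsFractionRing.injective R K) (by rw [h0, map_zero])
    exact hy (Subtype.ext this)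
  have hxb : (x : R) * b = a * y := by
    apply IsFractionRing.injective R K
    rw [map_mul, map_mul, ← hab]
    field_simp
  have hxb' : x * (⟨b, hb⟩ : R') = ⟨a, ha⟩ * y := Subtype.ext hxb
  have hbp : (⟨b, hb⟩ : R') ∈ p'.primeCompl := by
    intro hbp
    exact hbm (hp' hbp)
  have hu : IsUnit (algebraMap R' (Localization.AtPrime p') ⟨b, hb⟩) :=
    IsLocalization.map_units (Localization.AtPrime p') ⟨_, hbp⟩
  have e := congrArg (algebraMap R' (Localization.AtPrime p')) hxb'
  rw [map_mul, map_mul] at e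
  obtain ⟨u, hu'⟩ := hu
  refine ⟨algebraMap R' (Localization.AtPrime p') ⟨a, ha⟩ * (u⁻¹ : (Localization.AtPrime p')ˣ), ?_⟩
  rw [← hu'] at e
  calc algebraMap R' (Localization.AtPrime p') x
      = algebraMap R' (Localization.AtPrime p') x * u * (u⁻¹ : (Localization.AtPrime p')ˣ) := by
        rw [mul_assoc, Units.mul_inv, mul_one]
    _ = _ := by rw [e]; ring

include hV hR' in
lemma valuationRing_localization [Finite (MaximalSpectrum R)] (p' : Ideal R') [p'.IsPrime] :
    ValuationRing (Localization.AtPrime p') := by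
  obtain ⟨m, hm⟩ := le_some K₀ R' hR' p' (Ideal.IsPrime.ne_top inferInstance)
  have base : ∀ x y : R', algebraMap R' (Localization.AtPrime p') x ∣
      algebraMap R' (Localization.AtPrime p') y ∨
      algebraMap R' (Localization.AtPrime p') y ∣ algebraMap R' (Localization.AtPrime p') x := by
    intro x y
    by_cases hy : y = 0
    · left; rw [hy, map_zero]; exact dvd_zero _
    by_cases hx : x = 0
    · right; rw [hx, map_zero]; exact dvd_zero _
    rcases (V m).mem_or_inv_mem (algebraMap R K x * (algebraMap R K y)⁻¹) with h | h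
    · right
      exact dvd_of_mem V hV K₀ R' hR' m p' hm x y hy h
    · left
      rw [mul_inv_rev, inv_inv] at h
      exact dvd_of_mem V hV K₀ R' hR' m p' hm y x hx h
  rw [ValuationRing.iff_dvd_total]
  refine ⟨fun α β => ?_⟩
  obtain ⟨x, s, rfl⟩ := IsLocalization.exists_mk'_eq p'.primeCompl α
  obtain ⟨y, t, rfl⟩ := IsLocalization.exists_mk'_eq p'.primeCompl β
  have hα1 : IsLocalization.mk' (Localization.AtPrime p') x s ∣
      algebraMap R' (Localization.AtPrime p') x :=
    ⟨algebraMap R' _ s, (IsLocalization.mk'_spec _ x s).symm⟩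
  have hβ1 : IsLocalization.mk' (Localization.AtPrime p') y t ∣
      algebraMap R' (Localization.AtPrime p') y :=
    ⟨algebraMap R' _ t, (IsLocalization.mk'_spec _ y t).symm⟩
  have hα2 : algebraMap R' (Localization.AtPrime p') x ∣
      IsLocalization.mk' (Localization.AtPrime p') x s := by
    refine ⟨IsLocalization.mk' (Localization.AtPrime p') 1 s, ?_⟩
    rw [IsLocalization.mul_mk'_eq_mk'_of_mul, mul_one]
  have hβ2 : algebraMap R' (Localization.AtPrime p') y ∣
      IsLocalization.mk' (Localization.AtPrime p') y t := by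
    refine ⟨IsLocalization.mk' (Localization.AtPrime p') 1 t, ?_⟩
    rw [IsLocalization.mul_mk'_eq_mk'_of_mul, mul_one]
  rcases base x y with h | h
  · left; exact hα1.trans (h.trans hβ2)
  · right; exact hβ1.trans (h.trans hα2)

end abstract

end Groth.Agent.Lib.Helper26.PruferC
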