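import Mathlib
import Groth.Agent.Lib.Helper26.PruferB
import Groth.Agent.Lib.Helper26.PruferC

namespace Groth.Agent.Lib.Helper26.PruferD
universe u

open Groth.Agent.Lib.Helper26.PruferC

/-- A finitely generated `ℤ`-algebra has finite Krull dimension. -/
lemma ringKrullDim_lt_top_of_finiteType (A : Type u) [CommRing A] [Algebra.FiniteType ℤ A] :
    ringKrullDim A < ⊤ := by
  obtain ⟨n, f, hf⟩ := Algebra.FiniteType.iff_quotient_mvPolynomial''.mp
    (inferInstance : Algebra.FiniteType ℤ A)
  have h1 : ringKrullDim A ≤ ringKrullDim (MvPolynomial (Fin n) ℤ) :=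
    ringKrullDim_le_of_surjective (f : MvPolynomial (Fin n) ℤ →+* A) hf
  refine lt_of_le_of_lt h1 ?_
  rw [MvPolynomial.ringKrullDim_of_isNoetherianRing,
    IsPrincipalIdealRing.ringKrullDim_eq_one ℤ Int.not_isField]
  simp only [Nat.card_eq_fintype_card, Fintype.card_fin]
  have : (1 : WithBot ℕ∞) + (n : WithBot ℕ∞) = ((1 + n : ℕ) : WithBot ℕ∞) := by push_cast; rfl
  rw [this]
  exact WithBot.coe_lt_coe.mpr (WithTop.coe_lt_top _)

/-- finite dimensionality of the subring cut out by the subfield generated by `s`. -/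
lemma dim_lt_top (R : Type u) [CommRing R] [IsDomain R] (K : Type u) [Field K] [Algebra R K]
    [IsFractionRing R K] (s : Finset R) (R' : Subring R)
    (hR' : ∀ x, x ∈ R' ↔ algebraMap R K x ∈ Subfield.closure ((algebraMap R K) '' (s : Set R))) :
    ringKrullDim R' < ⊤ := by
  classical
  set A : Subalgebra ℤ R := Algebra.adjoin ℤ (s : Set R) with hA
  have hsR' : ∀ x ∈ s, x ∈ R' := fun x hx => (hR' x).mpr
    (Subfield.subset_closure ⟨x, hx, rfl⟩)
  have hAR' : ∀ a ∈ A, a ∈ R' := by
    have : A ≤ subalgebraOfSubring R' := by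
      apply Algebra.adjoin_le
      intro x hx
      exact hsR' x hx
    intro a ha
    exact this ha
  haveI : Algebra.FiniteType ℤ A :=
    (Subalgebra.fg_iff_finiteType A).mp (Subalgebra.fg_adjoin_finset s)
  haveI : IsNoetherianRing A := Algebra.FiniteType.isNoetherianRing ℤ A
  have hdimA : ringKrullDim A < ⊤ := ringKrullDim_lt_top_of_finiteType A
  let f : A →+* R' := RingHom.codRestrict (A.val : A →+* R) R' (fun a => hAR' a a.2)
  letI : Algebra A R' := f.toAlgebra
  have hf : ∀ a : A, ((algebraMap A R' a : R') : R) = (a : R) := fun a => rfl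
  haveI : FaithfulSMul A R' := by
    rw [faithfulSMul_iff_algebraMap_injective]
    intro a b hab
    apply Subtype.ext
    rw [← hf a, ← hf b, hab]
  refine lt_of_le_of_lt (PruferB.ringKrullDim_le_of_birational A R' ?_) hdimA
  intro x
  have hx := (hR' x).mp x.2
  rw [Subfield.mem_closure_iff] at hx
  obtain ⟨y, hy, z, hz, hyz⟩ := hx
  have hcl : Subring.closure ((algebraMap R K) '' (s : Set R)) ≤
      A.toSubring.map (algebraMap R K) := by
    rw [Subring.closure_le]
    rintro _ ⟨x, hx, rfl⟩
    exact ⟨x, Algebra.subset_adjoin hx, rfl⟩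
  obtain ⟨a, ha, rfl⟩ := hcl hy
  obtain ⟨b, hb, rfl⟩ := hcl hz
  by_cases hb0 : b = 0
  · refine ⟨0, 1, one_ne_zero, ?_⟩
    rw [hb0, map_zero, div_zero] at hyz
    have : (x : R) = 0 := IsFractionRing.injective R K (by rw [← hyz, map_zero])
    have hx0 : x = 0 := Subtype.ext this
    rw [hx0, map_zero, zero_mul]
  · refine ⟨⟨a, ha⟩, ⟨b, hb⟩, fun h => hb0 (congrArg Subtype.val h), ?_⟩
    apply Subtype.ext
    show (x : R) * b = a
    apply IsFractionRing.injective R K
    have hbK : algebraMap R K b ≠ 0 := by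
      intro h0
      exact hb0 (IsFractionRing.injective R K (by rw [h0, map_zero]))
    rw [map_mul, ← hyz]
    field_simp

/-- Stacks-style: a semilocal Prüfer domain is a directed union of finite-dimensional semilocal
Prüfer subrings. -/
theorem main (R : Type u) [CommRing R] [IsDomain R]
    (hR : ∀ (p : Ideal R) [p.IsPrime], ValuationRing (Localization.AtPrime p))
    (hfin : Finite (MaximalSpectrum R)) (s : Finset R) :
    ∃ R' : Subring R, (↑s : Set R) ⊆ R' ∧
      (∀ (p : Ideal R') [p.IsPrime], ValuationRing (Localization.AtPrime p)) ∧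
      Finite (MaximalSpectrum R') ∧ ringKrullDim R' < ⊤ := by
  let K := FractionRing R
  let K₀ : Subfield K := Subfield.closure ((algebraMap R K) '' (s : Set R))
  let R' : Subring R := K₀.toSubring.comap (algebraMap R K)
  have hR' : ∀ x, x ∈ R' ↔ algebraMap R K x ∈ K₀ := fun x => Iff.rfl
  let V : MaximalSpectrum R → ValuationSubring K := fun m =>
    @Vp R _ _ K _ _ _ m.asIdeal m.isMaximal.isPrime (@hR m.asIdeal m.isMaximal.isPrime)
  have hV : ∀ m x, x ∈ V m ↔
      ∃ a b : R, b ∉ m.asIdeal ∧ x = algebraMap R K a * (algebraMap R K b)⁻¹ :=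
    fun m x => @mem_Vp R _ _ K _ _ _ m.asIdeal m.isMaximal.isPrime
      (@hR m.asIdeal m.isMaximal.isPrime) x
  refine ⟨R', ?_, ?_, ?_, ?_⟩
  · intro x hx
    exact (hR' x).mpr (Subfield.subset_closure ⟨x, hx, rfl⟩)
  · intro p hp
    exact valuationRing_localization V hV K₀ R' hR' p
  · exact finite_maxSpec K₀ R' hR'
  · exact dim_lt_top R K s R' hR'

end Groth.Agent.Lib.Helper26.PruferD
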