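/-
helper26: pure spreadouts (S1293), part 1: content ideals of projective modules, the
criterion `1 ⊗ m = 0 ↔ m ∈ J M`, and denominators for a base change to a localization.
-/
import Mathlib
import Groth.Prelude.Def_FlatCA

set_option autoImplicit false
set_option maxHeartbeats 400000
universe u

namespace Groth.Agent.Lib.Helper26.PureSpread

open TensorProduct Function

variable {A : Type u} [CommRing A]

theorem tmul_one_eq_zero_iff (J : Ideal A) {M : Type u} [AddCommGroup M] [Module A M] (m : M) :
    ((1 : A ⧸ J) ⊗ₜ[A] m = 0) ↔ m ∈ J • (⊤ : Submodule A M) := by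
  rw [← (TensorProduct.quotTensorEquivQuotSMul M J).map_eq_zero_iff]
  have : (1 : A ⧸ J) = Ideal.Quotient.mk J 1 := rfl
  rw [this, TensorProduct.quotTensorEquivQuotSMul_mk_tmul, one_smul,
    Submodule.Quotient.mk_eq_zero]

theorem apply_mem_of_mem_smul_top (J : Ideal A) {M : Type u} [AddCommGroup M] [Module A M]
    (f : M →ₗ[A] A) {m : M} (hm : m ∈ J • (⊤ : Submodule A M)) : f m ∈ J := by
  refine Submodule.smul_induction_on hm (fun r hr n _ => ?_) (fun x y hx hy => ?_)
  · rw [map_smul, smul_eq_mul]; exact J.mul_mem_right _ hr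
  · rw [map_add]; exact J.add_mem hx hy

theorem map_mem_smul_top (J : Ideal A) {M M' : Type u} [AddCommGroup M] [Module A M]
    [AddCommGroup M'] [Module A M']
    (f : M →ₗ[A] M') {m : M} (hm : m ∈ J • (⊤ : Submodule A M)) :
    f m ∈ J • (⊤ : Submodule A M') := by
  refine Submodule.smul_induction_on hm (fun r hr n _ => ?_) (fun x y hx hy => ?_)
  · rw [map_smul]; exact Submodule.smul_mem_smul hr Submodule.mem_top
  · rw [map_add]; exact Submodule.add_mem _ hx hy

/-- Elements of a projective module have content ideals. -/
theorem content_projective {P : Type u} [AddCommGroup P] [Module A P] [Module.Projective A P]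
    (n : P) : ∃ I : Ideal A, n ∈ I • (⊤ : Submodule A P) ∧
      ∀ J : Ideal A, n ∈ J • (⊤ : Submodule A P) → I ≤ J := by
  classical
  obtain ⟨s, hs⟩ := (Module.projective_def' (R := A) (P := P)).1 inferInstance
  refine ⟨Ideal.span (Set.range (s n)), ?_, ?_⟩
  · have h1 : n = Finsupp.linearCombination A id (s n) := by
      have := LinearMap.congr_fun hs n
      simpa using this.symm
    have h2 : Finsupp.linearCombination A id (s n) ∈
        Ideal.span (Set.range (s n)) • (⊤ : Submodule A P) := by
      rw [Finsupp.linearCombination_apply, Finsupp.sum]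
      refine Submodule.sum_mem _ fun i _ => ?_
      exact Submodule.smul_mem_smul (Ideal.subset_span ⟨i, rfl⟩) Submodule.mem_top
    rw [← h1] at h2
    exact h2
  · intro J hJ
    rw [Ideal.span_le]
    rintro _ ⟨i, rfl⟩
    exact apply_mem_of_mem_smul_top J ((Finsupp.lapply i).comp s) hJ

end Groth.Agent.Lib.Helper26.PureSpread
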