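/-
helper26: pure spreadouts (S1293), part 2: a map from a projective module to a flat module which is
injective modulo every maximal ideal is universally injective (no localisation needed).
-/
import Mathlib
import Groth.Prelude.Def_FlatCA

set_option autoImplicit false
set_option maxHeartbeats 400000
universe u

namespace Groth.Agent.Lib.Helper26.PureSpread

open TensorProduct Function

variable {A : Type u} [CommRing A]

theorem core {P M : Type u} [AddCommGroup P] [Module A P] [AddCommGroup M] [Module A M]
    [Module.Flat A M] (v : P →ₗ[A] M)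
    (hv : ∀ (m : Ideal A) [m.IsMaximal], Function.Injective (v.lTensor (A ⧸ m)))
    {ι : Type u} [Fintype ι] (p : ι → P) (φ : ι → (P →ₗ[A] A))
    (K : Type u) [AddCommGroup K] [Module A K] (k : ι → K)
    (hk : ∀ l, k l = ∑ i, φ l (p i) • k i)
    (h0 : ∑ i, k i ⊗ₜ[A] v (p i) = 0) : ∀ i, k i = 0 := by
  classical
  obtain ⟨κ, a, y, hay, ham⟩ :=
    TensorProduct.vanishesTrivially_of_sum_tmul_eq_zero_of_rTensor_injective (R := A) (m := k)
      (n := fun i => v (p i))
      (Module.Flat.rTensor_preserves_injective_linearMap _ (Submodule.injective_subtype _)) h0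
  set K' : Submodule A K := Submodule.span A (Set.range k) with hK'
  have hfg : K'.FG := Submodule.fg_span (Set.finite_range k)
  suffices hbot : K' = ⊥ by
    intro i
    have : k i ∈ K' := Submodule.subset_span ⟨i, rfl⟩
    rw [hbot] at this
    exact (Submodule.mem_bot A).1 this
  by_contra hne
  have hann : K'.annihilator ≠ ⊤ := by
    intro h; apply hne; exact Submodule.annihilator_eq_top_iff.1 h
  obtain ⟨𝔪, h𝔪, hle⟩ := Ideal.exists_le_maximal _ hann
  have := h𝔪
  have key : K' ≤ 𝔪 • K' := by
    let g : ι → K' := fun i => ⟨k i, Submodule.subset_span ⟨i, rfl⟩⟩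
    let _ : Field (A ⧸ 𝔪) := Ideal.Quotient.field 𝔪
    have hV : ∀ i, (Submodule.Quotient.mk (g i) : K' ⧸ (𝔪 • ⊤ : Submodule A K')) = 0 := by
      intro i0
      by_contra hne0
      obtain ⟨f, hf⟩ := Module.Projective.exists_dual_ne_zero (A ⧸ 𝔪) hne0
      let cc : ι → A ⧸ 𝔪 := fun i => f (Submodule.Quotient.mk (g i))
      have hflin : ∀ (b : ι → A), ∑ i, b i • cc i = f (Submodule.Quotient.mk (∑ i, b i • g i)) := by
        intro b
        rw [← Submodule.mkQ_apply, map_sum, map_sum]
        refine Finset.sum_congr rfl fun i _ => ?_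
        rw [Submodule.mkQ_apply]
        rw [← Module.Quotient.mk_smul_mk, map_smul]
        rfl
      have hw : (∑ i, cc i ⊗ₜ[A] p i : (A ⧸ 𝔪) ⊗[A] P) = 0 := by
        apply hv 𝔪
        rw [map_zero, map_sum]
        simp only [LinearMap.lTensor_tmul]
        calc ∑ i, cc i ⊗ₜ[A] v (p i) = ∑ i, ∑ j, (a i j • cc i) ⊗ₜ[A] y j := by
              refine Finset.sum_congr rfl fun i _ => ?_
              have hay' : v (p i) = ∑ j, a i j • y j := hay i
              rw [hay', TensorProduct.tmul_sum]
              refine Finset.sum_congr rfl fun j _ => ?_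
              rw [TensorProduct.tmul_smul, TensorProduct.smul_tmul']
          _ = ∑ j, (∑ i, a i j • cc i) ⊗ₜ[A] y j := by
              rw [Finset.sum_comm]; simp only [TensorProduct.sum_tmul]
          _ = 0 := by
              refine Finset.sum_eq_zero fun j _ => ?_
              have h2 : ∑ i, a i j • g i = 0 := by
                apply Subtype.ext
                rw [Submodule.coe_sum]
                simpa [g] using ham j
              rw [hflin, h2, Submodule.Quotient.mk_zero, map_zero, TensorProduct.zero_tmul]
      have h1 := congrArg (fun w => TensorProduct.rid A (A ⧸ 𝔪) ((φ i0).lTensor (A ⧸ 𝔪) w)) hw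
      simp only [map_sum, LinearMap.lTensor_tmul, TensorProduct.rid_tmul, map_zero] at h1
      apply hf
      have h3 : g i0 = ∑ i, φ i0 (p i) • g i := by
        apply Subtype.ext
        rw [Submodule.coe_sum]
        simpa [g] using hk i0
      rw [h3, ← hflin]
      exact h1
    rw [hK', Submodule.span_le]
    rintro _ ⟨i0, rfl⟩
    have h4 : g i0 ∈ (𝔪 • ⊤ : Submodule A K') := (Submodule.Quotient.mk_eq_zero _).1 (hV i0)
    have h5 : K'.subtype (g i0) ∈ (𝔪 • ⊤ : Submodule A K').map K'.subtype :=
      Submodule.mem_map_of_mem h4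
    rw [Submodule.map_smul'', Submodule.map_subtype_top] at h5
    exact h5
  obtain ⟨r, hr1, hr2⟩ :=
    Submodule.exists_sub_one_mem_and_smul_eq_zero_of_fg_of_le_smul 𝔪 K' hfg key
  have hr : r ∈ 𝔪 := hle (Submodule.mem_annihilator.2 hr2)
  have : (1 : A) ∈ 𝔪 := by
    have := 𝔪.sub_mem hr hr1
    simpa using this
  exact h𝔪.ne_top ((Ideal.eq_top_iff_one _).2 this)

end Groth.Agent.Lib.Helper26.PureSpread
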