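import Mathlib
import Groth.Prelude.Def_FlatCA
import Groth.Agent.Lib.Helper26.PureSpread2

set_option autoImplicit false
set_option maxHeartbeats 400000
universe u

namespace Groth.Agent.Lib.Helper26.PureSpread

open TensorProduct Function

variable {A : Type u} [CommRing A]

theorem univInj_of_projective_of_flat {P M : Type u} [AddCommGroup P] [Module A P]
    [Module.Projective A P] [AddCommGroup M] [Module A M] [Module.Flat A M] (v : P →ₗ[A] M)
    (hv : ∀ (m : Ideal A) [m.IsMaximal], Function.Injective (v.lTensor (A ⧸ m))) :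
    FlatCA.UnivInj A v := by
  classical
  intro K _ _
  rw [injective_iff_map_eq_zero]
  intro z hz
  obtain ⟨s, hs⟩ := (Module.projective_def' (R := A) (P := P)).1 inferInstance
  obtain ⟨c, hc⟩ := TensorProduct.eq_repr_basis_right
    (Finsupp.basisSingleOne (R := A) (ι := P)) (s.lTensor K z)
  let p : {i // i ∈ c.support} → P := fun i => i.1
  let φ : {i // i ∈ c.support} → (P →ₗ[A] A) := fun l => (Finsupp.lapply l.1).comp s
  let k : {i // i ∈ c.support} → K := fun i => c i.1
  have hsz : s.lTensor K z = ∑ i : {i // i ∈ c.support}, k i ⊗ₜ[A] (Finsupp.single (p i) (1:A)) := by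
    rw [← hc, Finsupp.sum, ← Finset.sum_coe_sort c.support]
    refine Finset.sum_congr rfl fun i _ => ?_
    simp [k, p]
  have hz1 : z = ∑ i : {i // i ∈ c.support}, k i ⊗ₜ[A] p i := by
    have h1 : z = (Finsupp.linearCombination A id).lTensor K (s.lTensor K z) := by
      rw [← LinearMap.lTensor_comp_apply, hs, LinearMap.lTensor_id, LinearMap.id_apply]
    rw [h1, hsz, map_sum]
    refine Finset.sum_congr rfl fun i _ => ?_
    rw [LinearMap.lTensor_tmul]
    simp
  have hk : ∀ l, k l = ∑ i, φ l (p i) • k i := by
    intro l
    have e1 : TensorProduct.rid A K ((Finsupp.lapply l.1).lTensor K (s.lTensor K z)) = k l := by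
      rw [hsz, map_sum, map_sum]
      simp only [LinearMap.lTensor_tmul, TensorProduct.rid_tmul, Finsupp.lapply_apply,
        Finsupp.single_apply]
      rw [Finset.sum_eq_single l]
      · simp [p]
      · intro b _ hb
        have : ¬ (p b = l.1) := fun h => hb (Subtype.ext h)
        simp [this]
      · intro h; exact absurd (Finset.mem_univ l) h
    have e2 : TensorProduct.rid A K ((Finsupp.lapply l.1).lTensor K (s.lTensor K z)) =
        ∑ i, φ l (p i) • k i := by
      rw [← LinearMap.lTensor_comp_apply]
      conv_lhs => rw [hz1]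
      rw [map_sum, map_sum]
      simp only [LinearMap.lTensor_tmul, TensorProduct.rid_tmul]
      rfl
    rw [← e1, e2]
  have h0 : ∑ i, k i ⊗ₜ[A] v (p i) = 0 := by
    rw [hz1, map_sum] at hz
    simpa using hz
  have hall := core v hv p φ K k hk h0
  rw [hz1]
  exact Finset.sum_eq_zero fun i _ => by rw [hall i, TensorProduct.zero_tmul]

end Groth.Agent.Lib.Helper26.PureSpread
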