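/-
helper26: pure spreadouts (S1293), part 3: the situation of a pure spreadout.
-/
import Mathlib
import Groth.Prelude.Def_FlatCA
import Groth.Agent.Lib.Helper26.PureSpread1
import Groth.Agent.Lib.Helper26.PureSpread3

set_option autoImplicit false
set_option maxHeartbeats 400000
universe u

namespace Groth.Agent.Lib.Helper26.PureSpread

open TensorProduct Function

variable {A B : Type u} [CommRing A] [CommRing B] [Algebra A B] (T : Submonoid B)
  {N : Type u} [AddCommGroup N] [Module (Localization T) N] [Module A N]
  [IsScalarTower A (Localization T) N]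

/-- Multiplication by an element of the localization, as an `A`-linear map. -/
noncomputable def mulA (a : Localization T) : N →ₗ[A] N :=
  (LinearMap.lsmul (Localization T) N a).restrictScalars A

@[simp] theorem mulA_apply (a : Localization T) (x : N) : mulA (A := A) T a x = a • x := rfl

theorem mulA_comp (a b : Localization T) :
    (mulA (A := A) (N := N) T a).comp (mulA T b) = mulA T (a * b) := by
  ext x
  simp [mul_smul]

theorem mulA_one : mulA (A := A) (N := N) T 1 = LinearMap.id := by
  ext x
  simp

variable {C : Type u} [CommRing C] [Algebra B C] [Algebra A C] [IsScalarTower A B C]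
  [Algebra C (Localization T)] [IsScalarTower B C (Localization T)]
  [IsScalarTower A C (Localization T)] [Module C N] [IsScalarTower C (Localization T) N]
  [IsScalarTower A C N]
  {N' : Type u} [AddCommGroup N'] [Module C N'] [Module A N'] [IsScalarTower A C N']
  (g : N' →ₗ[C] N)

omit [IsScalarTower A (Localization T) N] [IsScalarTower A C (Localization T)]
  [IsScalarTower A C N] [IsScalarTower A C N'] [IsScalarTower A B C] in
theorem smul_g (b : B) (n : N') :
    algebraMap B (Localization T) b • g n = g (algebraMap B C b • n) := by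
  rw [map_smul, IsScalarTower.algebraMap_apply B C (Localization T), algebraMap_smul]

omit [IsScalarTower A (Localization T) N] [IsScalarTower A C (Localization T)]
  [IsScalarTower A C N] [IsScalarTower A C N'] [IsScalarTower A B C] in
theorem exists_denominator (hbc : IsBaseChange (Localization T) g) (x : N) :
    ∃ t ∈ T, ∃ n : N', algebraMap B (Localization T) t • x = g n := by
  induction x using hbc.inductionOn with
  | zero => exact ⟨1, T.one_mem, 0, by simp⟩
  | tmul m => exact ⟨1, T.one_mem, m, by simp⟩
  | smul s x ih =>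
    obtain ⟨t1, ht1, n1, h1⟩ := ih
    obtain ⟨⟨b, t2⟩, rfl⟩ := IsLocalization.mk'_surjective T s
    refine ⟨t2.1 * t1, T.mul_mem t2.2 ht1, algebraMap B C b • n1, ?_⟩
    rw [← smul_g T g, ← h1, smul_smul, smul_smul, map_mul]
    congr 1
    rw [mul_assoc, mul_comm (algebraMap B (Localization T) t1), ← mul_assoc,
      IsLocalization.mk'_spec']
  | add x y hx hy =>
    obtain ⟨t1, ht1, n1, h1⟩ := hx
    obtain ⟨t2, ht2, n2, h2⟩ := hy
    refine ⟨t1 * t2, T.mul_mem ht1 ht2, algebraMap B C t2 • n1 + algebraMap B C t1 • n2, ?_⟩
    rw [map_add, ← smul_g T g, ← smul_g T g, ← h1, ← h2, smul_add, smul_smul, smul_smul, map_mul,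
      mul_comm]

omit [IsScalarTower A (Localization T) N] in
theorem exists_inv (t : B) (ht : t ∈ T) :
    ∃ a : Localization T, a * algebraMap B (Localization T) t = 1 := by
  obtain ⟨a, ha⟩ := (IsLocalization.map_units (Localization T) ⟨t, ht⟩).exists_left_inv
  exact ⟨a, ha⟩

omit [IsScalarTower A B C] [IsScalarTower A C (Localization T)] in
theorem content [Module.Projective A N'] (hbc : IsBaseChange (Localization T) g)
    (hg : FlatCA.UnivInj A (g.restrictScalars A)) (x : N) :
    ∃ I : Ideal A, x ∈ I • (⊤ : Submodule A N) ∧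
      ∀ J : Ideal A, x ∈ J • (⊤ : Submodule A N) → I ≤ J := by
  obtain ⟨t, ht, n, hn⟩ := exists_denominator T g hbc x
  obtain ⟨a, ha⟩ := exists_inv T t ht
  obtain ⟨I, hI1, hI2⟩ := content_projective (A := A) n
  refine ⟨I, ?_, fun J hJ => hI2 J ?_⟩
  · have h1 : (g.restrictScalars A) n ∈ I • (⊤ : Submodule A N) := map_mem_smul_top I _ hI1
    have h2 := map_mem_smul_top I (mulA (A := A) T a) h1
    have h3 : mulA (A := A) T a ((g.restrictScalars A) n) = x := by
      simp only [mulA_apply, LinearMap.restrictScalars_apply]
      rw [← hn, smul_smul, ha, one_smul]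
    rwa [h3] at h2
  · have h1 : g n ∈ J • (⊤ : Submodule A N) := by
      have := map_mem_smul_top J (mulA (A := A) T (algebraMap B (Localization T) t)) hJ
      rwa [mulA_apply, hn] at this
    rw [← tmul_one_eq_zero_iff] at h1 ⊢
    apply hg (A ⧸ J)
    rw [map_zero, LinearMap.lTensor_tmul]
    exact h1

omit [IsScalarTower A B C] [IsScalarTower A C (Localization T)] in
theorem exists_common (hbc : IsBaseChange (Localization T) g) (Q : Type u) [AddCommGroup Q]
    [Module A Q] (z : Q ⊗[A] N) :
    ∃ t ∈ T, ∃ z' : Q ⊗[A] N',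
      (mulA (A := A) T (algebraMap B (Localization T) t)).lTensor Q z =
        (g.restrictScalars A).lTensor Q z' := by
  induction z using TensorProduct.induction_on with
  | zero => exact ⟨1, T.one_mem, 0, by simp⟩
  | tmul q x =>
    obtain ⟨t, ht, n, hn⟩ := exists_denominator T g hbc x
    exact ⟨t, ht, q ⊗ₜ n, by simp [hn]⟩
  | add z1 z2 h1 h2 =>
    obtain ⟨t1, ht1, w1, e1⟩ := h1
    obtain ⟨t2, ht2, w2, e2⟩ := h2
    let ν : B → (N' →ₗ[A] N') := fun b =>
      (LinearMap.lsmul C N' (algebraMap B C b)).restrictScalars A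
    have hν : ∀ b, (mulA (A := A) T (algebraMap B (Localization T) b)).comp
        (g.restrictScalars A) = (g.restrictScalars A).comp (ν b) := by
      intro b
      ext n
      simp [ν, smul_g T g]
    refine ⟨t1 * t2, T.mul_mem ht1 ht2, (ν t2).lTensor Q w1 + (ν t1).lTensor Q w2, ?_⟩
    have hA : ((g.restrictScalars A).lTensor Q) ((ν t2).lTensor Q w1) =
        (mulA (A := A) T (algebraMap B (Localization T) (t1 * t2))).lTensor Q z1 := by
      rw [← LinearMap.lTensor_comp_apply, ← hν, LinearMap.lTensor_comp_apply, ← e1,
        ← LinearMap.lTensor_comp_apply, mulA_comp, ← map_mul, mul_comm t2 t1]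
    have hB : ((g.restrictScalars A).lTensor Q) ((ν t1).lTensor Q w2) =
        (mulA (A := A) T (algebraMap B (Localization T) (t1 * t2))).lTensor Q z2 := by
      rw [← LinearMap.lTensor_comp_apply, ← hν, LinearMap.lTensor_comp_apply, ← e2,
        ← LinearMap.lTensor_comp_apply, mulA_comp, ← map_mul]
    rw [map_add, map_add, hA, hB]

omit [IsScalarTower A B C] [IsScalarTower A C (Localization T)] in
theorem univInj_main [Module.Projective A N'] (hbc : IsBaseChange (Localization T) g)
    (hg : FlatCA.UnivInj A (g.restrictScalars A))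
    {M : Type u} [AddCommGroup M] [Module A M] [Module.Flat A M] (u : N →ₗ[A] M)
    (hu : ∀ (m : Ideal A) [m.IsMaximal], Function.Injective (u.lTensor (A ⧸ m))) :
    FlatCA.UnivInj A u := by
  intro Q _ _
  rw [injective_iff_map_eq_zero]
  intro z hz
  obtain ⟨t, ht, z', hz'⟩ := exists_common T g hbc Q z
  obtain ⟨a, ha⟩ := exists_inv T t ht
  have hinv : (mulA (A := A) (N := N) T a).comp (mulA T (algebraMap B (Localization T) t)) =
      LinearMap.id := by
    rw [mulA_comp, ha, mulA_one]
  have hinv' : (mulA (A := A) (N := N) T (algebraMap B (Localization T) t)).comp (mulA T a) =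
      LinearMap.id := by
    rw [mulA_comp, mul_comm, ha, mulA_one]
  let w : N' →ₗ[A] M := u.comp ((mulA T a).comp (g.restrictScalars A))
  have hw : FlatCA.UnivInj A w := by
    apply univInj_of_projective_of_flat
    intro m _
    have : w.lTensor (A ⧸ m) = (u.lTensor (A ⧸ m)).comp
        (((mulA T a).lTensor (A ⧸ m)).comp ((g.restrictScalars A).lTensor (A ⧸ m))) := by
      simp only [w, LinearMap.lTensor_comp]
    rw [this, LinearMap.coe_comp, LinearMap.coe_comp]
    have hmid : Function.Injective ((mulA (A := A) (N := N) T a).lTensor (A ⧸ m)) := by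
      apply Function.LeftInverse.injective
        (g := (mulA (A := A) (N := N) T (algebraMap B (Localization T) t)).lTensor (A ⧸ m))
      intro y
      rw [← LinearMap.lTensor_comp_apply, hinv', LinearMap.lTensor_id, LinearMap.id_apply]
    exact (hu m).comp (hmid.comp (hg (A ⧸ m)))
  have hcancel : ∀ y : Q ⊗[A] N, (mulA (A := A) T a).lTensor Q
      ((mulA (A := A) T (algebraMap B (Localization T) t)).lTensor Q y) = y := by
    intro y
    rw [← LinearMap.lTensor_comp_apply, hinv, LinearMap.lTensor_id, LinearMap.id_apply]
  have hz0 : w.lTensor Q z' = 0 := by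
    simp only [w, LinearMap.lTensor_comp_apply]
    rw [← hz', hcancel, hz]
  have hz'0 : z' = 0 := by
    apply hw Q
    rw [hz0, map_zero]
  rw [hz'0, map_zero] at hz'
  have := congrArg ((mulA (A := A) T a).lTensor Q) hz'
  rw [hcancel, map_zero] at this
  exact this

end Groth.Agent.Lib.Helper26.PureSpread
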