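import Mathlib

/-!
Quadratic forms given by (not necessarily symmetric) matrices: `qf T x = xᵀ T x`.
Congruence, base change, blocks.
-/

set_option autoImplicit false
set_option linter.unusedSectionVars false

namespace Groth.Agent.Lib.Helper26.QSplit

open Matrix

section Basic

variable {R : Type*} [CommRing R] {ι : Type*} [Fintype ι]

/-- the quadratic form `x ↦ xᵀ T x` -/
def qf (T : Matrix ι ι R) (x : ι → R) : R := x ⬝ᵥ (T *ᵥ x)

/-- the bilinear form `(x, y) ↦ xᵀ M y` -/
def bl (M : Matrix ι ι R) (x y : ι → R) : R := x ⬝ᵥ (M *ᵥ y)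

theorem qf_eq_bl (T : Matrix ι ι R) (x : ι → R) : qf T x = bl T x x := rfl

theorem bl_add_left (M : Matrix ι ι R) (x x' y : ι → R) :
    bl M (x + x') y = bl M x y + bl M x' y := by
  simp [bl, add_dotProduct]

theorem bl_add_right (M : Matrix ι ι R) (x y y' : ι → R) :
    bl M x (y + y') = bl M x y + bl M x y' := by
  simp [bl, mulVec_add, dotProduct_add]

theorem bl_smul_left (M : Matrix ι ι R) (c : R) (x y : ι → R) :
    bl M (c • x) y = c * bl M x y := by
  simp [bl, smul_dotProduct]

theorem bl_smul_right (M : Matrix ι ι R) (c : R) (x y : ι → R) :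
    bl M x (c • y) = c * bl M x y := by
  simp [bl, mulVec_smul, dotProduct_smul]

theorem bl_transpose (M : Matrix ι ι R) (x y : ι → R) : bl Mᵀ x y = bl M y x := by
  simp only [bl]
  rw [mulVec_transpose, dotProduct_comm, ← dotProduct_mulVec]

theorem bl_add_matrix (M N : Matrix ι ι R) (x y : ι → R) :
    bl (M + N) x y = bl M x y + bl N x y := by
  simp [bl, add_mulVec, dotProduct_add]

theorem bl_single [DecidableEq ι] (M : Matrix ι ι R) (i j : ι) :
    bl M (Pi.single i 1) (Pi.single j 1) = M i j := by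
  simp [bl]

theorem bl_single_left [DecidableEq ι] (M : Matrix ι ι R) (i : ι) (y : ι → R) :
    bl M (Pi.single i 1) y = ∑ j, M i j * y j := by
  simp only [bl, single_one_dotProduct]
  rfl

theorem qf_add (T : Matrix ι ι R) (x y : ι → R) :
    qf T (x + y) = qf T x + qf T y + bl (T + Tᵀ) x y := by
  simp only [qf_eq_bl, bl_add_left, bl_add_right, bl_add_matrix, bl_transpose]
  ring

theorem qf_smul (T : Matrix ι ι R) (c : R) (x : ι → R) : qf T (c • x) = c ^ 2 * qf T x := by
  simp only [qf_eq_bl, bl_smul_left, bl_smul_right]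
  ring

theorem qf_single [DecidableEq ι] (T : Matrix ι ι R) (i : ι) : qf T (Pi.single i 1) = T i i := by
  rw [qf_eq_bl, bl_single]

theorem bl_congr (M g : Matrix ι ι R) (x y : ι → R) :
    bl (gᵀ * M * g) x y = bl M (g *ᵥ x) (g *ᵥ y) := by
  simp only [bl]
  rw [← mulVec_mulVec, ← mulVec_mulVec, dotProduct_mulVec, vecMul_transpose]

theorem qf_congr (T g : Matrix ι ι R) (x : ι → R) : qf (gᵀ * T * g) x = qf T (g *ᵥ x) :=
  bl_congr T g x x

theorem congr_apply [DecidableEq ι] (M g : Matrix ι ι R) (i j : ι) :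
    (gᵀ * M * g) i j = bl M (fun r => g r i) (fun r => g r j) := by
  rw [← bl_single (gᵀ * M * g) i j, bl_congr]
  congr 1 <;> · funext r; simp [mulVec, dotProduct, Pi.single_apply]

theorem polar_congr (T g : Matrix ι ι R) :
    gᵀ * T * g + (gᵀ * T * g)ᵀ = gᵀ * (T + Tᵀ) * g := by
  rw [transpose_mul, transpose_mul, transpose_transpose, Matrix.mul_add, Matrix.add_mul,
    Matrix.mul_assoc gᵀ Tᵀ g]

theorem det_polar_congr [DecidableEq ι] (T g : Matrix ι ι R) :
    (gᵀ * T * g + (gᵀ * T * g)ᵀ).det = g.det ^ 2 * (T + Tᵀ).det := by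
  rw [polar_congr, det_mul, det_mul, det_transpose]
  ring

theorem isUnit_det_polar_congr [DecidableEq ι] (T g : Matrix ι ι R) (hg : IsUnit g.det)
    (hT : IsUnit (T + Tᵀ).det) : IsUnit (gᵀ * T * g + (gᵀ * T * g)ᵀ).det := by
  rw [det_polar_congr]
  exact (hg.pow 2).mul hT

variable {S : Type*} [CommRing S] (φ : R →+* S)

theorem bl_map (M : Matrix ι ι R) (x y : ι → R) :
    bl (M.map φ) (fun i => φ (x i)) (fun i => φ (y i)) = φ (bl M x y) := by
  simp [bl, mulVec, dotProduct, map_sum, Finset.mul_sum]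

theorem polar_map (T : Matrix ι ι R) : T.map φ + (T.map φ)ᵀ = (T + Tᵀ).map φ := by
  ext i j
  simp

theorem isUnit_det_polar_map [DecidableEq ι] (T : Matrix ι ι R) (hT : IsUnit (T + Tᵀ).det) :
    IsUnit (T.map φ + (T.map φ)ᵀ).det := by
  rw [polar_map]
  have : ((T + Tᵀ).map φ).det = φ (T + Tᵀ).det := by
    rw [RingHom.map_det]; rfl
  rw [this]
  exact hT.map φ

theorem congr_map (T g : Matrix ι ι R) :
    (gᵀ * T * g).map φ = (g.map φ)ᵀ * T.map φ * g.map φ := by
  rw [Matrix.map_mul, Matrix.map_mul, transpose_map]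

end Basic

section Reindex

variable {R : Type*} [CommRing R] {ι ι' : Type*} [Fintype ι] [Fintype ι']

theorem qf_submatrix (T : Matrix ι ι R) (ε : ι' ≃ ι) (x : ι' → R) :
    qf (T.submatrix ε ε) x = qf T (fun i => x (ε.symm i)) := by
  simp only [qf, mulVec, dotProduct, submatrix_apply]
  rw [← ε.sum_comp]
  refine Finset.sum_congr rfl fun i _ => ?_
  rw [← ε.sum_comp]
  simp

end Reindex

end Groth.Agent.Lib.Helper26.QSplit
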