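import Groth.Agent.Lib.Helper26.QuadND1
import Groth.Agent.Lib.Helper26.QSplit1
import Mathlib

/-!
The half-discriminant of a square matrix of odd size (viewed as the quadratic form `x ↦ xᵀ T x`).
-/

set_option autoImplicit false
set_option linter.unusedSectionVars false

namespace Groth.Agent.Lib.Helper26.QOdd

open QuadGrp MvPolynomial Matrix Groth.Agent.Lib.Helper14.HalfDiscOdd
  Groth.Agent.Lib.Helper26.QuadND Groth.Agent.Lib.Helper26.QSplit

variable {R : Type*} [CommRing R] {n : ℕ}

/-- coefficient vector of the quadratic form of a matrix -/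
def cf (T : Matrix (Fin n) (Fin n) R) : Sym2 (Fin n) → R :=
  Sym2.lift ⟨fun i j => if i = j then T i i else T i j + T j i, fun i j => by
    by_cases h : i = j
    · subst h; rfl
    · dsimp only
      rw [if_neg h, if_neg (Ne.symm h), add_comm]⟩

theorem cf_mk (T : Matrix (Fin n) (Fin n) R) (i j : Fin n) :
    cf T (Sym2.mk i j) = if i = j then T i i else T i j + T j i := rfl

theorem pm_cf (T : Matrix (Fin n) (Fin n) R) : pm (cf T) = T + Tᵀ := by
  ext i j
  simp only [pm, Matrix.of_apply, cf_mk, Matrix.add_apply, Matrix.transpose_apply]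
  by_cases h : i = j
  · subst h
    rw [if_pos rfl, if_pos rfl, two_mul]
  · rw [if_neg h, if_neg h]

/-- the half-discriminant of a matrix -/
noncomputable def hdM (T : Matrix (Fin n) (Fin n) R) : R := hdv (cf T)

theorem two_mul_hdM (hn : Odd n) (T : Matrix (Fin n) (Fin n) R) : 2 * hdM T = (T + Tᵀ).det := by
  rw [hdM, two_mul_hdv hn, pm_cf]

section Map

variable {S : Type*} [CommRing S] (φ : R →+* S)

theorem map_cf (T : Matrix (Fin n) (Fin n) R) : (fun s => φ (cf T s)) = cf (T.map φ) := by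
  funext s
  induction s using Sym2.ind with
  | _ i j =>
    rw [cf_mk, cf_mk]
    split_ifs <;> simp

theorem hdM_map (T : Matrix (Fin n) (Fin n) R) : φ (hdM T) = hdM (T.map φ) := by
  rw [hdM, map_hdv, map_cf]
  rfl

end Map

theorem hdM_congr (hn : Odd n) (T g : Matrix (Fin n) (Fin n) R) :
    hdM (gᵀ * T * g) = g.det ^ 2 * hdM T := by
  let U := MvPolynomial (Fin n × Fin n ⊕ Fin n × Fin n) ℤ
  let TU : Matrix (Fin n) (Fin n) U := Matrix.of fun i j => X (Sum.inl (i, j))
  let GU : Matrix (Fin n) (Fin n) U := Matrix.of fun i j => X (Sum.inr (i, j))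
  let φ : U →+* R :=
    eval₂Hom (Int.castRingHom R) (Sum.elim (fun p => T p.1 p.2) (fun p => g p.1 p.2))
  have hT : TU.map φ = T := by
    ext i j
    show φ (X (Sum.inl (i, j))) = T i j
    rw [MvPolynomial.coe_eval₂Hom, eval₂_X]
    rfl
  have hG : GU.map φ = g := by
    ext i j
    show φ (X (Sum.inr (i, j))) = g i j
    rw [MvPolynomial.coe_eval₂Hom, eval₂_X]
    rfl
  have hU : hdM (GUᵀ * TU * GU) = GU.det ^ 2 * hdM TU := by
    apply mul_left_cancel₀ (two_ne_zero : (2 : U) ≠ 0)
    rw [two_mul_hdM hn, polar_congr, det_mul, det_mul, det_transpose]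
    rw [← two_mul_hdM hn TU]
    ring
  have h := congrArg φ hU
  rw [hdM_map, map_mul, map_pow, RingHom.map_det, hdM_map, congr_map, RingHom.mapMatrix_apply, hT,
    hG] at h
  exact h

theorem det_of_row_zero (B : Matrix (Fin (n + 1)) (Fin (n + 1)) R)
    (h0 : ∀ j : Fin n, B 0 j.succ = 0) :
    B.det = B 0 0 * (B.submatrix Fin.succ Fin.succ).det := by
  rw [Matrix.det_succ_row_zero, Fin.sum_univ_succ, Finset.sum_eq_zero, add_zero]
  · simp [Fin.succAbove_zero]
  · intro j _
    rw [h0]
    ring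

theorem hdM_of_zero (hn : Odd (n + 1)) (T : Matrix (Fin (n + 1)) (Fin (n + 1)) R)
    (h0 : ∀ j : Fin n, T 0 j.succ + T j.succ 0 = 0) :
    hdM T = T 0 0 * ((T + Tᵀ).submatrix Fin.succ Fin.succ).det := by
  rw [hdM, hdv_of_zero hn, pm_tailc, pm_cf, cf_mk, if_pos rfl]
  intro j
  rw [cf_mk, if_neg (Fin.succ_ne_zero j).symm]
  exact h0 j

end Groth.Agent.Lib.Helper26.QOdd
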