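import Groth.Agent.Lib.Helper26.QOdd1

/-!
The half-discriminant for matrices indexed by `Unit ⊕ J`, and general block computations.
-/

set_option autoImplicit false
set_option linter.unusedSectionVars false

namespace Groth.Agent.Lib.Helper26.QOdd

open Matrix Groth.Agent.Lib.Helper26.QSplit

section Blocks

variable {R : Type*} [CommRing R] {ι₁ κ : Type*} [Fintype ι₁] [DecidableEq ι₁] [Fintype κ]
  [DecidableEq κ]

/-- congruence by `fromBlocks 1 0 N 1` -/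
theorem lowerCongr (T : Matrix (ι₁ ⊕ κ) (ι₁ ⊕ κ) R) (N : Matrix κ ι₁ R) :
    (fromBlocks (1 : Matrix ι₁ ι₁ R) 0 N (1 : Matrix κ κ R))ᵀ * T * fromBlocks 1 0 N 1 =
      fromBlocks (T.toBlocks₁₁ + Nᵀ * T.toBlocks₂₁ + T.toBlocks₁₂ * N + Nᵀ * T.toBlocks₂₂ * N)
        (T.toBlocks₁₂ + Nᵀ * T.toBlocks₂₂) (T.toBlocks₂₁ + T.toBlocks₂₂ * N) T.toBlocks₂₂ := by
  conv_lhs => rw [← fromBlocks_toBlocks T]
  rw [fromBlocks_transpose, fromBlocks_multiply, fromBlocks_multiply]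
  simp only [transpose_one, transpose_zero, Matrix.one_mul, Matrix.zero_mul, add_zero, zero_add,
    Matrix.mul_one, Matrix.mul_zero, Matrix.add_mul]
  congr 1
  abel

theorem det_lower (N : Matrix κ ι₁ R) :
    (fromBlocks (1 : Matrix ι₁ ι₁ R) 0 N (1 : Matrix κ κ R)).det = 1 := by
  rw [det_fromBlocks_zero₁₂, det_one, det_one, mul_one]

/-- congruence by `fromBlocks 1 N 0 1` -/
theorem upperCongr (T : Matrix (ι₁ ⊕ κ) (ι₁ ⊕ κ) R) (N : Matrix ι₁ κ R) :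
    (fromBlocks (1 : Matrix ι₁ ι₁ R) N 0 (1 : Matrix κ κ R))ᵀ * T * fromBlocks 1 N 0 1 =
      fromBlocks T.toBlocks₁₁ (T.toBlocks₁₁ * N + T.toBlocks₁₂) (Nᵀ * T.toBlocks₁₁ + T.toBlocks₂₁)
        (Nᵀ * T.toBlocks₁₁ * N + Nᵀ * T.toBlocks₁₂ + T.toBlocks₂₁ * N + T.toBlocks₂₂) := by
  conv_lhs => rw [← fromBlocks_toBlocks T]
  rw [fromBlocks_transpose, fromBlocks_multiply, fromBlocks_multiply]
  simp only [transpose_one, transpose_zero, Matrix.one_mul, Matrix.zero_mul, add_zero,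
    Matrix.mul_one, Matrix.mul_zero, Matrix.add_mul]
  congr 1
  abel

theorem det_upper (N : Matrix ι₁ κ R) :
    (fromBlocks (1 : Matrix ι₁ ι₁ R) N 0 (1 : Matrix κ κ R)).det = 1 := by
  rw [det_fromBlocks_zero₂₁, det_one, det_one, mul_one]

theorem qf_fromBlocksG' (A : Matrix ι₁ ι₁ R) (B : Matrix ι₁ κ R)
    (C : Matrix κ ι₁ R) (D : Matrix κ κ R) (x₁ : ι₁ → R) (x₂ : κ → R) :
    qf (fromBlocks A B C D) (Sum.elim x₁ x₂) =
      qf A x₁ + x₁ ⬝ᵥ ((B + Cᵀ) *ᵥ x₂) + qf D x₂ := by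
  have h : x₁ ⬝ᵥ (Cᵀ *ᵥ x₂) = x₂ ⬝ᵥ (C *ᵥ x₁) := by
    rw [mulVec_transpose, dotProduct_comm x₁, ← dotProduct_mulVec]
  rw [qf, fromBlocks_mulVec, sumElim_dotProduct_sumElim, Sum.elim_comp_inl, Sum.elim_comp_inr,
    dotProduct_add, dotProduct_add,
    add_mulVec, dotProduct_add, h]
  simp only [qf]
  ring

theorem qf_fromBlocksG (A : Matrix ι₁ ι₁ R) (B : Matrix ι₁ κ R)
    (C : Matrix κ ι₁ R) (D : Matrix κ κ R) (x : ι₁ ⊕ κ → R) :
    qf (fromBlocks A B C D) x =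
      qf A (x ∘ Sum.inl) + (x ∘ Sum.inl) ⬝ᵥ ((B + Cᵀ) *ᵥ (x ∘ Sum.inr)) + qf D (x ∘ Sum.inr) := by
  have hx : x = Sum.elim (x ∘ Sum.inl) (x ∘ Sum.inr) := by
    funext i; cases i <;> rfl
  conv_lhs => rw [hx]
  exact qf_fromBlocksG' A B C D _ _

theorem polar_toBlocks₂₂G (T : Matrix (ι₁ ⊕ κ) (ι₁ ⊕ κ) R) :
    T.toBlocks₂₂ + T.toBlocks₂₂ᵀ = (T + Tᵀ).toBlocks₂₂ := by
  ext i j; rfl

theorem polar_toBlocks₁₁G (T : Matrix (ι₁ ⊕ κ) (ι₁ ⊕ κ) R) :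
    T.toBlocks₁₁ + T.toBlocks₁₁ᵀ = (T + Tᵀ).toBlocks₁₁ := by
  ext i j; rfl

/-- block-diagonal polar form: determinant factorisation -/
theorem det_polar_of_split (T : Matrix (ι₁ ⊕ κ) (ι₁ ⊕ κ) R)
    (h12 : T.toBlocks₁₂ + T.toBlocks₂₁ᵀ = 0) :
    (T + Tᵀ).det = (T.toBlocks₁₁ + T.toBlocks₁₁ᵀ).det * (T.toBlocks₂₂ + T.toBlocks₂₂ᵀ).det := by
  have e : T + Tᵀ = fromBlocks (T + Tᵀ).toBlocks₁₁ 0 0 (T + Tᵀ).toBlocks₂₂ := by
    conv_lhs => rw [← fromBlocks_toBlocks (T + Tᵀ)]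
    have h1 : (T + Tᵀ).toBlocks₁₂ = 0 := by
      rw [← h12]; ext i j; rfl
    have h2 : (T + Tᵀ).toBlocks₂₁ = 0 := by
      have : (T + Tᵀ).toBlocks₂₁ = (T.toBlocks₁₂ + T.toBlocks₂₁ᵀ)ᵀ := by
        ext i j
        simp [toBlocks₂₁, toBlocks₁₂, add_comm]
      rw [this, h12, transpose_zero]
    rw [h1, h2]
  rw [polar_toBlocks₂₂G, polar_toBlocks₁₁G]
  conv_lhs => rw [e]
  rw [det_fromBlocks_zero₂₁]

end Blocks

section HdE

variable {R : Type*} [CommRing R] {J : Type*} [Fintype J] [DecidableEq J] {n : ℕ}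

/-- the reindexing `Fin (n+1) ≃ Unit ⊕ J` induced by `J ≃ Fin n` -/
def epsE (δ : J ≃ Fin n) : Fin (n + 1) ≃ Unit ⊕ J where
  toFun := Fin.cases (Sum.inl ()) (fun k => Sum.inr (δ.symm k))
  invFun := Sum.elim (fun _ => 0) (fun j => (δ j).succ)
  left_inv := by
    intro k
    refine Fin.cases ?_ (fun k => ?_) k <;> simp
  right_inv := by
    rintro (u | j) <;> simp

theorem epsE_zero (δ : J ≃ Fin n) : epsE δ 0 = Sum.inl () := rfl

theorem epsE_succ (δ : J ≃ Fin n) (k : Fin n) : epsE δ k.succ = Sum.inr (δ.symm k) := by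
  simp [epsE]

theorem epsE_symm_inl (δ : J ≃ Fin n) : (epsE δ).symm (Sum.inl ()) = 0 := rfl

theorem epsE_symm_inr (δ : J ≃ Fin n) (j : J) : (epsE δ).symm (Sum.inr j) = (δ j).succ := rfl

/-- the half-discriminant of a matrix indexed by `Unit ⊕ J` -/
noncomputable def hdE (δ : J ≃ Fin n) (T : Matrix (Unit ⊕ J) (Unit ⊕ J) R) : R :=
  hdM (T.submatrix (epsE δ) (epsE δ))

theorem two_mul_hdE (hn : Odd (n + 1)) (δ : J ≃ Fin n) (T : Matrix (Unit ⊕ J) (Unit ⊕ J) R) :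
    2 * hdE δ T = (T + Tᵀ).det := by
  rw [hdE, two_mul_hdM hn]
  have : T.submatrix (epsE δ) (epsE δ) + (T.submatrix (epsE δ) (epsE δ))ᵀ =
      (T + Tᵀ).submatrix (epsE δ) (epsE δ) := by
    ext i j; rfl
  rw [this, det_submatrix_equiv_self]

theorem hdE_map {S : Type*} [CommRing S] (φ : R →+* S) (δ : J ≃ Fin n)
    (T : Matrix (Unit ⊕ J) (Unit ⊕ J) R) : φ (hdE δ T) = hdE δ (T.map φ) := by
  rw [hdE, hdM_map]
  rfl

theorem hdE_congr (hn : Odd (n + 1)) (δ : J ≃ Fin n) (T g : Matrix (Unit ⊕ J) (Unit ⊕ J) R) :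
    hdE δ (gᵀ * T * g) = g.det ^ 2 * hdE δ T := by
  rw [hdE, hdE]
  have : (gᵀ * T * g).submatrix (epsE δ) (epsE δ) =
      (g.submatrix (epsE δ) (epsE δ))ᵀ * T.submatrix (epsE δ) (epsE δ) *
        g.submatrix (epsE δ) (epsE δ) := by
    rw [transpose_submatrix, submatrix_mul_equiv, submatrix_mul_equiv]
  rw [this, hdM_congr hn, det_submatrix_equiv_self]

theorem hdE_of_zero (hn : Odd (n + 1)) (δ : J ≃ Fin n) (T : Matrix (Unit ⊕ J) (Unit ⊕ J) R)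
    (h12 : T.toBlocks₁₂ + T.toBlocks₂₁ᵀ = 0) :
    hdE δ T = T (Sum.inl ()) (Sum.inl ()) * (T.toBlocks₂₂ + T.toBlocks₂₂ᵀ).det := by
  rw [hdE, hdM_of_zero hn]
  · congr 1
    have : ((T.submatrix (epsE δ) (epsE δ)) + (T.submatrix (epsE δ) (epsE δ))ᵀ).submatrix
        Fin.succ Fin.succ = (T.toBlocks₂₂ + T.toBlocks₂₂ᵀ).submatrix δ.symm δ.symm := by
      ext i j
      simp [epsE_succ, toBlocks₂₂]
    rw [this, det_submatrix_equiv_self]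
  · intro j
    have := congrFun (congrFun h12 ()) (δ.symm j)
    simpa [epsE_succ, epsE_zero, toBlocks₁₂, toBlocks₂₁] using this

theorem isUnit_hdE_congr (hn : Odd (n + 1)) (δ : J ≃ Fin n) (T g : Matrix (Unit ⊕ J) (Unit ⊕ J) R)
    (hg : IsUnit g.det) (h : IsUnit (hdE δ T)) : IsUnit (hdE δ (gᵀ * T * g)) := by
  rw [hdE_congr hn]
  exact (hg.pow 2).mul h

theorem isUnit_hdE_map {S : Type*} [CommRing S] (φ : R →+* S) (δ : J ≃ Fin n)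
    (T : Matrix (Unit ⊕ J) (Unit ⊕ J) R) (h : IsUnit (hdE δ T)) : IsUnit (hdE δ (T.map φ)) := by
  rw [← hdE_map]
  exact h.map φ

end HdE

end Groth.Agent.Lib.Helper26.QOdd
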