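import Groth.Agent.Lib.Helper26.QSplit1

/-!
Existence of good vectors modulo a prime, and the matrices putting them in the first two columns.
-/

set_option autoImplicit false
set_option linter.unusedSectionVars false

namespace Groth.Agent.Lib.Helper26.QSplit

open Matrix

variable {R : Type*} [CommRing R] {ι : Type*} [Fintype ι] [DecidableEq ι]

/-- the matrix whose column `o` is `u` (where `u k = 1`), obtained from the identity by replacing
column `k` and swapping columns `o`, `k` -/
def colMat (o k : ι) (u : ι → R) : Matrix ι ι R :=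
  ((1 : Matrix ι ι R).updateCol k u).submatrix id (Equiv.swap o k)

theorem colMat_col (o k : ι) (u : ι → R) (r : ι) : colMat o k u r o = u r := by
  simp [colMat]

theorem colMat_col_ne (o k : ι) (u : ι → R) (r j : ι) (hjo : j ≠ o) (hjk : j ≠ k) :
    colMat o k u r j = (1 : Matrix ι ι R) r j := by
  simp only [colMat, submatrix_apply, id_eq]
  rw [Equiv.swap_apply_of_ne_of_ne hjo hjk, updateCol_ne hjk]

theorem isUnit_det_colMat (o k : ι) (u : ι → R) (hu : u k = 1) : IsUnit (colMat o k u).det := by
  rw [colMat, det_permute']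
  have : ((1 : Matrix ι ι R).updateCol k u).det = u k := by
    rw [← cramer_apply, cramer_one]
    rfl
  rw [this, hu, mul_one]
  have hs := ((Equiv.Perm.sign (Equiv.swap o k)).isUnit.map (Int.castRingHom R))
  exact_mod_cast hs

theorem exists_u [Nonempty ι] (p : Ideal R) [hp : p.IsPrime] (T : Matrix ι ι R)
    (hdet : IsUnit (T + Tᵀ).det) :
    ∃ (k : ι) (u : ι → R), u k = 1 ∧ qf T u ∉ p := by
  by_contra H
  push Not at H
  have h1 : ∀ i, T i i ∈ p := fun i => by
    have := H i (Pi.single i 1) (by simp)
    rwa [qf_single] at this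
  have h2 : ∀ i j, (T + Tᵀ) i j ∈ p := by
    intro i j
    by_cases hij : i = j
    · subst hij
      simp only [Matrix.add_apply, transpose_apply]
      exact p.add_mem (h1 i) (h1 i)
    · have := H i (Pi.single i 1 + Pi.single j 1) (by simp [Pi.single_apply, hij])
      rw [qf_add, qf_single, qf_single, bl_single] at this
      have h3 := p.sub_mem this (p.add_mem (h1 i) (h1 j))
      simpa using h3
  have h3 : (T + Tᵀ).det ∈ p := by
    rw [← Ideal.Quotient.eq_zero_iff_mem, RingHom.map_det]
    have : (Ideal.Quotient.mk p).mapMatrix (T + Tᵀ) = 0 := by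
      ext i j
      simp only [RingHom.mapMatrix_apply, map_apply, Matrix.zero_apply]
      exact Ideal.Quotient.eq_zero_iff_mem.2 (h2 i j)
    rw [this, det_zero]
  exact hp.ne_top (p.eq_top_of_isUnit_mem h3 hdet)

/-- the plane discriminant function -/
def Dv (T : Matrix ι ι R) (o : ι) (v : ι → R) : R :=
  bl (T + Tᵀ) (Pi.single o 1) v ^ 2 - 4 * T o o * qf T v

theorem exists_v (p : Ideal R) [hp : p.IsPrime] (T : Matrix ι ι R) (o o' : ι) (hoo' : o' ≠ o)
    (hdet : IsUnit (T + Tᵀ).det) (ha : IsUnit (T o o)) :
    ∃ (l : ι) (v : ι → R), l ≠ o ∧ v l = 1 ∧ v o = 0 ∧ Dv T o v ∉ p := by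
  by_contra H
  push Not at H
  have : Nontrivial ι := ⟨⟨o', o, hoo'⟩⟩
  set B := T + Tᵀ with hB
  set a := T o o with ha_def
  have hBs : ∀ i j, B i j = B j i := fun i j => by simp [hB, add_comm]
  have hBd : ∀ i, B i i = 2 * T i i := fun i => by simp [hB, two_mul]
  have hap : a ∉ p := fun h => hp.ne_top (p.eq_top_of_isUnit_mem h ha)
  have hdp : B.det ∉ p := fun h => hp.ne_top (p.eq_top_of_isUnit_mem h hdet)
  -- (1)
  have h1 : ∀ i, i ≠ o → B o i ^ 2 - 4 * a * T i i ∈ p := by
    intro i hi
    have := H i (Pi.single i 1) hi (by simp) (by simp [hi.symm])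
    rw [Dv, bl_single, qf_single] at this
    exact this
  -- (2)
  have h2 : ∀ i j, i ≠ o → j ≠ o → i ≠ j → 2 * B o i * B o j - 4 * a * B i j ∈ p := by
    intro i j hi hj hij
    have := H i (Pi.single i 1 + Pi.single j 1) hi (by simp [Pi.single_apply, hij])
      (by simp [Pi.single_apply, hi.symm, hj.symm])
    rw [Dv, bl_add_right, bl_single, bl_single, qf_add, qf_single, qf_single, bl_single] at this
    have h3 := p.sub_mem (p.sub_mem this (h1 i hi)) (h1 j hj)
    have e : (B o i + B o j) ^ 2 - 4 * T o o * (T i i + T j j + (T + Tᵀ) i j) -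
        (B o i ^ 2 - 4 * a * T i i) - (B o j ^ 2 - 4 * a * T j j) =
        2 * B o i * B o j - 4 * a * B i j := by
      rw [← hB, ← ha_def]; ring
    rwa [e] at h3
  let π := Ideal.Quotient.mk p
  have hπ : ∀ x, π x = 0 ↔ x ∈ p := fun x => Ideal.Quotient.eq_zero_iff_mem
  have key : ∀ i j, π (4 * a * B i j) = π (2 * B o i * B o j) := by
    intro i j
    by_cases hi : i = o
    · subst hi
      rw [hBd]; congr 1; ring
    by_cases hj : j = o
    · subst hj
      rw [hBd, hBs i j]; congr 1; ring
    by_cases hij : i = j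
    · subst hij
      rw [hBd]
      have := h1 i hi
      rw [← hπ] at this
      have e : π (2 * B o i * B o i) - π (4 * a * (2 * T i i)) =
          2 * π (B o i ^ 2 - 4 * a * T i i) := by
        simp only [map_mul, map_sub, map_pow, map_ofNat]; ring
      rw [this, mul_zero, sub_eq_zero] at e
      exact e.symm
    · have := h2 i j hi hj hij
      rw [← hπ, map_sub, sub_eq_zero] at this
      exact this.symm
  have hmat : π (4 * a) • (π.mapMatrix B) =
      vecMulVec (fun i => π (2 * B o i)) (fun j => π (B o j)) := by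
    ext i j
    simp only [Matrix.smul_apply, RingHom.mapMatrix_apply, map_apply, smul_eq_mul, vecMulVec_apply]
    rw [← map_mul, ← map_mul, key]
  have hdet0 : π (4 * a) ^ Fintype.card ι * π B.det = 0 := by
    have := congrArg Matrix.det hmat
    rw [det_smul, det_vecMulVec, ← RingHom.map_det] at this
    exact this
  have hdetne : π B.det ≠ 0 := fun h => hdp ((hπ _).1 h)
  have h4a : 4 * a ∈ p := by
    rcases mul_eq_zero.1 hdet0 with h | h
    · exact (hπ _).1 (pow_eq_zero_iff (Fintype.card_ne_zero) |>.1 h)
    · exact absurd h hdetne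
  have h2p : (2 : R) ∈ p := by
    have h4 : (4 : R) ∈ p := (hp.mem_or_mem h4a).resolve_right hap
    have : (2 : R) * 2 ∈ p := by norm_num; exact h4
    exact (hp.mem_or_mem this).elim id id
  have hrow : ∀ j, π.mapMatrix B o j = 0 := by
    intro j
    simp only [RingHom.mapMatrix_apply, map_apply]
    rw [hπ]
    by_cases hj : j = o
    · subst hj
      rw [hBd]; exact p.mul_mem_right _ h2p
    · have := h1 j hj
      have h5 : 4 * a * T j j ∈ p := p.mul_mem_right _ h4a
      have h6 : B o j ^ 2 ∈ p := by
        have := p.add_mem this h5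
        simpa using this
      exact hp.mem_of_pow_mem 2 h6
  apply hdetne
  rw [RingHom.map_det]
  exact det_eq_zero_of_row_eq_zero o hrow

end Groth.Agent.Lib.Helper26.QSplit
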