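import Groth.Agent.Lib.Helper26.QOdd2
import Groth.Agent.Lib.Helper26.QSplit6

/-!
In residue characteristic two, a semiregular odd-rank form has a regular coordinate hyperplane.
-/

set_option autoImplicit false
set_option linter.unusedSectionVars false

namespace Groth.Agent.Lib.Helper26.QOdd

open Matrix Groth.Agent.Lib.Helper26.QSplit

section ColMat

variable {R : Type*} [CommRing R] {ι : Type*} [Fintype ι] [DecidableEq ι]

theorem colMat_col_ne' (o k : ι) (u : ι → R) (r j : ι) (hjo : j ≠ o) :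
    colMat o k u r j = (1 : Matrix ι ι R) r (Equiv.swap o k j) := by
  simp only [colMat, submatrix_apply, id_eq]
  rw [updateCol_ne]
  intro h
  apply hjo
  have := congrArg (Equiv.swap o k) h
  simpa using this

theorem colMat_col_fun (o k : ι) (u : ι → R) : (fun r => colMat o k u r o) = u :=
  funext fun r => colMat_col o k u r

theorem colMat_col_ne_fun (o k : ι) (u : ι → R) (j : ι) (hjo : j ≠ o) :
    (fun r => colMat o k u r j) = Pi.single (Equiv.swap o k j) 1 := by
  funext r
  rw [colMat_col_ne' o k u r j hjo, one_apply, Pi.single_apply]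

end ColMat

section Field

variable {K : Type*} [Field K] {J : Type*} [Fintype J] [DecidableEq J] {n : ℕ}

theorem exists_minor_field (hn : Odd (n + 1)) (δ : J ≃ Fin n) (h2 : (2 : K) = 0)
    (T : Matrix (Unit ⊕ J) (Unit ⊕ J) K) (hT : hdE δ T ≠ 0) :
    ∃ i : Unit ⊕ J, ((T + Tᵀ).submatrix (fun j : J => Equiv.swap (Sum.inl ()) i (Sum.inr j))
      (fun j : J => Equiv.swap (Sum.inl ()) i (Sum.inr j))).det ≠ 0 := by
  set B := T + Tᵀ with hB
  have hBs : Bᵀ = B := by
    rw [hB, transpose_add, transpose_transpose, add_comm]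
  have hdet : B.det = 0 := by
    rw [hB, ← two_mul_hdE hn δ T, h2, zero_mul]
  obtain ⟨r, hr0, hr⟩ := Matrix.exists_mulVec_eq_zero_iff.2 hdet
  obtain ⟨i, hi⟩ : ∃ i, r i ≠ 0 := by
    by_contra H
    push Not at H
    exact hr0 (funext H)
  refine ⟨i, ?_⟩
  set r' : Unit ⊕ J → K := (r i)⁻¹ • r with hr'
  have hr'i : r' i = 1 := by
    simp [hr', inv_mul_cancel₀ hi]
  have hBr' : B *ᵥ r' = 0 := by
    rw [hr', mulVec_smul, hr, smul_zero]
  set o : Unit ⊕ J := Sum.inl () with ho
  set g := colMat o i r' with hg_def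
  have hg : IsUnit g.det := isUnit_det_colMat o i r' hr'i
  set T' := gᵀ * T * g with hT'_def
  have hT' : hdE δ T' ≠ 0 := by
    rw [hT'_def, hdE_congr hn]
    exact mul_ne_zero (pow_ne_zero 2 hg.ne_zero) hT
  have hblr : ∀ y : Unit ⊕ J → K, bl B r' y = 0 := by
    intro y
    rw [← hBs, bl_transpose, bl, hBr', dotProduct_zero]
  have h12 : T'.toBlocks₁₂ + T'.toBlocks₂₁ᵀ = 0 := by
    ext u j
    simp only [Matrix.add_apply, toBlocks₁₂, toBlocks₂₁, of_apply, transpose_apply,
      Matrix.zero_apply]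
    rw [hT'_def, congr_apply, congr_apply]
    rw [← bl_transpose T (fun r => g r (Sum.inl u)) (fun r => g r (Sum.inr j)), ← bl_add_matrix]
    have : (fun r => g r (Sum.inl u)) = r' := colMat_col_fun o i r'
    rw [this]
    exact hblr _
  have h22 : T'.toBlocks₂₂ + T'.toBlocks₂₂ᵀ =
      B.submatrix (fun j : J => Equiv.swap o i (Sum.inr j))
        (fun j : J => Equiv.swap o i (Sum.inr j)) := by
    ext j l
    simp only [Matrix.add_apply, toBlocks₂₂, of_apply, transpose_apply, submatrix_apply]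
    rw [hT'_def, congr_apply, congr_apply]
    rw [← bl_transpose T (fun r => g r (Sum.inr j)) (fun r => g r (Sum.inr l)), ← bl_add_matrix]
    rw [hg_def, colMat_col_ne_fun o i r' (Sum.inr j) (by simp [ho]),
      colMat_col_ne_fun o i r' (Sum.inr l) (by simp [ho]), bl_single]
  have := hdE_of_zero hn δ T' h12
  rw [this] at hT'
  rw [← h22]
  exact right_ne_zero_of_mul hT'

end Field

section Prime

variable {R : Type*} [CommRing R] {J : Type*} [Fintype J] [DecidableEq J] {n : ℕ}

theorem exists_minor (hn : Odd (n + 1)) (δ : J ≃ Fin n) (p : Ideal R) [hp : p.IsPrime]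
    (h2 : (2 : R) ∈ p) (T : Matrix (Unit ⊕ J) (Unit ⊕ J) R) (hT : hdE δ T ∉ p) :
    ∃ i : Unit ⊕ J, ((T + Tᵀ).submatrix (fun j : J => Equiv.swap (Sum.inl ()) i (Sum.inr j))
      (fun j : J => Equiv.swap (Sum.inl ()) i (Sum.inr j))).det ∉ p := by
  let K := p.ResidueField
  let φ : R →+* K := algebraMap R K
  have hφ : ∀ x, φ x = 0 ↔ x ∈ p := fun x => Ideal.algebraMap_residueField_eq_zero
  have h2K : (2 : K) = 0 := by
    have := (hφ 2).2 h2
    rwa [map_ofNat] at this
  have hTK : hdE δ (T.map φ) ≠ 0 := by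
    rw [← hdE_map]
    exact fun h => hT ((hφ _).1 h)
  obtain ⟨i, hi⟩ := exists_minor_field hn δ h2K (T.map φ) hTK
  refine ⟨i, fun hmem => hi ?_⟩
  have e : (T.map φ + (T.map φ)ᵀ).submatrix (fun j : J => Equiv.swap (Sum.inl ()) i (Sum.inr j))
      (fun j : J => Equiv.swap (Sum.inl ()) i (Sum.inr j)) =
      φ.mapMatrix ((T + Tᵀ).submatrix (fun j : J => Equiv.swap (Sum.inl ()) i (Sum.inr j))
      (fun j : J => Equiv.swap (Sum.inl ()) i (Sum.inr j))) := by
    ext j l
    simp
  rw [e, ← RingHom.map_det]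
  exact (hφ _).2 hmem

end Prime

end Groth.Agent.Lib.Helper26.QOdd
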