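import Groth.Agent.Lib.Helper26.QSplit1

/-!
`Reduces`: étale-local (or more generally `C`-local) congruence transformations of matrix quadratic
forms at a prime.
-/

set_option autoImplicit false
set_option linter.unusedSectionVars false

universe u v

namespace Groth.Agent.Lib.Helper26.QSplit

open Matrix

/-- A class of algebras containing the étale ones and closed under composition. -/
structure AlgCls (C : ∀ (R R' : Type u) [CommRing R] [CommRing R'] [Algebra R R'], Prop) : Prop where
  etale : ∀ (R R' : Type u) [CommRing R] [CommRing R'] [Algebra R R'], Algebra.Etale R R' → C R R'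
  comp : ∀ (R R' R'' : Type u) [CommRing R] [CommRing R'] [CommRing R''] [Algebra R R']
    [Algebra R' R''] [Algebra R R''] [IsScalarTower R R' R''], C R R' → C R' R'' → C R R''

theorem algCls_etale : AlgCls (fun (R R' : Type u) [CommRing R] [CommRing R'] [Algebra R R'] =>
    Algebra.Etale R R') where
  etale := fun _ _ _ _ _ h => h
  comp := fun R R' R'' _ _ _ _ _ _ _ h h' => by
    haveI := h; haveI := h'
    exact Algebra.Etale.comp R R' R''

variable (C : ∀ (R R' : Type u) [CommRing R] [CommRing R'] [Algebra R R'], Prop)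
variable {ι : Type v} [Fintype ι] [DecidableEq ι]

/-- After passing to an algebra `R'` of class `C` with a prime `p'` over `p`, and a congruence by an
invertible matrix, the matrix `T` satisfies `P`. -/
def Reduces {R : Type u} [CommRing R] (p : Ideal R) (T : Matrix ι ι R)
    (P : ∀ (R' : Type u) [CommRing R'], Ideal R' → Matrix ι ι R' → Prop) : Prop :=
  ∃ (R' : Type u) (_ : CommRing R') (_ : Algebra R R'), C R R' ∧
    ∃ p' : Ideal R', p'.IsPrime ∧ p'.comap (algebraMap R R') = p ∧
      ∃ g : Matrix ι ι R', IsUnit g.det ∧ P R' p' (gᵀ * T.map (algebraMap R R') * g)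

variable {C}

theorem Reduces.of_congr (hC : AlgCls C) {R : Type u} [CommRing R] (p : Ideal R) [hp : p.IsPrime]
    (T : Matrix ι ι R) {P : ∀ (R' : Type u) [CommRing R'], Ideal R' → Matrix ι ι R' → Prop}
    (g : Matrix ι ι R) (hg : IsUnit g.det) (h : P R p (gᵀ * T * g)) : Reduces C p T P := by
  refine ⟨R, inferInstance, inferInstance, hC.etale R R inferInstance, p, hp, ?_, g, hg, ?_⟩
  · rfl
  · have : T.map (algebraMap R R) = T := by
      ext i j; rfl
    rw [this]
    exact h

theorem Reduces.of_self (hC : AlgCls C) {R : Type u} [CommRing R] (p : Ideal R) [hp : p.IsPrime]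
    (T : Matrix ι ι R) {P : ∀ (R' : Type u) [CommRing R'], Ideal R' → Matrix ι ι R' → Prop}
    (h : P R p T) : Reduces C p T P := by
  refine Reduces.of_congr hC p T 1 (by simp) ?_
  simpa using h

theorem Reduces.mono {R : Type u} [CommRing R] {p : Ideal R} {T : Matrix ι ι R}
    {P P' : ∀ (R' : Type u) [CommRing R'], Ideal R' → Matrix ι ι R' → Prop}
    (h : Reduces C p T P)
    (hPP' : ∀ (R' : Type u) [CommRing R'] (p' : Ideal R') (T' : Matrix ι ι R'), p'.IsPrime →
      P R' p' T' → P' R' p' T') : Reduces C p T P' := by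
  obtain ⟨R', _, _, hC', p', hp', hpp', g, hg, hP⟩ := h
  exact ⟨R', _, _, hC', p', hp', hpp', g, hg, hPP' R' p' _ hp' hP⟩

theorem Reduces.trans (hC : AlgCls C) {R : Type u} [CommRing R] {p : Ideal R} {T : Matrix ι ι R}
    {P P' : ∀ (R' : Type u) [CommRing R'], Ideal R' → Matrix ι ι R' → Prop}
    (h : Reduces C p T P)
    (h' : ∀ (R' : Type u) [CommRing R'] (p' : Ideal R') (T' : Matrix ι ι R'), p'.IsPrime →
      P R' p' T' → Reduces C p' T' P') : Reduces C p T P' := by
  obtain ⟨R', _, _, hC', p', hp', hpp', g, hg, hP⟩ := h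
  obtain ⟨R'', _, _, hC'', p'', hp'', hpp'', g', hg', hP'⟩ := h' R' p' _ hp' hP
  letI : Algebra R R'' := ((algebraMap R' R'').comp (algebraMap R R')).toAlgebra
  haveI : IsScalarTower R R' R'' := IsScalarTower.of_algebraMap_eq fun _ => rfl
  refine ⟨R'', _, _, hC.comp R R' R'' hC' hC'', p'', hp'', ?_, g.map (algebraMap R' R'') * g', ?_, ?_⟩
  · rw [IsScalarTower.algebraMap_eq R R' R'', ← Ideal.comap_comap, hpp'', hpp']
  · rw [det_mul]
    have : (g.map (algebraMap R' R'')).det = algebraMap R' R'' g.det := by
      rw [RingHom.map_det]; rfl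
    rw [this]
    exact (hg.map _).mul hg'
  · have e1 : T.map (algebraMap R R'') = (T.map (algebraMap R R')).map (algebraMap R' R'') := by
      ext i j
      simp [IsScalarTower.algebraMap_apply R R' R'']
    have e2 : (g.map (algebraMap R' R'') * g')ᵀ * T.map (algebraMap R R'') *
        (g.map (algebraMap R' R'') * g') =
        g'ᵀ * (gᵀ * T.map (algebraMap R R') * g).map (algebraMap R' R'') * g' := by
      rw [e1, congr_map, transpose_mul]
      simp only [Matrix.mul_assoc]
    rw [e2]
    exact hP'

/-- Localizing away from an element outside `p`. -/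
theorem Reduces.away (hC : AlgCls C) {R : Type u} [CommRing R] (p : Ideal R) [hp : p.IsPrime]
    (T : Matrix ι ι R) {P : ∀ (R' : Type u) [CommRing R'], Ideal R' → Matrix ι ι R' → Prop}
    (s : R) (hs : s ∉ p)
    (h : ∀ (R' : Type u) [CommRing R'] [Algebra R R'] (p' : Ideal R'), p'.IsPrime →
      p'.comap (algebraMap R R') = p → IsUnit (algebraMap R R' s) →
      P R' p' (T.map (algebraMap R R'))) : Reduces C p T P := by
  have hd : Disjoint (Submonoid.powers s : Set R) (p : Set R) := by
    rw [Set.disjoint_left]
    rintro x ⟨n, rfl⟩ hx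
    exact hs (hp.mem_of_pow_mem n hx)
  refine ⟨Localization.Away s, inferInstance, inferInstance,
    hC.etale _ _ (Algebra.Etale.of_isLocalizationAway s), p.map (algebraMap R (Localization.Away s)),
    IsLocalization.isPrime_of_isPrime_disjoint (Submonoid.powers s) _ p hp hd,
    IsLocalization.comap_map_of_isPrime_disjoint (Submonoid.powers s) _ hp hd, 1, by simp, ?_⟩
  rw [transpose_one, Matrix.one_mul, Matrix.mul_one]
  exact h _ _ (IsLocalization.isPrime_of_isPrime_disjoint (Submonoid.powers s) _ p hp hd)
    (IsLocalization.comap_map_of_isPrime_disjoint (Submonoid.powers s) _ hp hd)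
    (IsLocalization.Away.algebraMap_isUnit s)

end Groth.Agent.Lib.Helper26.QSplit
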