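import Groth.Agent.Lib.Helper26.QOdd3
import Groth.Agent.Lib.Helper26.QSplit2

/-!
Odd rank: reduction to `⟨a⟩ ⊥ (regular even rank)` locally at a prime.
-/

set_option autoImplicit false
set_option linter.unusedSectionVars false

universe u v

namespace Groth.Agent.Lib.Helper26.QOdd

open Matrix Groth.Agent.Lib.Helper26.QSplit

section Perm

variable {R : Type*} [CommRing R] {ι : Type*} [Fintype ι] [DecidableEq ι]

theorem permCongr (T : Matrix ι ι R) (σ : Equiv.Perm ι) :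
    ((1 : Matrix ι ι R).submatrix id σ)ᵀ * T * (1 : Matrix ι ι R).submatrix id σ =
      T.submatrix σ σ := by
  ext a b
  rw [congr_apply]
  have : ∀ c, (fun r => (1 : Matrix ι ι R).submatrix id σ r c) = Pi.single (σ c) 1 := by
    intro c
    funext r
    simp [one_apply, Pi.single_apply]
  rw [this, this, bl_single]
  rfl

theorem isUnit_det_perm (σ : Equiv.Perm ι) :
    IsUnit ((1 : Matrix ι ι R).submatrix id σ).det := by
  rw [det_permute', det_one, mul_one]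
  have hs := ((Equiv.Perm.sign σ).isUnit.map (Int.castRingHom R))
  exact_mod_cast hs

end Perm

variable {C : ∀ (R R' : Type u) [CommRing R] [CommRing R'] [Algebra R R'], Prop}
variable {J : Type v} [Fintype J] [DecidableEq J] {n : ℕ}

/-- state: `⟨a⟩ ⊥ (regular)` with `a` a unit -/
def OSt {R : Type*} [CommRing R] (T : Matrix (Unit ⊕ J) (Unit ⊕ J) R) : Prop :=
  IsUnit (T (Sum.inl ()) (Sum.inl ())) ∧ T.toBlocks₁₂ + T.toBlocks₂₁ᵀ = 0 ∧
    IsUnit (T.toBlocks₂₂ + T.toBlocks₂₂ᵀ).det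

theorem map_polar₂₂ {R S : Type*} [CommRing R] [CommRing S] (φ : R →+* S)
    (T : Matrix (Unit ⊕ J) (Unit ⊕ J) R) :
    (T.map φ).toBlocks₂₂ + ((T.map φ).toBlocks₂₂)ᵀ = φ.mapMatrix (T.toBlocks₂₂ + T.toBlocks₂₂ᵀ) := by
  ext j l
  simp [toBlocks₂₂]

theorem stepA (hC : AlgCls C) (hn : Odd (n + 1)) (δ : J ≃ Fin n) {R : Type u} [CommRing R]
    (p : Ideal R) [hp : p.IsPrime] (h2 : (2 : R) ∈ p)
    (T : Matrix (Unit ⊕ J) (Unit ⊕ J) R) (h : IsUnit (hdE δ T)) :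
    Reduces C p T (fun R' _ _ T' => IsUnit (hdE δ T') ∧
      IsUnit (T'.toBlocks₂₂ + T'.toBlocks₂₂ᵀ).det) := by
  have hTp : hdE δ T ∉ p := fun hm => hp.ne_top (p.eq_top_of_isUnit_mem hm h)
  obtain ⟨i, hi⟩ := exists_minor hn δ p h2 T hTp
  set σ : Equiv.Perm (Unit ⊕ J) := Equiv.swap (Sum.inl ()) i with hσ
  set g := (1 : Matrix (Unit ⊕ J) (Unit ⊕ J) R).submatrix id σ with hg_def
  have hg : IsUnit g.det := isUnit_det_perm σ
  refine Reduces.trans hC (P := fun R' _ p' T' => IsUnit (hdE δ T') ∧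
      (T'.toBlocks₂₂ + T'.toBlocks₂₂ᵀ).det ∉ p')
    (Reduces.of_congr hC p T g hg ⟨isUnit_hdE_congr hn δ T g hg h, ?_⟩) ?_
  · rw [hg_def, permCongr]
    have : (T.submatrix σ σ).toBlocks₂₂ + ((T.submatrix σ σ).toBlocks₂₂)ᵀ =
        (T + Tᵀ).submatrix (fun j : J => σ (Sum.inr j)) (fun j : J => σ (Sum.inr j)) := by
      ext j l; rfl
    rw [this]
    exact hi
  · intro R' _ p' T' hp' hT'
    obtain ⟨hd, hs⟩ := hT'
    have := hp'
    refine Reduces.away hC p' T' _ hs ?_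
    intro R'' _ _ p'' _ _ hunit
    refine ⟨isUnit_hdE_map _ δ T' hd, ?_⟩
    rw [map_polar₂₂, ← RingHom.map_det]
    exact hunit

theorem stepB (hn : Odd (n + 1)) (δ : J ≃ Fin n) {R : Type*} [CommRing R]
    (T : Matrix (Unit ⊕ J) (Unit ⊕ J) R) (h : IsUnit (hdE δ T))
    (hD : IsUnit (T.toBlocks₂₂ + T.toBlocks₂₂ᵀ).det) :
    ∃ g : Matrix (Unit ⊕ J) (Unit ⊕ J) R, IsUnit g.det ∧ OSt (gᵀ * T * g) := by
  set E := T.toBlocks₂₂ + T.toBlocks₂₂ᵀ with hE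
  set N : Matrix J Unit R := -((T.toBlocks₁₂ + T.toBlocks₂₁ᵀ) * E⁻¹)ᵀ with hN
  set g := fromBlocks (1 : Matrix Unit Unit R) 0 N (1 : Matrix J J R) with hg
  have hgd : IsUnit g.det := by
    rw [hg, det_lower]; exact isUnit_one
  have e := lowerCongr T N
  have h12 : (gᵀ * T * g).toBlocks₁₂ + (gᵀ * T * g).toBlocks₂₁ᵀ = 0 := by
    rw [hg, e, toBlocks_fromBlocks₁₂, toBlocks_fromBlocks₂₁]
    rw [transpose_add, transpose_mul]
    have : T.toBlocks₁₂ + Nᵀ * T.toBlocks₂₂ + (T.toBlocks₂₁ᵀ + Nᵀ * T.toBlocks₂₂ᵀ) =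
        (T.toBlocks₁₂ + T.toBlocks₂₁ᵀ) + Nᵀ * E := by
      rw [hE, Matrix.mul_add]; abel
    rw [this, hN, transpose_neg, transpose_transpose, Matrix.neg_mul, Matrix.mul_assoc,
      Matrix.nonsing_inv_mul _ hD, Matrix.mul_one, add_neg_cancel]
  have h22 : (gᵀ * T * g).toBlocks₂₂ = T.toBlocks₂₂ := by
    rw [hg, e, toBlocks_fromBlocks₂₂]
  have hD' : IsUnit ((gᵀ * T * g).toBlocks₂₂ + (gᵀ * T * g).toBlocks₂₂ᵀ).det := by
    rw [h22]; exact hD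
  have hh := isUnit_hdE_congr hn δ T g hgd h
  rw [hdE_of_zero hn δ _ h12] at hh
  exact ⟨g, hgd, (IsUnit.mul_iff.1 hh).1, h12, hD'⟩

theorem stepC (hC : AlgCls C) (hn : Odd (n + 1)) (δ : J ≃ Fin n) {R : Type u} [CommRing R]
    (p : Ideal R) [hp : p.IsPrime] (h2 : (2 : R) ∉ p)
    (T : Matrix (Unit ⊕ J) (Unit ⊕ J) R) (h : IsUnit (hdE δ T)) :
    Reduces C p T (fun R' _ _ T' => IsUnit (2 : R') ∧ IsUnit (T' + T'ᵀ).det) := by
  refine Reduces.away hC p T 2 h2 ?_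
  intro R' _ _ p' _ _ hunit
  have h2' : IsUnit (2 : R') := by
    rw [map_ofNat] at hunit
    exact hunit
  refine ⟨h2', ?_⟩
  rw [← two_mul_hdE hn δ]
  exact h2'.mul (isUnit_hdE_map _ δ T h)

theorem stepD (hC : AlgCls C) {R : Type u} [CommRing R]
    (p : Ideal R) [hp : p.IsPrime]
    (T : Matrix (Unit ⊕ J) (Unit ⊕ J) R) (h2 : IsUnit (2 : R)) (h : IsUnit (T + Tᵀ).det) :
    Reduces C p T (fun R' _ _ T' => IsUnit (2 : R') ∧ IsUnit (T' + T'ᵀ).det ∧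
      IsUnit (T' (Sum.inl ()) (Sum.inl ()))) := by
  obtain ⟨k, u, hu, hq⟩ := exists_u p T h
  have hg := isUnit_det_colMat (Sum.inl ()) k u hu
  have h00 : ((colMat (Sum.inl ()) k u)ᵀ * T * colMat (Sum.inl ()) k u) (Sum.inl ()) (Sum.inl ()) =
      qf T u := by
    rw [congr_apply]
    simp only [colMat_col]
    rfl
  refine Reduces.trans hC
    (P := fun R' _ p' T' => IsUnit (2 : R') ∧ IsUnit (T' + T'ᵀ).det ∧
      T' (Sum.inl ()) (Sum.inl ()) ∉ p')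
    (Reduces.of_congr hC p T _ hg ⟨h2, isUnit_det_polar_congr T _ hg h, by rw [h00]; exact hq⟩) ?_
  intro R' _ p' T' hp' hT'
  obtain ⟨h2', hd, hs⟩ := hT'
  have := hp'
  refine Reduces.away hC p' T' (T' (Sum.inl ()) (Sum.inl ())) hs ?_
  intro R'' _ _ p'' _ _ hunit
  have h2'' : IsUnit (2 : R'') := by
    have := h2'.map (algebraMap R' R'')
    rwa [map_ofNat] at this
  exact ⟨h2'', isUnit_det_polar_map _ T' hd,
    by simpa using hunit⟩

theorem stepE {R : Type*} [CommRing R]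
    (T : Matrix (Unit ⊕ J) (Unit ⊕ J) R) (h2 : IsUnit (2 : R)) (h : IsUnit (T + Tᵀ).det)
    (ha : IsUnit (T (Sum.inl ()) (Sum.inl ()))) :
    ∃ g : Matrix (Unit ⊕ J) (Unit ⊕ J) R, IsUnit g.det ∧ OSt (gᵀ * T * g) := by
  set A2 := T.toBlocks₁₁ + T.toBlocks₁₁ᵀ with hA2
  have hA2d : IsUnit A2.det := by
    rw [det_unique, hA2]
    have : (T.toBlocks₁₁ + T.toBlocks₁₁ᵀ) default default = 2 * T (Sum.inl ()) (Sum.inl ()) := by
      simp [toBlocks₁₁, two_mul]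
    rw [this]
    exact h2.mul ha
  set N : Matrix Unit J R := -(A2⁻¹ * (T.toBlocks₁₂ + T.toBlocks₂₁ᵀ)) with hN
  set g := fromBlocks (1 : Matrix Unit Unit R) N 0 (1 : Matrix J J R) with hg
  have hgd : IsUnit g.det := by
    rw [hg, det_upper]; exact isUnit_one
  have e := upperCongr T N
  have h12 : (gᵀ * T * g).toBlocks₁₂ + (gᵀ * T * g).toBlocks₂₁ᵀ = 0 := by
    rw [hg, e, toBlocks_fromBlocks₁₂, toBlocks_fromBlocks₂₁]
    rw [transpose_add, transpose_mul, transpose_transpose]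
    have : T.toBlocks₁₁ * N + T.toBlocks₁₂ + (T.toBlocks₁₁ᵀ * N + T.toBlocks₂₁ᵀ) =
        A2 * N + (T.toBlocks₁₂ + T.toBlocks₂₁ᵀ) := by
      rw [hA2, Matrix.add_mul]; abel
    rw [this, hN, Matrix.mul_neg, ← Matrix.mul_assoc, Matrix.mul_nonsing_inv _ hA2d, Matrix.one_mul,
      neg_add_cancel]
  have h11 : (gᵀ * T * g) (Sum.inl ()) (Sum.inl ()) = T (Sum.inl ()) (Sum.inl ()) := by
    rw [hg, e]
    rfl
  have hpd := isUnit_det_polar_congr T g hgd h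
  rw [det_polar_of_split _ h12] at hpd
  exact ⟨g, hgd, by rw [h11]; exact ha, h12, (IsUnit.mul_iff.1 hpd).2⟩

theorem odd_key (hC : AlgCls C) (hn : Odd (n + 1)) (δ : J ≃ Fin n) {R : Type u} [CommRing R]
    (p : Ideal R) [hp : p.IsPrime]
    (T : Matrix (Unit ⊕ J) (Unit ⊕ J) R) (h : IsUnit (hdE δ T)) :
    Reduces C p T (fun R' _ _ T' => OSt T') := by
  by_cases h2 : (2 : R) ∈ p
  · refine (stepA hC hn δ p h2 T h).trans hC fun R₁ _ p₁ T₁ hp₁ h₁ => ?_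
    have := hp₁
    obtain ⟨g, hg, hO⟩ := stepB hn δ T₁ h₁.1 h₁.2
    exact Reduces.of_congr hC p₁ T₁ g hg hO
  · refine (stepC hC hn δ p h2 T h).trans hC fun R₁ _ p₁ T₁ hp₁ h₁ => ?_
    have := hp₁
    refine (stepD hC p₁ T₁ h₁.1 h₁.2).trans hC fun R₂ _ p₂ T₂ hp₂ h₂ => ?_
    have := hp₂
    obtain ⟨g, hg, hO⟩ := stepE T₂ h₂.1 h₂.2.1 h₂.2.2
    exact Reduces.of_congr hC p₂ T₂ g hg hO

end Groth.Agent.Lib.Helper26.QOdd
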