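import Groth.Agent.Lib.Helper26.QSplit7

/-!
Induction: a matrix quadratic form in `2m` variables with unit polar determinant is split
`C`-locally at every prime.
-/

set_option autoImplicit false
set_option linter.unusedSectionVars false

universe u v

namespace Groth.Agent.Lib.Helper26.QSplit

open Matrix

variable {C : ∀ (R R' : Type u) [CommRing R] [CommRing R'] [Algebra R R'], Prop}

/-- reindexing `Fin (m+1) ⊕ Fin (m+1)` as `Fin 2 ⊕ (Fin m ⊕ Fin m)` -/
def eps (m : ℕ) : Fin (m + 1) ⊕ Fin (m + 1) ≃ Fin 2 ⊕ (Fin m ⊕ Fin m) where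
  toFun := Sum.elim (Fin.cases (Sum.inl 0) (fun j => Sum.inr (Sum.inl j)))
    (Fin.cases (Sum.inl 1) (fun j => Sum.inr (Sum.inr j)))
  invFun := Sum.elim (fun i => if i = 0 then Sum.inl 0 else Sum.inr 0)
    (Sum.elim (fun j => Sum.inl j.succ) (fun j => Sum.inr j.succ))
  left_inv := by
    rintro (i | i) <;> refine Fin.cases ?_ (fun j => ?_) i <;> simp
  right_inv := by
    rintro (i | j | j)
    · fin_cases i <;> simp
    · simp
    · simp

theorem eps_symm_inl0 (m : ℕ) : (eps m).symm (Sum.inl 0) = Sum.inl 0 := rfl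
theorem eps_symm_inl1 (m : ℕ) : (eps m).symm (Sum.inl 1) = Sum.inr 0 := rfl
theorem eps_symm_inr_inl (m : ℕ) (j : Fin m) : (eps m).symm (Sum.inr (Sum.inl j)) = Sum.inl j.succ :=
  rfl
theorem eps_symm_inr_inr (m : ℕ) (j : Fin m) : (eps m).symm (Sum.inr (Sum.inr j)) = Sum.inr j.succ :=
  rfl

section Reindex

variable {ι ι' : Type v} [Fintype ι] [DecidableEq ι] [Fintype ι'] [DecidableEq ι']

theorem Reduces.reindex (ε : ι ≃ ι') {R : Type u} [CommRing R] (p : Ideal R) (T : Matrix ι ι R)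
    {P' : ∀ (R' : Type u) [CommRing R'], Ideal R' → Matrix ι' ι' R' → Prop}
    (h : Reduces C p (T.submatrix ε.symm ε.symm) P') :
    Reduces C p T (fun R' _ p' T' => P' R' p' (T'.submatrix ε.symm ε.symm)) := by
  obtain ⟨R', _, _, hC', p', hp', hpp', g, hg, hP⟩ := h
  refine ⟨R', _, _, hC', p', hp', hpp', g.submatrix ε ε, ?_, ?_⟩
  · rw [det_submatrix_equiv_self]; exact hg
  · have e : ((g.submatrix ε ε)ᵀ * T.map (algebraMap R R') * g.submatrix ε ε).submatrix ε.symm ε.symm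
        = gᵀ * (T.submatrix ε.symm ε.symm).map (algebraMap R R') * g := by
      have h1 : T.map (algebraMap R R') =
          ((T.submatrix ε.symm ε.symm).map (algebraMap R R')).submatrix ε ε := by
        ext i j; simp
      rw [h1, transpose_submatrix, submatrix_mul_equiv, submatrix_mul_equiv, submatrix_submatrix]
      simp
    show P' R' p' (((g.submatrix ε ε)ᵀ * T.map (algebraMap R R') * g.submatrix ε ε).submatrix
      ε.symm ε.symm)
    rw [e]
    exact hP

end Reindex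

/-- the split form on `Fin m ⊕ Fin m` -/
def IsSplit {R : Type*} [CommRing R] {m : ℕ} (T : Matrix (Fin m ⊕ Fin m) (Fin m ⊕ Fin m) R) : Prop :=
  ∀ x : Fin m ⊕ Fin m → R, qf T x = ∑ j : Fin m, x (Sum.inl j) * x (Sum.inr j)

theorem block_step {R : Type u} [CommRing R] {m : ℕ} (p : Ideal R)
    (T : Matrix (Fin 2 ⊕ (Fin m ⊕ Fin m)) (Fin 2 ⊕ (Fin m ⊕ Fin m)) R) (h : St5 T)
    (hred : Reduces C p T.toBlocks₂₂ (fun R' _ _ T' => IsSplit T')) :
    Reduces C p T (fun R' _ _ T' => ∀ x : Fin 2 ⊕ (Fin m ⊕ Fin m) → R',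
      qf T' x = x (Sum.inl 0) * x (Sum.inl 1) +
        ∑ j : Fin m, x (Sum.inr (Sum.inl j)) * x (Sum.inr (Sum.inr j))) := by
  obtain ⟨⟨⟨hdet, h00, h01⟩, h11⟩, h12⟩ := h
  obtain ⟨R', _, _, hC', p', hp', hpp', g, hg, hsplit⟩ := hred
  let φ := algebraMap R R'
  let G : Matrix (Fin 2 ⊕ (Fin m ⊕ Fin m)) (Fin 2 ⊕ (Fin m ⊕ Fin m)) R' := fromBlocks 1 0 0 g
  have hG : IsUnit G.det := by
    simp only [G]
    rw [det_fromBlocks_zero₂₁, det_one, one_mul]; exact hg
  refine ⟨R', _, _, hC', p', hp', hpp', G, hG, ?_⟩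
  intro x
  have hT : T.map φ = fromBlocks (T.toBlocks₁₁.map φ) (T.toBlocks₁₂.map φ) (T.toBlocks₂₁.map φ)
      (T.toBlocks₂₂.map φ) := by
    conv_lhs => rw [← fromBlocks_toBlocks T]
    rw [fromBlocks_map]
  have e : Gᵀ * T.map φ * G = fromBlocks (T.toBlocks₁₁.map φ) (T.toBlocks₁₂.map φ * g)
      (gᵀ * T.toBlocks₂₁.map φ) (gᵀ * T.toBlocks₂₂.map φ * g) := by
    rw [hT]
    simp only [G]
    rw [fromBlocks_transpose, fromBlocks_multiply, fromBlocks_multiply]
    simp
  rw [e, qf_fromBlocks]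
  have hmid : T.toBlocks₁₂.map φ * g + (gᵀ * T.toBlocks₂₁.map φ)ᵀ = 0 := by
    rw [transpose_mul, transpose_transpose, ← Matrix.add_mul]
    have : T.toBlocks₁₂.map φ + (T.toBlocks₂₁.map φ)ᵀ = (T.toBlocks₁₂ + T.toBlocks₂₁ᵀ).map φ := by
      ext i j; simp
    rw [this, h12]
    simp
  rw [hmid, zero_mulVec, dotProduct_zero, add_zero, qf_fin2, hsplit]
  simp only [map_apply, toBlocks₁₁, of_apply, Function.comp]
  rw [h00, h11, ← map_add, h01]
  simp

theorem main_ind (hC : AlgCls C) : ∀ (m : ℕ) (R : Type u) [CommRing R] (p : Ideal R) [p.IsPrime]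
    (T : Matrix (Fin m ⊕ Fin m) (Fin m ⊕ Fin m) R), IsUnit (T + Tᵀ).det →
    Reduces C p T (fun R' _ _ T' => IsSplit T') := by
  intro m
  induction m with
  | zero =>
    intro R _ p _ T _
    refine Reduces.of_self hC p T ?_
    intro x
    simp [qf, dotProduct]
  | succ m ih =>
    intro R _ p hp T hdet
    let ε := eps m
    have hdet' : IsUnit (T.submatrix ε.symm ε.symm + (T.submatrix ε.symm ε.symm)ᵀ).det := by
      have : T.submatrix ε.symm ε.symm + (T.submatrix ε.symm ε.symm)ᵀ =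
          (T + Tᵀ).submatrix ε.symm ε.symm := by
        ext i j; rfl
      rw [this, det_submatrix_equiv_self]
      exact hdet
    have h1 := key hC p (T.submatrix ε.symm ε.symm) hdet'
    have h2 := h1.trans hC (P' := fun R' _ _ T' => ∀ x : Fin 2 ⊕ (Fin m ⊕ Fin m) → R',
      qf T' x = x (Sum.inl 0) * x (Sum.inl 1) +
        ∑ j : Fin m, x (Sum.inr (Sum.inl j)) * x (Sum.inr (Sum.inr j))) (by
      intro R₁ _ p₁ T₁ hp₁ h5
      haveI := hp₁
      exact block_step p₁ T₁ h5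
        (ih R₁ p₁ T₁.toBlocks₂₂ (isUnit_det_polar_toBlocks₂₂ T₁ h5.2 h5.1.1.1)))
    refine (Reduces.reindex ε p T h2).mono ?_
    intro R' _ p' T' _ hQ x
    have := hQ (fun i => x (ε.symm i))
    rw [qf_submatrix] at this
    have hx : (fun i => (fun i => x (ε.symm i)) (ε.symm.symm i)) = x := by
      funext i; simp
    rw [hx] at this
    rw [this, Fin.sum_univ_succ]
    rfl

end Groth.Agent.Lib.Helper26.QSplit
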