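import Groth.Agent.Lib.Helper26.QOdd4
import Groth.Agent.Lib.Helper26.QSplit8

/-!
Odd rank: a semiregular matrix quadratic form is split flat-locally (finitely presented) at every
prime.
-/

set_option autoImplicit false
set_option linter.unusedSectionVars false

universe u v

namespace Groth.Agent.Lib.Helper26.QOdd

open Matrix Polynomial Groth.Agent.Lib.Helper26.QSplit

/-- flat and finitely presented algebras -/
def FlatFP (R R' : Type u) [CommRing R] [CommRing R'] [Algebra R R'] : Prop :=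
  Module.Flat R R' ∧ Algebra.FinitePresentation R R'

theorem algCls_flatFP : AlgCls FlatFP where
  etale := fun R R' _ _ _ h => by
    have := h
    exact ⟨inferInstance, inferInstance⟩
  comp := fun R R' R'' _ _ _ _ _ _ _ h h' => by
    have := h.1; have := h.2; have := h'.1; have := h'.2
    exact ⟨Module.Flat.trans R R' R'', Algebra.FinitePresentation.trans R R' R''⟩

section Blocks

variable {R : Type*} [CommRing R] {ι₁ κ : Type*} [Fintype ι₁] [DecidableEq ι₁] [Fintype κ]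
  [DecidableEq κ]

/-- congruence by `fromBlocks M 0 0 1` -/
theorem blockCongrG (T : Matrix (ι₁ ⊕ κ) (ι₁ ⊕ κ) R) (M : Matrix ι₁ ι₁ R) :
    (fromBlocks M 0 0 (1 : Matrix κ κ R))ᵀ * T * fromBlocks M 0 0 1 =
      fromBlocks (Mᵀ * T.toBlocks₁₁ * M) (Mᵀ * T.toBlocks₁₂) (T.toBlocks₂₁ * M) T.toBlocks₂₂ := by
  conv_lhs => rw [← fromBlocks_toBlocks T]
  rw [fromBlocks_transpose, fromBlocks_multiply, fromBlocks_multiply]
  simp

theorem qf_unit (A : Matrix Unit Unit R) (y : Unit → R) : qf A y = A () () * y () ^ 2 := by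
  simp only [qf, dotProduct, mulVec, Finset.univ_unique, Finset.sum_singleton]
  show y () * (A () () * y ()) = _
  ring

end Blocks

variable {J : Type v} [Fintype J] [DecidableEq J]

/-- state: `⟨1⟩ ⊥ (regular)` -/
def OSt1 {R : Type*} [CommRing R] (T : Matrix (Unit ⊕ J) (Unit ⊕ J) R) : Prop :=
  T (Sum.inl ()) (Sum.inl ()) = 1 ∧ T.toBlocks₁₂ + T.toBlocks₂₁ᵀ = 0 ∧
    IsUnit (T.toBlocks₂₂ + T.toBlocks₂₂ᵀ).det

theorem sqrt_step {R : Type u} [CommRing R] (p : Ideal R) [hp : p.IsPrime]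
    (T : Matrix (Unit ⊕ J) (Unit ⊕ J) R) (h : OSt T) :
    Reduces FlatFP p T (fun R' _ _ T' => OSt1 T') := by
  obtain ⟨ha, h12, hdet⟩ := h
  set a := T (Sum.inl ()) (Sum.inl ()) with ha_def
  obtain ⟨ai, hai⟩ := ha.exists_right_inv
  let f : R[X] := X ^ 2 - C ai
  have hf : f.Monic := monic_X_pow_sub_C ai (by norm_num)
  have hflat : Module.Flat R (AdjoinRoot f) := by
    have : Module.Free R (AdjoinRoot f) := Module.Free.of_basis (AdjoinRoot.powerBasis' hf).basis
    infer_instance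
  have hfp : Algebra.FinitePresentation R (AdjoinRoot f) := inferInstance
  obtain ⟨p', hp', hpp'⟩ : ∃ p' : Ideal (AdjoinRoot f), p'.IsPrime ∧
      p'.comap (algebraMap R (AdjoinRoot f)) = p := by
    let K := AlgebraicClosure p.ResidueField
    have hdeg : (f.map (algebraMap R K)).degree ≠ 0 := by
      have hm : (f.map (algebraMap R K)).Monic := hf.map _
      have hn : (f.map (algebraMap R K)).natDegree = 2 := by
        rw [hf.natDegree_map]
        have : Nontrivial R := (algebraMap R K).domain_nontrivial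
        exact natDegree_X_pow_sub_C
      intro h0
      have := natDegree_eq_of_degree_eq_some (n := 0) (by simpa using h0)
      omega
    obtain ⟨x, hx⟩ := IsAlgClosed.exists_root (f.map (algebraMap R K)) hdeg
    let ψ : AdjoinRoot f →+* K := AdjoinRoot.lift (algebraMap R K) x (by
      rw [eval₂_eq_eval_map]; exact hx)
    refine ⟨RingHom.ker ψ, RingHom.ker_isPrime _, ?_⟩
    rw [RingHom.comap_ker]
    have h1 : ψ.comp (algebraMap R (AdjoinRoot f)) = algebraMap R K := by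
      ext r
      show ψ (algebraMap R (AdjoinRoot f) r) = _
      rw [AdjoinRoot.algebraMap_eq]
      exact AdjoinRoot.lift_of _
    rw [h1]
    ext r
    rw [RingHom.mem_ker, IsScalarTower.algebraMap_apply R p.ResidueField K,
      map_eq_zero_iff _ (algebraMap p.ResidueField K).injective,
      Ideal.algebraMap_residueField_eq_zero]
  let φ : R →+* AdjoinRoot f := algebraMap R (AdjoinRoot f)
  let t : AdjoinRoot f := AdjoinRoot.root f
  have ht : t ^ 2 = φ ai := by
    have h0 := AdjoinRoot.eval₂_root f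
    simp only [f, eval₂_sub, eval₂_pow, eval₂_X, eval₂_C] at h0
    rw [sub_eq_zero] at h0
    show t ^ 2 = algebraMap R (AdjoinRoot f) ai
    rw [AdjoinRoot.algebraMap_eq]
    exact h0
  have hai' : φ a * φ ai = 1 := by rw [← map_mul, hai, map_one]
  let M : Matrix Unit Unit (AdjoinRoot f) := Matrix.of fun _ _ => t
  let G : Matrix (Unit ⊕ J) (Unit ⊕ J) (AdjoinRoot f) := fromBlocks M 0 0 1
  have hG : IsUnit G.det := by
    simp only [G]
    rw [det_fromBlocks_zero₂₁, det_one, mul_one, det_unique]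
    show IsUnit t
    refine IsUnit.of_mul_eq_one (t * φ a) ?_
    rw [← mul_assoc, ← pow_two, ht, mul_comm, hai']
  refine ⟨AdjoinRoot f, inferInstance, inferInstance, ⟨hflat, hfp⟩, p', hp', hpp', G, hG, ?_⟩
  simp only [G]
  rw [blockCongrG]
  refine ⟨?_, ?_, ?_⟩
  · show (Mᵀ * (T.map φ).toBlocks₁₁ * M) () () = 1
    simp only [mul_apply, Finset.univ_unique, Finset.sum_singleton, transpose_apply]
    show t * φ a * t = 1
    rw [mul_comm (t * φ a), ← mul_assoc, ← pow_two, ht, mul_comm, hai']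
  · rw [toBlocks_fromBlocks₁₂, toBlocks_fromBlocks₂₁, transpose_mul, ← Matrix.mul_add]
    have : (T.map φ).toBlocks₁₂ + ((T.map φ).toBlocks₂₁)ᵀ = (T.toBlocks₁₂ + T.toBlocks₂₁ᵀ).map φ := by
      ext i j; simp [toBlocks₁₂, toBlocks₂₁]
    rw [this, h12]
    simp
  · rw [toBlocks_fromBlocks₂₂, map_polar₂₂, ← RingHom.map_det]
    exact hdet.map φ

variable {C : ∀ (R R' : Type u) [CommRing R] [CommRing R'] [Algebra R R'], Prop}

/-- the odd split form on `Unit ⊕ (Fin m ⊕ Fin m)` -/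
def IsOddSplit {R : Type*} [CommRing R] {m : ℕ}
    (T : Matrix (Unit ⊕ (Fin m ⊕ Fin m)) (Unit ⊕ (Fin m ⊕ Fin m)) R) : Prop :=
  ∀ x : Unit ⊕ (Fin m ⊕ Fin m) → R, qf T x = x (Sum.inl ()) ^ 2 +
    ∑ j : Fin m, x (Sum.inr (Sum.inl j)) * x (Sum.inr (Sum.inr j))

theorem block_stepO {R : Type u} [CommRing R] {m : ℕ} (p : Ideal R)
    (T : Matrix (Unit ⊕ (Fin m ⊕ Fin m)) (Unit ⊕ (Fin m ⊕ Fin m)) R) (h : OSt1 T)
    (hred : Reduces C p T.toBlocks₂₂ (fun R' _ _ T' => IsSplit T')) :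
    Reduces C p T (fun R' _ _ T' => IsOddSplit T') := by
  obtain ⟨h00, h12, hdet⟩ := h
  obtain ⟨R', _, _, hC', p', hp', hpp', g, hg, hsplit⟩ := hred
  let φ := algebraMap R R'
  let G : Matrix (Unit ⊕ (Fin m ⊕ Fin m)) (Unit ⊕ (Fin m ⊕ Fin m)) R' := fromBlocks 1 0 0 g
  have hG : IsUnit G.det := by
    simp only [G]
    rw [det_fromBlocks_zero₂₁, det_one, one_mul]; exact hg
  refine ⟨R', _, _, hC', p', hp', hpp', G, hG, ?_⟩
  intro x
  have hT : T.map φ = fromBlocks (T.toBlocks₁₁.map φ) (T.toBlocks₁₂.map φ) (T.toBlocks₂₁.map φ)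
      (T.toBlocks₂₂.map φ) := by
    conv_lhs => rw [← fromBlocks_toBlocks T]
    rw [fromBlocks_map]
  have e : Gᵀ * T.map φ * G = fromBlocks (T.toBlocks₁₁.map φ) (T.toBlocks₁₂.map φ * g)
      (gᵀ * T.toBlocks₂₁.map φ) (gᵀ * T.toBlocks₂₂.map φ * g) := by
    rw [hT]
    simp only [G]
    rw [fromBlocks_transpose, fromBlocks_multiply, fromBlocks_multiply]
    simp
  rw [e, qf_fromBlocksG]
  have hmid : T.toBlocks₁₂.map φ * g + (gᵀ * T.toBlocks₂₁.map φ)ᵀ = 0 := by
    rw [transpose_mul, transpose_transpose, ← Matrix.add_mul]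
    have : T.toBlocks₁₂.map φ + (T.toBlocks₂₁.map φ)ᵀ = (T.toBlocks₁₂ + T.toBlocks₂₁ᵀ).map φ := by
      ext i j; simp
    rw [this, h12]
    simp
  rw [hmid, zero_mulVec, dotProduct_zero, add_zero, qf_unit, hsplit]
  simp only [map_apply, toBlocks₁₁, of_apply, Function.comp]
  rw [h00, map_one, one_mul]

theorem odd_main (m : ℕ) (δ : Fin m ⊕ Fin m ≃ Fin (2 * m))
    {R : Type u} [CommRing R] (p : Ideal R) [hp : p.IsPrime]
    (T : Matrix (Unit ⊕ (Fin m ⊕ Fin m)) (Unit ⊕ (Fin m ⊕ Fin m)) R) (h : IsUnit (hdE δ T)) :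
    Reduces FlatFP p T (fun R' _ _ T' => IsOddSplit T') := by
  have hC := algCls_flatFP
  refine (odd_key hC (⟨m, rfl⟩ : Odd (2 * m + 1)) δ p T h).trans hC fun R₁ _ p₁ T₁ hp₁ h₁ => ?_
  have := hp₁
  refine (sqrt_step p₁ T₁ h₁).trans hC fun R₂ _ p₂ T₂ hp₂ h₂ => ?_
  have := hp₂
  exact block_stepO p₂ T₂ h₂ (main_ind hC m R₂ p₂ T₂.toBlocks₂₂ h₂.2.2)

end Groth.Agent.Lib.Helper26.QOdd
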