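import Groth.Agent.Lib.Helper26.QOdd5

/-!
Globalisation: from flat finitely presented neighbourhoods of all primes to a single faithfully
flat finitely presented algebra.
-/

set_option autoImplicit false
set_option linter.unusedSectionVars false

universe u v

namespace Groth.Agent.Lib.Helper26.QOdd

open Matrix Groth.Agent.Lib.Helper26.QSplit

theorem qf_map {R S : Type*} [CommRing R] [CommRing S] {ι : Type*} [Fintype ι] (φ : R →+* S)
    (M : Matrix ι ι R) (x : ι → R) : φ (qf M x) = qf (M.map φ) (fun i => φ (x i)) := by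
  rw [qf_eq_bl, qf_eq_bl, bl_map]

theorem globalize {ι : Type v} [Fintype ι] [DecidableEq ι] {R : Type u} [CommRing R]
    (T : Matrix ι ι R)
    (F : ∀ (R' : Type u) [CommRing R'], (ι → R') → R')
    (hF : ∀ (R' R'' : Type u) [CommRing R'] [CommRing R''] (ψ : R' →+* R'') (x : ι → R'),
      ψ (F R' x) = F R'' (fun i => ψ (x i)))
    (h : ∀ p : Ideal R, p.IsPrime →
      Reduces FlatFP p T (fun R' _ _ T' => ∀ x : ι → R', qf T' x = F R' x)) :
    ∃ (A : Type u) (_ : CommRing A) (_ : Algebra R A), Module.FaithfullyFlat R A ∧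
      Algebra.FinitePresentation R A ∧
      ∃ g : Matrix ι ι A, IsUnit g.det ∧
        ∀ x : ι → A, qf (gᵀ * T.map (algebraMap R A) * g) x = F A x := by
  classical
  have key : ∀ p : PrimeSpectrum R, ∃ (R' : Type u) (_ : CommRing R') (_ : Algebra R R'),
      FlatFP R R' ∧ ∃ p' : Ideal R', p'.IsPrime ∧ p'.comap (algebraMap R R') = p.asIdeal ∧
        ∃ g : Matrix ι ι R', IsUnit g.det ∧
          ∀ x : ι → R', qf (gᵀ * T.map (algebraMap R R') * g) x = F R' x :=
    fun p => h p.asIdeal p.isPrime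
  choose R' iR iA hE p' hp' hpp' g hg hs using key
  let U : PrimeSpectrum R → Set (PrimeSpectrum R) := fun p =>
    Set.range (PrimeSpectrum.comap (algebraMap R (R' p)))
  have hUo : ∀ p, IsOpen (U p) := fun p => by
    have := (hE p).1
    have := (hE p).2
    exact (PrimeSpectrum.isOpenMap_comap_of_hasGoingDown_of_finitePresentation
      (R := R) (S := R' p)).isOpen_range
  have hUc : (Set.univ : Set (PrimeSpectrum R)) ⊆ ⋃ p, U p := by
    intro p _
    refine Set.mem_iUnion.2 ⟨p, ⟨⟨p' p, hp' p⟩, ?_⟩⟩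
    ext1
    exact hpp' p
  obtain ⟨s, hs'⟩ := isCompact_univ.elim_finite_subcover U hUo hUc
  letI iR' : ∀ t : ↥s, CommRing (R' t.1) := fun t => iR t.1
  letI iA' : ∀ t : ↥s, Algebra R (R' t.1) := fun t => iA t.1
  have hfl : ∀ t : ↥s, Module.Flat R (R' t.1) := fun t => (hE t.1).1
  have hfp : ∀ t : ↥s, Algebra.FinitePresentation R (R' t.1) := fun t => (hE t.1).2
  have hflA : Module.Flat R (∀ t : ↥s, R' t.1) :=
    Module.Flat.of_linearEquiv
      (DFinsupp.linearEquivFunOnFintype (R := R) (M := fun t : ↥s => R' t.1)).symm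
  have hsurj : Function.Surjective (PrimeSpectrum.comap (algebraMap R (∀ t : ↥s, R' t.1))) := by
    intro p
    obtain ⟨i, hi, q, hq⟩ : ∃ i ∈ s, p ∈ U i := by
      have := hs' (Set.mem_univ p)
      simpa using this
    refine ⟨PrimeSpectrum.comap (Pi.evalRingHom (fun t : ↥s => R' t.1) ⟨i, hi⟩) q, ?_⟩
    rw [← hq]
    rfl
  refine ⟨∀ t : ↥s, R' t.1, inferInstance, inferInstance,
    Module.FaithfullyFlat.of_comap_surjective hsurj, inferInstance, ?_⟩
  let G : Matrix ι ι (∀ t : ↥s, R' t.1) := Matrix.of fun i j t => g t.1 i j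
  have hGmap : ∀ t : ↥s, G.map (Pi.evalRingHom (fun t : ↥s => R' t.1) t) = g t.1 := by
    intro t; ext i j; rfl
  have hTmap : ∀ t : ↥s, (T.map (algebraMap R (∀ t : ↥s, R' t.1))).map
      (Pi.evalRingHom (fun t : ↥s => R' t.1) t) = T.map (algebraMap R (R' t.1)) := by
    intro t; ext i j; rfl
  refine ⟨G, ?_, ?_⟩
  · rw [Pi.isUnit_iff]
    intro t
    have : G.det t = (g t.1).det := by
      have h1 : G.det t = (Pi.evalRingHom (fun t : ↥s => R' t.1) t) G.det := rfl
      rw [h1, RingHom.map_det, RingHom.mapMatrix_apply, hGmap]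
    rw [this]
    exact hg t.1
  · intro x
    funext t
    have h1 : (qf (Gᵀ * T.map (algebraMap R (∀ t : ↥s, R' t.1)) * G) x) t =
        (Pi.evalRingHom (fun t : ↥s => R' t.1) t)
          (qf (Gᵀ * T.map (algebraMap R (∀ t : ↥s, R' t.1)) * G) x) := rfl
    have h2 : (F (∀ t : ↥s, R' t.1) x) t =
        (Pi.evalRingHom (fun t : ↥s => R' t.1) t) (F (∀ t : ↥s, R' t.1) x) := rfl
    rw [h1, h2, qf_map, hF, congr_map, hGmap, hTmap]
    exact hs t.1 _

end Groth.Agent.Lib.Helper26.QOdd
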