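import Groth.Agent.Lib.Helper26.QOdd6
import Groth.Agent.Lib.Helper14.QuadBC

/-!
Translation between quadratic forms on `Rⁿ` (and their base changes) and matrices.
-/

set_option autoImplicit false
set_option linter.unusedSectionVars false

universe u

namespace Groth.Agent.Lib.Helper26.QOdd

open Matrix QuadGrp TensorProduct Groth.Agent.Lib.Helper26.QSplit Groth.Agent.Lib.Helper14.QuadBC
  Groth.Agent.Lib.Helper14.HalfDiscOdd

section TQ

variable {R : Type u} [CommRing R] {n : ℕ}

/-- a (non-symmetric) matrix of a quadratic form on `Rⁿ` -/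
noncomputable def TQ (Q : QuadraticForm R (Fin n → R)) : Matrix (Fin n) (Fin n) R :=
  Matrix.of fun i j => bilinLift Q (Pi.single i 1) (Pi.single j 1)

theorem hdM_TQ (Q : QuadraticForm R (Fin n → R)) :
    hdM (TQ Q) = halfDisc (Pi.basisFun R (Fin n)) (LinearEquiv.refl R R) Q := by
  show hdv (cf (TQ Q)) = hdv (coeffs (Pi.basisFun R (Fin n)) (LinearEquiv.refl R R) Q)
  congr 1
  funext s
  induction s using Sym2.ind with
  | _ i j =>
    rw [cf_mk, coeffs_mk]
    simp only [Pi.basisFun_apply, LinearEquiv.refl_apply, TQ, of_apply]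
    split_ifs with hij
    · exact bilinLift_self Q _
    · exact bilinLift_add_flip Q _ _

variable (A : Type u) [CommRing A] [Algebra R A]

/-- the standard basis of `A ⊗ Rⁿ` -/
noncomputable def bA (n : ℕ) : Module.Basis (Fin n) A (A ⊗[R] (Fin n → R)) :=
  Algebra.TensorProduct.basis A (Pi.basisFun R (Fin n))

theorem bA_apply (i : Fin n) : bA (R := R) A n i = (1 : A) ⊗ₜ[R] (Pi.single i (1 : R)) := by
  simp [bA]

theorem toMatrix_blA (Q : QuadraticForm R (Fin n → R)) :
    LinearMap.BilinForm.toMatrix (bA A n) (blA A Q) = (TQ Q).map (algebraMap R A) := by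
  ext i j
  rw [LinearMap.BilinForm.toMatrix_apply, bA_apply, bA_apply, blA_tmul, mul_one,
    ← Algebra.algebraMap_eq_smul_one]
  rfl

theorem baseChangeForm_eq_qf (Q : QuadraticForm R (Fin n → R)) (w : A ⊗[R] (Fin n → R)) :
    baseChangeForm A Q w = qf ((TQ Q).map (algebraMap R A)) ((bA A n).repr w) := by
  rw [baseChangeForm_apply, LinearMap.BilinForm.apply_eq_dotProduct_toMatrix_mulVec (bA A n),
    toMatrix_blA]
  rfl

end TQ

section Ext

variable {A : Type*} [CommRing A] {M : Type*} [AddCommGroup M] [Module A M] {n : ℕ}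

theorem quadraticForm_ext_basis (b : Module.Basis (Fin n) A M) (q₁ q₂ : QuadraticForm A M)
    (h1 : ∀ i, q₁ (b i) = q₂ (b i))
    (h2 : ∀ i j, QuadraticMap.polar q₁ (b i) (b j) = QuadraticMap.polar q₂ (b i) (b j)) :
    q₁ = q₂ := by
  rw [← QuadraticMap.toQuadraticMap_toBilin q₁ b, ← QuadraticMap.toQuadraticMap_toBilin q₂ b]
  congr 1
  refine b.ext fun i => b.ext fun j => ?_
  rw [QuadraticMap.toBilin_apply, QuadraticMap.toBilin_apply, h1, h2]

end Ext

end Groth.Agent.Lib.Helper26.QOdd
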