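import Groth.Agent.Lib.Helper26.QOdd7

/-!
The odd-rank splitting theorem for quadratic forms on `R^(2m+1)`.
-/

set_option autoImplicit false
set_option linter.unusedSectionVars false

universe u

namespace Groth.Agent.Lib.Helper26.QOdd

open Matrix QuadGrp TensorProduct Groth.Agent.Lib.Helper26.QSplit Groth.Agent.Lib.Helper14.QuadBC

section Nat

variable {R : Type u} [CommRing R] {A : Type u} [CommRing A] (φ : R →+* A) {n : ℕ}

theorem toQF_apply (M : Matrix (Fin n) (Fin n) A) (x : Fin n → A) :
    Matrix.toQuadraticForm' M x = qf M x := by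
  simp [Matrix.toQuadraticForm', qf, Matrix.toLinearMap₂'_apply']

theorem map_single (i : Fin n) : (fun k => φ ((Pi.single i (1 : R) : Fin n → R) k)) =
    (Pi.single i (1 : A) : Fin n → A) := by
  funext k
  simp [Pi.single_apply, apply_ite φ]

/-- A quadratic form over `A` which is the natural extension of `Q` is given by the matrix of `Q`. -/
theorem qf_TQ_map_eq (Q : QuadraticForm R (Fin n → R)) (Q' : QuadraticForm A (Fin n → A))
    (hnat : ∀ y : Fin n → R, Q' (fun k => φ (y k)) = φ (Q y)) (x : Fin n → A) :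
    qf ((TQ Q).map φ) x = Q' x := by
  rw [← toQF_apply]
  have : Matrix.toQuadraticForm' ((TQ Q).map φ) = Q' := by
    refine quadraticForm_ext_basis (Pi.basisFun A (Fin n)) _ _ ?_ ?_
    · intro i
      rw [Pi.basisFun_apply, toQF_apply, qf_single, ← map_single φ i, hnat]
      simp only [map_apply, TQ, of_apply]
      rw [bilinLift_self]
    · intro i j
      simp only [QuadraticMap.polar, Pi.basisFun_apply, toQF_apply]
      rw [qf_add, qf_single, qf_single, bl_single, ← map_single φ i, ← map_single φ j]
      have hadd : ((fun k => φ ((Pi.single i (1 : R) : Fin n → R) k)) +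
          fun k => φ ((Pi.single j (1 : R) : Fin n → R) k)) =
          fun k => φ ((Pi.single i (1 : R) + Pi.single j (1 : R) : Fin n → R) k) := by
        funext k
        simp
      rw [hadd, hnat, hnat, hnat]
      simp only [Matrix.add_apply, transpose_apply, map_apply, TQ, of_apply]
      rw [← bilinLift_self Q (Pi.single i 1 + Pi.single j 1), ← bilinLift_self Q (Pi.single i 1),
        ← bilinLift_self Q (Pi.single j 1)]
      simp only [map_add, LinearMap.add_apply]
      ring
  rw [this]

end Nat

section Split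

theorem splitForm_odd_apply (S : Type u) [CommRing S] (m : ℕ) (x : Fin (2 * m + 1) → S) :
    splitForm S (2 * m + 1) x =
      x 0 ^ 2 + ∑ j : Fin m, x ⟨2 * j + 1, by omega⟩ * x ⟨2 * j + 2, by omega⟩ := by
  have h : (2 * m + 1) % 2 = 1 := by omega
  have hm : (2 * m + 1) / 2 = m := by omega
  simp only [splitForm, _root_.add_apply, _root_.sum_apply,
    QuadraticMap.linMulLin_apply, LinearMap.proj_apply]
  rw [dif_pos h]
  simp only [QuadraticMap.comp_apply, QuadraticMap.sq_apply, LinearMap.proj_apply]
  rw [add_comm, pow_two]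
  congr 1
  refine Fintype.sum_equiv (finCongr hm) _ _ (fun i => ?_)
  congr 2 <;> (apply Fin.ext; simp)

theorem splitForm_odd_nat {R A : Type u} [CommRing R] [CommRing A] (φ : R →+* A) (m : ℕ)
    (y : Fin (2 * m + 1) → R) :
    splitForm A (2 * m + 1) (fun k => φ (y k)) = φ (splitForm R (2 * m + 1) y) := by
  rw [splitForm_odd_apply, splitForm_odd_apply]
  simp [map_sum]

end Split

/-- pairing up the coordinates -/
def deltaE (m : ℕ) : Fin m ⊕ Fin m ≃ Fin (2 * m) where
  toFun := Sum.elim (fun i => ⟨2 * i, by omega⟩) (fun i => ⟨2 * i + 1, by omega⟩)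
  invFun := fun k => if k.1 % 2 = 0 then Sum.inl ⟨k.1 / 2, by omega⟩ else Sum.inr ⟨k.1 / 2, by omega⟩
  left_inv := by
    rintro (i | i)
    · simp
    · have h1 : (2 * (i : ℕ) + 1) % 2 ≠ 0 := by omega
      simp only [Sum.elim_inr, h1, if_false]
      congr 1
      apply Fin.ext
      show (2 * (i : ℕ) + 1) / 2 = i
      omega
  right_inv := by
    intro k
    by_cases hk : k.1 % 2 = 0
    · simp [hk]
      apply Fin.ext
      simp
      omega
    · simp [hk]
      apply Fin.ext
      simp
      omega

section Main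

variable (R : Type u) [CommRing R] (m : ℕ)

theorem main (Q : QuadraticForm R (Fin (2 * m + 1) → R))
    (hQ : IsUnit (halfDisc (Pi.basisFun R (Fin (2 * m + 1))) (LinearEquiv.refl R R) Q)) :
    ∃ (A : Type u) (_ : CommRing A) (_ : Algebra R A), Module.FaithfullyFlat R A ∧
      Algebra.FinitePresentation R A ∧
      Nonempty ((baseChangeForm A Q).IsometryEquiv
        (baseChangeForm A (splitForm R (2 * m + 1)))) := by
  classical
  set δ := deltaE m with hδ
  set ε := epsE δ with hε
  set T := TQ Q with hT_def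
  set TJ := T.submatrix ε.symm ε.symm with hTJ
  have hT : IsUnit (hdE δ TJ) := by
    have : hdE δ TJ = hdM T := by
      show hdM (TJ.submatrix ε ε) = hdM T
      congr 1
      ext i j
      simp [hTJ]
    rw [this, hdM_TQ]
    exact hQ
  obtain ⟨A, iA, iAlg, hff, hfp, gJ, hgJ, hsJ⟩ := globalize TJ
    (fun R' _ x => x (Sum.inl ()) ^ 2 +
      ∑ j : Fin m, x (Sum.inr (Sum.inl j)) * x (Sum.inr (Sum.inr j)))
    (fun R' R'' _ _ ψ x => by simp [map_sum])
    (fun p hp => by
      have := hp
      exact odd_main m δ p TJ hT)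
  refine ⟨A, iA, iAlg, hff, hfp, ?_⟩
  let φ := algebraMap R A
  let g : Matrix (Fin (2 * m + 1)) (Fin (2 * m + 1)) A := gJ.submatrix ε ε
  have hg : IsUnit g.det := by
    simp only [g]
    rw [det_submatrix_equiv_self]
    exact hgJ
  have hs : ∀ x : Fin (2 * m + 1) → A, qf (gᵀ * T.map φ * g) x = splitForm A (2 * m + 1) x := by
    intro x
    have e : gᵀ * T.map φ * g = (gJᵀ * TJ.map φ * gJ).submatrix ε ε := by
      have h1 : T.map φ = (TJ.map φ).submatrix ε ε := by
        ext i j
        simp [hTJ]
      simp only [g]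
      rw [h1, transpose_submatrix, submatrix_mul_equiv, submatrix_mul_equiv]
    rw [e, qf_submatrix, hsJ, splitForm_odd_apply]
    rfl
  letI : Invertible g := Matrix.invertibleOfIsUnitDet g hg
  let b := bA (R := R) A (2 * m + 1)
  let Φ : (A ⊗[R] (Fin (2 * m + 1) → R)) ≃ₗ[A] (A ⊗[R] (Fin (2 * m + 1) → R)) :=
    (b.equivFun.trans (Matrix.toLinearEquiv' g inferInstance)).trans b.equivFun.symm
  have hΦ : ∀ w, baseChangeForm A Q (Φ w) = baseChangeForm A (splitForm R (2 * m + 1)) w := by
    intro w
    rw [baseChangeForm_eq_qf, baseChangeForm_eq_qf]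
    have hr : ((b.repr (Φ w) : Fin (2 * m + 1) →₀ A) : Fin (2 * m + 1) → A) =
        g *ᵥ (b.repr w) := by
      show b.equivFun (b.equivFun.symm ((Matrix.toLinearEquiv' g inferInstance) (b.equivFun w))) = _
      rw [LinearEquiv.apply_symm_apply]
      rfl
    rw [hr, ← qf_congr, hs, qf_TQ_map_eq φ (splitForm R _) (splitForm A _) (splitForm_odd_nat φ m)]
  exact ⟨(QuadraticMap.IsometryEquiv.mk Φ hΦ).symm⟩

end Main

end Groth.Agent.Lib.Helper26.QOdd
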