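import Groth.Agent.Lib.Helper26.QOdd8

/-!
The coordinate ring of the orthogonal group of a matrix quadratic form, and its functor of points.
-/

set_option autoImplicit false
set_option linter.unusedSectionVars false

universe u

namespace Groth.Agent.Lib.Helper26.QOrth

open Matrix MvPolynomial Groth.Agent.Lib.Helper26.QSplit Groth.Agent.Lib.Helper26.QOdd

section Cfp

variable {A : Type*} [CommRing A] {n : ℕ}

/-- coefficients of the quadratic form of a matrix, indexed by pairs -/
def cfp (M : Matrix (Fin n) (Fin n) A) (p : Fin n × Fin n) : A :=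
  if p.1 = p.2 then M p.1 p.1 else M p.1 p.2 + M p.2 p.1

theorem cfp_map {B : Type*} [CommRing B] (φ : A →+* B) (M : Matrix (Fin n) (Fin n) A)
    (p : Fin n × Fin n) : φ (cfp M p) = cfp (M.map φ) p := by
  unfold cfp
  split_ifs <;> simp

theorem cfp_eq_of_qf_eq (M M' : Matrix (Fin n) (Fin n) A) (h : ∀ x, qf M x = qf M' x)
    (p : Fin n × Fin n) : cfp M p = cfp M' p := by
  obtain ⟨i, j⟩ := p
  unfold cfp
  have hi := h (Pi.single i 1)
  have hj := h (Pi.single j 1)
  rw [qf_single, qf_single] at hi hj
  by_cases hij : i = j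
  · rw [if_pos hij, if_pos hij]
    exact hi
  · rw [if_neg hij, if_neg hij]
    have hs := h (Pi.single i 1 + Pi.single j 1)
    rw [qf_add, qf_add, qf_single, qf_single, qf_single, qf_single, bl_single, bl_single, hi, hj]
      at hs
    simpa using hs

theorem qf_eq_of_cfp_eq (M M' : Matrix (Fin n) (Fin n) A) (h : ∀ p, cfp M p = cfp M' p)
    (x : Fin n → A) : qf M x = qf M' x := by
  rw [← toQF_apply, ← toQF_apply]
  have : Matrix.toQuadraticForm' M = Matrix.toQuadraticForm' M' := by
    refine quadraticForm_ext_basis (Pi.basisFun A (Fin n)) _ _ ?_ ?_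
    · intro i
      rw [Pi.basisFun_apply, toQF_apply, toQF_apply, qf_single, qf_single]
      have := h (i, i)
      simpa [cfp] using this
    · intro i j
      simp only [QuadraticMap.polar, Pi.basisFun_apply, toQF_apply]
      rw [qf_add, qf_add, qf_single, qf_single, qf_single, qf_single, bl_single, bl_single]
      have hi := h (i, i)
      have hj := h (j, j)
      simp only [cfp, if_true] at hi hj
      rw [hi, hj]
      by_cases hij : i = j
      · subst hij
        simp only [Matrix.add_apply, transpose_apply]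
        rw [hi]
      · have := h (i, j)
        simp only [cfp, if_neg hij] at this
        simp only [Matrix.add_apply, transpose_apply]
        rw [this]
  rw [this]

end Cfp

section OM

variable {R : Type u} [CommRing R] {n : ℕ} (T : Matrix (Fin n) (Fin n) R)

/-- matrix points of the orthogonal group -/
abbrev OM (A : Type u) [CommRing A] [Algebra R A] : Type u :=
  {M : Matrix (Fin n) (Fin n) A // IsUnit M.det ∧
    ∀ p, cfp (Mᵀ * T.map (algebraMap R A) * M) p = cfp (T.map (algebraMap R A)) p}

/-- the variables -/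
abbrev Var (n : ℕ) := Fin n × Fin n ⊕ Unit

/-- generic matrix -/
noncomputable def GU : Matrix (Fin n) (Fin n) (MvPolynomial (Var n) R) :=
  Matrix.of fun i j => X (Sum.inl (i, j))

/-- isometry relations -/
noncomputable def relQ (p : Fin n × Fin n) : MvPolynomial (Var n) R :=
  cfp ((GU (R := R) (n := n))ᵀ * T.map (algebraMap R (MvPolynomial (Var n) R)) * GU) p -
    cfp (T.map (algebraMap R (MvPolynomial (Var n) R))) p

/-- determinant relation -/
noncomputable def relD : MvPolynomial (Var n) R :=
  (GU (R := R) (n := n)).det * X (Sum.inr ()) - 1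

/-- the ideal of relations -/
noncomputable def relIdeal : Ideal (MvPolynomial (Var n) R) :=
  Ideal.span (Set.range (relQ T) ∪ {relD})

/-- the coordinate ring -/
abbrev CoordO : Type u := MvPolynomial (Var n) R ⧸ relIdeal T

instance : Algebra.FinitePresentation R (CoordO T) := by
  apply Algebra.FinitePresentation.quotient
  exact Submodule.fg_span ((Set.finite_range _).union (Set.finite_singleton _))

variable (A : Type u) [CommRing A] [Algebra R A]

theorem map_GU (ψ : MvPolynomial (Var n) R →ₐ[R] A) :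
    (GU (R := R) (n := n)).map ψ = Matrix.of fun i j => ψ (X (Sum.inl (i, j))) := by
  ext i j
  rfl

theorem map_TU (ψ : MvPolynomial (Var n) R →ₐ[R] A) :
    (T.map (algebraMap R (MvPolynomial (Var n) R))).map ψ = T.map (algebraMap R A) := by
  ext i j
  simp

theorem map_relQ (ψ : MvPolynomial (Var n) R →ₐ[R] A) (p : Fin n × Fin n) :
    ψ (relQ T p) = cfp (((GU (R := R) (n := n)).map ψ)ᵀ * T.map (algebraMap R A) *
      (GU (R := R) (n := n)).map ψ) p - cfp (T.map (algebraMap R A)) p := by
  unfold relQ
  rw [map_sub]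
  have h1 := cfp_map ψ.toRingHom ((GU (R := R) (n := n))ᵀ *
    T.map (algebraMap R (MvPolynomial (Var n) R)) * GU) p
  have h2 := cfp_map ψ.toRingHom (T.map (algebraMap R (MvPolynomial (Var n) R))) p
  have e1 : ((GU (R := R) (n := n))ᵀ * T.map (algebraMap R (MvPolynomial (Var n) R)) * GU).map
      ψ.toRingHom = ((GU (R := R) (n := n)).map ψ)ᵀ * T.map (algebraMap R A) *
      (GU (R := R) (n := n)).map ψ := by
    rw [congr_map]
    congr 2
    exact map_TU T A ψ
  have e2 : (T.map (algebraMap R (MvPolynomial (Var n) R))).map ψ.toRingHom =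
      T.map (algebraMap R A) := map_TU T A ψ
  rw [e1] at h1
  rw [e2] at h2
  exact congrArg₂ (· - ·) h1 h2

theorem map_relD (ψ : MvPolynomial (Var n) R →ₐ[R] A) :
    ψ (relD (R := R) (n := n)) = ((GU (R := R) (n := n)).map ψ).det * ψ (X (Sum.inr ())) - 1 := by
  unfold relD
  rw [map_sub, map_mul, map_one, AlgHom.map_det]
  rfl

/-- the matrix of a point -/
noncomputable def matOf (ψ : CoordO T →ₐ[R] A) : Matrix (Fin n) (Fin n) A :=
  Matrix.of fun i j => ψ (Ideal.Quotient.mk _ (X (Sum.inl (i, j))))

theorem mk_rel_eq_zero (r : MvPolynomial (Var n) R) (hr : r ∈ Set.range (relQ T) ∪ {relD}) :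
    (Ideal.Quotient.mk (relIdeal T)) r = 0 :=
  Ideal.Quotient.eq_zero_iff_mem.2 (Ideal.subset_span hr)

theorem matOf_spec (ψ : CoordO T →ₐ[R] A) :
    (matOf T A ψ).det * ψ (Ideal.Quotient.mk _ (X (Sum.inr ()))) = 1 ∧
      ∀ p, cfp ((matOf T A ψ)ᵀ * T.map (algebraMap R A) * matOf T A ψ) p =
        cfp (T.map (algebraMap R A)) p := by
  let ψ' : MvPolynomial (Var n) R →ₐ[R] A := ψ.comp (Ideal.Quotient.mkₐ R (relIdeal T))
  have hG : (GU (R := R) (n := n)).map ψ' = matOf T A ψ := by
    ext i j; rfl
  constructor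
  · have h := map_relD A ψ'
    have h0 : ψ' (relD (R := R) (n := n)) = 0 := by
      show ψ (Ideal.Quotient.mk _ _) = 0
      rw [mk_rel_eq_zero T _ (Or.inr rfl), map_zero]
    rw [h0, hG] at h
    exact (sub_eq_zero.1 h.symm)
  · intro p
    have h := map_relQ T A ψ' p
    have h0 : ψ' (relQ T p) = 0 := by
      show ψ (Ideal.Quotient.mk _ _) = 0
      rw [mk_rel_eq_zero T _ (Or.inl ⟨p, rfl⟩), map_zero]
    rw [h0, hG] at h
    exact (sub_eq_zero.1 h.symm)

/-- the point of a matrix -/
noncomputable def valOf (M : Matrix (Fin n) (Fin n) A) (d : A) : Var n → A :=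
  Sum.elim (fun p => M p.1 p.2) (fun _ => d)

theorem map_GU_aeval (M : Matrix (Fin n) (Fin n) A) (d : A) :
    (GU (R := R) (n := n)).map (aeval (R := R) (valOf A M d)) = M := by
  ext i j
  simp [GU, valOf]

theorem aeval_mem (M : Matrix (Fin n) (Fin n) A) (d : A) (hd : M.det * d = 1)
    (hM : ∀ p, cfp (Mᵀ * T.map (algebraMap R A) * M) p = cfp (T.map (algebraMap R A)) p) :
    ∀ r ∈ relIdeal T, aeval (R := R) (valOf A M d) r = 0 := by
  intro r hr
  have hle : relIdeal T ≤ RingHom.ker (aeval (R := R) (valOf A M d)).toRingHom := by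
    apply Ideal.span_le.2
    rintro r (⟨p, rfl⟩ | hr)
    · show aeval (R := R) (valOf A M d) (relQ T p) = 0
      rw [map_relQ, map_GU_aeval, hM p, sub_self]
    · rw [Set.mem_singleton_iff] at hr
      subst hr
      show aeval (R := R) (valOf A M d) relD = 0
      rw [map_relD, map_GU_aeval, aeval_X]
      show M.det * d - 1 = 0
      rw [hd, sub_self]
  exact hle hr

/-- the algebra map of a matrix point -/
noncomputable def homOf (M : OM T A) : CoordO T →ₐ[R] A :=
  Ideal.Quotient.liftₐ (relIdeal T) (aeval (R := R) (valOf A M.1 ↑(M.2.1.unit⁻¹)))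
    (aeval_mem T A M.1 _ (by simp) M.2.2)

theorem homOf_mk (M : OM T A) (s : Var n) :
    homOf T A M (Ideal.Quotient.mk _ (X s)) = valOf A M.1 ↑(M.2.1.unit⁻¹) s := by
  show aeval (R := R) (valOf A M.1 ↑(M.2.1.unit⁻¹)) (X s) = _
  rw [aeval_X]

/-- points of the coordinate ring are matrix points -/
noncomputable def homEquiv : (CoordO T →ₐ[R] A) ≃ OM T A where
  toFun ψ := ⟨matOf T A ψ, IsUnit.of_mul_eq_one _ (matOf_spec T A ψ).1, (matOf_spec T A ψ).2⟩
  invFun M := homOf T A M
  left_inv ψ := by
    apply AlgHom.ext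
    intro x
    obtain ⟨x, rfl⟩ := Ideal.Quotient.mk_surjective x
    induction x using MvPolynomial.induction_on with
    | C a =>
      have : (Ideal.Quotient.mk (relIdeal T)) (C a) = algebraMap R (CoordO T) a := rfl
      rw [this, AlgHom.commutes, AlgHom.commutes]
    | add p q hp hq =>
      dsimp only at hp hq ⊢
      rw [map_add, map_add, map_add, hp, hq]
    | mul_X p s hp =>
      dsimp only at hp ⊢
      rw [map_mul, map_mul, map_mul, hp, homOf_mk]
      congr 1
      rcases s with ⟨i, j⟩ | u
      · rfl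
      · show ((IsUnit.of_mul_eq_one _ (matOf_spec T A ψ).1).unit⁻¹ : Aˣ).1 = _
        have h1 := (matOf_spec T A ψ).1
        rw [← Units.mul_eq_one_iff_inv_eq] 
        exact h1
  right_inv M := by
    apply Subtype.ext
    ext i j
    show homOf T A M (Ideal.Quotient.mk _ (X (Sum.inl (i, j)))) = _
    rw [homOf_mk]
    rfl

theorem homEquiv_apply_val (ψ : CoordO T →ₐ[R] A) (i j : Fin n) :
    (homEquiv T A ψ).1 i j = ψ (Ideal.Quotient.mk _ (X (Sum.inl (i, j)))) := rfl

end OM

end Groth.Agent.Lib.Helper26.QOrth
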