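import Groth.Agent.Lib.Helper26.QOrth1

/-!
Matrix points of the orthogonal group versus isometries of the base-changed form.
-/

set_option autoImplicit false
set_option linter.unusedSectionVars false

universe u

namespace Groth.Agent.Lib.Helper26.QOrth

open Matrix QuadGrp TensorProduct Groth.Agent.Lib.Helper26.QSplit Groth.Agent.Lib.Helper26.QOdd
  Groth.Agent.Lib.Helper14.QuadBC

variable {R : Type u} [CommRing R] {n : ℕ} (Q : QuadraticForm R (Fin n → R))
variable (A : Type u) [CommRing A] [Algebra R A]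

/-- matrix point ↦ isometry -/
noncomputable def toOrth (M : OM (TQ Q) A) : orth Q A :=
  ⟨Matrix.toLinearEquiv (bA (R := R) A n) M.1 M.2.1, by
    rw [mem_orth_iff]
    intro w
    rw [baseChangeForm_eq_qf, baseChangeForm_eq_qf]
    have hr : ⇑((bA (R := R) A n).repr (Matrix.toLinearEquiv (bA (R := R) A n) M.1 M.2.1 w)) =
        M.1 *ᵥ ⇑((bA (R := R) A n).repr w) := by
      rw [Matrix.toLinearEquiv_apply, Matrix.repr_toLin]
    rw [hr, ← qf_congr]
    exact qf_eq_of_cfp_eq _ _ M.2.2 _⟩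

/-- the matrix of an isometry -/
noncomputable def matOrth (g : (A ⊗[R] (Fin n → R)) ≃ₗ[A] (A ⊗[R] (Fin n → R))) :
    Matrix (Fin n) (Fin n) A :=
  LinearMap.toMatrix (bA (R := R) A n) (bA (R := R) A n) g.toLinearMap

theorem isUnit_det_matOrth (g : (A ⊗[R] (Fin n → R)) ≃ₗ[A] (A ⊗[R] (Fin n → R))) :
    IsUnit (matOrth A g).det :=
  LinearEquiv.isUnit_det g (bA (R := R) A n) (bA (R := R) A n)

theorem repr_apply_eq (g : (A ⊗[R] (Fin n → R)) ≃ₗ[A] (A ⊗[R] (Fin n → R)))
    (w : A ⊗[R] (Fin n → R)) :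
    ⇑((bA (R := R) A n).repr (g w)) = matOrth A g *ᵥ ⇑((bA (R := R) A n).repr w) :=
  (LinearMap.toMatrix_mulVec_repr (bA (R := R) A n) (bA (R := R) A n) g.toLinearMap w).symm

theorem cfp_matOrth (g : orth Q A) (p : Fin n × Fin n) :
    cfp ((matOrth A g.1)ᵀ * (TQ Q).map (algebraMap R A) * matOrth A g.1) p =
      cfp ((TQ Q).map (algebraMap R A)) p := by
  apply cfp_eq_of_qf_eq
  intro x
  have hg := (mem_orth_iff A Q g.1).1 g.2 ((bA (R := R) A n).equivFun.symm x)
  rw [baseChangeForm_eq_qf, baseChangeForm_eq_qf, repr_apply_eq] at hg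
  have h1 : ⇑((bA (R := R) A n).repr ((bA (R := R) A n).equivFun.symm x)) = x :=
    (bA (R := R) A n).equivFun.apply_symm_apply x
  rw [h1] at hg
  rw [qf_congr]
  exact hg

/-- isometry ↦ matrix point -/
noncomputable def ofOrth (g : orth Q A) : OM (TQ Q) A :=
  ⟨matOrth A g.1, isUnit_det_matOrth A g.1, cfp_matOrth Q A g⟩

/-- matrix points are isometries -/
noncomputable def orthEquiv : OM (TQ Q) A ≃ orth Q A where
  toFun := toOrth Q A
  invFun := ofOrth Q A
  left_inv M := by
    apply Subtype.ext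
    show LinearMap.toMatrix (bA (R := R) A n) (bA (R := R) A n)
      (Matrix.toLinearEquiv (bA (R := R) A n) M.1 M.2.1).toLinearMap = M.1
    have : (Matrix.toLinearEquiv (bA (R := R) A n) M.1 M.2.1).toLinearMap =
        Matrix.toLin (bA (R := R) A n) (bA (R := R) A n) M.1 := by
      ext w
      rfl
    rw [this, LinearMap.toMatrix_toLin]
  right_inv g := by
    apply Subtype.ext
    apply LinearEquiv.ext
    intro w
    show Matrix.toLin (bA (R := R) A n) (bA (R := R) A n)
      (LinearMap.toMatrix (bA (R := R) A n) (bA (R := R) A n) g.1.toLinearMap) w = g.1 w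
    rw [Matrix.toLin_toMatrix]
    rfl

theorem ofOrth_apply (g : orth Q A) (i j : Fin n) :
    (ofOrth Q A g).1 i j = (bA (R := R) A n).repr (g.1 ((1 : A) ⊗ₜ[R] Pi.single j (1 : R))) i := by
  show LinearMap.toMatrix (bA (R := R) A n) (bA (R := R) A n) g.1.toLinearMap i j = _
  rw [LinearMap.toMatrix_apply, bA_apply]
  rfl

end Groth.Agent.Lib.Helper26.QOrth
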