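import Groth.Prelude.Def_QuadGrp2
import Mathlib

/-!
A scheme over `Spec R` whose functor of points on affine `R`-schemes is `Hom_R(H, -)` is isomorphic
to `Spec H` over `Spec R`.
-/

set_option autoImplicit false

universe u

open CategoryTheory AlgebraicGeometry Opposite

namespace Groth.Agent.Lib.Helper26.RepAff

variable {R : Type u} [CommRing R] (G : Over (Spec (CommRingCat.of R)))

/-- the `R`-algebra structure on `A` induced by `f : Spec A ⟶ G.left` -/
@[reducible] noncomputable def algOf (A : CommRingCat.{u}) (f : Spec A ⟶ G.left) : Algebra R A :=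
  (Spec.preimage (f ≫ G.hom)).hom.toAlgebra

theorem ofHom_algebraMap_algOf (A : CommRingCat.{u}) (f : Spec A ⟶ G.left) :
    letI := algOf G A f
    CommRingCat.ofHom (algebraMap R A) = Spec.preimage (f ≫ G.hom) := rfl

/-- the point of `G` defined by `f : Spec A ⟶ G.left` -/
noncomputable def ptOf (A : CommRingCat.{u}) (f : Spec A ⟶ G.left) :
    letI := algOf G A f
    QuadGrp.specOver R A ⟶ G :=
  letI := algOf G A f
  Over.homMk (U := QuadGrp.specOver R A) f (by
    show f ≫ G.hom = Spec.map (CommRingCat.ofHom (algebraMap R A))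
    rw [ofHom_algebraMap_algOf, Spec.map_preimage])

theorem ptOf_left (A : CommRingCat.{u}) (f : Spec A ⟶ G.left) :
    letI := algOf G A f
    (ptOf G A f).left = f := rfl

section Main

variable {G}
variable (H : Type u) [CommRing H] [Algebra R H]
  (e : ∀ (A : Type u) [CommRing A] [Algebra R A], (QuadGrp.specOver R A ⟶ G) ≃ (H →ₐ[R] A))
  (he : ∀ (A B : Type u) [CommRing A] [Algebra R A] [CommRing B] [Algebra R B] (φ : A →ₐ[R] B)
      (y : QuadGrp.specOver R A ⟶ G), e B (QuadGrp.specOverMap R φ ≫ y) = φ.comp (e A y))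

/-- the universal point -/
noncomputable def xi : QuadGrp.specOver R H ⟶ G := (e H).symm (AlgHom.id R H)

theorem e_xi : e H (xi H e) = AlgHom.id R H := (e H).apply_symm_apply _

include he in
theorem specOverMap_comp_xi (A : Type u) [CommRing A] [Algebra R A]
    (y : QuadGrp.specOver R A ⟶ G) :
    QuadGrp.specOverMap R (e A y) ≫ xi H e = y := by
  apply (e A).injective
  rw [he, e_xi, AlgHom.comp_id]

/-- classifying ring map of `f : Spec A ⟶ G.left` -/
noncomputable def hR (A : CommRingCat.{u}) (f : Spec A ⟶ G.left) : H →+* A :=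
  letI := algOf G A f
  (e A (ptOf G A f)).toRingHom

/-- the universal point as a morphism of schemes -/
noncomputable def xiL : Spec (CommRingCat.of H) ⟶ G.left := (xi H e).left

theorem xiL_hom : xiL H e ≫ G.hom = Spec.map (CommRingCat.ofHom (algebraMap R H)) :=
  Over.w (xi H e)

include he in
theorem specMap_hR_comp_xi (A : CommRingCat.{u}) (f : Spec A ⟶ G.left) :
    Spec.map (CommRingCat.ofHom (hR H e A f)) ≫ xiL H e = f := by
  let _ := algOf G A f
  have := congrArg (fun y => y.left) (specOverMap_comp_xi H e he A (ptOf G A f))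
  exact this

include he in
theorem hR_comp (A B : CommRingCat.{u}) (f : Spec A ⟶ G.left) (ρ : A ⟶ B) :
    hR H e B (Spec.map ρ ≫ f) = ρ.hom.comp (hR H e A f) := by
  letI iA := algOf G A f
  letI iB := algOf G B (Spec.map ρ ≫ f)
  have hcomm : ∀ r : R, ρ.hom (algebraMap R A r) = algebraMap R B r := by
    intro r
    have h1 : Spec.preimage ((Spec.map ρ ≫ f) ≫ G.hom) = Spec.preimage (f ≫ G.hom) ≫ ρ := by
      apply Spec.map_injective
      rw [Spec.map_preimage, Spec.map_comp, Spec.map_preimage, Category.assoc]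
    show ρ.hom ((Spec.preimage (f ≫ G.hom)).hom r) =
      (Spec.preimage ((Spec.map ρ ≫ f) ≫ G.hom)).hom r
    rw [h1]
    rfl
  let ρa : A →ₐ[R] B := { ρ.hom with commutes' := hcomm }
  have hpt : ptOf G B (Spec.map ρ ≫ f) = QuadGrp.specOverMap R ρa ≫ ptOf G A f := by
    apply Over.OverMorphism.ext
    rfl
  show (e B (ptOf G B (Spec.map ρ ≫ f))).toRingHom = _
  rw [hpt, he]
  rfl

include he in
theorem exists_iso : ∃ i : Spec (CommRingCat.of H) ≅ G.left,
    i.hom ≫ G.hom = Spec.map (CommRingCat.ofHom (algebraMap R H)) := by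
  let X := G.left
  let ξ : Spec (CommRingCat.of H) ⟶ X := xiL H e
  have hξ : ξ ≫ G.hom = Spec.map (CommRingCat.ofHom (algebraMap R H)) := xiL_hom H e
  let g : ∀ U : X.directedAffineCover.I₀, X.directedAffineCover.X U ⟶ Spec (CommRingCat.of H) :=
    fun U => U.2.isoSpec.hom ≫ Spec.map (CommRingCat.ofHom (hR H e Γ(X, U.1) U.2.fromSpec))
  have hg : ∀ {U V : X.directedAffineCover.I₀} (hUV : U ⟶ V),
      X.directedAffineCover.trans hUV ≫ g V = g U := by
    intro U V hUV
    have hle : U.1 ≤ V.1 := leOfHom hUV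
    have ht : X.directedAffineCover.trans hUV = X.homOfLE hle := rfl
    rw [ht]
    have hf : U.2.fromSpec = Spec.map (X.presheaf.map (homOfLE hle).op) ≫ V.2.fromSpec :=
      (IsAffineOpen.map_fromSpec V.2 U.2 (homOfLE hle).op).symm
    show X.homOfLE hle ≫ V.2.isoSpec.hom ≫ Spec.map (CommRingCat.ofHom
      (hR H e Γ(X, V.1) V.2.fromSpec)) = U.2.isoSpec.hom ≫ Spec.map (CommRingCat.ofHom
      (hR H e Γ(X, U.1) U.2.fromSpec))
    rw [hf, hR_comp H e he, CommRingCat.ofHom_comp, CommRingCat.ofHom_hom, Spec.map_comp]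
    exact (Scheme.Opens.toSpecΓ_SpecMap_presheaf_map_assoc (U.1 : X.Opens) V.1 hle _).symm
  let η : X ⟶ Spec (CommRingCat.of H) :=
    X.directedAffineCover.glueMorphismsOfLocallyDirected g hg
  have h2 : η ≫ ξ = 𝟙 X := by
    apply X.directedAffineCover.hom_ext
    intro U
    rw [← Category.assoc, Scheme.OpenCover.map_glueMorphismsOfLocallyDirected]
    show (U.2.isoSpec.hom ≫ Spec.map (CommRingCat.ofHom (hR H e Γ(X, U.1) U.2.fromSpec))) ≫
      xiL H e = _
    rw [Category.assoc, specMap_hR_comp_xi H e he, Category.comp_id]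
    exact IsAffineOpen.isoSpec_hom_fromSpec _
  have hη : η ≫ Spec.map (CommRingCat.ofHom (algebraMap R H)) = G.hom := by
    rw [← hξ, ← Category.assoc, h2, Category.id_comp]
  have h1 : ξ ≫ η = 𝟙 _ := by
    let θ : CommRingCat.of H ⟶ CommRingCat.of H := Spec.preimage (ξ ≫ η)
    have hθ : Spec.map θ = ξ ≫ η := Spec.map_preimage _
    have hcomm : ∀ r : R, θ.hom (algebraMap R H r) = algebraMap R H r := by
      intro r
      have h3 : CommRingCat.ofHom (algebraMap R H) ≫ θ = CommRingCat.ofHom (algebraMap R H) := by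
        apply Spec.map_injective
        rw [Spec.map_comp, hθ, Category.assoc, hη, hξ]
      exact congrArg (fun f => f.hom r) h3
    let θa : H →ₐ[R] H := { θ.hom with commutes' := hcomm }
    have h4 : QuadGrp.specOverMap R θa ≫ xi H e = xi H e := by
      apply Over.OverMorphism.ext
      show Spec.map (CommRingCat.ofHom θa.toRingHom) ≫ ξ = ξ
      have : CommRingCat.ofHom θa.toRingHom = θ := rfl
      rw [this, hθ, Category.assoc, h2, Category.comp_id]
    have h5 := congrArg (e H) h4
    rw [he, e_xi, AlgHom.comp_id] at h5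
    have h6 : θ = 𝟙 _ := by
      ext x
      exact congrArg (fun f : H →ₐ[R] H => f x) h5
    rw [← hθ, h6, Spec.map_id]
  exact ⟨⟨ξ, η, h1, h2⟩, hξ⟩

end Main

end Groth.Agent.Lib.Helper26.RepAff
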