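import Groth.Agent.Lib.Helper26.QOrth2
import Groth.Agent.Lib.Helper26.RepAff

/-!
The orthogonal group scheme is `Spec` of the coordinate ring; smoothness in terms of lifting matrix
points.
-/

set_option autoImplicit false
set_option linter.unusedSectionVars false

universe u

namespace Groth.Agent.Lib.Helper26.QOrth

open Matrix QuadGrp TensorProduct CategoryTheory AlgebraicGeometry MonObj
  Groth.Agent.Lib.Helper26.QSplit Groth.Agent.Lib.Helper26.QOdd
  Groth.Agent.Lib.Helper14.QuadBC

variable {R : Type u} [CommRing R] {n : ℕ}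

section Nat

variable (T : Matrix (Fin n) (Fin n) R)
variable {A B : Type u} [CommRing A] [Algebra R A] [CommRing B] [Algebra R B]

theorem homEquiv_comp (φ : A →ₐ[R] B) (ψ : CoordO T →ₐ[R] A) :
    (homEquiv T B (φ.comp ψ)).1 = (homEquiv T A ψ).1.map φ := by
  ext i j
  rfl

theorem repr_rTensor (φ : A →ₐ[R] B) (w : A ⊗[R] (Fin n → R)) (i : Fin n) :
    (bA (R := R) B n).repr (LinearMap.rTensor (Fin n → R) φ.toLinearMap w) i =
      φ ((bA (R := R) A n).repr w i) := by
  induction w using TensorProduct.induction_on with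
  | zero => simp
  | tmul a m =>
    rw [LinearMap.rTensor_tmul]
    simp only [bA, Algebra.TensorProduct.basis_repr_tmul]
    simp
  | add x y hx hy =>
    rw [map_add, map_add, map_add, Finsupp.add_apply, Finsupp.add_apply, hx, hy, map_add]

end Nat

section Rep

variable (Q : QuadraticForm R (Fin n → R)) (G : Over (Spec (CommRingCat.of R))) [GrpObj G]
  (D : QuadGrp.OrthRep Q G)

/-- points of `G` are points of the coordinate ring -/
noncomputable def eRep (A : Type u) [CommRing A] [Algebra R A] :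
    (specOver R A ⟶ G) ≃ (CoordO (TQ Q) →ₐ[R] A) :=
  (D.pts A).toEquiv.trans ((orthEquiv Q A).symm.trans (homEquiv (TQ Q) A).symm)

theorem eRep_natural (A B : Type u) [CommRing A] [Algebra R A] [CommRing B] [Algebra R B]
    (φ : A →ₐ[R] B) (y : specOver R A ⟶ G) :
    eRep Q G D B (specOverMap R φ ≫ y) = φ.comp (eRep Q G D A y) := by
  apply (homEquiv (TQ Q) B).injective
  apply Subtype.ext
  rw [homEquiv_comp]
  show (homEquiv (TQ Q) B ((homEquiv (TQ Q) B).symm (ofOrth Q B (D.pts B (specOverMap R φ ≫ y))))).1 =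
    (homEquiv (TQ Q) A ((homEquiv (TQ Q) A).symm (ofOrth Q A (D.pts A y)))).1.map φ
  rw [Equiv.apply_symm_apply, Equiv.apply_symm_apply]
  ext i j
  rw [ofOrth_apply, Matrix.map_apply, ofOrth_apply, D.natural A B φ y, repr_rTensor]

include D in
theorem exists_iso_coord :
    ∃ i : Spec (CommRingCat.of (CoordO (TQ Q))) ≅ G.left,
      i.hom ≫ G.hom = Spec.map (CommRingCat.ofHom (algebraMap R (CoordO (TQ Q)))) :=
  RepAff.exists_iso (CoordO (TQ Q)) (eRep Q G D) (eRep_natural Q G D)

include D in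
theorem smooth_iff : Smooth G.hom ↔ Algebra.FormallySmooth R (CoordO (TQ Q)) := by
  obtain ⟨i, hi⟩ := exists_iso_coord Q G D
  have h1 : Smooth G.hom ↔ Smooth (i.hom ≫ G.hom) := by
    constructor
    · intro h
      infer_instance
    · intro h
      have e : G.hom = i.inv ≫ (i.hom ≫ G.hom) := by simp
      rw [e]
      infer_instance
  rw [h1, hi, HasRingHomProperty.Spec_iff (P := @Smooth), CommRingCat.hom_ofHom,
    RingHom.smooth_algebraMap]
  exact ⟨fun h => h.1, fun h => ⟨h, inferInstance⟩⟩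

end Rep

section Lift

variable (T : Matrix (Fin n) (Fin n) R)

theorem formallySmooth_of_lift
    (h : ∀ (B : Type u) [CommRing B] [Algebra R B] (I : Ideal B), I ^ 2 = ⊥ →
      ∀ M₀ : OM T (B ⧸ I), ∃ M : OM T B, M.1.map (Ideal.Quotient.mk I) = M₀.1) :
    Algebra.FormallySmooth R (CoordO T) := by
  refine Algebra.FormallySmooth.of_comp_surjective ?_
  intro B _ _ I hI ψ₀
  obtain ⟨M, hM⟩ := h B I hI (homEquiv T (B ⧸ I) ψ₀)
  refine ⟨(homEquiv T B).symm M, ?_⟩
  apply (homEquiv T (B ⧸ I)).injective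
  apply Subtype.ext
  rw [homEquiv_comp, Equiv.apply_symm_apply]
  exact hM

theorem lift_of_formallySmooth [Algebra.FormallySmooth R (CoordO T)]
    (B : Type u) [CommRing B] [Algebra R B] (I : Ideal B) (hI : I ^ 2 = ⊥)
    (M₀ : OM T (B ⧸ I)) : ∃ M : OM T B, M.1.map (Ideal.Quotient.mk I) = M₀.1 := by
  obtain ⟨ψ, hψ⟩ := Algebra.FormallySmooth.comp_surjective R (CoordO T) I hI
    ((homEquiv T (B ⧸ I)).symm M₀)
  refine ⟨homEquiv T B ψ, ?_⟩
  have := congrArg (fun f => (homEquiv T (B ⧸ I) f).1) hψ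
  simp only [Equiv.apply_symm_apply] at this
  rw [← this, homEquiv_comp]
  rfl

end Lift

end Groth.Agent.Lib.Helper26.QOrth
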