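import Groth.Agent.Lib.Helper26.QOrth3

/-!
Lifting matrix points of the orthogonal group along square-zero extensions when the polar form is
perfect.
-/

set_option autoImplicit false
set_option linter.unusedSectionVars false

universe u

namespace Groth.Agent.Lib.Helper26.QOrth

open Matrix Groth.Agent.Lib.Helper26.QSplit Groth.Agent.Lib.Helper26.QOdd

section CfpMore

variable {A : Type*} [CommRing A] {n : ℕ}

theorem cfp_add (M N : Matrix (Fin n) (Fin n) A) (p : Fin n × Fin n) :
    cfp (M + N) p = cfp M p + cfp N p := by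
  unfold cfp
  split_ifs
  · rfl
  · simp only [Matrix.add_apply]; ring

theorem cfp_zero (p : Fin n × Fin n) : cfp (0 : Matrix (Fin n) (Fin n) A) p = 0 := by
  unfold cfp
  split_ifs <;> simp

theorem cfp_swap (M : Matrix (Fin n) (Fin n) A) (i j : Fin n) : cfp M (i, j) = cfp M (j, i) := by
  unfold cfp
  by_cases h : i = j
  · subst h; rfl
  · simp only
    rw [if_neg h, if_neg (Ne.symm h), add_comm]

theorem cfp_eq_of_diag_symm (N N' : Matrix (Fin n) (Fin n) A) (hd : ∀ i, N i i = N' i i)
    (hs : N + Nᵀ = N' + N'ᵀ) (p : Fin n × Fin n) : cfp N p = cfp N' p := by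
  obtain ⟨i, j⟩ := p
  unfold cfp
  simp only
  split_ifs with h
  · exact hd i
  · have := congrFun (congrFun hs i) j
    simpa using this

/-- the first-order term of a congruence -/
theorem cfp_first_order (T' X : Matrix (Fin n) (Fin n) A) (p : Fin n × Fin n) :
    cfp (Xᵀ * T' + T' * X) p = cfp ((T' + T'ᵀ) * X) p := by
  apply cfp_eq_of_diag_symm
  · intro i
    simp only [Matrix.add_apply, Matrix.mul_apply, transpose_apply, ← Finset.sum_add_distrib]
    refine Finset.sum_congr rfl fun k _ => ?_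
    ring
  · rw [transpose_add, transpose_mul, transpose_mul, transpose_transpose, transpose_mul,
      transpose_add, transpose_transpose, Matrix.add_mul, Matrix.mul_add]
    abel

end CfpMore

section Lift

variable {R : Type u} [CommRing R] {n : ℕ} (T : Matrix (Fin n) (Fin n) R)

theorem lift_of_isUnit_det (hT : IsUnit (T + Tᵀ).det)
    (B : Type u) [CommRing B] [Algebra R B] (I : Ideal B) (hI : I ^ 2 = ⊥)
    (M₀ : OM T (B ⧸ I)) : ∃ M : OM T B, M.1.map (Ideal.Quotient.mk I) = M₀.1 := by
  classical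
  let π : B →+* B ⧸ I := Ideal.Quotient.mk I
  have hπ : Function.Surjective π := Ideal.Quotient.mk_surjective
  have hnil : IsNilpotent I := ⟨2, hI⟩
  have hmul : ∀ x y : B, x ∈ I → y ∈ I → x * y = 0 := by
    intro x y hx hy
    have : x * y ∈ I ^ 2 := by
      rw [pow_two]; exact Ideal.mul_mem_mul hx hy
    rw [hI] at this
    exact this
  set TB := T.map (algebraMap R B) with hTB
  have hT0 : T.map (algebraMap R (B ⧸ I)) = TB.map π := by
    ext i j
    rfl
  -- an arbitrary lift
  let M₁ : Matrix (Fin n) (Fin n) B := M₀.1.map (Function.surjInv hπ)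
  have hM₁ : M₁.map π = M₀.1 := by
    ext i j
    exact Function.surjInv_eq hπ _
  set T' := M₁ᵀ * TB * M₁ with hT'
  have hT'π : T'.map π = M₀.1ᵀ * T.map (algebraMap R (B ⧸ I)) * M₀.1 := by
    rw [hT', congr_map, hM₁]
    exact congrArg (fun Z => M₀.1ᵀ * Z * M₀.1) hT0.symm
  -- the defect
  let δ : Fin n × Fin n → B := fun p => cfp T' p - cfp TB p
  have hδ : ∀ p, δ p ∈ I := by
    intro p
    rw [← Ideal.Quotient.eq_zero_iff_mem]
    show π (cfp T' p - cfp TB p) = 0
    rw [map_sub, cfp_map, cfp_map, hT'π, ← hT0, M₀.2.2 p, sub_self]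
  have hδs : ∀ i j, δ (i, j) = δ (j, i) := by
    intro i j
    show cfp T' (i, j) - cfp TB (i, j) = cfp T' (j, i) - cfp TB (j, i)
    rw [cfp_swap T' i j, cfp_swap TB i j]
  have hdet₁ : IsUnit M₁.det := by
    rw [← IsNilpotent.isUnit_quotient_mk_iff hnil]
    have : (Ideal.Quotient.mk I) M₁.det = (M₁.map π).det := by
      rw [RingHom.map_det]; rfl
    rw [this, hM₁]
    exact M₀.2.1
  set B' := T' + T'ᵀ with hB'
  have hB'det : IsUnit B'.det := by
    rw [hB', hT']
    refine isUnit_det_polar_congr TB M₁ hdet₁ ?_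
    rw [hTB]
    exact isUnit_det_polar_map _ T hT
  let Y : Matrix (Fin n) (Fin n) B := Matrix.of fun i j =>
    if i = j then -δ (i, i) else if i < j then -δ (i, j) else 0
  have hY : ∀ i j, Y i j ∈ I := by
    intro i j
    simp only [Y, Matrix.of_apply]
    split_ifs
    · exact I.neg_mem (hδ _)
    · exact I.neg_mem (hδ _)
    · exact I.zero_mem
  have hYc : ∀ p, cfp Y p = -δ p := by
    rintro ⟨i, j⟩
    have hYij : ∀ a b : Fin n, Y a b = if a = b then -δ (a, a) else if a < b then -δ (a, b) else 0 :=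
      fun a b => rfl
    show (if i = j then Y i i else Y i j + Y j i) = -δ (i, j)
    rcases lt_trichotomy i j with h | h | h
    · rw [if_neg h.ne, hYij i j, hYij j i, if_neg h.ne, if_pos h, if_neg h.ne',
        if_neg (not_lt.2 h.le), add_zero]
    · subst h
      rw [if_pos rfl, hYij i i, if_pos rfl]
    · rw [if_neg h.ne', hYij i j, hYij j i, if_neg h.ne', if_neg (not_lt.2 h.le), if_neg h.ne,
        if_pos h, zero_add, hδs i j]
  set X := B'⁻¹ * Y with hX
  have hXI : ∀ i j, X i j ∈ I := by
    intro i j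
    rw [hX, Matrix.mul_apply]
    exact I.sum_mem fun k _ => I.mul_mem_left _ (hY k j)
  have hBX : B' * X = Y := by
    rw [hX, ← Matrix.mul_assoc, Matrix.mul_nonsing_inv _ hB'det, Matrix.one_mul]
  have hXX : Xᵀ * T' * X = 0 := by
    ext i j
    rw [Matrix.mul_apply, Matrix.zero_apply]
    refine Finset.sum_eq_zero fun k _ => ?_
    refine hmul _ _ ?_ (hXI k j)
    rw [Matrix.mul_apply]
    exact I.sum_mem fun l _ => I.mul_mem_right _ (hXI l i)
  have hXπ : X.map π = 0 := by
    ext i j
    exact Ideal.Quotient.eq_zero_iff_mem.2 (hXI i j)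
  set M := M₁ * (1 + X) with hM
  have hMπ : M.map π = M₀.1 := by
    have e : M.map π = π.mapMatrix M := rfl
    rw [e, hM, map_mul, map_add, map_one, RingHom.mapMatrix_apply, RingHom.mapMatrix_apply, hXπ,
      hM₁, add_zero, Matrix.mul_one]
  have hdetM : IsUnit M.det := by
    rw [← IsNilpotent.isUnit_quotient_mk_iff hnil]
    have : (Ideal.Quotient.mk I) M.det = (M.map π).det := by
      rw [RingHom.map_det]; rfl
    rw [this, hMπ]
    exact M₀.2.1
  have hcongr : Mᵀ * TB * M = T' + (Xᵀ * T' + T' * X) + Xᵀ * T' * X := by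
    rw [hM, hT', transpose_mul]
    simp only [transpose_add, transpose_one, Matrix.mul_add, Matrix.add_mul, Matrix.mul_one,
      Matrix.one_mul, Matrix.mul_assoc]
    abel
  refine ⟨⟨M, hdetM, ?_⟩, hMπ⟩
  intro p
  show cfp (Mᵀ * TB * M) p = cfp TB p
  rw [hcongr, hXX, add_zero, cfp_add, cfp_first_order, ← hB', hBX, hYc]
  show cfp T' p + -(cfp T' p - cfp TB p) = cfp TB p
  ring

end Lift

end Groth.Agent.Lib.Helper26.QOrth
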