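import Groth.Agent.Lib.Helper26.QOrth4

/-!
Odd rank, `2` not a unit: the orthogonal group is not smooth.
-/

set_option autoImplicit false
set_option linter.unusedSectionVars false

universe u

namespace Groth.Agent.Lib.Helper26.QOrth

open Matrix Polynomial Groth.Agent.Lib.Helper26.QSplit Groth.Agent.Lib.Helper26.QOdd

section Field

variable {K : Type*} [Field K] {n : ℕ}

/-- a non-zero isotropic vector in the polar radical kills the half-discriminant -/
theorem hdM_eq_zero_of_radical (hn : Odd (n + 1)) (T : Matrix (Fin (n + 1)) (Fin (n + 1)) K)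
    (r : Fin (n + 1) → K) (hr0 : r ≠ 0) (hr : (T + Tᵀ) *ᵥ r = 0) (hq : qf T r = 0) :
    hdM T = 0 := by
  set B := T + Tᵀ with hB
  have hBs : Bᵀ = B := by
    rw [hB, transpose_add, transpose_transpose, add_comm Tᵀ T]
  obtain ⟨i, hi⟩ : ∃ i, r i ≠ 0 := by
    by_contra H
    push Not at H
    exact hr0 (funext H)
  set r' : Fin (n + 1) → K := (r i)⁻¹ • r with hr'
  have hr'i : r' i = 1 := by
    simp [hr', inv_mul_cancel₀ hi]
  have hBr' : B *ᵥ r' = 0 := by
    rw [hr', mulVec_smul, hr, smul_zero]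
  have hq' : qf T r' = 0 := by
    rw [hr', qf_smul, hq, mul_zero]
  set g := colMat (0 : Fin (n + 1)) i r' with hg_def
  have hg : IsUnit g.det := isUnit_det_colMat 0 i r' hr'i
  have hblr : ∀ y : Fin (n + 1) → K, bl B r' y = 0 := by
    intro y
    rw [← hBs, bl_transpose, bl, hBr', dotProduct_zero]
  have h0 : ∀ j : Fin n, (gᵀ * T * g) 0 j.succ + (gᵀ * T * g) j.succ 0 = 0 := by
    intro j
    rw [congr_apply, congr_apply]
    rw [← bl_transpose T (fun r => g r 0) (fun r => g r j.succ), ← bl_add_matrix]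
    have : (fun r => g r 0) = r' := colMat_col_fun 0 i r'
    rw [this]
    exact hblr _
  have h00 : (gᵀ * T * g) 0 0 = 0 := by
    rw [congr_apply]
    have : (fun r => g r 0) = r' := colMat_col_fun 0 i r'
    rw [this]
    exact hq'
  have h1 := hdM_of_zero hn (gᵀ * T * g) h0
  rw [h00, zero_mul, hdM_congr hn] at h1
  exact (mul_eq_zero.1 h1).resolve_left (pow_ne_zero 2 hg.ne_zero)

end Field

section NonSmooth

variable {R : Type u} [CommRing R] {n : ℕ}

/-- the truncated polynomial ring `k[ε]/(ε³)` -/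
abbrev TruncB (k : Type u) [Field k] : Type u := k[X] ⧸ Ideal.span {(X : k[X]) ^ 3}

/-- `ε` -/
noncomputable def epsB (k : Type u) [Field k] : TruncB k := Ideal.Quotient.mk _ X

/-- the square-zero ideal `(ε²)` -/
noncomputable abbrev IB (k : Type u) [Field k] : Ideal (TruncB k) := Ideal.span {epsB k ^ 2}

/-- the quotient `k[ε]/(ε²)` of `TruncB k` -/
abbrev QB (k : Type u) [Field k] : Type u := TruncB k ⧸ IB k

theorem epsB_pow_three (k : Type u) [Field k] : epsB k ^ 3 = 0 := by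
  show (Ideal.Quotient.mk _ X) ^ 3 = 0
  rw [← map_pow, Ideal.Quotient.eq_zero_iff_mem]
  exact Ideal.subset_span rfl

theorem epsB_sq_ne_zero (k : Type u) [Field k] : epsB k ^ 2 ≠ 0 := by
  intro h
  have h' : (Ideal.Quotient.mk (Ideal.span {(X : k[X]) ^ 3})) X ^ 2 = 0 := h
  rw [← map_pow, Ideal.Quotient.eq_zero_iff_mem, Ideal.mem_span_singleton] at h'
  have := (pow_dvd_pow_iff (X_ne_zero (R := k)) (not_isUnit_X (R := k))).1 h'
  omega

theorem IB_sq (k : Type u) [Field k] : IB k ^ 2 = ⊥ := by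
  rw [Ideal.span_singleton_pow, ← pow_mul]
  have : epsB k ^ (2 * 2) = 0 := by
    have : epsB k ^ (2 * 2) = epsB k ^ 3 * epsB k := by ring
    rw [this, epsB_pow_three, zero_mul]
  rw [this]
  exact Ideal.span_singleton_eq_bot.2 rfl

theorem not_formallySmooth_aux (k : Type u) [Field k] [Algebra R k] (B : Type u) [CommRing B]
    [Algebra k B] [Algebra R B] [IsScalarTower R k B] (ε : B) (hε3 : ε ^ 3 = 0)
    (hε2 : ε ^ 2 ≠ 0) (h2k : (2 : k) = 0)
    (hn : Odd (n + 1)) (T : Matrix (Fin (n + 1)) (Fin (n + 1)) R)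
    (hTk : hdM (T.map (algebraMap R k)) ≠ 0) :
    ¬ Algebra.FormallySmooth R (CoordO T) := by
  classical
  intro hsm
  have h2B : (2 : B) = 0 := by
    have : algebraMap k B 2 = 0 := by rw [h2k, map_zero]
    rwa [map_ofNat] at this
  set I : Ideal B := Ideal.span {ε ^ 2} with hI_def
  have hI : I ^ 2 = ⊥ := by
    rw [hI_def, Ideal.span_singleton_pow, ← pow_mul]
    have : ε ^ (2 * 2) = 0 := by
      have : ε ^ (2 * 2) = ε ^ 3 * ε := by ring
      rw [this, hε3, zero_mul]
    rw [this]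
    exact Ideal.span_singleton_eq_bot.2 rfl
  let π : B →+* B ⧸ I := Ideal.Quotient.mk I
  let c : B ⧸ I := 1 + π ε
  have hπε2 : π ε ^ 2 = 0 := by
    rw [← map_pow, Ideal.Quotient.eq_zero_iff_mem]
    exact Ideal.subset_span rfl
  have h2BI : (2 : B ⧸ I) = 0 := by
    have : π 2 = 0 := by rw [h2B, map_zero]
    rwa [map_ofNat] at this
  have hc2 : c * c = 1 := by
    have : c * c = 1 + 2 * π ε + π ε ^ 2 := by ring
    rw [this, hπε2, h2BI]
    ring
  -- the scalar point
  let T₀ : Matrix (Fin (n + 1)) (Fin (n + 1)) (B ⧸ I) := T.map (algebraMap R (B ⧸ I))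
  have hM₀ : (c • (1 : Matrix (Fin (n + 1)) (Fin (n + 1)) (B ⧸ I)))ᵀ * T₀ *
        (c • (1 : Matrix (Fin (n + 1)) (Fin (n + 1)) (B ⧸ I))) = T₀ := by
    rw [transpose_smul, transpose_one, Matrix.smul_mul, Matrix.one_mul, Matrix.mul_smul,
      Matrix.mul_one, smul_smul, hc2, one_smul]
  let M₀ : OM T (B ⧸ I) :=
    ⟨c • (1 : Matrix (Fin (n + 1)) (Fin (n + 1)) (B ⧸ I)), by
    rw [det_smul, det_one]
    exact ((IsUnit.of_mul_eq_one _ hc2).pow _).mul isUnit_one, by
    intro p
    rw [hM₀]⟩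
  obtain ⟨M, hM⟩ := lift_of_formallySmooth T B I hI M₀
  -- M = (1 + ε) • 1 + ε² • F
  have hE : ∀ i j, ∃ f : B,
      M.1 i j - ((1 + ε) • (1 : Matrix (Fin (n + 1)) (Fin (n + 1)) B)) i j =
      ε ^ 2 * f := by
    intro i j
    have h1 : π (M.1 i j -
        ((1 + ε) • (1 : Matrix (Fin (n + 1)) (Fin (n + 1)) B)) i j) = 0 := by
      have h3 := congrFun (congrFun hM i) j
      rw [Matrix.map_apply] at h3
      rw [map_sub]
      have h4 : π (M.1 i j) = (c • (1 : Matrix (Fin (n + 1)) (Fin (n + 1)) (B ⧸ I))) i j := h3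
      rw [h4]
      simp only [Matrix.smul_apply, Matrix.one_apply, smul_eq_mul]
      split_ifs <;> simp [c]
    rw [Ideal.Quotient.eq_zero_iff_mem, hI_def, Ideal.mem_span_singleton] at h1
    exact h1
  choose F hF using hE
  let FM : Matrix (Fin (n + 1)) (Fin (n + 1)) B := Matrix.of F
  have hMdec : M.1 = (1 + ε) • (1 : Matrix (Fin (n + 1)) (Fin (n + 1)) B) +
      (ε ^ 2) • FM := by
    ext i j
    have := hF i j
    simp only [Matrix.add_apply, Matrix.smul_apply, smul_eq_mul, FM, Matrix.of_apply]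
    simp only [Matrix.smul_apply, smul_eq_mul] at this
    rw [← this]
    ring
  -- the radical vector over k
  set Tk := T.map (algebraMap R k) with hTk_def
  have hdet0 : (Tk + Tkᵀ).det = 0 := by
    rw [← two_mul_hdM hn, h2k, zero_mul]
  obtain ⟨r, hr0, hr⟩ := Matrix.exists_mulVec_eq_zero_iff.2 hdet0
  have hqr : qf Tk r ≠ 0 := fun hq => hTk (hdM_eq_zero_of_radical hn Tk r hr0 hr hq)
  -- transport to B
  let φ : k →+* B := algebraMap k B
  set TB := T.map (algebraMap R B) with hTB_def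
  have hTB : TB = Tk.map φ := by
    ext i j
    simp only [hTB_def, hTk_def, Matrix.map_apply, φ]
    exact IsScalarTower.algebraMap_apply R k B _
  let v : Fin (n + 1) → B := fun i => φ (r i)
  have hqv : qf TB v = φ (qf Tk r) := by
    rw [hTB, qf_map]
  have hBv : (TB + TBᵀ) *ᵥ v = 0 := by
    have h1 : TB + TBᵀ = (Tk + Tkᵀ).map φ := by
      rw [hTB, polar_map]
    rw [h1]
    have h2 : (Tk + Tkᵀ).map φ *ᵥ v = fun i => φ (((Tk + Tkᵀ) *ᵥ r) i) := by
      funext i
      simp only [mulVec, dotProduct, Matrix.map_apply, map_sum, map_mul, v]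
    rw [h2, hr]
    funext i
    simp
  have hBs : (TB + TBᵀ)ᵀ = TB + TBᵀ := by
    rw [transpose_add, transpose_transpose, add_comm TBᵀ TB]
  have hblv : ∀ y : Fin (n + 1) → B, bl (TB + TBᵀ) v y = 0 := by
    intro y
    rw [← hBs, bl_transpose, bl, hBv, dotProduct_zero]
  -- the isometry identity at v
  have hiso : qf TB (M.1 *ᵥ v) = qf TB v := by
    rw [← qf_congr]
    exact qf_eq_of_cfp_eq _ _ M.2.2 v
  have hMv : M.1 *ᵥ v = (1 + ε) • v + (ε ^ 2) • (FM *ᵥ v) := by
    rw [hMdec, add_mulVec, smul_mulVec, one_mulVec, smul_mulVec]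
  rw [hMv, qf_add, qf_smul, qf_smul, bl_smul_left, bl_smul_right, hblv, mul_zero, mul_zero,
    add_zero] at hiso
  have hε4 : (ε ^ 2) ^ 2 = 0 := by
    have : (ε ^ 2) ^ 2 = ε ^ 3 * ε := by ring
    rw [this, hε3, zero_mul]
  rw [hε4, zero_mul, add_zero] at hiso
  have h5 : ε ^ 2 * qf TB v = 0 := by
    have : (1 + ε) ^ 2 * qf TB v - qf TB v = (2 * ε + ε ^ 2) * qf TB v := by ring
    rw [hiso, sub_self, h2B, zero_mul, zero_add] at this
    exact this.symm
  rw [hqv] at h5
  have hu : IsUnit (φ (qf Tk r)) := (isUnit_iff_ne_zero.2 hqr).map φ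
  exact hε2 (hu.mul_left_eq_zero.1 h5)

theorem not_formallySmooth_of_field (k : Type u) [Field k] [Algebra R k] (h2k : (2 : k) = 0)
    (hn : Odd (n + 1)) (T : Matrix (Fin (n + 1)) (Fin (n + 1)) R)
    (hTk : hdM (T.map (algebraMap R k)) ≠ 0) :
    ¬ Algebra.FormallySmooth R (CoordO T) :=
  not_formallySmooth_aux k (TruncB k) (epsB k) (epsB_pow_three k) (epsB_sq_ne_zero k) h2k hn T hTk

theorem not_formallySmooth (hn : Odd (n + 1)) (T : Matrix (Fin (n + 1)) (Fin (n + 1)) R)
    (hT : IsUnit (hdM T)) (h2 : ¬ IsUnit (2 : R)) :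
    ¬ Algebra.FormallySmooth R (CoordO T) := by
  obtain ⟨m, hm, h2m⟩ := exists_max_ideal_of_mem_nonunits (show (2 : R) ∈ nonunits R from h2)
  let _ : Field (R ⧸ m) := Ideal.Quotient.field m
  refine not_formallySmooth_of_field (R ⧸ m) ?_ hn T ?_
  · have : (Ideal.Quotient.mk m) 2 = 0 := Ideal.Quotient.eq_zero_iff_mem.2 h2m
    rwa [map_ofNat] at this
  · rw [← hdM_map]
    exact (hT.map (algebraMap R (R ⧸ m))).ne_zero

end NonSmooth

end Groth.Agent.Lib.Helper26.QOrth
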