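import Groth.Agent.Lib.Helper26.QOrth5

/-!
Smoothness of the orthogonal group: final assembly.
-/

set_option autoImplicit false
set_option linter.unusedSectionVars false

universe u

namespace Groth.Agent.Lib.Helper26.QOrth

open Matrix QuadGrp TensorProduct CategoryTheory AlgebraicGeometry MonObj
  Groth.Agent.Lib.Helper26.QSplit Groth.Agent.Lib.Helper26.QOdd
  Groth.Agent.Lib.Helper14.QuadBC

variable {R : Type u} [CommRing R] {n : ℕ}

theorem isUnit_det_of_isRegular (Q : QuadraticForm R (Fin n → R)) (h : IsRegular Q) :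
    IsUnit ((TQ Q) + (TQ Q)ᵀ).det := by
  classical
  let b := Pi.basisFun R (Fin n)
  let e : (Fin n → R) ≃ₗ[R] Module.Dual R (Fin n → R) :=
    LinearEquiv.ofBijective (QuadraticMap.polarBilin Q) h
  have h1 := LinearEquiv.isUnit_det e b b.dualBasis
  have h2 : LinearMap.toMatrix b b.dualBasis (e : (Fin n → R) →ₗ[R] Module.Dual R (Fin n → R)) =
      TQ Q + (TQ Q)ᵀ := by
    ext i j
    rw [LinearMap.toMatrix_apply, Module.Basis.dualBasis_repr]
    show QuadraticMap.polar Q (b j) (b i) = _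
    rw [Matrix.add_apply, Matrix.transpose_apply, TQ, of_apply, of_apply,
      ← bilinLift_add_flip Q, add_comm]
    simp only [b, Pi.basisFun_apply]
  rwa [h2] at h1

theorem isUnit_det_of_nondeg (Q : QuadraticForm R (Fin n → R))
    (hQ : IsNondeg (Pi.basisFun R (Fin n)) (LinearEquiv.refl R R) Q)
    (h : Even n ∨ IsUnit (2 : R)) : IsUnit ((TQ Q) + (TQ Q)ᵀ).det := by
  by_cases hn : Even n
  · exact isUnit_det_of_isRegular Q (hQ.1 hn)
  · have ho : Odd n := Nat.not_even_iff_odd.1 hn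
    have h2 : IsUnit (2 : R) := h.resolve_left hn
    rw [← two_mul_hdM ho, hdM_TQ]
    exact h2.mul (hQ.2 ho)

theorem smooth_iff_even_or_isUnit_two (hn : 1 ≤ n)
    (Q : QuadraticForm R (Fin n → R))
    (hQ : IsNondeg (Pi.basisFun R (Fin n)) (LinearEquiv.refl R R) Q)
    (G : Over (Spec (CommRingCat.of R))) [GrpObj G] (D : OrthRep Q G) :
    Smooth G.hom ↔ (Even n ∨ IsUnit (2 : R)) := by
  rw [smooth_iff Q G D]
  constructor
  · intro hsm
    by_contra hcon
    push Not at hcon
    obtain ⟨hne, h2⟩ := hcon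
    have ho : Odd n := Nat.not_even_iff_odd.1 hne
    obtain ⟨n', rfl⟩ : ∃ n', n = n' + 1 := ⟨n - 1, by omega⟩
    refine not_formallySmooth ho (TQ Q) ?_ h2 hsm
    rw [hdM_TQ]
    exact hQ.2 ho
  · intro h
    exact formallySmooth_of_lift (TQ Q) (fun B _ _ I hI M₀ =>
      lift_of_isUnit_det (TQ Q) (isUnit_det_of_nondeg Q hQ h) B I hI M₀)

end Groth.Agent.Lib.Helper26.QOrth
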