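import Groth.Agent.Lib.Helper26.QOrth6

/-!
The coordinate ring of the naive special orthogonal group and its functor of points.
-/

set_option autoImplicit false
set_option linter.unusedSectionVars false

universe u

namespace Groth.Agent.Lib.Helper26.QOrth

open Matrix QuadGrp TensorProduct CategoryTheory AlgebraicGeometry MonObj MvPolynomial
  Groth.Agent.Lib.Helper26.QSplit Groth.Agent.Lib.Helper26.QOdd
  Groth.Agent.Lib.Helper14.QuadBC

section SOM

variable {R : Type u} [CommRing R] {n : ℕ} (T : Matrix (Fin n) (Fin n) R)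

/-- matrix points of the naive special orthogonal group -/
abbrev SOM (A : Type u) [CommRing A] [Algebra R A] : Type u :=
  {M : Matrix (Fin n) (Fin n) A // M.det = 1 ∧
    ∀ p, cfp (Mᵀ * T.map (algebraMap R A) * M) p = cfp (T.map (algebraMap R A)) p}

/-- the universal determinant -/
noncomputable def dElt : CoordO T := (matOf T (CoordO T) (AlgHom.id R (CoordO T))).det

/-- the coordinate ring of `SO'` -/
abbrev CoordSO : Type u := CoordO T ⧸ Ideal.span {dElt T - 1}

instance : Algebra.FinitePresentation R (CoordSO T) := by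
  apply Algebra.FinitePresentation.quotient
  exact ⟨{dElt T - 1}, by simp⟩

variable (A : Type u) [CommRing A] [Algebra R A]

theorem map_dElt (ψ : CoordO T →ₐ[R] A) : ψ (dElt T) = (matOf T A ψ).det := by
  rw [dElt, AlgHom.map_det]
  rfl

/-- forget the determinant condition -/
def SOM.toOM {T : Matrix (Fin n) (Fin n) R} {A : Type u} [CommRing A] [Algebra R A]
    (M : SOM T A) : OM T A :=
  ⟨M.1, by rw [M.2.1]; exact isUnit_one, M.2.2⟩

theorem matOf_homOf (M : OM T A) : matOf T A (homOf T A M) = M.1 :=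
  congrArg Subtype.val ((homEquiv T A).apply_symm_apply M)

/-- the algebra map of a matrix point -/
noncomputable def homOfSO (M : SOM T A) : CoordSO T →ₐ[R] A :=
  Ideal.Quotient.liftₐ (Ideal.span {dElt T - 1}) (homOf T A M.toOM) (by
    intro a ha
    rw [Ideal.mem_span_singleton] at ha
    obtain ⟨c, rfl⟩ := ha
    rw [map_mul, map_sub, map_one, map_dElt, matOf_homOf]
    show (M.1.det - 1) * _ = 0
    rw [M.2.1, sub_self, zero_mul])

theorem homOfSO_mk (M : SOM T A) (x : CoordO T) :
    homOfSO T A M (Ideal.Quotient.mk _ x) = homOf T A M.toOM x := rfl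

/-- points of the coordinate ring are matrix points -/
noncomputable def homEquivSO : (CoordSO T →ₐ[R] A) ≃ SOM T A where
  toFun ψ := ⟨(homEquiv T A (ψ.comp (Ideal.Quotient.mkₐ R _))).1, by
      show (matOf T A (ψ.comp (Ideal.Quotient.mkₐ R _))).det = 1
      rw [← map_dElt]
      show ψ (Ideal.Quotient.mk _ (dElt T)) = 1
      have : (Ideal.Quotient.mk (Ideal.span {dElt T - 1})) (dElt T) = 1 := by
        rw [← sub_eq_zero, ← map_one (Ideal.Quotient.mk (Ideal.span {dElt T - 1})), ← map_sub,
          Ideal.Quotient.eq_zero_iff_mem]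
        exact Ideal.subset_span rfl
      rw [this, map_one],
    (homEquiv T A (ψ.comp (Ideal.Quotient.mkₐ R _))).2.2⟩
  invFun M := homOfSO T A M
  left_inv ψ := by
    apply AlgHom.ext
    intro x
    obtain ⟨x, rfl⟩ := Ideal.Quotient.mk_surjective x
    rw [homOfSO_mk]
    have := (homEquiv T A).symm_apply_apply (ψ.comp (Ideal.Quotient.mkₐ R _))
    exact congrArg (fun f => f x) this
  right_inv M := by
    apply Subtype.ext
    show (homEquiv T A ((homOfSO T A M).comp (Ideal.Quotient.mkₐ R _))).1 = M.1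
    have : (homOfSO T A M).comp (Ideal.Quotient.mkₐ R _) = homOf T A M.toOM := by
      apply AlgHom.ext
      intro x
      rfl
    rw [this]
    exact congrArg Subtype.val ((homEquiv T A).apply_symm_apply M.toOM)

variable {A}
variable {B : Type u} [CommRing B] [Algebra R B]

theorem homEquivSO_comp (φ : A →ₐ[R] B) (ψ : CoordSO T →ₐ[R] A) :
    (homEquivSO T B (φ.comp ψ)).1 = (homEquivSO T A ψ).1.map φ :=
  homEquiv_comp T φ (ψ.comp (Ideal.Quotient.mkₐ R _))

end SOM

section Sorth

variable {R : Type u} [CommRing R] {n : ℕ} (Q : QuadraticForm R (Fin n → R))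
variable (A : Type u) [CommRing A] [Algebra R A]

theorem mem_sorth'_iff (g : (A ⊗[R] (Fin n → R)) ≃ₗ[A] (A ⊗[R] (Fin n → R))) :
    g ∈ sorth' Q A ↔ g ∈ orth Q A ∧ LinearMap.det g.toLinearMap = 1 := by
  show g ∈ O (QuadGrp.baseChange A Q) ⊓ (LinearEquiv.det).ker ↔ _
  rw [Subgroup.mem_inf, MonoidHom.mem_ker]
  refine and_congr Iff.rfl ?_
  rw [← LinearEquiv.coe_det, Units.ext_iff]
  rfl

/-- matrix point ↦ special isometry -/
noncomputable def toSOrth (M : SOM (TQ Q) A) : sorth' Q A :=
  ⟨(toOrth Q A M.toOM).1, by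
    rw [mem_sorth'_iff]
    refine ⟨(toOrth Q A M.toOM).2, ?_⟩
    show LinearMap.det (Matrix.toLinearEquiv (bA (R := R) A n) M.1 M.toOM.2.1).toLinearMap = 1
    have : (Matrix.toLinearEquiv (bA (R := R) A n) M.1 M.toOM.2.1).toLinearMap =
        Matrix.toLin (bA (R := R) A n) (bA (R := R) A n) M.1 := by
      ext w
      rfl
    rw [this, LinearMap.det_toLin, M.2.1]⟩

/-- forget the determinant condition -/
def sorthToOrth {Q : QuadraticForm R (Fin n → R)} {A : Type u} [CommRing A] [Algebra R A]
    (g : sorth' Q A) : orth Q A :=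
  ⟨g.1, ((mem_sorth'_iff Q A g.1).1 g.2).1⟩

/-- special isometry ↦ matrix point -/
noncomputable def ofSOrth (g : sorth' Q A) : SOM (TQ Q) A :=
  ⟨matOrth A g.1, by
    show (LinearMap.toMatrix (bA (R := R) A n) (bA (R := R) A n) g.1.toLinearMap).det = 1
    rw [LinearMap.det_toMatrix]
    exact ((mem_sorth'_iff Q A g.1).1 g.2).2, cfp_matOrth Q A (sorthToOrth g)⟩

/-- matrix points are special isometries -/
noncomputable def sorthEquiv : SOM (TQ Q) A ≃ sorth' Q A where
  toFun := toSOrth Q A
  invFun := ofSOrth Q A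
  left_inv M := by
    apply Subtype.ext
    have h := congrArg Subtype.val ((orthEquiv Q A).left_inv M.toOM)
    exact h
  right_inv g := by
    apply Subtype.ext
    have h := congrArg Subtype.val ((orthEquiv Q A).right_inv (sorthToOrth g))
    exact h

theorem ofSOrth_apply (g : sorth' Q A) (i j : Fin n) :
    (ofSOrth Q A g).1 i j =
      (bA (R := R) A n).repr (g.1 ((1 : A) ⊗ₜ[R] Pi.single j (1 : R))) i :=
  ofOrth_apply Q A (sorthToOrth g) i j

end Sorth

section Rep

variable {R : Type u} [CommRing R] {n : ℕ}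
variable (Q : QuadraticForm R (Fin n → R)) (G : Over (Spec (CommRingCat.of R))) [GrpObj G]
  (D : QuadGrp.SOrth'Rep Q G)

/-- points of `G` are points of the coordinate ring -/
noncomputable def eRepSO (A : Type u) [CommRing A] [Algebra R A] :
    (specOver R A ⟶ G) ≃ (CoordSO (TQ Q) →ₐ[R] A) :=
  (D.pts A).toEquiv.trans ((sorthEquiv Q A).symm.trans (homEquivSO (TQ Q) A).symm)

theorem eRepSO_natural (A B : Type u) [CommRing A] [Algebra R A] [CommRing B] [Algebra R B]
    (φ : A →ₐ[R] B) (y : specOver R A ⟶ G) :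
    eRepSO Q G D B (specOverMap R φ ≫ y) = φ.comp (eRepSO Q G D A y) := by
  apply (homEquivSO (TQ Q) B).injective
  apply Subtype.ext
  rw [homEquivSO_comp]
  show (homEquivSO (TQ Q) B ((homEquivSO (TQ Q) B).symm
      (ofSOrth Q B (D.pts B (specOverMap R φ ≫ y))))).1 =
    (homEquivSO (TQ Q) A ((homEquivSO (TQ Q) A).symm (ofSOrth Q A (D.pts A y)))).1.map φ
  rw [Equiv.apply_symm_apply, Equiv.apply_symm_apply]
  ext i j
  rw [ofSOrth_apply, Matrix.map_apply, ofSOrth_apply, D.natural A B φ y, repr_rTensor]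

include D in
theorem exists_iso_coordSO :
    ∃ i : Spec (CommRingCat.of (CoordSO (TQ Q))) ≅ G.left,
      i.hom ≫ G.hom = Spec.map (CommRingCat.ofHom (algebraMap R (CoordSO (TQ Q)))) :=
  RepAff.exists_iso (CoordSO (TQ Q)) (eRepSO Q G D) (eRepSO_natural Q G D)

include D in
theorem smooth_of_smooth_coordSO (h : Algebra.Smooth R (CoordSO (TQ Q))) : Smooth G.hom := by
  obtain ⟨i, hi⟩ := exists_iso_coordSO Q G D
  have e : G.hom = i.inv ≫ (i.hom ≫ G.hom) := by simp
  have h2 : Smooth (i.hom ≫ G.hom) := by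
    rw [hi, HasRingHomProperty.Spec_iff (P := @Smooth), CommRingCat.hom_ofHom,
      RingHom.smooth_algebraMap]
    exact h
  rw [e]
  infer_instance

end Rep

end Groth.Agent.Lib.Helper26.QOrth
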