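import Groth.Agent.Lib.Helper26.QSO1

/-!
Lifting matrix points of the naive special orthogonal group along square-zero extensions.
-/

set_option autoImplicit false
set_option linter.unusedSectionVars false

universe u

namespace Groth.Agent.Lib.Helper26.QOrth

open Matrix Groth.Agent.Lib.Helper26.QSplit Groth.Agent.Lib.Helper26.QOdd

section Step

variable {B : Type*} [CommRing B] {n : ℕ}

theorem hdM_eq_of_cfp_eq (S S' : Matrix (Fin n) (Fin n) B) (h : ∀ p, cfp S p = cfp S' p) :
    hdM S = hdM S' := by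
  unfold hdM
  congr 1
  funext s
  induction s using Sym2.ind with
  | _ i j =>
    rw [cf_mk, cf_mk]
    exact h (i, j)

theorem cfp_congr_of_cfp_eq (Z Z' g : Matrix (Fin n) (Fin n) B) (h : ∀ p, cfp Z p = cfp Z' p)
    (p : Fin n × Fin n) : cfp (gᵀ * Z * g) p = cfp (gᵀ * Z' * g) p := by
  apply cfp_eq_of_qf_eq
  intro x
  rw [qf_congr, qf_congr]
  exact qf_eq_of_cfp_eq _ _ h _

theorem polar_eq_of_cfp_eq (S S' : Matrix (Fin n) (Fin n) B) (h : ∀ p, cfp S p = cfp S' p) :
    S + Sᵀ = S' + S'ᵀ := by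
  ext i j
  simp only [Matrix.add_apply, transpose_apply]
  by_cases hij : i = j
  · subst hij
    have := h (i, i)
    simp only [cfp, if_true] at this
    rw [this]
  · have := h (i, j)
    simp only [cfp, if_neg hij] at this
    exact this

variable (I : Ideal B)

/-- first-order expansion of a congruence -/
theorem cfp_step (hI : ∀ x y : B, x ∈ I → y ∈ I → x * y = 0) (TB M X : Matrix (Fin n) (Fin n) B)
    (hδ : ∀ p, cfp (Mᵀ * TB * M) p - cfp TB p ∈ I) (hX : ∀ i j, X i j ∈ I)
    (p : Fin n × Fin n) :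
    cfp ((M * (1 + X))ᵀ * TB * (M * (1 + X))) p =
      cfp (Mᵀ * TB * M) p + cfp ((TB + TBᵀ) * X) p := by
  set T' := Mᵀ * TB * M with hT'
  have hcongr : (M * (1 + X))ᵀ * TB * (M * (1 + X)) =
      T' + (Xᵀ * T' + T' * X) + Xᵀ * T' * X := by
    rw [hT', transpose_mul]
    simp only [transpose_add, transpose_one, Matrix.mul_add, Matrix.add_mul, Matrix.mul_one,
      Matrix.one_mul, Matrix.mul_assoc]
    abel
  have hXX : Xᵀ * T' * X = 0 := by
    ext i j
    rw [Matrix.mul_apply, Matrix.zero_apply]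
    refine Finset.sum_eq_zero fun k _ => ?_
    refine hI _ _ ?_ (hX k j)
    rw [Matrix.mul_apply]
    exact I.sum_mem fun l _ => I.mul_mem_right _ (hX l i)
  have hPX : (T' + T'ᵀ) * X = (TB + TBᵀ) * X := by
    ext i j
    rw [Matrix.mul_apply, Matrix.mul_apply]
    refine Finset.sum_congr rfl fun k _ => ?_
    have hd : (T' + T'ᵀ) i k - (TB + TBᵀ) i k ∈ I := by
      by_cases hik : i = k
      · subst hik
        have := hδ (i, i)
        simp only [cfp, if_true] at this
        have e : (T' + T'ᵀ) i i - (TB + TBᵀ) i i = 2 * (T' i i - TB i i) := by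
          simp only [Matrix.add_apply, transpose_apply]
          ring
        rw [e]
        exact I.mul_mem_left _ this
      · have := hδ (i, k)
        simp only [cfp, if_neg hik] at this
        simp only [Matrix.add_apply, transpose_apply]
        exact this
    have := hI _ _ hd (hX k j)
    rw [sub_mul, sub_eq_zero] at this
    exact this
  rw [hcongr, hXX, add_zero, cfp_add, cfp_first_order, hPX]

end Step

section Radical

variable {R : Type u} [CommRing R] {n : ℕ}

theorem liftSO_of_radical (hn : Odd (n + 1))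
    (T : Matrix (Fin (n + 1)) (Fin (n + 1)) R)
    (h0 : ∀ j : Fin n, T 0 j.succ + T j.succ 0 = 0) (hT : IsUnit (hdM T))
    (B : Type u) [CommRing B] [Algebra R B] (I : Ideal B) (hI : I ^ 2 = ⊥)
    (M₀ : SOM T (B ⧸ I)) : ∃ M : SOM T B, M.1.map (Ideal.Quotient.mk I) = M₀.1 := by
  classical
  let π : B →+* B ⧸ I := Ideal.Quotient.mk I
  have hπ : Function.Surjective π := Ideal.Quotient.mk_surjective
  have hmul : ∀ x y : B, x ∈ I → y ∈ I → x * y = 0 := by
    intro x y hx hy
    have : x * y ∈ I ^ 2 := by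
      rw [pow_two]; exact Ideal.mul_mem_mul hx hy
    rw [hI] at this
    exact this
  set TB := T.map (algebraMap R B) with hTB
  have hT0 : T.map (algebraMap R (B ⧸ I)) = TB.map π := by
    ext i j
    rfl
  have h0B : ∀ j : Fin n, TB 0 j.succ + TB j.succ 0 = 0 := by
    intro j
    simp only [hTB, Matrix.map_apply]
    rw [← map_add, h0 j, map_zero]
  have hTBu : IsUnit (hdM TB) := by
    rw [hTB, ← hdM_map]
    exact hT.map _
  have hfac := hdM_of_zero hn TB h0B
  set P' := (TB + TBᵀ).submatrix Fin.succ Fin.succ with hP'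
  have ht : IsUnit (TB 0 0) := by
    rw [hfac] at hTBu
    exact isUnit_of_mul_isUnit_left hTBu
  have hD : IsUnit P'.det := by
    rw [hfac] at hTBu
    exact isUnit_of_mul_isUnit_right hTBu
  -- an arbitrary lift
  let M₁ : Matrix (Fin (n + 1)) (Fin (n + 1)) B := M₀.1.map (Function.surjInv hπ)
  have hM₁ : M₁.map π = M₀.1 := by
    ext i j
    exact Function.surjInv_eq hπ _
  set T' := M₁ᵀ * TB * M₁ with hT'
  have hT'π : T'.map π = M₀.1ᵀ * T.map (algebraMap R (B ⧸ I)) * M₀.1 := by
    rw [hT', congr_map, hM₁]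
    exact congrArg (fun Z => M₀.1ᵀ * Z * M₀.1) hT0.symm
  let δ : Fin (n + 1) × Fin (n + 1) → B := fun p => cfp T' p - cfp TB p
  have hδ : ∀ p, δ p ∈ I := by
    intro p
    rw [← Ideal.Quotient.eq_zero_iff_mem]
    show π (cfp T' p - cfp TB p) = 0
    rw [map_sub, cfp_map, cfp_map, hT'π, ← hT0, M₀.2.2 p, sub_self]
  have hδs : ∀ i j, δ (i, j) = δ (j, i) := by
    intro i j
    show cfp T' (i, j) - cfp TB (i, j) = cfp T' (j, i) - cfp TB (j, i)
    rw [cfp_swap T' i j, cfp_swap TB i j]
  -- the correction matrix (lower triangular, without the corner)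
  let Y : Matrix (Fin (n + 1)) (Fin (n + 1)) B := Matrix.of fun i j =>
    if i = j then (if i = 0 then 0 else -δ (i, i)) else if j < i then -δ (i, j) else 0
  have hYij : ∀ a b : Fin (n + 1), Y a b =
      if a = b then (if a = 0 then 0 else -δ (a, a)) else if b < a then -δ (a, b) else 0 :=
    fun a b => rfl
  have hY : ∀ i j, Y i j ∈ I := by
    intro i j
    rw [hYij]
    split_ifs
    · exact I.zero_mem
    · exact I.neg_mem (hδ _)
    · exact I.neg_mem (hδ _)
    · exact I.zero_mem
  have hY0 : ∀ j, Y 0 j = 0 := by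
    intro j
    rw [hYij]
    by_cases h : (0 : Fin (n + 1)) = j
    · rw [if_pos h, if_pos rfl]
    · rw [if_neg h, if_neg (Fin.not_lt_zero j)]
  have hYc : ∀ p : Fin (n + 1) × Fin (n + 1), p ≠ (0, 0) → cfp Y p = -δ p := by
    rintro ⟨i, j⟩ hp
    show (if i = j then Y i i else Y i j + Y j i) = -δ (i, j)
    rcases lt_trichotomy i j with h | h | h
    · rw [if_neg h.ne, hYij i j, hYij j i, if_neg h.ne, if_neg (not_lt.2 h.le), if_neg h.ne',
        if_pos h, zero_add, hδs i j]
    · subst h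
      have hi0 : i ≠ 0 := by
        rintro rfl
        exact hp rfl
      rw [if_pos rfl, hYij i i, if_pos rfl, if_neg hi0]
    · rw [if_neg h.ne', hYij i j, hYij j i, if_neg h.ne', if_pos h, if_neg h.ne,
        if_neg (not_lt.2 h.le), add_zero]
  have hYc0 : cfp Y (0, 0) = 0 := by
    show (if (0 : Fin (n + 1)) = 0 then Y 0 0 else Y 0 0 + Y 0 0) = 0
    rw [if_pos rfl, hY0]
  -- solve
  let X : Matrix (Fin (n + 1)) (Fin (n + 1)) B := Matrix.of fun i j =>
    Fin.cases (motive := fun _ => B) 0 (fun i' => (P'⁻¹ * Y.submatrix Fin.succ id) i' j) i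
  have hX0 : ∀ j, X 0 j = 0 := fun j => rfl
  have hXs : ∀ (i' : Fin n) j, X (Fin.succ i') j = (P'⁻¹ * Y.submatrix Fin.succ id) i' j :=
    fun _ _ => rfl
  have hXI : ∀ i j, X i j ∈ I := by
    intro i j
    cases i using Fin.cases with
    | zero => rw [hX0]; exact I.zero_mem
    | succ i' =>
      rw [hXs, Matrix.mul_apply]
      exact I.sum_mem fun k _ => I.mul_mem_left _ (hY _ _)
  have hPX : (TB + TBᵀ) * X = Y := by
    ext a b
    rw [Matrix.mul_apply, Fin.sum_univ_succ, hX0, mul_zero, zero_add]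
    cases a using Fin.cases with
    | zero =>
      rw [hY0]
      refine Finset.sum_eq_zero fun k _ => ?_
      have : (TB + TBᵀ) 0 k.succ = 0 := by
        simp only [Matrix.add_apply, transpose_apply]
        exact h0B k
      rw [this, zero_mul]
    | succ a' =>
      have e : ∑ k : Fin n, (TB + TBᵀ) a'.succ k.succ * X k.succ b =
          (P' * (P'⁻¹ * Y.submatrix Fin.succ id)) a' b := by
        rw [Matrix.mul_apply]
        rfl
      rw [e, ← Matrix.mul_assoc, Matrix.mul_nonsing_inv _ hD, Matrix.one_mul]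
      rfl
  set M₂ := M₁ * (1 + X) with hM₂
  have hc2 : ∀ p, cfp (M₂ᵀ * TB * M₂) p = cfp T' p + cfp Y p := by
    intro p
    rw [hM₂, cfp_step I hmul TB M₁ X hδ hXI p, hPX]
  -- the corner defect
  set c := δ (0, 0) with hc
  have hcI : c ∈ I := hδ _
  let E : Matrix (Fin (n + 1)) (Fin (n + 1)) B := Matrix.of fun i j =>
    if i = 0 ∧ j = 0 then c else 0
  have hEij : ∀ a b : Fin (n + 1), E a b = if a = 0 ∧ b = 0 then c else 0 := fun a b => rfl
  have hEc0 : cfp E (0, 0) = c := by
    show (if (0 : Fin (n + 1)) = 0 then E 0 0 else E 0 0 + E 0 0) = c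
    rw [if_pos rfl, hEij, if_pos ⟨rfl, rfl⟩]
  have hEc : ∀ p : Fin (n + 1) × Fin (n + 1), p ≠ (0, 0) → cfp E p = 0 := by
    rintro ⟨i, j⟩ hp
    show (if i = j then E i i else E i j + E j i) = 0
    have h1 : ¬ (i = 0 ∧ j = 0) := by
      rintro ⟨rfl, rfl⟩
      exact hp rfl
    have h2 : ¬ (j = 0 ∧ i = 0) := fun h => h1 ⟨h.2, h.1⟩
    split_ifs with hij
    · subst hij
      rw [hEij, if_neg h1]
    · rw [hEij, hEij, if_neg h1, if_neg h2, add_zero]
  have hc2' : ∀ p, cfp (M₂ᵀ * TB * M₂) p = cfp (TB + E) p := by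
    intro p
    rw [hc2, cfp_add]
    by_cases hp : p = (0, 0)
    · subst hp
      rw [hYc0, add_zero, hEc0]
      show cfp T' (0, 0) = cfp TB (0, 0) + (cfp T' (0, 0) - cfp TB (0, 0))
      ring
    · rw [hYc p hp, hEc p hp]
      show cfp T' p + -(cfp T' p - cfp TB p) = cfp TB p + 0
      ring
  have h1 : hdM (M₂ᵀ * TB * M₂) = M₂.det ^ 2 * hdM TB := hdM_congr hn TB M₂
  have h2 : hdM (M₂ᵀ * TB * M₂) = hdM (TB + E) := hdM_eq_of_cfp_eq _ _ hc2'
  have h3 : hdM (TB + E) = (TB 0 0 + c) * P'.det := by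
    have hz : ∀ j : Fin n, (TB + E) 0 j.succ + (TB + E) j.succ 0 = 0 := by
      intro j
      simp only [Matrix.add_apply, hEij]
      rw [if_neg (fun h => Fin.succ_ne_zero j h.2), if_neg (fun h => Fin.succ_ne_zero j h.1),
        add_zero, add_zero]
      exact h0B j
    have ha : (TB + E) 0 0 = TB 0 0 + c := by
      rw [Matrix.add_apply, hEij, if_pos ⟨rfl, rfl⟩]
    have hb : ((TB + E) + (TB + E)ᵀ).submatrix Fin.succ Fin.succ = P' := by
      ext i j
      simp only [hP', Matrix.submatrix_apply, Matrix.add_apply, transpose_apply, hEij]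
      rw [if_neg (fun h => Fin.succ_ne_zero i h.1), if_neg (fun h => Fin.succ_ne_zero j h.1)]
      ring
    rw [hdM_of_zero hn (TB + E) hz, ha, hb]
  set s := M₂.det - 1 with hs
  have hXπ : X.map π = 0 := by
    ext i j
    exact Ideal.Quotient.eq_zero_iff_mem.2 (hXI i j)
  have hM₂π : M₂.map π = M₀.1 := by
    have e : M₂.map π = π.mapMatrix M₂ := rfl
    rw [e, hM₂, map_mul, map_add, map_one, RingHom.mapMatrix_apply, RingHom.mapMatrix_apply, hXπ,
      hM₁, add_zero, Matrix.mul_one]
  have hsI : s ∈ I := by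
    rw [← Ideal.Quotient.eq_zero_iff_mem]
    show π (M₂.det - 1) = 0
    have : π M₂.det = (M₂.map π).det := by
      rw [RingHom.map_det]; rfl
    rw [map_sub, map_one, this, hM₂π, M₀.2.1, sub_self]
  have hs2 : s * s = 0 := hmul _ _ hsI hsI
  have hc_eq : c = 2 * s * TB 0 0 := by
    have hd2 : M₂.det ^ 2 = 1 + 2 * s := by
      have : M₂.det = 1 + s := by rw [hs]; ring
      rw [this]
      have : (1 + s) ^ 2 = 1 + 2 * s + s * s := by ring
      rw [this, hs2, add_zero]
    have e := h1.symm.trans (h2.trans h3)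
    rw [hfac, hd2] at e
    have e' : ((1 + 2 * s) * TB 0 0) * P'.det = (TB 0 0 + c) * P'.det := by
      rw [← e]; ring
    have e'' := hD.mul_left_injective e'
    linear_combination -e''
  -- the final correction
  let X' : Matrix (Fin (n + 1)) (Fin (n + 1)) B := Matrix.of fun i j =>
    if i = 0 ∧ j = 0 then -s else 0
  have hX'ij : ∀ a b : Fin (n + 1), X' a b = if a = 0 ∧ b = 0 then -s else 0 := fun a b => rfl
  have hX'I : ∀ i j, X' i j ∈ I := by
    intro i j
    rw [hX'ij]
    split_ifs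
    · exact I.neg_mem hsI
    · exact I.zero_mem
  have hδ2 : ∀ p, cfp (M₂ᵀ * TB * M₂) p - cfp TB p ∈ I := by
    intro p
    rw [hc2', cfp_add, add_sub_cancel_left]
    by_cases hp : p = (0, 0)
    · subst hp; rw [hEc0]; exact hcI
    · rw [hEc p hp]; exact I.zero_mem
  have hEP : E + (TB + TBᵀ) * X' = 0 := by
    ext a b
    rw [Matrix.add_apply, Matrix.mul_apply, Fin.sum_univ_succ, Matrix.zero_apply]
    have hz : ∑ k : Fin n, (TB + TBᵀ) a k.succ * X' k.succ b = 0 := by
      refine Finset.sum_eq_zero fun k _ => ?_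
      rw [hX'ij, if_neg (fun h => Fin.succ_ne_zero k h.1), mul_zero]
    rw [hz, add_zero, hEij, hX'ij]
    by_cases hb : b = 0
    · subst hb
      cases a using Fin.cases with
      | zero =>
        rw [if_pos ⟨rfl, rfl⟩, if_pos ⟨rfl, rfl⟩, hc_eq]
        simp only [Matrix.add_apply, transpose_apply]
        ring
      | succ a' =>
        rw [if_neg (fun h => Fin.succ_ne_zero a' h.1), if_pos ⟨rfl, rfl⟩, zero_add]
        have : (TB + TBᵀ) a'.succ 0 = 0 := by
          simp only [Matrix.add_apply, transpose_apply]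
          rw [add_comm]
          exact h0B a'
        rw [this, zero_mul]
    · rw [if_neg (fun h => hb h.2), if_neg (fun h => hb h.2), mul_zero, add_zero]
  set M₃ := M₂ * (1 + X') with hM₃
  have hc3 : ∀ p, cfp (M₃ᵀ * TB * M₃) p = cfp TB p := by
    intro p
    rw [hM₃, cfp_step I hmul TB M₂ X' hδ2 hX'I p, hc2', cfp_add, add_assoc, ← cfp_add, hEP,
      cfp_zero, add_zero]
  have hdetX' : (1 + X').det = 1 - s := by
    have hrow : ∀ j : Fin n, (1 + X') 0 j.succ = 0 := by
      intro j
      rw [Matrix.add_apply, hX'ij, if_neg (fun h => Fin.succ_ne_zero j h.2), add_zero,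
        Matrix.one_apply_ne (Fin.succ_ne_zero j).symm]
    rw [det_of_row_zero _ hrow]
    have hsub : (1 + X').submatrix Fin.succ Fin.succ = 1 := by
      ext i j
      rw [Matrix.submatrix_apply, Matrix.add_apply, hX'ij,
        if_neg (fun h => Fin.succ_ne_zero i h.1), add_zero, Matrix.one_apply, Matrix.one_apply]
      simp only [Fin.succ_inj]
    rw [hsub, det_one, mul_one, Matrix.add_apply, hX'ij, if_pos ⟨rfl, rfl⟩, Matrix.one_apply_eq]
    ring
  have hdet3 : M₃.det = 1 := by
    rw [hM₃, det_mul, hdetX']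
    have : M₂.det = 1 + s := by rw [hs]; ring
    rw [this]
    have : (1 + s) * (1 - s) = 1 - s * s := by ring
    rw [this, hs2, sub_zero]
  have hX'π : X'.map π = 0 := by
    ext i j
    exact Ideal.Quotient.eq_zero_iff_mem.2 (hX'I i j)
  have hM₃π : M₃.map π = M₀.1 := by
    have e : M₃.map π = π.mapMatrix M₃ := rfl
    rw [e, hM₃, map_mul, map_add, map_one, RingHom.mapMatrix_apply, RingHom.mapMatrix_apply,
      hX'π, hM₂π, add_zero, Matrix.mul_one]
  exact ⟨⟨M₃, hdet3, hc3⟩, hM₃π⟩

end Radical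

section TwoUnit

variable {R : Type u} [CommRing R] {n : ℕ} (T : Matrix (Fin n) (Fin n) R)

theorem liftSO_of_isUnit_det (hT : IsUnit (T + Tᵀ).det) (h2 : IsUnit (2 : R))
    (B : Type u) [CommRing B] [Algebra R B] (I : Ideal B) (hI : I ^ 2 = ⊥)
    (M₀ : SOM T (B ⧸ I)) : ∃ M : SOM T B, M.1.map (Ideal.Quotient.mk I) = M₀.1 := by
  classical
  obtain ⟨M, hM⟩ := lift_of_isUnit_det T hT B I hI M₀.toOM
  let π : B →+* B ⧸ I := Ideal.Quotient.mk I
  have hmul : ∀ x y : B, x ∈ I → y ∈ I → x * y = 0 := by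
    intro x y hx hy
    have : x * y ∈ I ^ 2 := by
      rw [pow_two]; exact Ideal.mul_mem_mul hx hy
    rw [hI] at this
    exact this
  set TB := T.map (algebraMap R B) with hTB
  have hPu : IsUnit (TB + TBᵀ).det := isUnit_det_polar_map _ T hT
  have hpol := polar_eq_of_cfp_eq _ _ M.2.2
  have hd2 : M.1.det ^ 2 = 1 := by
    have := det_polar_congr TB M.1
    rw [hpol] at this
    have e : (1 : B) * (TB + TBᵀ).det = M.1.det ^ 2 * (TB + TBᵀ).det := by
      rw [one_mul]; exact this
    exact (hPu.mul_left_injective e).symm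
  set s := M.1.det - 1 with hs
  have hsI : s ∈ I := by
    rw [← Ideal.Quotient.eq_zero_iff_mem]
    show π (M.1.det - 1) = 0
    have : π M.1.det = (M.1.map π).det := by
      rw [RingHom.map_det]; rfl
    rw [map_sub, map_one, this, hM]
    show M₀.1.det - 1 = 0
    rw [M₀.2.1, sub_self]
  have hs2 : s * s = 0 := hmul _ _ hsI hsI
  have h2s : 2 * s = 0 := by
    have : M.1.det = 1 + s := by rw [hs]; ring
    rw [this] at hd2
    have e : (1 + s) ^ 2 = 1 + 2 * s + s * s := by ring
    rw [e, hs2, add_zero] at hd2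
    linear_combination hd2
  have h2B : IsUnit (2 : B) := by
    have := h2.map (algebraMap R B)
    rwa [map_ofNat] at this
  have hs0 : s = 0 := by
    apply h2B.mul_right_injective
    show 2 * s = 2 * 0
    rw [h2s, mul_zero]
  refine ⟨⟨M.1, ?_, M.2.2⟩, hM⟩
  have : M.1.det = 1 + s := by rw [hs]; ring
  rw [this, hs0, add_zero]

end TwoUnit

end Groth.Agent.Lib.Helper26.QOrth
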