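import Groth.Agent.Lib.Helper26.QSO2

/-!
Smoothness of the naive special orthogonal group: fppf-local splitting, transport of the lifting
property, descent of smoothness.
-/

set_option autoImplicit false
set_option linter.unusedSectionVars false

universe u

namespace Groth.Agent.Lib.Helper26.QOrth

open Matrix QuadGrp TensorProduct
  Groth.Agent.Lib.Helper26.QSplit Groth.Agent.Lib.Helper26.QOdd
  Groth.Agent.Lib.Helper14.QuadBC

section SplitMatrix

variable (R : Type u) [CommRing R] (m : ℕ)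

/-- fppf-locally an odd-rank form with unit half-discriminant is split (matrix form) -/
theorem exists_split_matrix (T : Matrix (Fin (2 * m + 1)) (Fin (2 * m + 1)) R)
    (hT : IsUnit (hdM T)) :
    ∃ (A : Type u) (_ : CommRing A) (_ : Algebra R A), Module.FaithfullyFlat R A ∧
      Algebra.FinitePresentation R A ∧
      ∃ g : Matrix (Fin (2 * m + 1)) (Fin (2 * m + 1)) A, IsUnit g.det ∧
        ∀ x : Fin (2 * m + 1) → A,
          qf (gᵀ * T.map (algebraMap R A) * g) x = splitForm A (2 * m + 1) x := by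
  classical
  set δ := deltaE m with hδ
  set ε := epsE δ with hε
  set TJ := T.submatrix ε.symm ε.symm with hTJ
  have hT' : IsUnit (hdE δ TJ) := by
    have : hdE δ TJ = hdM T := by
      show hdM (TJ.submatrix ε ε) = hdM T
      congr 1
      ext i j
      simp [hTJ]
    rw [this]
    exact hT
  obtain ⟨A, iA, iAlg, hff, hfp, gJ, hgJ, hsJ⟩ := globalize TJ
    (fun R' _ x => x (Sum.inl ()) ^ 2 +
      ∑ j : Fin m, x (Sum.inr (Sum.inl j)) * x (Sum.inr (Sum.inr j)))
    (fun R' R'' _ _ ψ x => by simp [map_sum])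
    (fun p hp => by
      have := hp
      exact odd_main m δ p TJ hT')
  refine ⟨A, iA, iAlg, hff, hfp, ?_⟩
  let φ := algebraMap R A
  let g : Matrix (Fin (2 * m + 1)) (Fin (2 * m + 1)) A := gJ.submatrix ε ε
  have hg : IsUnit g.det := by
    simp only [g]
    rw [det_submatrix_equiv_self]
    exact hgJ
  refine ⟨g, hg, ?_⟩
  intro x
  have e : gᵀ * T.map φ * g = (gJᵀ * TJ.map φ * gJ).submatrix ε ε := by
    have h1 : T.map φ = (TJ.map φ).submatrix ε ε := by
      ext i j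
      simp [hTJ]
    simp only [g]
    rw [h1, transpose_submatrix, submatrix_mul_equiv, submatrix_mul_equiv]
  rw [e, qf_submatrix, hsJ, splitForm_odd_apply]
  rfl

/-- the first basis vector is a radical vector of the split form -/
theorem radical_of_split {A : Type u} [CommRing A] (S : Matrix (Fin (2 * m + 1)) (Fin (2 * m + 1)) A)
    (hS : ∀ x : Fin (2 * m + 1) → A, qf S x = splitForm A (2 * m + 1) x) (j : Fin (2 * m)) :
    S 0 j.succ + S j.succ 0 = 0 := by
  classical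
  have h1 := hS (Pi.single 0 1 + Pi.single j.succ 1)
  have h2 := hS (Pi.single 0 1)
  have h3 := hS (Pi.single j.succ 1)
  rw [qf_add, qf_single, qf_single, bl_single] at h1
  rw [qf_single] at h2
  rw [qf_single] at h3
  rw [splitForm_odd_apply] at h1 h2 h3
  have hj0 : (j.succ : Fin (2 * m + 1)) ≠ 0 := Fin.succ_ne_zero j
  have hz : ∀ (i : Fin m) (y : Fin (2 * m + 1) → A),
      (∀ k : Fin (2 * m + 1), k ≠ j.succ → k ≠ 0 → y k = 0) →
      y ⟨2 * i + 1, by omega⟩ * y ⟨2 * i + 2, by omega⟩ = 0 := by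
    intro i y hy
    by_cases hk : (⟨2 * i + 1, by omega⟩ : Fin (2 * m + 1)) = j.succ
    · have : (⟨2 * i + 2, by omega⟩ : Fin (2 * m + 1)) ≠ j.succ := by
        intro h'
        have := hk.trans h'.symm
        simp [Fin.ext_iff] at this
      rw [hy _ this (by simp [Fin.ext_iff]), mul_zero]
    · rw [hy _ hk (by simp [Fin.ext_iff]), zero_mul]
  have e1 : ∑ i : Fin m,
      ((Pi.single (0 : Fin (2 * m + 1)) (1 : A) + Pi.single j.succ 1 : Fin (2 * m + 1) → A))
      ⟨2 * i + 1, by omega⟩ *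
      ((Pi.single (0 : Fin (2 * m + 1)) (1 : A) + Pi.single j.succ 1 : Fin (2 * m + 1) → A))
      ⟨2 * i + 2, by omega⟩ = 0 := by
    refine Finset.sum_eq_zero fun i _ => hz i _ ?_
    intro k hk hk0
    rw [Pi.add_apply, Pi.single_eq_of_ne hk0, Pi.single_eq_of_ne hk, add_zero]
  have e2 : ∑ i : Fin m, ((Pi.single (0 : Fin (2 * m + 1)) (1 : A) : Fin (2 * m + 1) → A))
      ⟨2 * i + 1, by omega⟩ * ((Pi.single (0 : Fin (2 * m + 1)) (1 : A) : Fin (2 * m + 1) → A))
      ⟨2 * i + 2, by omega⟩ = 0 := by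
    refine Finset.sum_eq_zero fun i _ => hz i _ ?_
    intro k hk hk0
    rw [Pi.single_eq_of_ne hk0]
  have e3 : ∑ i : Fin m, ((Pi.single (j.succ : Fin (2 * m + 1)) (1 : A) : Fin (2 * m + 1) → A))
      ⟨2 * i + 1, by omega⟩ * ((Pi.single (j.succ : Fin (2 * m + 1)) (1 : A) : Fin (2 * m + 1) → A))
      ⟨2 * i + 2, by omega⟩ = 0 := by
    refine Finset.sum_eq_zero fun i _ => hz i _ ?_
    intro k hk hk0
    rw [Pi.single_eq_of_ne hk]
  rw [e1] at h1
  rw [e2] at h2
  rw [e3] at h3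
  simp only [Pi.add_apply, Pi.single_eq_same,
    Pi.single_eq_of_ne hj0.symm, Matrix.add_apply, transpose_apply] at h1 h2 h3
  linear_combination h1 - h2 - h3

end SplitMatrix

section Transport

variable {A : Type*} [CommRing A] {n : ℕ}

/-- conjugating a special isometry by a similitude of forms -/
theorem conj_mem (T S g h : Matrix (Fin n) (Fin n) A) (hgh : g * h = 1) (hhg : h * g = 1)
    (hS : ∀ p, cfp (gᵀ * T * g) p = cfp S p) (M : Matrix (Fin n) (Fin n) A) (hdet : M.det = 1)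
    (hM : ∀ p, cfp (Mᵀ * T * M) p = cfp T p) :
    (h * M * g).det = 1 ∧ ∀ p, cfp ((h * M * g)ᵀ * S * (h * M * g)) p = cfp S p := by
  constructor
  · rw [det_mul, det_mul, hdet, mul_one, ← det_mul, hhg, det_one]
  · intro p
    have e1 : (h * M * g)ᵀ * (gᵀ * T * g) * (h * M * g) = gᵀ * (Mᵀ * T * M) * g := by
      have : g * (h * M * g) = M * g := by
        rw [← Matrix.mul_assoc, ← Matrix.mul_assoc, hgh, Matrix.one_mul]
      calc (h * M * g)ᵀ * (gᵀ * T * g) * (h * M * g)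
          = (g * (h * M * g))ᵀ * T * (g * (h * M * g)) := by
            rw [transpose_mul g]; simp only [Matrix.mul_assoc]
        _ = (M * g)ᵀ * T * (M * g) := by rw [this]
        _ = gᵀ * (Mᵀ * T * M) * g := by
            rw [transpose_mul]; simp only [Matrix.mul_assoc]
    rw [← cfp_congr_of_cfp_eq _ _ (h * M * g) hS p, e1, cfp_congr_of_cfp_eq _ _ g hM p]
    exact hS p

theorem cfp_symm_transport (T S g h : Matrix (Fin n) (Fin n) A) (hgh : g * h = 1)
    (hS : ∀ p, cfp (gᵀ * T * g) p = cfp S p) (p : Fin n × Fin n) :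
    cfp (hᵀ * S * h) p = cfp T p := by
  rw [← cfp_congr_of_cfp_eq _ _ h hS p]
  have : hᵀ * (gᵀ * T * g) * h = (g * h)ᵀ * T * (g * h) := by
    rw [transpose_mul]; simp only [Matrix.mul_assoc]
  rw [this, hgh, transpose_one, Matrix.one_mul, Matrix.mul_one]

end Transport

section TransportLift

variable {R : Type u} [CommRing R] {n : ℕ}

theorem liftSO_transport (T S g h : Matrix (Fin n) (Fin n) R) (hgh : g * h = 1) (hhg : h * g = 1)
    (hS : ∀ p, cfp (gᵀ * T * g) p = cfp S p)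
    (B : Type u) [CommRing B] [Algebra R B] (I : Ideal B)
    (hl : ∀ N₀ : SOM S (B ⧸ I), ∃ N : SOM S B, N.1.map (Ideal.Quotient.mk I) = N₀.1)
    (M₀ : SOM T (B ⧸ I)) : ∃ M : SOM T B, M.1.map (Ideal.Quotient.mk I) = M₀.1 := by
  classical
  let π : B →+* B ⧸ I := Ideal.Quotient.mk I
  let φ : R →+* B := algebraMap R B
  let φ₀ : R →+* B ⧸ I := algebraMap R (B ⧸ I)
  have hmapπ : ∀ X : Matrix (Fin n) (Fin n) R, (X.map φ).map π = X.map φ₀ := by
    intro X
    ext i j
    rfl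
  have hmul : ∀ (ψ : R →+* B) (X Y : Matrix (Fin n) (Fin n) R),
      (X * Y).map ψ = X.map ψ * Y.map ψ := fun ψ X Y => Matrix.map_mul
  have hmul₀ : ∀ (X Y : Matrix (Fin n) (Fin n) R),
      (X * Y).map φ₀ = X.map φ₀ * Y.map φ₀ := fun X Y => Matrix.map_mul
  have hone : (1 : Matrix (Fin n) (Fin n) R).map φ = 1 := by
    ext i j
    simp [Matrix.one_apply, Matrix.map_apply]
  have hone₀ : (1 : Matrix (Fin n) (Fin n) R).map φ₀ = 1 := by
    ext i j
    simp [Matrix.one_apply, Matrix.map_apply]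
  have hgh₀ : g.map φ₀ * h.map φ₀ = 1 := by rw [← hmul₀, hgh, hone₀]
  have hhg₀ : h.map φ₀ * g.map φ₀ = 1 := by rw [← hmul₀, hhg, hone₀]
  have hghB : g.map φ * h.map φ = 1 := by rw [← hmul, hgh, hone]
  have hhgB : h.map φ * g.map φ = 1 := by rw [← hmul, hhg, hone]
  have hS₀ : ∀ p, cfp ((g.map φ₀)ᵀ * T.map φ₀ * g.map φ₀) p = cfp (S.map φ₀) p := by
    intro p
    rw [← congr_map, ← cfp_map, ← cfp_map, hS p]
  have hSB : ∀ p, cfp ((g.map φ)ᵀ * T.map φ * g.map φ) p = cfp (S.map φ) p := by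
    intro p
    rw [← congr_map, ← cfp_map, ← cfp_map, hS p]
  -- transport to S
  obtain ⟨hN₀det, hN₀⟩ := conj_mem (T.map φ₀) (S.map φ₀) (g.map φ₀) (h.map φ₀) hgh₀ hhg₀ hS₀
    M₀.1 M₀.2.1 M₀.2.2
  obtain ⟨N, hN⟩ := hl ⟨h.map φ₀ * M₀.1 * g.map φ₀, hN₀det, hN₀⟩
  -- transport back
  have hT' : ∀ p, cfp ((h.map φ)ᵀ * S.map φ * h.map φ) p = cfp (T.map φ) p :=
    cfp_symm_transport (T.map φ) (S.map φ) (g.map φ) (h.map φ) hghB hSB
  obtain ⟨hMdet, hM⟩ := conj_mem (S.map φ) (T.map φ) (h.map φ) (g.map φ) hhgB hghB hT'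
    N.1 N.2.1 N.2.2
  refine ⟨⟨g.map φ * N.1 * h.map φ, hMdet, hM⟩, ?_⟩
  show (g.map φ * N.1 * h.map φ).map π = M₀.1
  have e : (g.map φ * N.1 * h.map φ).map π = (g.map φ).map π * N.1.map π * (h.map φ).map π := by
    rw [Matrix.map_mul, Matrix.map_mul]
  rw [e, hmapπ, hmapπ, hN]
  show g.map φ₀ * (h.map φ₀ * M₀.1 * g.map φ₀) * h.map φ₀ = M₀.1
  calc g.map φ₀ * (h.map φ₀ * M₀.1 * g.map φ₀) * h.map φ₀
      = (g.map φ₀ * h.map φ₀) * M₀.1 * (g.map φ₀ * h.map φ₀) := by
        simp only [Matrix.mul_assoc]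
    _ = M₀.1 := by rw [hgh₀, Matrix.one_mul, Matrix.mul_one]

end TransportLift

end Groth.Agent.Lib.Helper26.QOrth
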