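import Groth.Agent.Lib.Helper26.QSO3

/-!
Smoothness of the naive special orthogonal group: descent and final assembly.
-/

set_option autoImplicit false
set_option linter.unusedSectionVars false

universe u

namespace Groth.Agent.Lib.Helper26.QOrth

open Matrix QuadGrp TensorProduct
  Groth.Agent.Lib.Helper26.QSplit Groth.Agent.Lib.Helper26.QOdd

section Descent

variable {R : Type u} [CommRing R] {n : ℕ} (T : Matrix (Fin n) (Fin n) R)

theorem formallySmooth_SO_of_lift
    (h : ∀ (B : Type u) [CommRing B] [Algebra R B] (I : Ideal B), I ^ 2 = ⊥ →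
      ∀ M₀ : SOM T (B ⧸ I), ∃ M : SOM T B, M.1.map (Ideal.Quotient.mk I) = M₀.1) :
    Algebra.FormallySmooth R (CoordSO T) := by
  refine Algebra.FormallySmooth.of_comp_surjective ?_
  intro B _ _ I hI ψ₀
  obtain ⟨M, hM⟩ := h B I hI (homEquivSO T (B ⧸ I) ψ₀)
  refine ⟨(homEquivSO T B).symm M, ?_⟩
  apply (homEquivSO T (B ⧸ I)).injective
  apply Subtype.ext
  rw [homEquivSO_comp, Equiv.apply_symm_apply]
  exact hM

/-- an opaque copy of `CoordSO T` (so that instance search does not see the quotient structure) -/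
def CSO : Type u := CoordSO T

noncomputable instance : CommRing (CSO T) := inferInstanceAs (CommRing (CoordSO T))

noncomputable instance : Algebra R (CSO T) := inferInstanceAs (Algebra R (CoordSO T))

instance : Algebra.FinitePresentation R (CSO T) :=
  inferInstanceAs (Algebra.FinitePresentation R (CoordSO T))

/-- points of the opaque copy -/
noncomputable def homEquivCSO (A : Type u) [CommRing A] [Algebra R A] :
    (CSO T →ₐ[R] A) ≃ SOM T A := homEquivSO T A

theorem homEquivCSO_comp {A B : Type u} [CommRing A] [Algebra R A] [CommRing B] [Algebra R B]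
    (φ : A →ₐ[R] B) (ψ : CSO T →ₐ[R] A) :
    (homEquivCSO T B (φ.comp ψ)).1 = (homEquivCSO T A ψ).1.map φ :=
  homEquivSO_comp T φ ψ

/-- formal smoothness of the base change from the lifting property over `R'`-algebras -/
theorem formallySmooth_baseChange_of_lift (R' : Type u) [CommRing R'] [Algebra R R']
    (h : ∀ (B : Type u) [CommRing B] [Algebra R' B] (I : Ideal B), I ^ 2 = ⊥ →
      ∀ M₀ : SOM (T.map (algebraMap R R')) (B ⧸ I),
        ∃ M : SOM (T.map (algebraMap R R')) B, M.1.map (Ideal.Quotient.mk I) = M₀.1) :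
    Algebra.FormallySmooth R' (R' ⊗[R] CSO T) := by
  refine Algebra.FormallySmooth.of_comp_surjective ?_
  intro B _ _ I hI ψ₀
  let _ : Algebra R B := ((algebraMap R' B).comp (algebraMap R R')).toAlgebra
  have : IsScalarTower R R' B := IsScalarTower.of_algebraMap_eq (fun _ => rfl)
  let ψ₀' : CSO T →ₐ[R] B ⧸ I :=
    (ψ₀.restrictScalars R).comp (Algebra.TensorProduct.includeRight)
  let M₀ := homEquivCSO T (B ⧸ I) ψ₀'
  have hTTB : (T.map (algebraMap R R')).map (algebraMap R' B) = T.map (algebraMap R B) := by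
    ext i j
    simp only [Matrix.map_apply]
    exact (IsScalarTower.algebraMap_apply R R' B _).symm
  have hTT₀ : (T.map (algebraMap R R')).map (algebraMap R' (B ⧸ I)) =
      T.map (algebraMap R (B ⧸ I)) := by
    ext i j
    simp only [Matrix.map_apply]
    exact (IsScalarTower.algebraMap_apply R R' (B ⧸ I) _).symm
  obtain ⟨N, hN⟩ := h B I hI ⟨M₀.1, M₀.2.1, by rw [hTT₀]; exact M₀.2.2⟩
  let M : SOM T B := ⟨N.1, N.2.1, by rw [← hTTB]; exact N.2.2⟩
  let ψ' : CSO T →ₐ[R] B := (homEquivCSO T B).symm M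
  have hkey : (Ideal.Quotient.mkₐ R I).comp ψ' = ψ₀' := by
    apply (homEquivCSO T (B ⧸ I)).injective
    apply Subtype.ext
    rw [homEquivCSO_comp, Equiv.apply_symm_apply]
    exact hN
  let ψ : R' ⊗[R] CSO T →ₐ[R'] B :=
    Algebra.TensorProduct.lift (Algebra.ofId R' B) ψ' (fun _ _ => Commute.all _ _)
  refine ⟨ψ, ?_⟩
  apply Algebra.TensorProduct.ext'
  intro a c
  have h1 : ψ₀ (a ⊗ₜ[R] c) = a • ψ₀' c := by
    have : a ⊗ₜ[R] c = a • ((1 : R') ⊗ₜ[R] c) := by
      rw [TensorProduct.smul_tmul', smul_eq_mul, mul_one]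
    rw [this, map_smul]
    rfl
  have h2 : Ideal.Quotient.mk I (ψ' c) = ψ₀' c := congrArg (fun f => f c) hkey
  show Ideal.Quotient.mk I (ψ (a ⊗ₜ[R] c)) = ψ₀ (a ⊗ₜ[R] c)
  rw [h1, Algebra.TensorProduct.lift_tmul, map_mul, h2, Algebra.smul_def]
  rfl

end Descent

section Odd

variable {R : Type u} [CommRing R]

theorem smooth_coordSO_of_odd (m : ℕ) (T : Matrix (Fin (2 * m + 1)) (Fin (2 * m + 1)) R)
    (hT : IsUnit (hdM T)) : Algebra.Smooth R (CoordSO T) := by
  classical
  obtain ⟨R', _, _, hff, hfp, g, hg, hs⟩ := exists_split_matrix R m T hT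
  have hodd : Odd (2 * m + 1) := ⟨m, rfl⟩
  set T' := T.map (algebraMap R R') with hT'
  set S := gᵀ * T' * g with hS
  have hS0 : ∀ j : Fin (2 * m), S 0 j.succ + S j.succ 0 = 0 := radical_of_split m S hs
  have hSu : IsUnit (hdM S) := by
    rw [hS, hdM_congr hodd, hT', ← hdM_map]
    exact (hg.pow 2).mul (hT.map _)
  have hgi : g * g⁻¹ = 1 := Matrix.mul_nonsing_inv g hg
  have hig : g⁻¹ * g = 1 := Matrix.nonsing_inv_mul g hg
  have hfs : Algebra.FormallySmooth R' (R' ⊗[R] CSO T) := by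
    apply formallySmooth_baseChange_of_lift T R'
    intro B _ _ I hI M₀
    exact liftSO_transport T' S g g⁻¹ hgi hig (fun p => rfl) B I
      (liftSO_of_radical hodd S hS0 hSu B I hI) M₀
  have := hff
  have : Algebra.Smooth R' (R' ⊗[R] CSO T) := ⟨hfs, inferInstance⟩
  have hsm : Algebra.Smooth R (CSO T) := Algebra.Smooth.of_smooth_tensorProduct_of_faithfullyFlat R'
  exact hsm

end Odd

section Final

open CategoryTheory AlgebraicGeometry

variable {R : Type u} [CommRing R]

theorem smooth_sorth' (n : ℕ) (hn : 1 ≤ n)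
    (Q : QuadraticForm R (Fin n → R))
    (hQ : QuadGrp.IsNondeg (Pi.basisFun R (Fin n)) (LinearEquiv.refl R R) Q)
    (G : Over (Spec (CommRingCat.of R))) [GrpObj G] (D : QuadGrp.SOrth'Rep Q G)
    (h : Odd n ∨ IsUnit (2 : R)) :
    AlgebraicGeometry.Smooth G.hom := by
  apply smooth_of_smooth_coordSO Q G D
  rcases h with ho | h2
  · obtain ⟨m, rfl⟩ := ho
    exact smooth_coordSO_of_odd m (TQ Q) (by rw [hdM_TQ]; exact hQ.2 ⟨m, rfl⟩)
  · refine ⟨?_, inferInstance⟩
    exact formallySmooth_SO_of_lift (TQ Q) (fun B _ _ I hI M₀ =>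
      liftSO_of_isUnit_det (TQ Q) (isUnit_det_of_nondeg Q hQ (Or.inr h2)) h2 B I hI M₀)

end Final

end Groth.Agent.Lib.Helper26.QOrth
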