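import Groth.Agent.Lib.Helper26.QSplit1

/-!
Block computations for matrices indexed by `Fin 2 ⊕ κ`.
-/

set_option autoImplicit false
set_option linter.unusedSectionVars false

namespace Groth.Agent.Lib.Helper26.QSplit

open Matrix

variable {R : Type*} [CommRing R] {κ : Type*} [Fintype κ] [DecidableEq κ]

local notation "ι₂" => Fin 2 ⊕ κ

/-- congruence by `fromBlocks M 0 0 1` -/
theorem blockCongr (T : Matrix (Fin 2 ⊕ κ) (Fin 2 ⊕ κ) R) (M : Matrix (Fin 2) (Fin 2) R) :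
    (fromBlocks M 0 0 (1 : Matrix κ κ R))ᵀ * T * fromBlocks M 0 0 1 =
      fromBlocks (Mᵀ * T.toBlocks₁₁ * M) (Mᵀ * T.toBlocks₁₂) (T.toBlocks₂₁ * M) T.toBlocks₂₂ := by
  conv_lhs => rw [← fromBlocks_toBlocks T]
  rw [fromBlocks_transpose, fromBlocks_multiply, fromBlocks_multiply]
  simp

theorem det_blockM (M : Matrix (Fin 2) (Fin 2) R) :
    (fromBlocks M 0 0 (1 : Matrix κ κ R)).det = M.det := by
  rw [det_fromBlocks_zero₂₁, det_one, mul_one]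

/-- congruence by `fromBlocks 1 N 0 1` -/
theorem unipCongr (T : Matrix (Fin 2 ⊕ κ) (Fin 2 ⊕ κ) R) (N : Matrix (Fin 2) κ R) :
    (fromBlocks (1 : Matrix (Fin 2) (Fin 2) R) N 0 (1 : Matrix κ κ R))ᵀ * T * fromBlocks 1 N 0 1 =
      fromBlocks T.toBlocks₁₁ (T.toBlocks₁₁ * N + T.toBlocks₁₂) (Nᵀ * T.toBlocks₁₁ + T.toBlocks₂₁)
        (Nᵀ * T.toBlocks₁₁ * N + Nᵀ * T.toBlocks₁₂ + T.toBlocks₂₁ * N + T.toBlocks₂₂) := by
  conv_lhs => rw [← fromBlocks_toBlocks T]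
  rw [fromBlocks_transpose, fromBlocks_multiply, fromBlocks_multiply]
  simp only [transpose_one, transpose_zero, Matrix.one_mul, Matrix.zero_mul, add_zero,
    Matrix.mul_one, Matrix.mul_zero, Matrix.add_mul]
  congr 1
  abel

theorem det_unip (N : Matrix (Fin 2) κ R) :
    (fromBlocks (1 : Matrix (Fin 2) (Fin 2) R) N 0 (1 : Matrix κ κ R)).det = 1 := by
  rw [det_fromBlocks_zero₂₁, det_one, det_one, mul_one]

theorem qf_fromBlocks' (A : Matrix (Fin 2) (Fin 2) R) (B : Matrix (Fin 2) κ R)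
    (C : Matrix κ (Fin 2) R) (D : Matrix κ κ R) (x₁ : Fin 2 → R) (x₂ : κ → R) :
    qf (fromBlocks A B C D) (Sum.elim x₁ x₂) =
      qf A x₁ + x₁ ⬝ᵥ ((B + Cᵀ) *ᵥ x₂) + qf D x₂ := by
  have h : x₁ ⬝ᵥ (Cᵀ *ᵥ x₂) = x₂ ⬝ᵥ (C *ᵥ x₁) := by
    rw [mulVec_transpose, dotProduct_comm x₁, ← dotProduct_mulVec]
  rw [qf, fromBlocks_mulVec, sumElim_dotProduct_sumElim, Sum.elim_comp_inl, Sum.elim_comp_inr,
    dotProduct_add, dotProduct_add,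
    add_mulVec, dotProduct_add, h]
  simp only [qf]
  ring

theorem qf_fromBlocks (A : Matrix (Fin 2) (Fin 2) R) (B : Matrix (Fin 2) κ R)
    (C : Matrix κ (Fin 2) R) (D : Matrix κ κ R) (x : Fin 2 ⊕ κ → R) :
    qf (fromBlocks A B C D) x =
      qf A (x ∘ Sum.inl) + (x ∘ Sum.inl) ⬝ᵥ ((B + Cᵀ) *ᵥ (x ∘ Sum.inr)) + qf D (x ∘ Sum.inr) := by
  have hx : x = Sum.elim (x ∘ Sum.inl) (x ∘ Sum.inr) := by
    funext i; cases i <;> rfl
  conv_lhs => rw [hx]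
  exact qf_fromBlocks' A B C D _ _

theorem qf_fin2 (A : Matrix (Fin 2) (Fin 2) R) (y : Fin 2 → R) :
    qf A y = A 0 0 * y 0 ^ 2 + (A 0 1 + A 1 0) * (y 0 * y 1) + A 1 1 * y 1 ^ 2 := by
  simp only [qf, dotProduct, mulVec, Fin.sum_univ_two]
  ring

/-- The split normal form. -/
theorem qf_of_split (T : Matrix (Fin 2 ⊕ κ) (Fin 2 ⊕ κ) R)
    (h00 : T (Sum.inl 0) (Sum.inl 0) = 0) (h11 : T (Sum.inl 1) (Sum.inl 1) = 0)
    (h01 : T (Sum.inl 0) (Sum.inl 1) + T (Sum.inl 1) (Sum.inl 0) = 1)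
    (h12 : T.toBlocks₁₂ + T.toBlocks₂₁ᵀ = 0) (x : Fin 2 ⊕ κ → R) :
    qf T x = x (Sum.inl 0) * x (Sum.inl 1) + qf T.toBlocks₂₂ (x ∘ Sum.inr) := by
  conv_lhs => rw [← fromBlocks_toBlocks T]
  rw [qf_fromBlocks, h12, zero_mulVec, dotProduct_zero, add_zero, qf_fin2]
  simp only [toBlocks₁₁, of_apply, Function.comp]
  rw [h00, h11, h01]
  ring

theorem polar_toBlocks₂₂ (T : Matrix (Fin 2 ⊕ κ) (Fin 2 ⊕ κ) R) :
    T.toBlocks₂₂ + T.toBlocks₂₂ᵀ = (T + Tᵀ).toBlocks₂₂ := by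
  ext i j; rfl

/-- In split normal form the polar determinant of the complement is a unit. -/
theorem isUnit_det_polar_toBlocks₂₂ (T : Matrix (Fin 2 ⊕ κ) (Fin 2 ⊕ κ) R)
    (h12 : T.toBlocks₁₂ + T.toBlocks₂₁ᵀ = 0) (hT : IsUnit (T + Tᵀ).det) :
    IsUnit (T.toBlocks₂₂ + T.toBlocks₂₂ᵀ).det := by
  have e : T + Tᵀ = fromBlocks (T + Tᵀ).toBlocks₁₁ 0 0 (T + Tᵀ).toBlocks₂₂ := by
    conv_lhs => rw [← fromBlocks_toBlocks (T + Tᵀ)]
    have h1 : (T + Tᵀ).toBlocks₁₂ = 0 := by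
      rw [← h12]; ext i j; rfl
    have h2 : (T + Tᵀ).toBlocks₂₁ = 0 := by
      have : (T + Tᵀ).toBlocks₂₁ = (T.toBlocks₁₂ + T.toBlocks₂₁ᵀ)ᵀ := by
        ext i j
        simp [toBlocks₂₁, toBlocks₁₂, add_comm]
      rw [this, h12, transpose_zero]
    rw [h1, h2]
  rw [e, det_fromBlocks_zero₂₁] at hT
  rw [polar_toBlocks₂₂]
  exact (IsUnit.mul_iff.1 hT).2

end Groth.Agent.Lib.Helper26.QSplit
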