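import Groth.Agent.Lib.Helper26.QSplit3

/-!
Pure congruence steps: shear and unipotent clearing.
-/

set_option autoImplicit false
set_option linter.unusedSectionVars false

namespace Groth.Agent.Lib.Helper26.QSplit

open Matrix

variable {R : Type*} [CommRing R] {κ : Type*} [Fintype κ] [DecidableEq κ]

/-- state: polar determinant unit, `T₀₀` unit, plane discriminant unit -/
def St2 (T : Matrix (Fin 2 ⊕ κ) (Fin 2 ⊕ κ) R) : Prop :=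
  IsUnit (T + Tᵀ).det ∧ IsUnit (T (Sum.inl 0) (Sum.inl 0)) ∧
    IsUnit ((T (Sum.inl 0) (Sum.inl 1) + T (Sum.inl 1) (Sum.inl 0)) ^ 2 -
      4 * T (Sum.inl 0) (Sum.inl 0) * T (Sum.inl 1) (Sum.inl 1))

/-- state: first vector isotropic, pairing one with the second -/
def St3 (T : Matrix (Fin 2 ⊕ κ) (Fin 2 ⊕ κ) R) : Prop :=
  IsUnit (T + Tᵀ).det ∧ T (Sum.inl 0) (Sum.inl 0) = 0 ∧
    T (Sum.inl 0) (Sum.inl 1) + T (Sum.inl 1) (Sum.inl 0) = 1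

/-- state: hyperbolic pair -/
def St4 (T : Matrix (Fin 2 ⊕ κ) (Fin 2 ⊕ κ) R) : Prop :=
  St3 T ∧ T (Sum.inl 1) (Sum.inl 1) = 0

/-- state: hyperbolic plane split off orthogonally -/
def St5 (T : Matrix (Fin 2 ⊕ κ) (Fin 2 ⊕ κ) R) : Prop :=
  St4 T ∧ T.toBlocks₁₂ + T.toBlocks₂₁ᵀ = 0

/-- block matrix acting on the plane -/
def gM (M : Matrix (Fin 2) (Fin 2) R) : Matrix (Fin 2 ⊕ κ) (Fin 2 ⊕ κ) R := fromBlocks M 0 0 1

/-- unipotent block matrix -/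
def gN (N : Matrix (Fin 2) κ R) : Matrix (Fin 2 ⊕ κ) (Fin 2 ⊕ κ) R := fromBlocks 1 N 0 1

theorem det_gM (M : Matrix (Fin 2) (Fin 2) R) : (gM M : Matrix (Fin 2 ⊕ κ) (Fin 2 ⊕ κ) R).det = M.det :=
  det_blockM M

theorem det_gN (N : Matrix (Fin 2) κ R) : (gN N).det = 1 := det_unip N

theorem blockCongr_apply₁₁ (T : Matrix (Fin 2 ⊕ κ) (Fin 2 ⊕ κ) R) (M : Matrix (Fin 2) (Fin 2) R)
    (i j : Fin 2) :
    ((gM M)ᵀ * T * gM M : Matrix (Fin 2 ⊕ κ) (Fin 2 ⊕ κ) R) (Sum.inl i) (Sum.inl j) =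
      (Mᵀ * T.toBlocks₁₁ * M) i j := by
  rw [gM, blockCongr]; rfl

theorem mul2_apply (M T₁ : Matrix (Fin 2) (Fin 2) R) (i j : Fin 2) :
    (Mᵀ * T₁ * M) i j =
      M 0 i * T₁ 0 0 * M 0 j + M 0 i * T₁ 0 1 * M 1 j + M 1 i * T₁ 1 0 * M 0 j +
        M 1 i * T₁ 1 1 * M 1 j := by
  simp only [Matrix.mul_apply, Fin.sum_univ_two, transpose_apply]
  ring

theorem step4 (T : Matrix (Fin 2 ⊕ κ) (Fin 2 ⊕ κ) R) (h : St3 T) :
    ∃ g : Matrix (Fin 2 ⊕ κ) (Fin 2 ⊕ κ) R, IsUnit g.det ∧ St4 (gᵀ * T * g) := by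
  obtain ⟨hdet, h00, h01⟩ := h
  set q := T (Sum.inl 1) (Sum.inl 1) with hq
  let M : Matrix (Fin 2) (Fin 2) R := !![1, -q; 0, 1]
  have hM : IsUnit (gM M : Matrix (Fin 2 ⊕ κ) (Fin 2 ⊕ κ) R).det := by
    rw [det_gM]
    simp [M, det_fin_two]
  refine ⟨gM M, hM, ⟨isUnit_det_polar_congr T _ hM hdet, ?_, ?_⟩, ?_⟩
  · rw [blockCongr_apply₁₁, mul2_apply]
    simp only [toBlocks₁₁, of_apply, M, cons_val', cons_val_zero, cons_val_one, cons_val_fin_one]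
    simp [h00]
  · rw [blockCongr_apply₁₁, blockCongr_apply₁₁, mul2_apply, mul2_apply]
    simp only [toBlocks₁₁, of_apply, M, cons_val', cons_val_zero, cons_val_one, cons_val_fin_one]
    simp only [h00]
    linear_combination h01
  · rw [blockCongr_apply₁₁, mul2_apply]
    simp only [toBlocks₁₁, of_apply, M, cons_val', cons_val_zero, cons_val_one, cons_val_fin_one]
    simp only [h00]
    linear_combination (-q) * h01

theorem unipCongr_apply₁₁ (T : Matrix (Fin 2 ⊕ κ) (Fin 2 ⊕ κ) R) (N : Matrix (Fin 2) κ R)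
    (i j : Fin 2) :
    ((gN N)ᵀ * T * gN N : Matrix (Fin 2 ⊕ κ) (Fin 2 ⊕ κ) R) (Sum.inl i) (Sum.inl j) =
      T (Sum.inl i) (Sum.inl j) := by
  rw [gN, unipCongr]; rfl

theorem step5 (T : Matrix (Fin 2 ⊕ κ) (Fin 2 ⊕ κ) R) (h : St4 T) :
    ∃ g : Matrix (Fin 2 ⊕ κ) (Fin 2 ⊕ κ) R, IsUnit g.det ∧ St5 (gᵀ * T * g) := by
  obtain ⟨⟨hdet, h00, h01⟩, h11⟩ := h
  let B₁₁ : Matrix (Fin 2) (Fin 2) R := T.toBlocks₁₁ + T.toBlocks₁₁ᵀ
  let B₁₂ : Matrix (Fin 2) κ R := T.toBlocks₁₂ + T.toBlocks₂₁ᵀ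
  have hB : B₁₁ * B₁₁ = 1 := by
    have : B₁₁ = !![0, 1; 1, 0] := by
      ext i j
      fin_cases i <;> fin_cases j <;>
        simp [B₁₁, toBlocks₁₁, h00, h11, h01, add_comm (T (Sum.inl 1) (Sum.inl 0))]
    rw [this]
    ext i j
    fin_cases i <;> fin_cases j <;> simp [Matrix.mul_apply, Fin.sum_univ_two]
  let N : Matrix (Fin 2) κ R := -(B₁₁ * B₁₂)
  have hg : IsUnit (gN N).det := by
    rw [det_gN]; exact isUnit_one
  refine ⟨gN N, hg, ⟨⟨isUnit_det_polar_congr T _ hg hdet, ?_, ?_⟩, ?_⟩, ?_⟩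
  · rw [unipCongr_apply₁₁]; exact h00
  · rw [unipCongr_apply₁₁, unipCongr_apply₁₁]; exact h01
  · rw [unipCongr_apply₁₁]; exact h11
  · rw [gN, unipCongr, toBlocks_fromBlocks₁₂, toBlocks_fromBlocks₂₁, transpose_add, transpose_mul,
      transpose_transpose]
    have : T.toBlocks₁₁ * N + T.toBlocks₁₂ + (T.toBlocks₁₁ᵀ * N + T.toBlocks₂₁ᵀ) =
        B₁₁ * N + B₁₂ := by
      simp only [B₁₁, B₁₂, Matrix.add_mul]
      abel
    rw [this]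
    simp only [N, Matrix.mul_neg, ← Matrix.mul_assoc, hB, Matrix.one_mul]
    exact neg_add_cancel _

end Groth.Agent.Lib.Helper26.QSplit
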