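import Groth.Agent.Lib.Helper26.QSplit4
import Groth.Agent.Lib.Helper26.QSplit2

/-!
The quadratic étale extension producing an isotropic vector in a regular plane.
-/

set_option autoImplicit false
set_option linter.unusedSectionVars false

universe u v

namespace Groth.Agent.Lib.Helper26.QSplit

open Matrix Polynomial

section Pair

variable {R : Type u} [CommRing R]

/-- the monic quadratic `X² + βX + γ` -/
noncomputable def quadPoly (β γ : R) : R[X] := X ^ 2 + (C β * X + C γ)

theorem degree_lin_lt (β γ : R) : (C β * X + C γ : R[X]).degree < ((2 : ℕ) : WithBot ℕ) :=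
  lt_of_le_of_lt (degree_linear_le) (by norm_num)

theorem quadPoly_monic (β γ : R) : (quadPoly β γ).Monic :=
  monic_X_pow_add (degree_lin_lt β γ)

theorem quadPoly_natDegree [Nontrivial R] (β γ : R) : (quadPoly β γ).natDegree = 2 := by
  rw [quadPoly, natDegree_add_eq_left_of_degree_lt (by rw [degree_X_pow]; exact degree_lin_lt β γ),
    natDegree_X_pow]

/-- the standard étale pair of a quadratic with unit discriminant -/
noncomputable def quadPair (β γ εi : R) (h : εi * (β ^ 2 - 4 * γ) = 1) : StandardEtalePair R where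
  f := quadPoly β γ
  monic_f := quadPoly_monic β γ
  g := 1
  cond := ⟨C εi * derivative (quadPoly β γ), -C (4 * εi), 0, by
    have h' := congrArg (C : R → R[X]) h
    simp only [map_mul, map_sub, map_pow, map_one, map_ofNat] at h'
    simp only [quadPoly, derivative_add, derivative_X_pow, derivative_mul, derivative_C,
      derivative_X, pow_zero, map_mul, map_ofNat]
    simp only [Nat.cast_ofNat, Nat.add_one_sub_one, pow_one, zero_mul, mul_one, zero_add, add_zero,
      map_ofNat]
    linear_combination h'⟩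

theorem exists_prime_over (P : StandardEtalePair R) (hg : P.g = 1) (hdeg : ∀ (K : Type u) [Field K]
    [Algebra R K], (P.f.map (algebraMap R K)).degree ≠ 0) (p : Ideal R) [p.IsPrime] :
    ∃ p' : Ideal P.Ring, p'.IsPrime ∧ p'.comap (algebraMap R P.Ring) = p := by
  let K := AlgebraicClosure p.ResidueField
  obtain ⟨x, hx⟩ := IsAlgClosed.exists_root (P.f.map (algebraMap R K)) (hdeg K)
  have hmap : P.HasMap x := by
    refine ⟨?_, ?_⟩
    · rw [aeval_def, eval₂_eq_eval_map]
      exact hx
    · rw [hg]
      simp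
  let ψ : P.Ring →ₐ[R] K := P.lift x hmap
  refine ⟨RingHom.ker ψ.toRingHom, RingHom.ker_isPrime _, ?_⟩
  rw [RingHom.comap_ker]
  have h1 : ψ.toRingHom.comp (algebraMap R P.Ring) = algebraMap R K := ψ.comp_algebraMap
  rw [h1]
  ext r
  rw [RingHom.mem_ker, IsScalarTower.algebraMap_apply R p.ResidueField K,
    map_eq_zero_iff _ (algebraMap p.ResidueField K).injective,
    Ideal.algebraMap_residueField_eq_zero]

end Pair

section Step3

variable {C : ∀ (R R' : Type u) [CommRing R] [CommRing R'] [Algebra R R'], Prop}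
variable {κ : Type v} [Fintype κ] [DecidableEq κ]

theorem step3 (hC : AlgCls C) {R : Type u} [CommRing R] (p : Ideal R) [hp : p.IsPrime]
    (T : Matrix (Fin 2 ⊕ κ) (Fin 2 ⊕ κ) R) (h : St2 T) :
    Reduces C p T (fun R' _ _ T' => St3 T') := by
  obtain ⟨hdet, ha, hΔ⟩ := h
  set a := T (Sum.inl 0) (Sum.inl 0) with ha_def
  set b := T (Sum.inl 0) (Sum.inl 1) + T (Sum.inl 1) (Sum.inl 0) with hb_def
  set c := T (Sum.inl 1) (Sum.inl 1) with hc_def
  obtain ⟨ai, hai⟩ := ha.exists_right_inv
  obtain ⟨Δi, hΔi⟩ := hΔ.exists_right_inv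
  have hε : (a ^ 2 * Δi) * ((b * ai) ^ 2 - 4 * (c * ai)) = 1 := by
    linear_combination (Δi * b ^ 2 * (a * ai + 1) - 4 * a * c * Δi) * hai + hΔi
  let P := quadPair (b * ai) (c * ai) (a ^ 2 * Δi) hε
  have hdeg : ∀ (K : Type u) [Field K] [Algebra R K], (P.f.map (algebraMap R K)).degree ≠ 0 := by
    intro K _ _
    have hm : (P.f.map (algebraMap R K)).Monic := (quadPoly_monic _ _).map _
    have hn : (P.f.map (algebraMap R K)).natDegree = 2 := by
      show ((quadPoly (b * ai) (c * ai)).map (algebraMap R K)).natDegree = 2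
      rw [(quadPoly_monic _ _).natDegree_map]
      have : Nontrivial R := (algebraMap R K).domain_nontrivial
      exact quadPoly_natDegree _ _
    intro h0
    have := natDegree_eq_of_degree_eq_some (n := 0) (by simpa using h0)
    omega
  obtain ⟨p', hp', hpp'⟩ := exists_prime_over P rfl hdeg p
  let φ : R →+* P.Ring := algebraMap R P.Ring
  let t : P.Ring := P.X
  have ht : t ^ 2 + (φ (b * ai) * t + φ (c * ai)) = 0 := by
    have h0 : aeval t (quadPoly (b * ai) (c * ai)) = 0 := P.hasMap_X.1
    rw [quadPoly] at h0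
    simp only [map_add, map_mul, map_pow, aeval_X, aeval_C] at h0
    simp only [map_mul]
    exact h0
  have hai' : φ a * φ ai = 1 := by rw [← map_mul, hai, map_one]
  have hΔi' : (φ b ^ 2 - 4 * φ a * φ c) * φ Δi = 1 := by
    have := congrArg φ hΔi
    simpa only [map_mul, map_sub, map_pow, map_one, map_ofNat] using this
  have hq : φ a * t ^ 2 + φ b * t + φ c = 0 := by
    rw [map_mul, map_mul] at ht
    linear_combination φ a * ht - (φ b * t + φ c) * hai'
  let δ : P.Ring := 2 * φ a * t + φ b
  let δi : P.Ring := δ * φ Δi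
  have hδ : δ * δi = 1 := by
    simp only [δi, δ]
    linear_combination (4 * φ a * φ Δi) * hq + hΔi'
  let M : Matrix (Fin 2) (Fin 2) P.Ring := !![t, δi; 1, 0]
  have hM : IsUnit (gM M : Matrix (Fin 2 ⊕ κ) (Fin 2 ⊕ κ) P.Ring).det := by
    rw [det_gM]
    have : M.det = -δi := by simp [M, det_fin_two]
    rw [this]
    exact (IsUnit.of_mul_eq_one _ (by rw [mul_comm]; exact hδ)).neg
  refine ⟨P.Ring, inferInstance, inferInstance, hC.etale _ _ inferInstance, p', hp', hpp', gM M, hM,
    isUnit_det_polar_congr _ _ hM (isUnit_det_polar_map φ T hdet), ?_, ?_⟩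
  · rw [blockCongr_apply₁₁, mul2_apply]
    simp only [toBlocks₁₁, of_apply, M, cons_val', cons_val_zero, cons_val_one, cons_val_fin_one,
      map_apply]
    have hb' : φ b = φ (T (Sum.inl 0) (Sum.inl 1)) + φ (T (Sum.inl 1) (Sum.inl 0)) := by
      rw [hb_def, map_add]
    rw [hb'] at hq
    linear_combination hq
  · rw [blockCongr_apply₁₁, blockCongr_apply₁₁, mul2_apply, mul2_apply]
    simp only [toBlocks₁₁, of_apply, M, cons_val', cons_val_zero, cons_val_one, cons_val_fin_one,
      map_apply]
    have hb' : φ b = φ (T (Sum.inl 0) (Sum.inl 1)) + φ (T (Sum.inl 1) (Sum.inl 0)) := by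
      rw [hb_def, map_add]
    have hδ' : (2 * φ a * t + (φ (T (Sum.inl 0) (Sum.inl 1)) + φ (T (Sum.inl 1) (Sum.inl 0)))) * δi
        = 1 := by
      rw [← hb']; exact hδ
    linear_combination hδ'

end Step3

end Groth.Agent.Lib.Helper26.QSplit
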