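import Groth.Agent.Lib.Helper26.QSplit5
import Groth.Agent.Lib.Helper26.QSplit6

/-!
The chain of reductions: from a unit polar determinant to a hyperbolic plane split off.
-/

set_option autoImplicit false
set_option linter.unusedSectionVars false

universe u v

namespace Groth.Agent.Lib.Helper26.QSplit

open Matrix

variable {C : ∀ (R R' : Type u) [CommRing R] [CommRing R'] [Algebra R R'], Prop}
variable {κ : Type v} [Fintype κ] [DecidableEq κ]

/-- state: polar determinant unit and `T₀₀` unit -/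
def St1 {R : Type*} [CommRing R] (T : Matrix (Fin 2 ⊕ κ) (Fin 2 ⊕ κ) R) : Prop :=
  IsUnit (T + Tᵀ).det ∧ IsUnit (T (Sum.inl 0) (Sum.inl 0))

theorem step1 (hC : AlgCls C) {R : Type u} [CommRing R] (p : Ideal R) [hp : p.IsPrime]
    (T : Matrix (Fin 2 ⊕ κ) (Fin 2 ⊕ κ) R) (h : IsUnit (T + Tᵀ).det) :
    Reduces C p T (fun R' _ _ T' => St1 T') := by
  obtain ⟨k, u, hu, hq⟩ := exists_u p T h
  have hg := isUnit_det_colMat (Sum.inl 0) k u hu
  have h00 : ((colMat (Sum.inl 0) k u)ᵀ * T * colMat (Sum.inl 0) k u) (Sum.inl 0) (Sum.inl 0) =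
      qf T u := by
    rw [congr_apply]
    simp only [colMat_col]
    rfl
  refine Reduces.trans hC
    (P := fun R' _ p' T' => IsUnit (T' + T'ᵀ).det ∧ T' (Sum.inl 0) (Sum.inl 0) ∉ p')
    (Reduces.of_congr hC p T _ hg ⟨isUnit_det_polar_congr T _ hg h, by rw [h00]; exact hq⟩) ?_
  intro R' _ p' T' hp' hT'
  obtain ⟨hd, hs⟩ := hT'
  haveI := hp'
  refine Reduces.away hC p' T' (T' (Sum.inl 0) (Sum.inl 0)) hs ?_
  intro R'' _ _ p'' _ _ hunit
  exact ⟨isUnit_det_polar_map _ T' hd, by simpa using hunit⟩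


theorem step2 (hC : AlgCls C) {R : Type u} [CommRing R] (p : Ideal R) [hp : p.IsPrime]
    (T : Matrix (Fin 2 ⊕ κ) (Fin 2 ⊕ κ) R) (h : St1 T) :
    Reduces C p T (fun R' _ _ T' => St2 T') := by
  obtain ⟨hdet, ha⟩ := h
  obtain ⟨l, v, hl, hv1, hv0, hD⟩ := exists_v p T (Sum.inl 0) (Sum.inl 1) (by simp) hdet ha
  have hg := isUnit_det_colMat (Sum.inl 1) l v hv1
  set g := colMat (Sum.inl 1) l v with hg_def
  have hc0 : (fun r => g r (Sum.inl 0)) = Pi.single (Sum.inl 0) 1 := by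
    funext r
    rw [hg_def, colMat_col_ne _ _ _ _ _ (by simp) hl.symm, one_apply, Pi.single_apply]
  have hc1 : (fun r => g r (Sum.inl 1)) = v := by
    funext r
    rw [hg_def, colMat_col]
  have e00 : (gᵀ * T * g) (Sum.inl 0) (Sum.inl 0) = T (Sum.inl 0) (Sum.inl 0) := by
    rw [congr_apply, hc0, bl_single]
  have e11 : (gᵀ * T * g) (Sum.inl 1) (Sum.inl 1) = qf T v := by
    rw [congr_apply, hc1]; rfl
  have e01 : (gᵀ * T * g) (Sum.inl 0) (Sum.inl 1) + (gᵀ * T * g) (Sum.inl 1) (Sum.inl 0) =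
      bl (T + Tᵀ) (Pi.single (Sum.inl 0) 1) v := by
    rw [congr_apply, congr_apply, hc0, hc1, bl_add_matrix, bl_transpose]
  refine Reduces.trans hC
    (P := fun R' _ p' T' => IsUnit (T' + T'ᵀ).det ∧ IsUnit (T' (Sum.inl 0) (Sum.inl 0)) ∧
      ((T' (Sum.inl 0) (Sum.inl 1) + T' (Sum.inl 1) (Sum.inl 0)) ^ 2 -
        4 * T' (Sum.inl 0) (Sum.inl 0) * T' (Sum.inl 1) (Sum.inl 1)) ∉ p')
    (Reduces.of_congr hC p T g hg ⟨isUnit_det_polar_congr T g hg hdet, by rw [e00]; exact ha, by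
      rw [e00, e11, e01]; exact hD⟩) ?_
  intro R' _ p' T' hp' hT'
  obtain ⟨hd, ha', hs⟩ := hT'
  haveI := hp'
  refine Reduces.away hC p' T' _ hs ?_
  intro R'' _ _ p'' _ _ hunit
  refine ⟨isUnit_det_polar_map _ T' hd, by simpa using ha'.map (algebraMap R' R''), ?_⟩
  simpa only [map_sub, map_pow, map_add, map_mul, map_ofNat, map_apply] using hunit

theorem key (hC : AlgCls C) {R : Type u} [CommRing R] (p : Ideal R) [hp : p.IsPrime]
    (T : Matrix (Fin 2 ⊕ κ) (Fin 2 ⊕ κ) R) (h : IsUnit (T + Tᵀ).det) :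
    Reduces C p T (fun R' _ _ T' => St5 T') := by
  refine (step1 hC p T h).trans hC fun R₁ _ p₁ T₁ hp₁ h₁ => ?_
  haveI := hp₁
  refine (step2 hC p₁ T₁ h₁).trans hC fun R₂ _ p₂ T₂ hp₂ h₂ => ?_
  haveI := hp₂
  refine (step3 hC p₂ T₂ h₂).trans hC fun R₃ _ p₃ T₃ hp₃ h₃ => ?_
  haveI := hp₃
  obtain ⟨g₄, hg₄, h₄⟩ := step4 T₃ h₃
  refine (Reduces.of_congr hC p₃ T₃ g₄ hg₄ (P := fun R' _ _ T' => St4 T') h₄).trans hC
    fun R₄ _ p₄ T₄ hp₄ h₄' => ?_
  haveI := hp₄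
  obtain ⟨g₅, hg₅, h₅⟩ := step5 T₄ h₄'
  exact Reduces.of_congr hC p₄ T₄ g₅ hg₅ h₅

end Groth.Agent.Lib.Helper26.QSplit
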