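import Groth.Agent.Lib.Helper26.QSplit8

/-!
Even-rank quadratic forms with unit discriminant are split étale-locally (finite étale cover form).
-/

set_option autoImplicit false
set_option linter.unusedSectionVars false

universe u

namespace Groth.Agent.Lib.Helper26.QSplit

open Matrix

theorem exists_split_at (m : ℕ) (R : Type u) [CommRing R] (p : Ideal R) [p.IsPrime]
    (T : Matrix (Fin m ⊕ Fin m) (Fin m ⊕ Fin m) R) (h : IsUnit (T + Tᵀ).det) :
    ∃ (R' : Type u) (_ : CommRing R') (_ : Algebra R R'), Algebra.Etale R R' ∧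
      ∃ p' : Ideal R', p'.IsPrime ∧ p'.comap (algebraMap R R') = p ∧
        ∃ g : Matrix (Fin m ⊕ Fin m) (Fin m ⊕ Fin m) R', IsUnit g.det ∧
          ∀ x : Fin m ⊕ Fin m → R', qf (T.map (algebraMap R R')) (g *ᵥ x) =
            ∑ j : Fin m, x (Sum.inl j) * x (Sum.inr j) := by
  obtain ⟨R', _, _, hC', p', hp', hpp', g, hg, hs⟩ := main_ind algCls_etale m R p T h
  exact ⟨R', _, _, hC', p', hp', hpp', g, hg, fun x => by rw [← qf_congr]; exact hs x⟩

/-- Finite étale-cover form. -/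
theorem exists_split_cover (m : ℕ) (A : Type u) [CommRing A]
    (T : Matrix (Fin m ⊕ Fin m) (Fin m ⊕ Fin m) A) (h : IsUnit (T + Tᵀ).det) :
    ∃ (n : ℕ) (B : Fin n → Type u) (_ : ∀ t, CommRing (B t)) (_ : ∀ t, Algebra A (B t)),
      (∀ t, Algebra.Etale A (B t)) ∧
      (∀ p : PrimeSpectrum A, ∃ (t : Fin n) (q : PrimeSpectrum (B t)),
        q.asIdeal.comap (algebraMap A (B t)) = p.asIdeal) ∧
      ∀ t, ∃ g : Matrix (Fin m ⊕ Fin m) (Fin m ⊕ Fin m) (B t), IsUnit g.det ∧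
        ∀ x : Fin m ⊕ Fin m → B t, qf (T.map (algebraMap A (B t))) (g *ᵥ x) =
          ∑ j : Fin m, x (Sum.inl j) * x (Sum.inr j) := by
  classical
  have key : ∀ p : PrimeSpectrum A, ∃ (R' : Type u) (_ : CommRing R') (_ : Algebra A R'),
      Algebra.Etale A R' ∧ ∃ p' : Ideal R', p'.IsPrime ∧ p'.comap (algebraMap A R') = p.asIdeal ∧
        ∃ g : Matrix (Fin m ⊕ Fin m) (Fin m ⊕ Fin m) R', IsUnit g.det ∧
          ∀ x : Fin m ⊕ Fin m → R', qf (T.map (algebraMap A R')) (g *ᵥ x) =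
            ∑ j : Fin m, x (Sum.inl j) * x (Sum.inr j) :=
    fun p => exists_split_at m A p.asIdeal T h
  choose R' iR iA hE p' hp' hpp' g hg hs using key
  let U : PrimeSpectrum A → Set (PrimeSpectrum A) := fun p =>
    Set.range (PrimeSpectrum.comap (algebraMap A (R' p)))
  have hUo : ∀ p, IsOpen (U p) := fun p => by
    haveI := hE p
    exact (PrimeSpectrum.isOpenMap_comap_of_hasGoingDown_of_finitePresentation
      (R := A) (S := R' p)).isOpen_range
  have hUc : (Set.univ : Set (PrimeSpectrum A)) ⊆ ⋃ p, U p := by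
    intro p _
    refine Set.mem_iUnion.2 ⟨p, ⟨⟨p' p, hp' p⟩, ?_⟩⟩
    ext1
    exact hpp' p
  obtain ⟨s, hs'⟩ := isCompact_univ.elim_finite_subcover U hUo hUc
  let e := s.equivFin
  refine ⟨s.card, fun t => R' (e.symm t).1, fun t => iR _, fun t => iA _, fun t => hE _, ?_,
    fun t => ⟨g _, hg _, hs _⟩⟩
  intro p
  obtain ⟨i, hi, q, hq⟩ : ∃ i ∈ s, p ∈ U i := by
    have := hs' (Set.mem_univ p)
    simpa using this
  have hmem : p ∈ U (e.symm (e ⟨i, hi⟩)).1 := by
    rw [Equiv.symm_apply_apply]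
    exact ⟨q, hq⟩
  obtain ⟨q', hq'⟩ := hmem
  exact ⟨e ⟨i, hi⟩, q', congrArg PrimeSpectrum.asIdeal hq'⟩

end Groth.Agent.Lib.Helper26.QSplit
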