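import Groth.Agent.Lib.Helper14.HalfDiscOdd
import Mathlib

/-!
Half-discriminant of a quadratic form whose first basis vector is in the polar kernel:
`hdv x = x₀₀ * det (polar matrix of the remaining variables)`.
-/

set_option autoImplicit false

namespace Groth.Agent.Lib.Helper26.QuadND

open QuadGrp MvPolynomial Matrix Groth.Agent.Lib.Helper14.HalfDiscOdd

variable {R : Type*} [CommRing R] {n : ℕ}

/-- restriction of coefficients to the indices `≥ 1` -/
def tailc (x : Sym2 (Fin (n + 1)) → R) : Sym2 (Fin n) → R := fun s => x (s.map Fin.succ)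

theorem tailc_mk (x : Sym2 (Fin (n + 1)) → R) (i j : Fin n) :
    tailc x (Sym2.mk i j) = x (Sym2.mk i.succ j.succ) := rfl

theorem pm_tailc (x : Sym2 (Fin (n + 1)) → R) :
    pm (tailc x) = (pm x).submatrix Fin.succ Fin.succ := by
  ext i j
  simp only [pm, Matrix.of_apply, Matrix.submatrix_apply, tailc_mk, Fin.succ_inj]

theorem det_pm_of_zero (x : Sym2 (Fin (n + 1)) → R)
    (h0 : ∀ j : Fin n, x (Sym2.mk 0 j.succ) = 0) :
    (pm x).det = 2 * x (Sym2.mk 0 0) * (pm (tailc x)).det := by
  rw [Matrix.det_succ_row_zero, Fin.sum_univ_succ, Finset.sum_eq_zero, add_zero, pm_tailc]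
  · simp [pm, Fin.succAbove_zero]
  · intro j _
    have : pm x 0 j.succ = 0 := by
      simp only [pm, Matrix.of_apply]
      rw [if_neg (Fin.succ_ne_zero j).symm, h0]
    rw [this]
    ring

theorem hdv_of_zero (hn : Odd (n + 1)) (x : Sym2 (Fin (n + 1)) → R)
    (h0 : ∀ j : Fin n, x (Sym2.mk 0 j.succ) = 0) :
    hdv x = x (Sym2.mk 0 0) * (pm (tailc x)).det := by
  classical
  let U := MvPolynomial (Sym2 (Fin (n + 1))) ℤ
  let y : Sym2 (Fin (n + 1)) → U := fun s =>
    if (∃ j : Fin n, s = Sym2.mk 0 j.succ) then 0 else X s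
  let φ : U →+* R := eval₂Hom (Int.castRingHom R) x
  have hφ : (fun s => φ (y s)) = x := by
    funext s
    by_cases hs : ∃ j : Fin n, s = Sym2.mk 0 j.succ
    · obtain ⟨j, rfl⟩ := hs
      have : y (Sym2.mk 0 j.succ) = 0 := if_pos ⟨j, rfl⟩
      rw [this, map_zero, h0]
    · have : y s = X s := if_neg hs
      rw [this]
      exact eval₂_X _ _ _
  have hy0 : ∀ j : Fin n, y (Sym2.mk 0 j.succ) = 0 := fun j => if_pos ⟨j, rfl⟩
  have hU : hdv y = y (Sym2.mk 0 0) * (pm (tailc y)).det := by
    have h2 : (2 : U) * hdv y = 2 * (y (Sym2.mk 0 0) * (pm (tailc y)).det) := by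
      rw [two_mul_hdv hn, det_pm_of_zero y hy0]
      ring
    exact mul_left_cancel₀ two_ne_zero h2
  have := congrArg φ hU
  rw [map_hdv, map_mul, RingHom.map_det, RingHom.mapMatrix_apply, map_pm, hφ] at this
  rw [this]
  have h3 : (fun s => φ (tailc y s)) = tailc x := by
    funext s
    show φ (y (s.map Fin.succ)) = x (s.map Fin.succ)
    exact congrFun hφ _
  rw [h3]
  exact congrArg (· * _) (congrFun hφ _)

end Groth.Agent.Lib.Helper26.QuadND
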