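import Groth.Agent.Lib.Helper26.QuadND1
import Mathlib

/-!
Field level: for a quadratic form on an odd-dimensional vector space, the half-discriminant is
non-zero iff the form is nondegenerate.
-/

set_option autoImplicit false

namespace Groth.Agent.Lib.Helper26.QuadND

open QuadGrp Matrix Groth.Agent.Lib.Helper14.HalfDiscOdd

section Ring

variable {R : Type*} [CommRing R] {M : Type*} [AddCommGroup M] [Module R M] {n : ℕ}

theorem halfDisc_eq_hdv (b : Module.Basis (Fin n) R M) (Q : QuadraticForm R M) :
    halfDisc b (LinearEquiv.refl R R) Q = hdv (coeffs b (LinearEquiv.refl R R) Q) := rfl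

theorem pm_coeffs (b : Module.Basis (Fin n) R M) (Q : QuadraticForm R M) :
    pm (coeffs b (LinearEquiv.refl R R) Q) =
      Matrix.of (fun k l => QuadraticMap.polar Q (b k) (b l)) := by
  ext k l
  simp only [pm, Matrix.of_apply, coeffs_mk, LinearEquiv.refl_apply]
  by_cases hkl : k = l
  · subst hkl
    rw [if_pos rfl, if_pos rfl, QuadraticMap.polar_self, two_smul, two_mul]
  · rw [if_neg hkl, if_neg hkl]

/-- change of basis for the half-discriminant (odd rank) -/
theorem halfDisc_basis (hn : Odd n) (b e : Module.Basis (Fin n) R M) (Q : QuadraticForm R M) :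
    halfDisc e (LinearEquiv.refl R R) Q =
      LinearMap.det (b.equiv e (Equiv.refl _)).toLinearMap ^ 2 *
        halfDisc b (LinearEquiv.refl R R) Q := by
  rw [← halfDisc_comp hn b Q, halfDisc_eq_hdv, halfDisc_eq_hdv]
  congr 1
  funext s
  induction s using Sym2.ind with
  | _ i j =>
    rw [coeffs_mk, coeffs_mk]
    simp [QuadraticMap.polar, QuadraticMap.comp_apply]

theorem isUnit_halfDisc_basis (hn : Odd n) (b e : Module.Basis (Fin n) R M)
    (Q : QuadraticForm R M) :
    IsUnit (halfDisc e (LinearEquiv.refl R R) Q) ↔ IsUnit (halfDisc b (LinearEquiv.refl R R) Q) := by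
  rw [halfDisc_basis hn b e Q]
  have hu : IsUnit (LinearMap.det (b.equiv e (Equiv.refl _)).toLinearMap ^ 2) :=
    (LinearEquiv.isUnit_det' _).pow 2
  exact ⟨fun h => (IsUnit.mul_iff.1 h).2, fun h => hu.mul h⟩

theorem halfDisc_of_mem_ker (hn : Odd (n + 1)) (e : Module.Basis (Fin (n + 1)) R M)
    (Q : QuadraticForm R M) (h0 : QuadraticMap.polarBilin Q (e 0) = 0) :
    halfDisc e (LinearEquiv.refl R R) Q =
      Q (e 0) * (Matrix.of fun i j : Fin n => QuadraticMap.polar Q (e i.succ) (e j.succ)).det := by
  rw [halfDisc_eq_hdv, hdv_of_zero hn]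
  · rw [coeffs_mk, if_pos rfl, LinearEquiv.refl_apply, pm_tailc, pm_coeffs]
    rfl
  · intro j
    rw [coeffs_mk, if_neg (Fin.succ_ne_zero j).symm, LinearEquiv.refl_apply]
    have := congrArg (fun f => f (e j.succ)) h0
    simpa using this

end Ring

section Field

variable {K : Type*} [Field K] {V : Type*} [AddCommGroup V] [Module K V] {n : ℕ}

theorem exists_basis_zero (b : Module.Basis (Fin (n + 1)) K V) (e₀ : V) (h : e₀ ≠ 0) :
    ∃ e : Module.Basis (Fin (n + 1)) K V, e 0 = e₀ := by
  have : Module.Finite K V := Module.Finite.of_basis b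
  obtain ⟨N, hN⟩ := Submodule.exists_isCompl (K ∙ e₀)
  have hfr : Module.finrank K N = n := by
    have h1 := Submodule.finrank_add_eq_of_isCompl hN
    rw [finrank_span_singleton h, Module.finrank_eq_card_basis b, Fintype.card_fin] at h1
    omega
  let bN := Module.finBasisOfFinrankEq K N hfr
  refine ⟨Module.Basis.mkFinCons e₀ bN ?_ ?_, ?_⟩
  · intro c x hx hc
    have h1 : c • e₀ ∈ (K ∙ e₀) ⊓ N := by
      refine ⟨Submodule.smul_mem _ _ (Submodule.mem_span_singleton_self _), ?_⟩
      have : c • e₀ = -x := eq_neg_of_add_eq_zero_left hc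
      rw [this]
      exact N.neg_mem hx
    rw [hN.inf_eq_bot, Submodule.mem_bot, smul_eq_zero] at h1
    exact h1.resolve_right h
  · intro z
    have : z ∈ (K ∙ e₀) ⊔ N := by rw [hN.sup_eq_top]; trivial
    obtain ⟨a, ha, y, hy, rfl⟩ := Submodule.mem_sup.1 this
    obtain ⟨r, rfl⟩ := Submodule.mem_span_singleton.1 ha
    refine ⟨-r, ?_⟩
    have : r • e₀ + y + -r • e₀ = y := by rw [neg_smul]; abel
    rw [this]
    exact hy
  · rw [Module.Basis.coe_mkFinCons]
    rfl

variable (Q : QuadraticForm K V)

/-- `B (e i) (∑ c j • e j)` in terms of the Gram matrix -/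
theorem polar_sum {ι : Type*} [Fintype ι] (e : ι → V) (c : ι → K) (v : V) :
    QuadraticMap.polar Q v (∑ j, c j • e j) = ∑ j, QuadraticMap.polar Q v (e j) * c j := by
  have : QuadraticMap.polar Q v (∑ j, c j • e j) = QuadraticMap.polarBilin Q v (∑ j, c j • e j) := rfl
  rw [this, map_sum]
  refine Finset.sum_congr rfl fun j _ => ?_
  rw [map_smul, smul_eq_mul, mul_comm]
  rfl

theorem mem_ker_polar_iff (e : Module.Basis (Fin n) K V) (v : V) :
    v ∈ LinearMap.ker (QuadraticMap.polarBilin Q) ↔ ∀ i, QuadraticMap.polar Q (e i) v = 0 := by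
  rw [LinearMap.mem_ker]
  constructor
  · intro h i
    rw [QuadraticMap.polar_comm]
    exact congrArg (fun f => f (e i)) h
  · intro h
    refine e.ext fun i => ?_
    rw [LinearMap.zero_apply, QuadraticMap.polarBilin_apply_apply, QuadraticMap.polar_comm]
    exact h i

/-- With `e 0` in the polar kernel: the reduced Gram determinant is non-zero iff the polar kernel is
the line through `e 0`. -/
theorem det_ne_zero_iff (e : Module.Basis (Fin (n + 1)) K V)
    (h0 : QuadraticMap.polarBilin Q (e 0) = 0) :
    (Matrix.of fun i j : Fin n => QuadraticMap.polar Q (e i.succ) (e j.succ)).det ≠ 0 ↔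
      LinearMap.ker (QuadraticMap.polarBilin Q) ≤ K ∙ (e 0) := by
  set P' : Matrix (Fin n) (Fin n) K :=
    Matrix.of fun i j : Fin n => QuadraticMap.polar Q (e i.succ) (e j.succ) with hP'
  have h0' : ∀ v, QuadraticMap.polar Q v (e 0) = 0 := by
    intro v
    rw [QuadraticMap.polar_comm]
    exact congrArg (fun f => f v) h0
  constructor
  · intro hdet v hv
    rw [mem_ker_polar_iff Q e] at hv
    have hc : P' *ᵥ (fun j => e.repr v j.succ) = 0 := by
      funext i
      have := hv i.succ
      rw [← e.sum_repr v, polar_sum, Fin.sum_univ_succ, h0', zero_mul, zero_add] at this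
      simpa [Matrix.mulVec, dotProduct, hP'] using this
    have hz := Matrix.eq_zero_of_mulVec_eq_zero hdet hc
    rw [Submodule.mem_span_singleton]
    refine ⟨e.repr v 0, ?_⟩
    conv_rhs => rw [← e.sum_repr v, Fin.sum_univ_succ]
    have : ∀ j : Fin n, e.repr v j.succ = 0 := fun j => congrFun hz j
    simp [this]
  · intro hle hdet
    obtain ⟨c, hc0, hc⟩ := Matrix.exists_mulVec_eq_zero_iff.2 hdet
    have hv : (∑ j : Fin n, c j • e j.succ) ∈ LinearMap.ker (QuadraticMap.polarBilin Q) := by
      rw [mem_ker_polar_iff Q e]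
      intro i
      rw [polar_sum]
      refine Fin.cases ?_ (fun i' => ?_) i
      · refine Finset.sum_eq_zero fun j _ => ?_
        rw [QuadraticMap.polar_comm, h0', zero_mul]
      · have := congrFun hc i'
        simpa [Matrix.mulVec, dotProduct, hP'] using this
    obtain ⟨t, ht⟩ := Submodule.mem_span_singleton.1 (hle hv)
    apply hc0
    funext j
    have h1 := congrArg (fun w => e.repr w j.succ) ht
    simp only [map_smul, Module.Basis.repr_self, Finsupp.smul_apply, map_sum,
      Finsupp.coe_finsetSum, Finset.sum_apply, Finsupp.single_apply, Fin.succ_inj,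
      smul_eq_mul] at h1
    rw [if_neg (Fin.succ_ne_zero j).symm, mul_zero] at h1
    simpa using h1.symm

end Field

end Groth.Agent.Lib.Helper26.QuadND
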