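import Groth.Agent.Lib.Helper26.QuadND2
import Groth.Agent.Lib.Helper14.QuadBC
import Mathlib

/-!
Half-discriminant is a unit iff the form is fibrewise nondegenerate (odd rank).
-/

set_option autoImplicit false

namespace Groth.Agent.Lib.Helper26.QuadND

open QuadGrp Matrix TensorProduct Groth.Agent.Lib.Helper14.HalfDiscOdd
  Groth.Agent.Lib.Helper14.QuadBC

section Field

variable {K : Type*} [Field K] {V : Type*} [AddCommGroup V] [Module K V] {n : ℕ}

theorem halfDisc_ne_zero_of_nondegenerate (hn : Odd (n + 1)) (b : Module.Basis (Fin (n + 1)) K V)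
    (Q : QuadraticForm K V) (h : Q.Nondegenerate) :
    halfDisc b (LinearEquiv.refl K K) Q ≠ 0 := by
  by_cases hker : LinearMap.ker (QuadraticMap.polarBilin Q) = ⊥
  · intro hz
    have h2 : (pm (coeffs b (LinearEquiv.refl K K) Q)).det = 0 := by
      rw [← two_mul_hdv hn, ← halfDisc_eq_hdv, hz, mul_zero]
    obtain ⟨c, hc0, hc⟩ := Matrix.exists_mulVec_eq_zero_iff.2 h2
    have hv : (∑ j, c j • b j) ∈ LinearMap.ker (QuadraticMap.polarBilin Q) := by
      rw [mem_ker_polar_iff Q b]
      intro i
      rw [polar_sum]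
      have := congrFun hc i
      rw [pm_coeffs] at this
      simpa [Matrix.mulVec, dotProduct] using this
    rw [hker, Submodule.mem_bot] at hv
    apply hc0
    funext j
    have h1 := congrArg (fun w => b.repr w j) hv
    simpa [Finsupp.single_apply] using h1
  · obtain ⟨e₀, he₀, hne⟩ := Submodule.exists_mem_ne_zero_of_ne_bot hker
    obtain ⟨e, rfl⟩ := exists_basis_zero b e₀ hne
    have h0 : QuadraticMap.polarBilin Q (e 0) = 0 := he₀
    obtain ⟨v₀, hv₀⟩ := (rank_submodule_le_one_iff' _).1 h.rank_rad_polar_le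
    have hle : LinearMap.ker (QuadraticMap.polarBilin Q) ≤ K ∙ (e 0) := by
      refine hv₀.trans ?_
      obtain ⟨r, hr⟩ := Submodule.mem_span_singleton.1 (hv₀ he₀)
      have hr0 : r ≠ 0 := by
        rintro rfl
        rw [zero_smul] at hr
        exact hne hr.symm
      rw [Submodule.span_singleton_le_iff_mem, Submodule.mem_span_singleton]
      refine ⟨r⁻¹, ?_⟩
      rw [← hr, smul_smul, inv_mul_cancel₀ hr0, one_smul]
    have hdet := (det_ne_zero_iff Q e h0).2 hle
    have hQ : Q (e 0) ≠ 0 := by
      intro hq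
      have : e 0 ∈ Q.radical := ⟨hq, h0⟩
      rw [h.radical_eq_bot, Submodule.mem_bot] at this
      exact hne this
    have he : halfDisc e (LinearEquiv.refl K K) Q ≠ 0 := by
      rw [halfDisc_of_mem_ker hn e Q h0]
      exact mul_ne_zero hQ hdet
    rw [← isUnit_iff_ne_zero] at he ⊢
    exact (isUnit_halfDisc_basis hn b e Q).1 he

theorem nondegenerate_of_halfDisc_ne_zero (hn : Odd (n + 1)) (b : Module.Basis (Fin (n + 1)) K V)
    (Q : QuadraticForm K V) (h : halfDisc b (LinearEquiv.refl K K) Q ≠ 0) :
    Q.Nondegenerate := by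
  have key : ∀ e : Module.Basis (Fin (n + 1)) K V,
      halfDisc e (LinearEquiv.refl K K) Q ≠ 0 := by
    intro e
    rw [← isUnit_iff_ne_zero] at h ⊢
    exact (isUnit_halfDisc_basis hn b e Q).2 h
  constructor
  · by_contra hrad
    obtain ⟨e₀, he₀, hne⟩ := Submodule.exists_mem_ne_zero_of_ne_bot hrad
    obtain ⟨e, rfl⟩ := exists_basis_zero b e₀ hne
    have h0 : QuadraticMap.polarBilin Q (e 0) = 0 := he₀.2
    apply key e
    rw [halfDisc_of_mem_ker hn e Q h0, he₀.1, zero_mul]
  · by_cases hker : LinearMap.ker (QuadraticMap.polarBilin Q) = ⊥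
    · rw [hker]
      simp
    · obtain ⟨e₀, he₀, hne⟩ := Submodule.exists_mem_ne_zero_of_ne_bot hker
      obtain ⟨e, rfl⟩ := exists_basis_zero b e₀ hne
      have h0 : QuadraticMap.polarBilin Q (e 0) = 0 := he₀
      have he := key e
      rw [halfDisc_of_mem_ker hn e Q h0] at he
      have hdet := right_ne_zero_of_mul he
      exact (rank_submodule_le_one_iff' _).2 ⟨e 0, (det_ne_zero_iff Q e h0).1 hdet⟩

theorem nondegenerate_iff (hn : Odd (n + 1)) (b : Module.Basis (Fin (n + 1)) K V)
    (Q : QuadraticForm K V) :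
    Q.Nondegenerate ↔ halfDisc b (LinearEquiv.refl K K) Q ≠ 0 :=
  ⟨halfDisc_ne_zero_of_nondegenerate hn b Q, nondegenerate_of_halfDisc_ne_zero hn b Q⟩

end Field

section BaseChange

universe u v w

variable {R : Type u} [CommRing R] {M : Type v} [AddCommGroup M] [Module R M] [Module.Free R M]
variable (A : Type w) [CommRing A] [Algebra R A] {n : ℕ}

theorem coeffs_baseChangeForm (b : Module.Basis (Fin n) R M) (Q : QuadraticForm R M) :
    coeffs (Algebra.TensorProduct.basis A b) (LinearEquiv.refl A A) (baseChangeForm A Q) =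
      fun s => algebraMap R A (coeffs b (LinearEquiv.refl R R) Q s) := by
  funext s
  induction s using Sym2.ind with
  | _ i j =>
    rw [coeffs_mk, coeffs_mk]
    by_cases hij : i = j
    · subst hij
      rw [if_pos rfl, if_pos rfl, LinearEquiv.refl_apply, LinearEquiv.refl_apply,
        Algebra.TensorProduct.basis_apply, baseChangeForm_apply, blA_tmul, bilinLift_self,
        mul_one, Algebra.algebraMap_eq_smul_one]
    · rw [if_neg hij, if_neg hij, LinearEquiv.refl_apply, LinearEquiv.refl_apply,
        Algebra.TensorProduct.basis_apply, Algebra.TensorProduct.basis_apply,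
        polar_baseChangeForm, blA_tmul, blA_tmul, mul_one, ← add_smul, bilinLift_add_flip,
        Algebra.algebraMap_eq_smul_one]

theorem halfDisc_baseChangeForm (b : Module.Basis (Fin n) R M) (Q : QuadraticForm R M) :
    halfDisc (Algebra.TensorProduct.basis A b) (LinearEquiv.refl A A) (baseChangeForm A Q) =
      algebraMap R A (halfDisc b (LinearEquiv.refl R R) Q) := by
  rw [halfDisc_eq_hdv, coeffs_baseChangeForm, halfDisc_eq_hdv, map_hdv]

end BaseChange

section Main

universe u v

theorem isUnit_iff_forall_residueField {R : Type u} [CommRing R] (x : R) :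
    IsUnit x ↔ ∀ (p : Ideal R) [p.IsPrime], algebraMap R p.ResidueField x ≠ 0 := by
  constructor
  · intro h p _
    exact (h.map (algebraMap R p.ResidueField)).ne_zero
  · intro h
    by_contra hx
    obtain ⟨m, hm, hxm⟩ := exists_max_ideal_of_mem_nonunits hx
    have := hm.isPrime
    exact h m ((Ideal.algebraMap_residueField_eq_zero).2 hxm)

theorem main {R : Type u} [CommRing R]
    {M : Type v} [AddCommGroup M] [Module R M] [Module.Free R M]
    (m : ℕ) (b : Module.Basis (Fin (2 * m + 1)) R M) (Q : QuadraticForm R M) :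
    IsUnit (QuadGrp.halfDisc b (LinearEquiv.refl R R) Q) ↔
      ∀ (p : Ideal R) [p.IsPrime],
        QuadraticMap.Nondegenerate (Q := QuadGrp.baseChangeForm p.ResidueField Q) := by
  rw [isUnit_iff_forall_residueField]
  refine forall_congr' fun p => forall_congr' fun _ => ?_
  rw [nondegenerate_iff (odd_two_mul_add_one m) (Algebra.TensorProduct.basis p.ResidueField b),
    halfDisc_baseChangeForm]

end Main

end Groth.Agent.Lib.Helper26.QuadND
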