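import Mathlib

set_option autoImplicit false
set_option linter.unusedSectionVars false
set_option linter.style.haveILetI false
universe u

namespace Groth.Agent.Lib.Helper26.RedP

/-- only finitely many prime numbers are zero divisors on a finite module over a Noetherian ring -/
theorem finite_primes_not_regular (A : Type u) [CommRing A] [IsNoetherianRing A]
    (C : Type u) [AddCommGroup C] [Module A C] [Module.Finite A C] :
    {p : ℕ | p.Prime ∧ ¬ IsSMulRegular C ((p : ℕ) : A)}.Finite := by
  have hfin : (associatedPrimes A C).Finite := associatedPrimes.finite A C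
  have hsub : {p : ℕ | p.Prime ∧ ¬ IsSMulRegular C ((p : ℕ) : A)} ⊆
      ⋃ q ∈ associatedPrimes A C, {p : ℕ | p.Prime ∧ ((p : ℕ) : A) ∈ q} := by
    rintro p ⟨hp, hreg⟩
    have h1 : ((p : ℕ) : A) ∈ {r : A | IsSMulRegular C r}ᶜ := hreg
    rw [← biUnion_associatedPrimes_eq_compl_regular A C] at h1
    simp only [Set.mem_iUnion, SetLike.mem_coe, exists_prop] at h1 ⊢
    obtain ⟨q, hq, hpq⟩ := h1
    exact ⟨q, hq, hp, hpq⟩
  refine Set.Finite.subset (Set.Finite.biUnion hfin fun q hq => ?_) hsub
  haveI : q.IsPrime := hq.isPrime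
  refine Set.Subsingleton.finite ?_
  rintro p ⟨hp, hpq⟩ p' ⟨hp', hp'q⟩
  by_contra hne
  have hcop : IsCoprime (p : ℤ) (p' : ℤ) :=
    Nat.isCoprime_iff_coprime.mpr ((Nat.coprime_primes hp hp').mpr hne)
  obtain ⟨a, b, hab⟩ := hcop
  have h1 : ((a * p + b * p' : ℤ) : A) = 1 := by rw [hab]; simp
  have h2 : ((a * p + b * p' : ℤ) : A) ∈ q := by
    push_cast
    exact q.add_mem (q.mul_mem_left _ hpq) (q.mul_mem_left _ hp'q)
  rw [h1] at h2
  exact ‹q.IsPrime›.ne_top ((Ideal.eq_top_iff_one q).mpr h2)

open TensorProduct in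
/-- an étale algebra over a domain is reduced -/
theorem isReduced_of_etale_domain (P : Type*) [CommRing P] [IsDomain P] (E : Type*) [CommRing E]
    [Algebra P E] [Algebra.Etale P E] : IsReduced E := by
  let F := FractionRing P
  haveI : Algebra.Etale F (F ⊗[P] E) := inferInstance
  haveI : Algebra.FormallyUnramified F (F ⊗[P] E) := inferInstance
  haveI : Algebra.EssFiniteType F (F ⊗[P] E) := inferInstance
  haveI : IsReduced (F ⊗[P] E) := Algebra.FormallyUnramified.isReduced_of_field F (F ⊗[P] E)
  haveI : Module.Flat P E := inferInstance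
  have hinj : Function.Injective (Algebra.TensorProduct.includeRight : E →ₐ[P] F ⊗[P] E) :=
    Algebra.TensorProduct.includeRight_injective (IsFractionRing.injective P F)
  exact isReduced_of_injective (Algebra.TensorProduct.includeRight : E →ₐ[P] F ⊗[P] E) hinj

/-- a smooth algebra over a field is reduced -/
theorem isReduced_of_smooth_field (k : Type*) [Field k] (B : Type*) [CommRing B] [Algebra k B]
    [Algebra.Smooth k B] : IsReduced B := by
  haveI : Algebra.FinitePresentation k B := Algebra.Smooth.finitePresentation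
  constructor
  intro x hx
  by_contra hx0
  let I : Ideal B := (Ideal.span {x}).annihilator
  have hI : I ≠ ⊤ := by
    intro h
    have h1 : (1 : B) ∈ I := h ▸ Submodule.mem_top
    rw [Submodule.mem_annihilator] at h1
    have := h1 x (Ideal.subset_span rfl)
    exact hx0 (by simpa using this)
  obtain ⟨q, hqmax, hIq⟩ := Ideal.exists_le_maximal I hI
  haveI := hqmax.isPrime
  have hsm : (⟨q, hqmax.isPrime⟩ : PrimeSpectrum B) ∈ Algebra.smoothLocus k B := by
    rw [Algebra.smoothLocus_eq_univ]; trivial
  haveI : Algebra.IsSmoothAt k q := hsm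
  obtain ⟨f, hfq, n, alg, htower, hstd⟩ :=
    Algebra.IsSmoothAt.exists_isStandardEtale_mvPolynomial (R := k) (S := B) (p := q)
  haveI : IsReduced (Localization.Away f) :=
    isReduced_of_etale_domain (MvPolynomial (Fin n) k) (Localization.Away f)
  have hx' : IsNilpotent (algebraMap B (Localization.Away f) x) := hx.map _
  have hzero : algebraMap B (Localization.Away f) x = 0 := hx'.eq_zero
  obtain ⟨⟨_, m, rfl⟩, hm⟩ :=
    (IsLocalization.map_eq_zero_iff (Submonoid.powers f) (Localization.Away f) x).mp hzero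
  have hmem : f ^ m ∈ I := by
    rw [Submodule.mem_annihilator]
    intro y hy
    obtain ⟨c, rfl⟩ := Ideal.mem_span_singleton'.mp hy
    simp only [smul_eq_mul] at hm ⊢
    calc f ^ m * (c * x) = c * (f ^ m * x) := by ring
      _ = 0 := by rw [hm, mul_zero]
  exact hfq (hqmax.isPrime.mem_of_pow_mem m (hIq hmem))

end Groth.Agent.Lib.Helper26.RedP
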