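import Mathlib

set_option autoImplicit false
set_option linter.unusedSectionVars false
set_option linter.style.haveILetI false
universe u
open CategoryTheory CategoryTheory.Limits Abelian

namespace Groth.Agent.Lib.Helper26.Refl

variable {S : Type u} [CommRing S]

theorem comp_zero_of_exact {M E T : Type u} [AddCommGroup M] [Module S M]
    [AddCommGroup E] [Module S E] [AddCommGroup T] [Module S T]
    (f : M →ₗ[S] E) (g : E →ₗ[S] T) (hfg : Function.Exact f g) :
    ModuleCat.ofHom f ≫ ModuleCat.ofHom g = 0 := by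
  ext x
  exact hfg.apply_apply_eq_zero x

/-- A short exact sequence of modules as a short exact short complex. -/
theorem shortExact_of {M E T : Type u} [AddCommGroup M] [Module S M]
    [AddCommGroup E] [Module S E] [AddCommGroup T] [Module S T]
    (f : M →ₗ[S] E) (g : E →ₗ[S] T) (hf : Function.Injective f) (hg : Function.Surjective g)
    (hfg : Function.Exact f g) :
    (ShortComplex.mk (ModuleCat.ofHom f) (ModuleCat.ofHom g)
      (comp_zero_of_exact f g hfg)).ShortExact := by
  refine ShortComplex.ShortExact.mk' ?_ ?_ ?_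
  · rw [ShortComplex.ShortExact.moduleCat_exact_iff_function_exact]
    exact hfg
  · exact (ModuleCat.mono_iff_injective _).mpr hf
  · exact (ModuleCat.epi_iff_surjective _).mpr hg

theorem subsingleton_ext_one_coker (Y : ModuleCat.{u} S)
    {M E T : Type u} [AddCommGroup M] [Module S M]
    [AddCommGroup E] [Module S E] [AddCommGroup T] [Module S T]
    (f : M →ₗ[S] E) (g : E →ₗ[S] T) (hf : Function.Injective f) (hg : Function.Surjective g)
    (hfg : Function.Exact f g)
    (hE : Subsingleton (Ext (ModuleCat.of S E) Y 1))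
    (hlift : ∀ φ : M →ₗ[S] Y, ∃ ψ : E →ₗ[S] Y, ψ.comp f = φ) :
    Subsingleton (Ext (ModuleCat.of S T) Y 1) := by
  have hS := shortExact_of f g hf hg hfg
  have key : ∀ x : Ext (ModuleCat.of S T) Y 1, x = 0 := by
    intro x
    obtain ⟨x₁, hx₁⟩ := Ext.contravariant_sequence_exact₃ hS Y x (Subsingleton.elim _ _)
      (show 1 + 0 = 1 from rfl)
    obtain ⟨φ, rfl⟩ := (Ext.mk₀_bijective _ _).2 x₁
    obtain ⟨ψ, hψ⟩ := hlift φ.hom
    have h1 : φ = ModuleCat.ofHom f ≫ ModuleCat.ofHom ψ := by
      ext m
      have := LinearMap.congr_fun hψ m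
      simpa using this.symm
    rw [← hx₁, h1, ← Ext.mk₀_comp_mk₀]
    exact hS.extClass_comp_assoc _
  exact ⟨fun x y => by rw [key x, key y]⟩

/-- If `Ext¹(T, S) = 0` and `a` is a nonzerodivisor of `S`, every linear map `T → S/aS` lifts
to `S`. -/
theorem exists_lift_of_ext_one (a : S) (ha : a ∈ nonZeroDivisors S)
    (T : Type u) [AddCommGroup T] [Module S T]
    (hT : Subsingleton (Ext (ModuleCat.of S T) (ModuleCat.of S S) 1))
    (g : T →ₗ[S] S ⧸ Ideal.span {a}) :
    ∃ g' : T →ₗ[S] S, (Submodule.mkQ (Ideal.span {a})).comp g' = g := by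
  have hinj : Function.Injective (LinearMap.toSpanSingleton S S a) := by
    intro x y hxy
    have h1 : x * a = y * a := by simpa [LinearMap.toSpanSingleton_apply] using hxy
    exact (mul_cancel_right_mem_nonZeroDivisors ha).mp h1
  have hex : Function.Exact (LinearMap.toSpanSingleton S S a)
      (Submodule.mkQ (Ideal.span {a})) := by
    intro x
    rw [Submodule.mkQ_apply, Submodule.Quotient.mk_eq_zero, Ideal.mem_span_singleton']
    simp [LinearMap.toSpanSingleton_apply, eq_comm]
  have hS := shortExact_of _ _ hinj (Submodule.mkQ_surjective _) hex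
  obtain ⟨x₂, hx₂⟩ := Ext.covariant_sequence_exact₃ (ModuleCat.of S T) hS
    (Ext.mk₀ (ModuleCat.ofHom g)) (show 0 + 1 = 1 from rfl) (Subsingleton.elim _ _)
  obtain ⟨φ, rfl⟩ := (Ext.mk₀_bijective _ _).2 x₂
  refine ⟨φ.hom, ?_⟩
  rw [Ext.mk₀_comp_mk₀] at hx₂
  have h2 := (Ext.mk₀_bijective _ _).1 hx₂
  ext t
  have := congrArg (fun k => k.hom t) h2
  simpa using this

end Groth.Agent.Lib.Helper26.Refl
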