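import Groth.Agent.Lib.Helper26.Refl3
import Groth.Agent.Lib.Helper26.Refl2

set_option autoImplicit false
set_option linter.unusedSectionVars false
set_option linter.style.haveILetI false
universe u
open CategoryTheory CategoryTheory.Limits Abelian

namespace Groth.Agent.Lib.Helper26.RkOne

/-- In a reduced Noetherian ring a minimal prime is killed by an element outside it. -/
theorem exists_kill_minimal (S : Type u) [CommRing S] [IsNoetherianRing S] [IsReduced S]
    (p : Ideal S) (hp : p ∈ minimalPrimes S) : ∃ y ∉ p, ∀ a ∈ p, y * a = 0 := by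
  classical
  have hfin : (minimalPrimes S).Finite := minimalPrimes.finite_of_isNoetherianRing S
  set F : Finset (Ideal S) := hfin.toFinset.erase p with hF
  haveI : p.IsPrime := hp.1.1
  have hJ : ¬ (F.inf id ≤ p) := by
    intro hle
    obtain ⟨q, hq, hqp⟩ := (Ideal.IsPrime.inf_le' ‹p.IsPrime›).mp hle
    rw [hF, Finset.mem_erase, Set.Finite.mem_toFinset] at hq
    have : p ≤ q := hp.2 ⟨hq.2.1.1, bot_le⟩ hqp
    exact hq.1 (le_antisymm hqp this)
  obtain ⟨y, hyJ, hyp⟩ := SetLike.not_le_iff_exists.mp hJ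
  refine ⟨y, hyp, fun a ha => ?_⟩
  have hnil : y * a ∈ sInf (minimalPrimes S) := by
    rw [Ideal.mem_sInf]
    intro q hq
    by_cases hqp : q = p
    · rw [hqp]; exact Ideal.mul_mem_left _ _ ha
    · have hqF : q ∈ F := by
        rw [hF, Finset.mem_erase, Set.Finite.mem_toFinset]
        exact ⟨hqp, hq⟩
      have : y ∈ q := by
        have := Finset.inf_le (f := id) hqF
        exact this hyJ
      exact Ideal.mul_mem_right _ _ this
  rw [minimalPrimes, Ideal.sInf_minimalPrimes] at hnil
  have : IsNilpotent (y * a) := by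
    rw [← mem_nilradical]
    simpa [nilradical] using hnil
  exact this.eq_zero

/-- An ideal contained in no minimal prime of a reduced Noetherian ring contains a non-zero-divisor
lying in no minimal prime. -/
theorem exists_nzd_mem (S : Type u) [CommRing S] [IsNoetherianRing S] [IsReduced S]
    (τ : Ideal S) (hτ : ∀ p ∈ minimalPrimes S, ¬ τ ≤ p) :
    ∃ x ∈ τ, (∀ p ∈ minimalPrimes S, x ∉ p) ∧ x ∈ nonZeroDivisors S := by
  classical
  have hfin : (minimalPrimes S).Finite := minimalPrimes.finite_of_isNoetherianRing S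
  have hnot : ¬ ((τ : Set S) ⊆ ⋃ p ∈ (↑hfin.toFinset : Set (Ideal S)), ((id p : Ideal S) : Set S)) := by
    intro hsub
    have hpr : ∀ i ∈ hfin.toFinset, i ≠ (⊥ : Ideal S) → i ≠ (⊥ : Ideal S) →
        Ideal.IsPrime (id i : Ideal S) := by
      intro i hi _ _
      rw [Set.Finite.mem_toFinset] at hi
      exact hi.1.1
    obtain ⟨p, hp, hle⟩ := (Ideal.subset_union_prime (R := S) (f := id) ⊥ ⊥ hpr).mp hsub
    rw [Set.Finite.mem_toFinset] at hp
    exact hτ p hp hle
  obtain ⟨x, hxτ, hx⟩ := Set.not_subset.mp hnot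
  have hxmin : ∀ p ∈ minimalPrimes S, x ∉ p := by
    intro p hp hxp
    apply hx
    simp only [Set.mem_iUnion, SetLike.mem_coe, exists_prop, Finset.mem_coe]
    exact ⟨p, by rw [Set.Finite.mem_toFinset]; exact hp, hxp⟩
  refine ⟨x, hxτ, hxmin, ?_⟩
  rw [mem_nonZeroDivisors_iff_right]
  intro z hz
  have hnil : z ∈ sInf (minimalPrimes S) := by
    rw [Ideal.mem_sInf]
    intro q hq
    haveI : q.IsPrime := hq.1.1
    have : z * x ∈ q := by rw [hz]; exact q.zero_mem
    exact (Ideal.IsPrime.mem_or_mem ‹_› this).resolve_right (hxmin q hq)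
  rw [minimalPrimes, Ideal.sInf_minimalPrimes] at hnil
  have : IsNilpotent z := by
    rw [← mem_nilradical]
    simpa [nilradical] using hnil
  exact this.eq_zero

end Groth.Agent.Lib.Helper26.RkOne
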