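import Groth.Agent.Lib.Helper26.RedP1
import Groth.Agent.Lib.Helper26.RkOne1

set_option autoImplicit false
set_option linter.unusedSectionVars false
set_option linter.style.haveILetI false
universe u

namespace Groth.Agent.Lib.Helper26.RedP

theorem mem_smoothLocus_of_minimal (A : Type u) [CommRing A] [Algebra.FiniteType ℤ A] [IsReduced A]
    (hreg : ∀ ℓ : ℕ, ℓ.Prime → ((ℓ : ℕ) : A) ∈ nonZeroDivisors A)
    (Q : Ideal A) (hQ : Q ∈ minimalPrimes A) :
    (⟨Q, hQ.1.1⟩ : PrimeSpectrum A) ∈ Algebra.smoothLocus ℤ A := by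
  haveI := hQ.1.1
  haveI : Ring.KrullDimLE 0 (Localization.AtPrime Q) := .of_isLocalization _ hQ _
  letI : Field (Localization.AtPrime Q) := Ring.KrullDimLE.isField_of_isReduced.toField
  have hprime : ∀ ℓ : ℕ, ℓ.Prime → ((ℓ : ℕ) : Localization.AtPrime Q) ≠ 0 := by
    intro ℓ hℓ h0
    have h1 : algebraMap A (Localization.AtPrime Q) ((ℓ : ℕ) : A) = 0 := by
      rw [map_natCast]; exact h0
    obtain ⟨⟨s, hs⟩, hs0⟩ :=
      (IsLocalization.map_eq_zero_iff Q.primeCompl (Localization.AtPrime Q) _).mp h1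
    have : s = 0 := (mem_nonZeroDivisors_iff_right.mp (hreg ℓ hℓ)) s hs0
    exact hs (this ▸ Q.zero_mem)
  haveI : CharZero (Localization.AtPrime Q) := by
    obtain ⟨c, hc⟩ := CharP.exists (Localization.AtPrime Q)
    rcases CharP.char_is_prime_or_zero (Localization.AtPrime Q) c with h | h
    · exact absurd (CharP.cast_eq_zero (Localization.AtPrime Q) c) (hprime c h)
    · subst h
      exact CharP.charP_to_charZero _
  letI : Algebra ℚ (Localization.AtPrime Q) := DivisionRing.toRatAlgebra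
  haveI : Algebra.EssFiniteType ℤ (Localization.AtPrime Q) :=
    Algebra.EssFiniteType.comp ℤ A (Localization.AtPrime Q)
  haveI : @IsScalarTower ℤ ℚ (Localization.AtPrime Q) Algebra.toSMul Algebra.toSMul
      Algebra.toSMul :=
    @IsScalarTower.of_algebraMap_eq' ℤ ℚ (Localization.AtPrime Q) _ _ _ _ _ _
      (RingHom.ext_int _ _)
  haveI : Algebra.EssFiniteType ℚ (Localization.AtPrime Q) :=
    Algebra.EssFiniteType.of_comp ℤ ℚ (Localization.AtPrime Q)
  haveI : Algebra.FormallySmooth ℚ (Localization.AtPrime Q) := inferInstance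
  haveI : Algebra.FormallyEtale ℤ ℚ := Algebra.FormallyEtale.of_isLocalization (nonZeroDivisors ℤ)
  have : Algebra.FormallySmooth ℤ (Localization.AtPrime Q) :=
    Algebra.FormallySmooth.comp ℤ ℚ (Localization.AtPrime Q)
  exact this

end Groth.Agent.Lib.Helper26.RedP
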