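import Groth.Agent.Lib.Helper26.RedP2

set_option autoImplicit false
set_option linter.unusedSectionVars false
set_option linter.style.haveILetI false
universe u

namespace Groth.Agent.Lib.Helper26.RedP

theorem exists_nzd_smooth (A : Type u) [CommRing A] [Algebra.FiniteType ℤ A] [IsReduced A]
    (hreg : ∀ ℓ : ℕ, ℓ.Prime → ((ℓ : ℕ) : A) ∈ nonZeroDivisors A) :
    ∃ h ∈ nonZeroDivisors A, Algebra.Smooth ℤ (Localization.Away h) := by
  haveI : IsNoetherianRing A := Algebra.FiniteType.isNoetherianRing ℤ A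
  haveI : Algebra.FinitePresentation ℤ A := Algebra.FinitePresentation.of_finiteType.mp inferInstance
  have hopen : IsOpen (Algebra.smoothLocus ℤ A) := Algebra.isOpen_smoothLocus
  obtain ⟨I, hI⟩ := (PrimeSpectrum.isClosed_iff_zeroLocus_ideal _).mp hopen.isClosed_compl
  have hmin : ∀ Q ∈ minimalPrimes A, ¬ I ≤ Q := by
    intro Q hQ hle
    have h1 := mem_smoothLocus_of_minimal A hreg Q hQ
    have h2 : (⟨Q, hQ.1.1⟩ : PrimeSpectrum A) ∈ (Algebra.smoothLocus ℤ A)ᶜ := by
      rw [hI, PrimeSpectrum.mem_zeroLocus]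
      exact hle
    exact h2 h1
  obtain ⟨h, hhI, -, hnzd⟩ := RkOne.exists_nzd_mem A I hmin
  refine ⟨h, hnzd, ?_⟩
  rw [← Algebra.basicOpen_subset_smoothLocus_iff_smooth]
  intro x hx
  by_contra hxU
  have h2 : x ∈ (Algebra.smoothLocus ℤ A)ᶜ := hxU
  rw [hI, PrimeSpectrum.mem_zeroLocus] at h2
  exact hx (h2 hhI)

end Groth.Agent.Lib.Helper26.RedP
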