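import Groth.Agent.Lib.Helper26.RedP3

set_option autoImplicit false
set_option linter.unusedSectionVars false
set_option linter.style.haveILetI false
universe u

namespace Groth.Agent.Lib.Helper26.RedP

open TensorProduct

/-- reduction mod `p` of a smooth `ℤ`-algebra is reduced -/
theorem isReduced_quotient_of_smooth (E : Type u) [CommRing E] [Algebra.Smooth ℤ E]
    (p : ℕ) (hp : p.Prime) : IsReduced (E ⧸ Ideal.span {((p : ℕ) : E)}) := by
  have hmax : (Ideal.span {(p : ℤ)}).IsMaximal :=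
    PrincipalIdealRing.isMaximal_of_irreducible (Nat.prime_iff_prime_int.mp hp).irreducible
  letI : Field (ℤ ⧸ Ideal.span {(p : ℤ)}) := Ideal.Quotient.field _
  haveI : Algebra.Smooth (ℤ ⧸ Ideal.span {(p : ℤ)}) ((ℤ ⧸ Ideal.span {(p : ℤ)}) ⊗[ℤ] E) :=
    inferInstance
  haveI : IsReduced ((ℤ ⧸ Ideal.span {(p : ℤ)}) ⊗[ℤ] E) :=
    isReduced_of_smooth_field (ℤ ⧸ Ideal.span {(p : ℤ)}) _
  let e1 := Algebra.TensorProduct.quotIdealMapEquivTensorQuot E (Ideal.span {(p : ℤ)})
  let e2 := Algebra.TensorProduct.comm ℤ E (ℤ ⧸ Ideal.span {(p : ℤ)})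
  have hred : IsReduced (E ⧸ (Ideal.span {(p : ℤ)}).map (algebraMap ℤ E)) :=
    isReduced_of_injective (e2.toRingEquiv.toRingHom.comp e1.toRingEquiv.toRingHom)
      (e2.injective.comp e1.injective)
  have hmap : (Ideal.span {(p : ℤ)}).map (algebraMap ℤ E) = Ideal.span {((p : ℕ) : E)} := by
    rw [Ideal.map_span, Set.image_singleton]
    simp
  rw [hmap] at hred
  exact hred

/-- if `p` is regular on `A / h` and `h` is a non-zero-divisor then `h` is regular modulo `p` -/
theorem mem_span_of_mul_mem (A : Type u) [CommRing A] (h : A) (hnzd : h ∈ nonZeroDivisors A)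
    (p : A) (hpreg : IsSMulRegular (A ⧸ Ideal.span {h}) p) (x : A)
    (hx : h * x ∈ Ideal.span {p}) : x ∈ Ideal.span {p} := by
  obtain ⟨z, hz⟩ := Ideal.mem_span_singleton'.mp hx
  have h1 : p • (Ideal.Quotient.mk (Ideal.span {h}) z) = p • 0 := by
    rw [smul_zero, Algebra.smul_def, Ideal.Quotient.algebraMap_eq, ← map_mul,
      Ideal.Quotient.eq_zero_iff_mem, mul_comm, hz]
    exact Ideal.mul_mem_right _ _ (Ideal.subset_span rfl)
  have h2 := hpreg h1
  rw [Ideal.Quotient.eq_zero_iff_mem] at h2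
  obtain ⟨z', hz'⟩ := Ideal.mem_span_singleton'.mp h2
  have h3 : (x - z' * p) * h = 0 := by
    have : z * p = h * x := hz
    rw [← hz'] at this
    linear_combination -this
  have h4 := mem_nonZeroDivisors_iff_right.mp hnzd _ h3
  rw [Ideal.mem_span_singleton']
  exact ⟨z', (sub_eq_zero.mp h4).symm⟩

theorem mem_span_of_pow_mul_mem (A : Type u) [CommRing A] (h : A) (hnzd : h ∈ nonZeroDivisors A)
    (p : A) (hpreg : IsSMulRegular (A ⧸ Ideal.span {h}) p) (n : ℕ) (x : A)
    (hx : h ^ n * x ∈ Ideal.span {p}) : x ∈ Ideal.span {p} := by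
  induction n with
  | zero => simpa using hx
  | succ n ih =>
    apply ih
    apply mem_span_of_mul_mem A h hnzd p hpreg
    rw [← mul_assoc, ← pow_succ']
    exact hx

theorem isRadical_of_away (A : Type u) [CommRing A] (t p : A)
    (hrad : (Ideal.span {algebraMap A (Localization.Away t) p}).IsRadical)
    (hcancel : ∀ (n : ℕ) (x : A), t ^ n * x ∈ Ideal.span {p} → x ∈ Ideal.span {p}) :
    (Ideal.span {p}).IsRadical := by
  intro x ⟨n, hxn⟩
  have h1 : algebraMap A (Localization.Away t) x ∈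
      Ideal.span {algebraMap A (Localization.Away t) p} := by
    apply hrad
    refine ⟨n, ?_⟩
    obtain ⟨c, hc⟩ := Ideal.mem_span_singleton'.mp hxn
    rw [← map_pow, ← hc, map_mul]
    exact Ideal.mul_mem_left _ _ (Ideal.subset_span rfl)
  obtain ⟨z, hz⟩ := Ideal.mem_span_singleton'.mp h1
  obtain ⟨⟨a, ⟨_, j, rfl⟩⟩, ha⟩ := IsLocalization.surj (Submonoid.powers t) z
  simp only at ha
  have h2 : algebraMap A (Localization.Away t) (x * t ^ j) =
      algebraMap A (Localization.Away t) (a * p) := by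
    rw [map_mul, map_mul, ← hz, ← ha]
    ring
  obtain ⟨⟨_, i, rfl⟩, hc⟩ := (IsLocalization.eq_iff_exists (Submonoid.powers t) _).mp h2
  simp only at hc
  apply hcancel (i + j) x
  rw [Ideal.mem_span_singleton']
  refine ⟨t ^ i * a, ?_⟩
  rw [pow_add]
  linear_combination -hc

theorem finite_not_reduced_of_reg (A : Type u) [CommRing A] [Algebra.FiniteType ℤ A] [IsReduced A]
    (hreg : ∀ ℓ : ℕ, ℓ.Prime → ((ℓ : ℕ) : A) ∈ nonZeroDivisors A) :
    {p : ℕ | p.Prime ∧ ¬ IsReduced (A ⧸ Ideal.span {((p : ℕ) : A)})}.Finite := by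
  haveI : IsNoetherianRing A := Algebra.FiniteType.isNoetherianRing ℤ A
  obtain ⟨h, hnzd, hsmooth⟩ := exists_nzd_smooth A hreg
  refine Set.Finite.subset (finite_primes_not_regular A (A ⧸ Ideal.span {h})) ?_
  rintro p ⟨hp, hnr⟩
  refine ⟨hp, fun hpreg => hnr ?_⟩
  have hsm' : @Algebra.Smooth ℤ _ (Localization.Away h) _ (Ring.toIntAlgebra _) := by
    convert hsmooth
    exact Subsingleton.elim _ _
  haveI := hsm'
  have hE := isReduced_quotient_of_smooth (Localization.Away h) p hp
  rw [← Ideal.isRadical_iff_quotient_reduced] at hE ⊢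
  refine isRadical_of_away A h _ ?_ (mem_span_of_pow_mul_mem A h hnzd _ hpreg)
  rw [map_natCast]
  exact hE

end Groth.Agent.Lib.Helper26.RedP
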