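import Groth.Agent.Lib.Helper26.RedP4

set_option autoImplicit false
set_option linter.unusedSectionVars false
set_option linter.style.haveILetI false
universe u

namespace Groth.Agent.Lib.Helper26.RedP

theorem main (A : Type u) [CommRing A] [Algebra.FiniteType ℤ A] [IsReduced A] :
    {p : ℕ | p.Prime ∧ ¬ IsReduced (A ⧸ Ideal.span {((p : ℕ) : A)})}.Finite := by
  classical
  haveI : IsNoetherianRing A := Algebra.FiniteType.isNoetherianRing ℤ A
  have hT₀ : {ℓ : ℕ | ℓ.Prime ∧ ¬ IsSMulRegular A ((ℓ : ℕ) : A)}.Finite :=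
    finite_primes_not_regular A A
  set N : ℕ := ∏ ℓ ∈ hT₀.toFinset, ℓ with hN
  set A' := Localization.Away ((N : ℕ) : A) with hA'
  haveI hft : @Algebra.FiniteType ℤ A' _ _ (Ring.toIntAlgebra A') := by
    have h1 : Algebra.FiniteType A A' := inferInstance
    have h2 := Algebra.FiniteType.trans (inferInstance : Algebra.FiniteType ℤ A) h1
    convert h2
    · rfl
    · exact Subsingleton.elim _ _
  have hreg' : ∀ ℓ : ℕ, ℓ.Prime → ((ℓ : ℕ) : A') ∈ nonZeroDivisors A' := by
    intro ℓ hℓ
    by_cases hmem : ℓ ∈ hT₀.toFinset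
    · have hdvd : ℓ ∣ N := Finset.dvd_prod_of_mem (fun ℓ => ℓ) hmem
      have hunit : IsUnit (algebraMap A A' ((N : ℕ) : A)) :=
        IsLocalization.Away.algebraMap_isUnit _
      rw [map_natCast] at hunit
      have hdvd' : ((ℓ : ℕ) : A') ∣ ((N : ℕ) : A') := by
        obtain ⟨c, hc⟩ := hdvd
        refine ⟨(c : A'), ?_⟩
        have := congrArg (fun n : ℕ => (n : A')) hc
        simpa using this
      exact (isUnit_of_dvd_unit hdvd' hunit).mem_nonZeroDivisors
    · rw [Set.Finite.mem_toFinset] at hmem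
      have hregA : IsSMulRegular A ((ℓ : ℕ) : A) := by
        by_contra h
        exact hmem ⟨hℓ, h⟩
      have h1 : ((ℓ : ℕ) : A) ∈ nonZeroDivisors A := by
        rw [mem_nonZeroDivisors_iff_left]
        intro x hx
        exact hregA (by simpa using hx)
      have h2 := IsLocalization.map_nonZeroDivisors_le (Submonoid.powers ((N : ℕ) : A)) A'
        (Submonoid.mem_map_of_mem _ h1)
      simpa using h2
  have hfin := finite_not_reduced_of_reg A' hreg'
  refine Set.Finite.subset (hT₀.union hfin) ?_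
  rintro p ⟨hp, hnr⟩
  by_cases hmem : p ∈ hT₀.toFinset
  · left
    exact (Set.Finite.mem_toFinset hT₀).mp hmem
  · right
    refine ⟨hp, fun hred => hnr ?_⟩
    rw [← Ideal.isRadical_iff_quotient_reduced] at hred ⊢
    refine isRadical_of_away A ((N : ℕ) : A) _ ?_ ?_
    · rw [map_natCast]
      exact hred
    · intro n x hx
      -- `N ^ n` and `p` are coprime
      have hcop : Nat.Coprime (N ^ n) p := by
        apply Nat.Coprime.pow_left
        rw [Nat.coprime_comm, hN]
        apply Nat.Coprime.prod_right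
        intro ℓ hℓ
        have hℓ' := (Set.Finite.mem_toFinset hT₀).mp hℓ
        rw [Nat.coprime_primes hp hℓ'.1]
        rintro rfl
        exact hmem hℓ
      obtain ⟨a, b, hab⟩ := Nat.isCoprime_iff_coprime.mpr hcop
      have h1 : ((a * (N ^ n : ℕ) + b * p : ℤ) : A) = 1 := by rw [hab]; simp
      have h2 : x = ((a : ℤ) : A) * (((N : ℕ) : A) ^ n * x) + ((b : ℤ) : A) * x * ((p : ℕ) : A) := by
        have : x = ((a * (N ^ n : ℕ) + b * p : ℤ) : A) * x := by rw [h1, one_mul]
        conv_lhs => rw [this]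
        push_cast
        ring
      rw [h2]
      exact Ideal.add_mem _ (Ideal.mul_mem_left _ _ hx)
        (Ideal.mul_mem_left _ _ (Ideal.subset_span rfl))

end Groth.Agent.Lib.Helper26.RedP
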