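import Mathlib

set_option autoImplicit false
set_option linter.unusedSectionVars false
set_option linter.style.haveILetI false
universe u

namespace Groth.Agent.Lib.Helper26.Refl

open scoped nonZeroDivisors

theorem semisimple_loc (Λ : Type u) [CommRing Λ] [IsDomain Λ]
    (S : Type u) [CommRing S] [Algebra Λ S] [Module.Finite Λ S] [IsReduced S] :
    IsSemisimpleRing (Localization (Algebra.algebraMapSubmonoid S Λ⁰)) := by
  haveI : IsArtinianRing (Localization (Algebra.algebraMapSubmonoid S Λ⁰)) :=
    IsArtinianRing.of_finite (FractionRing Λ) _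
  exact IsArtinianRing.isSemisimpleRing_of_isReduced _

theorem noeth (Λ : Type u) [CommRing Λ] [IsNoetherianRing Λ]
    (S : Type u) [CommRing S] [Algebra Λ S] [Module.Finite Λ S] : IsNoetherianRing S := by
  haveI : IsNoetherian Λ S := isNoetherian_of_isNoetherianRing_of_finite Λ S
  exact isNoetherian_of_tower Λ inferInstance

theorem mk_injective (Λ : Type u) [CommRing Λ] [IsDomain Λ]
    (S : Type u) [CommRing S] [Algebra Λ S]
    (M : Type u) [AddCommGroup M] [Module S M] [Module Λ M] [IsScalarTower Λ S M]
    [Module.Free Λ M] :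
    Function.Injective (LocalizedModule.mkLinearMap (Algebra.algebraMapSubmonoid S Λ⁰) M) := by
  rw [injective_iff_map_eq_zero]
  intro m hm
  rw [IsLocalizedModule.eq_zero_iff (Algebra.algebraMapSubmonoid S Λ⁰)] at hm
  obtain ⟨⟨c, l, hl, rfl⟩, hc⟩ := hm
  have h2 : l • m = 0 := by
    rw [← algebraMap_smul S l m]; exact hc
  have hl0 : l ≠ 0 := nonZeroDivisors.ne_zero hl
  exact (smul_eq_zero.mp h2).resolve_left hl0

/-- Key lemma: a finitely generated `S`-module that is `Λ`-free is a retract of a finite free
`S`-module up to a nonzero scalar of `Λ`. -/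
theorem exists_split (Λ : Type u) [CommRing Λ] [IsDomain Λ] [IsPrincipalIdealRing Λ]
    (S : Type u) [CommRing S] [Algebra Λ S] [Module.Finite Λ S] [IsReduced S]
    (M : Type u) [AddCommGroup M] [Module S M] [Module Λ M] [IsScalarTower Λ S M]
    [Module.Finite S M] [Module.Free Λ M] :
    ∃ (n : ℕ) (q : (Fin n → S) →ₗ[S] M) (j : M →ₗ[S] (Fin n → S)) (l : Λ),
      l ≠ 0 ∧ ∀ m, q (j m) = l • m := by
  haveI := noeth Λ S
  haveI := semisimple_loc Λ S
  obtain ⟨n, q, hq⟩ := Module.Finite.exists_fin' S M
  set T := Algebra.algebraMapSubmonoid S Λ⁰ with hT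
  let q' : LocalizedModule T (Fin n → S) →ₗ[Localization T] LocalizedModule T M :=
    LocalizedModule.map T q
  have hq' : Function.Surjective q' := LocalizedModule.map_surjective T q hq
  haveI : Module.Projective (Localization T) (LocalizedModule T M) :=
    Module.projective_of_isSemisimpleRing _ _
  obtain ⟨σ, hσ⟩ := Module.projective_lifting_property q' LinearMap.id hq'
  haveI : Module.FinitePresentation S M := Module.finitePresentation_of_finite S M
  obtain ⟨h, s, hs⟩ := Module.FinitePresentation.exists_lift_of_isLocalizedModule T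
    (LocalizedModule.mkLinearMap T (Fin n → S))
    ((σ.restrictScalars S).comp (LocalizedModule.mkLinearMap T M))
  obtain ⟨s, l, hl, rfl⟩ := s
  refine ⟨n, q, h, l, nonZeroDivisors.ne_zero hl, fun m => ?_⟩
  apply mk_injective Λ S M
  set s : T := ⟨algebraMap Λ S l, l, hl, rfl⟩ with hsdef
  have h1 := LinearMap.congr_fun hs m
  have h2 : LocalizedModule.mkLinearMap T M (q (h m)) =
      LocalizedModule.map T q (LocalizedModule.mkLinearMap T (Fin n → S) (h m)) := by
    simp [LocalizedModule.mkLinearMap_apply, LocalizedModule.map_mk]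
  rw [h2]
  have h3 : LocalizedModule.mkLinearMap T (Fin n → S) (h m) =
      (s : S) • σ (LocalizedModule.mkLinearMap T M m) := by
    rw [← Submonoid.smul_def]; exact h1
  rw [h3]
  have h4 : (s : S) • σ (LocalizedModule.mkLinearMap T M m) =
      (algebraMap S (Localization T) s) • σ (LocalizedModule.mkLinearMap T M m) :=
    (algebraMap_smul (Localization T) (s : S) _).symm
  rw [h4, map_smul, algebraMap_smul, ← algebraMap_smul S l m, map_smul]
  congr 1
  exact LinearMap.congr_fun hσ _

/-- `Λ`-free finitely generated `S`-modules are torsionless. -/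
theorem torsionless_of_free (Λ : Type u) [CommRing Λ] [IsDomain Λ] [IsPrincipalIdealRing Λ]
    (S : Type u) [CommRing S] [Algebra Λ S] [Module.Finite Λ S] [IsReduced S]
    (M : Type u) [AddCommGroup M] [Module S M] [Module Λ M] [IsScalarTower Λ S M]
    [Module.Finite S M] [Module.Free Λ M] :
    Function.Injective (Module.Dual.eval S M) := by
  obtain ⟨n, q, j, l, hl, hqj⟩ := exists_split Λ S M
  rw [injective_iff_map_eq_zero]
  intro x hx
  have hj : j x = 0 := by
    funext i
    have := LinearMap.congr_fun hx ((LinearMap.proj i).comp j)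
    simpa using this
  have h1 : l • x = 0 := by rw [← hqj, hj, map_zero]
  exact (smul_eq_zero.mp h1).resolve_left hl

/-- The cokernel of `M → M**` is killed by a nonzero scalar of `Λ`. -/
theorem exists_smul_eq_eval (Λ : Type u) [CommRing Λ] [IsDomain Λ] [IsPrincipalIdealRing Λ]
    (S : Type u) [CommRing S] [Algebra Λ S] [Module.Finite Λ S] [IsReduced S]
    (M : Type u) [AddCommGroup M] [Module S M] [Module Λ M] [IsScalarTower Λ S M]
    [Module.Finite S M] [Module.Free Λ M] :
    ∃ l : Λ, l ≠ 0 ∧ ∀ y : Module.Dual S (Module.Dual S M),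
      ∃ x : M, Module.Dual.eval S M x = (algebraMap Λ S l) • y := by
  obtain ⟨n, q, j, l, hl, hqj⟩ := exists_split Λ S M
  refine ⟨l, hl, fun y => ?_⟩
  classical
  refine ⟨∑ i, y ((LinearMap.proj i).comp j) • q (Pi.single i 1), ?_⟩
  ext ψ
  have key : (algebraMap Λ S l) • ψ =
      ∑ i, ψ (q (Pi.single i 1)) • ((LinearMap.proj i : (Fin n → S) →ₗ[S] S).comp j) := by
    ext m
    have h1 : ψ (q (j m)) = ∑ i, (j m) i • ψ (q (Pi.single i 1)) := by
      have h0 := LinearMap.pi_apply_eq_sum_univ (ψ.comp q) (j m)
      have h00 : ∀ x : Fin n, (fun j => if x = j then (1 : S) else 0) = Pi.single x 1 := by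
        intro x; funext j; simp [Pi.single_apply, eq_comm]
      simp only [h00] at h0
      simpa using h0
    rw [LinearMap.smul_apply, LinearMap.sum_apply]
    simp only [LinearMap.smul_apply, LinearMap.comp_apply, LinearMap.proj_apply]
    rw [hqj, ← algebraMap_smul S l m, map_smul] at h1
    rw [h1]
    exact Finset.sum_congr rfl fun i _ => mul_comm _ _
  rw [Module.Dual.eval_apply, LinearMap.smul_apply, ← map_smul, key, map_sum, map_sum]
  refine Finset.sum_congr rfl fun i _ => ?_
  rw [map_smul, map_smul, smul_eq_mul, smul_eq_mul, mul_comm]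

theorem free_of_torsionless (Λ : Type u) [CommRing Λ] [IsDomain Λ] [IsPrincipalIdealRing Λ]
    (S : Type u) [CommRing S] [Algebra Λ S] [Module.Finite Λ S] [Module.Free Λ S]
    (M : Type u) [AddCommGroup M] [Module S M] [Module Λ M] [IsScalarTower Λ S M]
    [Module.Finite S M] (hM : Function.Injective (Module.Dual.eval S M)) :
    Module.Free Λ M := by
  haveI : Module.Finite Λ M := Module.Finite.trans S M
  rw [Module.free_iff_isTorsionFree]
  refine Function.Injective.moduleIsTorsionFree
    (N := Module.Dual S M → S) (fun m ψ => ψ m) ?_ ?_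
  · intro a b hab
    apply hM
    ext ψ
    exact congrFun hab ψ
  · intro r m
    funext ψ
    show ψ (r • m) = r • ψ m
    rw [← algebraMap_smul S r m, map_smul, algebraMap_smul]

end Groth.Agent.Lib.Helper26.Refl
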