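import Mathlib

set_option autoImplicit false
set_option linter.unusedSectionVars false
set_option linter.style.haveILetI false
universe u

namespace Groth.Agent.Lib.Helper26.Refl

/-- A maximal ideal `m ⊇ I`, when all primes over `I` are maximal, is the annihilator of an element
of `S ⧸ I`: so `S ⧸ m` embeds in `S ⧸ I`. -/
theorem exists_injective_quot (S : Type u) [CommRing S] [IsNoetherianRing S] (I : Ideal S)
    (hI : ∀ p : Ideal S, p.IsPrime → I ≤ p → p.IsMaximal)
    (m : Ideal S) (hm : m.IsMaximal) (hIm : I ≤ m) :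
    ∃ ι : (S ⧸ m) →ₗ[S] (S ⧸ I), Function.Injective ι := by
  have h1 : m ∈ (Module.annihilator S (S ⧸ I)).minimalPrimes := by
    rw [Ideal.annihilator_quotient]
    refine ⟨⟨hm.isPrime, hIm⟩, fun p hp hpm => ?_⟩
    have hpmax := hI p hp.1 hp.2
    exact (hpmax.eq_of_le hm.ne_top hpm).ge
  have h2 := Module.associatedPrimes.minimalPrimes_annihilator_subset_associatedPrimes S (S ⧸ I) h1
  obtain ⟨-, x, hx⟩ := (isAssociatedPrime_iff).mp h2
  have hker : LinearMap.ker (LinearMap.toSpanSingleton S (S ⧸ I) x) = m := by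
    ext r
    rw [hx, LinearMap.mem_ker, LinearMap.toSpanSingleton_apply, Submodule.mem_colon_singleton,
      Submodule.mem_bot]
  refine ⟨Submodule.liftQ m (LinearMap.toSpanSingleton S (S ⧸ I) x) hker.ge, ?_⟩
  rw [← LinearMap.ker_eq_bot, Submodule.ker_liftQ, hker]
  exact Submodule.mkQ_map_self m

theorem exists_ne_zero_dual_quot (S : Type u) [CommRing S] [IsNoetherianRing S] (I : Ideal S)
    (hI : ∀ p : Ideal S, p.IsPrime → I ≤ p → p.IsMaximal)
    (T : Type u) [AddCommGroup T] [Module S T] [Module.Finite S T] [Nontrivial T]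
    (hIT : ∀ a ∈ I, ∀ t : T, a • t = 0) :
    ∃ φ : T →ₗ[S] S ⧸ I, φ ≠ 0 := by
  have hann : Module.annihilator S T ≠ ⊤ := by
    intro h
    have h1 : (1 : S) ∈ Module.annihilator S T := h ▸ Submodule.mem_top
    rw [Module.mem_annihilator] at h1
    obtain ⟨t, ht⟩ := exists_ne (0 : T)
    exact ht (by simpa using h1 t)
  obtain ⟨m, hm, hle⟩ := Ideal.exists_le_maximal _ hann
  have hIm : I ≤ m := fun a ha => hle (Module.mem_annihilator.mpr (hIT a ha))
  have hmT : m • (⊤ : Submodule S T) ≠ ⊤ := by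
    intro h
    obtain ⟨r, hr1, hr2⟩ := Submodule.exists_sub_one_mem_and_smul_eq_zero_of_fg_of_le_smul m
      (⊤ : Submodule S T) (Module.finite_def.mp inferInstance) h.ge
    have hr : r ∈ m := hle (Module.mem_annihilator.mpr fun t => hr2 t Submodule.mem_top)
    apply hm.ne_top
    rw [Ideal.eq_top_iff_one]
    have := m.sub_mem hr hr1
    simpa using this
  obtain ⟨t, ht⟩ : ∃ t : T, t ∉ m • (⊤ : Submodule S T) := by
    by_contra hcon
    apply hmT
    rw [eq_top_iff]
    intro t _
    by_contra ht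
    exact hcon ⟨t, ht⟩
  letI : Field (S ⧸ m) := Ideal.Quotient.field m
  have hv : (Submodule.Quotient.mk t : T ⧸ m • (⊤ : Submodule S T)) ≠ 0 := by
    rw [Ne, Submodule.Quotient.mk_eq_zero]; exact ht
  have hex : ∃ f : Module.Dual (S ⧸ m) (T ⧸ m • (⊤ : Submodule S T)),
      f (Submodule.Quotient.mk t) ≠ 0 := by
    by_contra hcon
    apply hv
    rw [← Module.forall_dual_apply_eq_zero_iff (S ⧸ m)]
    intro φ
    by_contra h
    exact hcon ⟨φ, h⟩
  obtain ⟨f, hf⟩ := hex
  obtain ⟨ι, hι⟩ := exists_injective_quot S I hI m hm hIm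
  refine ⟨ι.comp ((f.restrictScalars S).comp (Submodule.mkQ (m • (⊤ : Submodule S T)))), ?_⟩
  intro h
  have h1 := LinearMap.congr_fun h t
  simp only [LinearMap.comp_apply, LinearMap.zero_apply, Submodule.mkQ_apply,
    LinearMap.restrictScalars_apply] at h1
  rw [← map_zero ι] at h1
  exact hf (hι h1)

end Groth.Agent.Lib.Helper26.Refl
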