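import Mathlib
import Groth.Agent.Lib.Helper26.Refl1
import Groth.Agent.Lib.Helper26.Refl2
import Groth.Agent.Lib.Helper26.Refl3
import Groth.Agent.Lib.Helper33.Torsionless
import Groth.Agent.Lib.Helper33.GorInjDim
import Groth.Agent.Lib.Helper11.IntegralDim

set_option autoImplicit false
set_option linter.unusedSectionVars false
set_option linter.style.haveILetI false
universe u
open CategoryTheory CategoryTheory.Limits Abelian

namespace Groth.Agent.Lib.Helper26.Refl

theorem dual_torsionless (S : Type u) [CommRing S] (N : Type u) [AddCommGroup N] [Module S N] :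
    Function.Injective (Module.Dual.eval S (Module.Dual S N)) := by
  rw [injective_iff_map_eq_zero]
  intro f hf
  ext n
  have := LinearMap.congr_fun hf (Module.Dual.eval S N n)
  simpa using this

theorem prime_over_isMaximal (Λ : Type u) [CommRing Λ] [IsDomain Λ] [IsPrincipalIdealRing Λ]
    (S : Type u) [CommRing S] [Algebra Λ S] [Module.Finite Λ S] (l : Λ) (hl : l ≠ 0)
    (p : Ideal S) (hp : p.IsPrime) (hlp : Ideal.span {algebraMap Λ S l} ≤ p) : p.IsMaximal := by
  haveI := hp
  haveI : Algebra.IsIntegral Λ S := Algebra.IsIntegral.of_finite Λ S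
  apply Ideal.isMaximal_of_isIntegral_of_isMaximal_comap (R := Λ) p
  haveI : (p.comap (algebraMap Λ S)).IsPrime := Ideal.comap_isPrime _ _
  apply IsPrime.to_maximal_ideal
  intro h
  have h1 : l ∈ p.comap (algebraMap Λ S) := by
    rw [Ideal.mem_comap]
    exact hlp (Ideal.subset_span rfl)
  rw [h] at h1
  exact hl h1

theorem eval_surjective_of_gorenstein (Λ : Type u) [CommRing Λ] [IsDomain Λ] [IsPrincipalIdealRing Λ]
    (S : Type u) [CommRing S] [Algebra Λ S] [Module.Finite Λ S] [Module.Free Λ S] [IsReduced S]
    (M : Type u) [AddCommGroup M] [Module S M] [Module Λ M] [IsScalarTower Λ S M]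
    [Module.Finite S M] [Module.Free Λ M] [hG : LocCoh.IsGorensteinRing S] :
    Function.Surjective (Module.Dual.eval S M) := by
  haveI : IsNoetherianRing S := noeth Λ S
  haveI : Algebra.IsIntegral Λ S := Algebra.IsIntegral.of_finite Λ S
  have hdim : ringKrullDim S ≤ ((1 : ℕ) : WithBot ℕ∞) := by
    refine (Groth.Agent.Lib.Helper11.IntegralDim.ringKrullDim_le_of_isIntegral (R := Λ)).trans ?_
    rw [← Ring.krullDimLE_iff]
    infer_instance
  haveI hinjdim : HasInjectiveDimensionLT (ModuleCat.of S S) 2 :=
    Groth.Agent.Lib.Helper33.GorInjDim.hasInjectiveDimensionLT_of_isGorensteinRing S 1 hdim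
  have hf : Function.Injective (Module.Dual.eval S M) := torsionless_of_free Λ S M
  -- Ext¹(M**, S) = 0
  haveI : Module.Finite S (Module.Dual S M) := inferInstance
  haveI : Module.Finite S (Module.Dual S (Module.Dual S M)) := inferInstance
  obtain ⟨k, ι, hι⟩ := Groth.Agent.Lib.Helper33.Torsionless.exists_injective_of_torsionless
    (Module.Dual S (Module.Dual S M)) (dual_torsionless S (Module.Dual S M))
  have hE : Subsingleton (Ext (ModuleCat.of S (Module.Dual S (Module.Dual S M)))
      (ModuleCat.of S S) 1) :=
    Groth.Agent.Lib.Helper33.Torsionless.subsingleton_ext_one_of_injective_linearMap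
      (ModuleCat.of S S) _ (Fin k → S) ι hι
  have hex : Function.Exact (Module.Dual.eval S M)
      (LinearMap.range (Module.Dual.eval S M)).mkQ := by
    intro y
    rw [Submodule.mkQ_apply, Submodule.Quotient.mk_eq_zero]
    rfl
  have hT : Subsingleton (Ext (ModuleCat.of S (Module.Dual S (Module.Dual S M) ⧸
      LinearMap.range (Module.Dual.eval S M))) (ModuleCat.of S S) 1) := by
    refine subsingleton_ext_one_coker (ModuleCat.of S S) (Module.Dual.eval S M)
      (LinearMap.range (Module.Dual.eval S M)).mkQ hf (Submodule.mkQ_surjective _) hex hE ?_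
    intro φ
    refine ⟨Module.Dual.eval S (Module.Dual S M) φ, ?_⟩
    ext m
    rfl
  obtain ⟨l, hl, hly⟩ := exists_smul_eq_eval Λ S M
  have ha : algebraMap Λ S l ∈ nonZeroDivisors S := by
    rw [mem_nonZeroDivisors_iff_right]
    intro x hx
    have h1 : l • x = 0 := by rw [Algebra.smul_def, mul_comm]; exact hx
    exact (smul_eq_zero.mp h1).resolve_left hl
  have hkill : ∀ t : Module.Dual S (Module.Dual S M) ⧸ LinearMap.range (Module.Dual.eval S M),
      algebraMap Λ S l • t = 0 := by
    intro t
    obtain ⟨y, rfl⟩ := Submodule.mkQ_surjective _ t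
    rw [← map_smul, Submodule.mkQ_apply, Submodule.Quotient.mk_eq_zero]
    obtain ⟨x, hx⟩ := hly y
    exact ⟨x, hx⟩
  have hsub : Subsingleton (Module.Dual S (Module.Dual S M) ⧸
      LinearMap.range (Module.Dual.eval S M)) := by
    by_contra hns
    rw [not_subsingleton_iff_nontrivial] at hns
    obtain ⟨φ, hφ⟩ := exists_ne_zero_dual_quot S (Ideal.span {algebraMap Λ S l})
      (fun p hp hlp => prime_over_isMaximal Λ S l hl p hp hlp)
      (Module.Dual S (Module.Dual S M) ⧸ LinearMap.range (Module.Dual.eval S M))
      (by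
        intro a ha t
        obtain ⟨c, rfl⟩ := Ideal.mem_span_singleton'.mp ha
        rw [mul_smul, hkill, smul_zero])
    obtain ⟨g', hg'⟩ := exists_lift_of_ext_one (algebraMap Λ S l) ha _ hT φ
    apply hφ
    rw [← hg']
    have hg0 : g' = 0 := by
      refine LinearMap.ext fun t => ?_
      have h1 : algebraMap Λ S l * g' t = 0 := by
        rw [← smul_eq_mul, ← map_smul, hkill, map_zero]
      rw [LinearMap.zero_apply]
      exact (mem_nonZeroDivisors_iff_right.mp ha) _ (by rw [mul_comm]; exact h1)
    rw [hg0, LinearMap.comp_zero]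
  rw [Submodule.Quotient.subsingleton_iff, LinearMap.range_eq_top] at hsub
  exact hsub

end Groth.Agent.Lib.Helper26.Refl
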