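import Mathlib

set_option autoImplicit false
universe u

namespace Groth.Agent.Lib.Helper26.RegPerm

open RingTheory.Sequence

variable {R : Type u} [CommRing R]

/-- `a` is a nonzerodivisor modulo `I`. -/
def NZD (I : Ideal R) (a : R) : Prop := ∀ c, a * c ∈ I → c ∈ I

theorem isSMulRegular_quot_iff (I : Ideal R) (a : R) :
    IsSMulRegular (R ⧸ (I • (⊤ : Submodule R R))) a ↔ NZD I a := by
  have hI : (I • (⊤ : Submodule R R)) = I := by
    rw [Ideal.smul_eq_mul]
    exact Ideal.mul_top I
  constructor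
  · intro h c hc
    have h0 : a • (Submodule.Quotient.mk c : R ⧸ (I • (⊤ : Submodule R R))) = a • 0 := by
      rw [smul_zero, ← Submodule.Quotient.mk_smul, Submodule.Quotient.mk_eq_zero, hI]
      exact hc
    have := h h0
    rw [Submodule.Quotient.mk_eq_zero, hI] at this
    exact this
  · intro h x y hxy
    obtain ⟨x, rfl⟩ := Submodule.Quotient.mk_surjective _ x
    obtain ⟨y, rfl⟩ := Submodule.Quotient.mk_surjective _ y
    have h1 : a • (Submodule.Quotient.mk x : R ⧸ (I • (⊤ : Submodule R R))) =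
        a • Submodule.Quotient.mk y := hxy
    rw [← Submodule.Quotient.mk_smul, ← Submodule.Quotient.mk_smul, Submodule.Quotient.eq, hI,
      ← smul_sub] at h1
    rw [Submodule.Quotient.eq, hI]
    exact h (x - y) h1

theorem ofList_take_ofFn {r : ℕ} (g : Fin r → R) (i : ℕ) :
    Ideal.ofList ((List.ofFn g).take i) = Ideal.span (g '' {j : Fin r | j.val < i}) := by
  unfold Ideal.ofList
  congr 1
  ext x
  simp only [Set.mem_setOf_eq, Set.mem_image]
  rw [List.mem_take_iff_getElem]
  constructor
  · rintro ⟨j, hj, rfl⟩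
    rw [List.length_ofFn] at hj
    have hjr : j < r := (lt_min_iff.mp hj).2
    refine ⟨⟨j, hjr⟩, (lt_min_iff.mp hj).1, ?_⟩
    rw [List.getElem_ofFn]
  · rintro ⟨j, hj, rfl⟩
    refine ⟨j.val, ?_, ?_⟩
    · rw [List.length_ofFn]
      exact lt_min hj j.isLt
    · rw [List.getElem_ofFn]

theorem isWeaklyRegular_ofFn_iff {r : ℕ} (g : Fin r → R) :
    IsWeaklyRegular R (List.ofFn g) ↔
      ∀ k : Fin r, NZD (Ideal.span (g '' {j : Fin r | j < k})) (g k) := by
  rw [isWeaklyRegular_iff]
  constructor
  · intro h k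
    have hk : k.val < (List.ofFn g).length := by rw [List.length_ofFn]; exact k.isLt
    have := h k.val hk
    rw [ofList_take_ofFn, isSMulRegular_quot_iff, List.getElem_ofFn] at this
    exact this
  · intro h i hi
    have hir : i < r := by rwa [List.length_ofFn] at hi
    rw [ofList_take_ofFn, isSMulRegular_quot_iff, List.getElem_ofFn]
    exact h ⟨i, hir⟩

theorem isRegular_ofFn_iff {r : ℕ} (g : Fin r → R) :
    IsRegular R (List.ofFn g) ↔
      (∀ k : Fin r, NZD (Ideal.span (g '' {j : Fin r | j < k})) (g k)) ∧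
        Ideal.span (Set.range g) ≠ ⊤ := by
  rw [isRegular_iff, isWeaklyRegular_ofFn_iff]
  have h1 : Ideal.ofList (List.ofFn g) = Ideal.span (Set.range g) := by
    unfold Ideal.ofList
    congr 1
    ext x
    simp [List.mem_ofFn]
  have h2 : (Ideal.ofList (List.ofFn g) • (⊤ : Submodule R R)) = Ideal.span (Set.range g) := by
    rw [Ideal.smul_eq_mul, h1]
    exact Ideal.mul_top _
  rw [h2]
  constructor
  · rintro ⟨a, b⟩
    exact ⟨a, fun h => b h.symm⟩
  · rintro ⟨a, b⟩
    exact ⟨a, fun h => b h.symm⟩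

end Groth.Agent.Lib.Helper26.RegPerm
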