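import Mathlib
import Groth.Agent.Lib.Helper26.Reg1

set_option autoImplicit false
universe u

namespace Groth.Agent.Lib.Helper26.RegPerm

open RingTheory.Sequence

variable {R : Type u} [CommRing R] {r : ℕ}

/-- the ideal generated by `f i`, `i ∈ T` -/
def IT (f : Fin r → R) (T : Finset (Fin r)) : Ideal R := Ideal.span (f '' (T : Set (Fin r)))

theorem IT_insert [DecidableEq (Fin r)] (f : Fin r → R) (j : Fin r) (T : Finset (Fin r)) :
    IT f (insert j T) = IT f T ⊔ Ideal.span {f j} := by
  unfold IT
  rw [Finset.coe_insert, Set.image_insert_eq, Ideal.span_insert, sup_comm]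

theorem IT_mono (f : Fin r → R) {T T' : Finset (Fin r)} (h : T ⊆ T') : IT f T ≤ IT f T' :=
  Ideal.span_mono (Set.image_mono (Finset.coe_subset.mpr h))

def P2'' (f : Fin r → R) : Prop := ∀ k (T : Finset (Fin r)), k ∉ T → NZD (IT f T) (f k)

def P2' (f : Fin r → R) : Prop := ∀ k (T : Finset (Fin r)), (∀ j ∈ T, j < k) → NZD (IT f T) (f k)

theorem nzd_swap (I : Ideal R) (x y : R) (hx : NZD I x) (hy : NZD (I ⊔ Ideal.span {x}) y) :
    NZD (I ⊔ Ideal.span {y}) x := by
  intro c hc
  obtain ⟨i, hi, z, hz, hiz⟩ := Submodule.mem_sup.mp hc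
  obtain ⟨m', rfl⟩ := Ideal.mem_span_singleton'.mp hz
  have h1 : y * m' ∈ I ⊔ Ideal.span {x} := by
    have : y * m' = -i + c * x := by
      have : m' * y = x * c - i := by rw [← hiz]; ring
      rw [mul_comm y m', this]; ring
    rw [this]
    exact Submodule.add_mem_sup (I.neg_mem hi) (Ideal.mem_span_singleton'.mpr ⟨c, rfl⟩)
  obtain ⟨i', hi', z', hz', hiz'⟩ := Submodule.mem_sup.mp (hy m' h1)
  obtain ⟨m'', rfl⟩ := Ideal.mem_span_singleton'.mp hz'
  have h2 : x * (c - y * m'') ∈ I := by
    have : x * (c - y * m'') = i + y * i' := by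
      have e1 : x * c = i + m' * y := hiz.symm
      have e2 : m' = i' + m'' * x := hiz'.symm
      calc x * (c - y * m'') = x * c - x * y * m'' := by ring
        _ = i + m' * y - x * y * m'' := by rw [e1]
        _ = i + (i' + m'' * x) * y - x * y * m'' := by rw [← e2]
        _ = i + y * i' := by ring
    rw [this]
    exact I.add_mem hi (I.mul_mem_left _ hi')
  have h3 := hx _ h2
  have : c = (c - y * m'') + m'' * y := by ring
  rw [this]
  exact Submodule.add_mem_sup h3 (Ideal.mem_span_singleton'.mpr ⟨m'', rfl⟩)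

theorem P2''_of_P2' (f : Fin r → R) (h : P2' f) : P2'' f := by
  classical
  intro k T
  induction T using Finset.induction_on_max with
  | empty => intro _; exact h k ∅ (by simp)
  | insert j T' hmax ih =>
    intro hk
    have hkj : k ≠ j := fun e => hk (e ▸ Finset.mem_insert_self _ _)
    have hkT' : k ∉ T' := fun e => hk (Finset.mem_insert_of_mem e)
    rcases lt_or_gt_of_ne hkj with hlt | hgt
    · -- k < j
      have h1 : NZD (IT f T') (f k) := ih hkT'
      have h2 : NZD (IT f (insert k T')) (f j) := by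
        apply h j
        intro i hi
        rcases Finset.mem_insert.mp hi with rfl | hi
        · exact hlt
        · exact hmax i hi
      rw [IT_insert] at h2
      rw [IT_insert]
      exact nzd_swap _ _ _ h1 h2
    · -- j < k
      apply h k
      intro i hi
      rcases Finset.mem_insert.mp hi with rfl | hi
      · exact hgt
      · exact (hmax i hi).trans hgt

theorem P2'_of_P2'' (f : Fin r → R) (h : P2'' f) : P2' f := by
  intro k T hT
  exact h k T (fun hk => lt_irrefl _ (hT k hk))

theorem image_lt_eq (f : Fin r → R) (σ : Equiv.Perm (Fin r)) (k : Fin r) [DecidableEq (Fin r)] :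
    Ideal.span ((f ∘ σ) '' {j : Fin r | j < k}) =
      IT f ((Finset.univ.filter (fun j => j < k)).image σ) := by
  unfold IT
  congr 1
  ext x
  simp only [Set.mem_image, Set.mem_setOf_eq, Function.comp_apply, Finset.coe_image,
    Finset.coe_filter, Finset.mem_univ, true_and]
  constructor
  · rintro ⟨j, hj, rfl⟩
    exact ⟨σ j, ⟨j, hj, rfl⟩, rfl⟩
  · rintro ⟨_, ⟨j, hj, rfl⟩, rfl⟩
    exact ⟨j, hj, rfl⟩

theorem perm_regular_of_P2'' (f : Fin r → R) (hf : Ideal.span (Set.range f) ≠ ⊤) (h : P2'' f)
    (σ : Equiv.Perm (Fin r)) : IsRegular R (List.ofFn (f ∘ σ)) := by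
  classical
  rw [isRegular_ofFn_iff]
  refine ⟨fun k => ?_, ?_⟩
  · rw [image_lt_eq]
    apply h (σ k)
    intro hk
    obtain ⟨j, hj, hjk⟩ := Finset.mem_image.mp hk
    have : j = k := σ.injective hjk
    rw [Finset.mem_filter] at hj
    exact absurd hj.2 (by rw [this]; exact lt_irrefl _)
  · rw [EquivLike.range_comp f σ]
    exact hf

theorem P2''_of_perm_regular (f : Fin r → R)
    (h : ∀ σ : Equiv.Perm (Fin r), IsRegular R (List.ofFn (f ∘ σ))) : P2'' f := by
  classical
  intro k T hk
  let pr : Fin r → ℕ := fun j => if j ∈ T then 0 else if j = k then 1 else 2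
  have hprk : pr k = 1 := by simp [pr, hk]
  let σ : Equiv.Perm (Fin r) := Tuple.sort pr
  have hmono : Monotone (pr ∘ σ) := Tuple.monotone_sort pr
  let m := σ.symm k
  have hσm : σ m = k := σ.apply_symm_apply k
  have hreg := ((isRegular_ofFn_iff (f ∘ σ)).mp (h σ)).1 m
  rw [image_lt_eq, Function.comp_apply, hσm] at hreg
  have hT : (Finset.univ.filter (fun j => j < m)).image σ = T := by
    ext t
    rw [Finset.mem_image]
    constructor
    · rintro ⟨j, hj, rfl⟩
      rw [Finset.mem_filter] at hj
      have h1 : pr (σ j) ≤ pr (σ m) := hmono hj.2.le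
      rw [hσm, hprk] at h1
      have hne : σ j ≠ k := by
        intro e
        have : j = m := σ.injective (e.trans hσm.symm)
        exact absurd hj.2 (by rw [this]; exact lt_irrefl _)
      by_contra hnot
      have : pr (σ j) = 2 := by simp [pr, hnot, hne]
      omega
    · intro ht
      refine ⟨σ.symm t, ?_, σ.apply_symm_apply t⟩
      rw [Finset.mem_filter]
      refine ⟨Finset.mem_univ _, ?_⟩
      by_contra hnot
      have hle : m ≤ σ.symm t := not_lt.mp hnot
      have h1 : pr (σ m) ≤ pr (σ (σ.symm t)) := hmono hle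
      rw [hσm, hprk, σ.apply_symm_apply] at h1
      have : pr t = 0 := by simp [pr, ht]
      omega
  rw [hT] at hreg
  exact hreg

end Groth.Agent.Lib.Helper26.RegPerm
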