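import Mathlib
import Groth.Agent.Lib.Helper26.Reg2

set_option autoImplicit false
universe u

namespace Groth.Agent.Lib.Helper26.RegPerm

open RingTheory.Sequence MvPolynomial

variable {R : Type u} [CommRing R] {r : ℕ}

/-- indices `< k` in the support of `e` -/
def Tk (k : ℕ) (e : Fin r →₀ ℕ) : Finset (Fin r) :=
  Finset.univ.filter (fun i => i.val < k ∧ e i ≠ 0)

theorem mem_Tk (k : ℕ) (e : Fin r →₀ ℕ) (i : Fin r) : i ∈ Tk k e ↔ i.val < k ∧ e i ≠ 0 := by
  simp [Tk]

theorem Tk_mono (k : ℕ) {d e : Fin r →₀ ℕ} (h : d ≤ e) : Tk k d ⊆ Tk k e := by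
  intro i hi
  rw [mem_Tk] at hi ⊢
  refine ⟨hi.1, ?_⟩
  have := h i
  omega

/-- the monomial-wise ideal -/
def Jk (f : Fin r → R) (k : ℕ) : Ideal (MvPolynomial (Fin r) R) where
  carrier := {p | ∀ e, p.coeff e ∈ IT f (Tk k e)}
  add_mem' := fun {p q} hp hq e => by
    rw [coeff_add]; exact Ideal.add_mem _ (hp e) (hq e)
  zero_mem' := fun e => by rw [coeff_zero]; exact Ideal.zero_mem _
  smul_mem' := fun q p hp e => by
    rw [smul_eq_mul, coeff_mul]
    refine Ideal.sum_mem _ (fun x hx => ?_)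
    have hle : x.2 ≤ e := by
      have hx' : x.1 + x.2 = e := Finset.HasAntidiagonal.mem_antidiagonal.mp hx
      rw [← hx']
      exact le_add_self
    exact Ideal.mul_mem_left _ _ (IT_mono f (Tk_mono k hle) (hp x.2))

theorem mem_Jk (f : Fin r → R) (k : ℕ) (p : MvPolynomial (Fin r) R) :
    p ∈ Jk f k ↔ ∀ e, p.coeff e ∈ IT f (Tk k e) := Iff.rfl

/-- the products `f i * x i` -/
noncomputable def gp (f : Fin r → R) (i : Fin r) : MvPolynomial (Fin r) R := C (f i) * X i

theorem gp_eq_monomial (f : Fin r → R) (i : Fin r) :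
    gp f i = monomial (Finsupp.single i 1) (f i) := by
  unfold gp
  rw [X, C_mul_monomial, mul_one]

theorem monomial_mem_span (f : Fin r → R) (k : ℕ) (e : Fin r →₀ ℕ) (c : R)
    (hc : c ∈ IT f (Tk k e)) :
    monomial e c ∈ Ideal.span (gp f '' {j : Fin r | j.val < k}) := by
  unfold IT at hc
  induction hc using Submodule.span_induction with
  | mem x hx =>
    obtain ⟨j, hj, rfl⟩ := hx
    have hj' := (mem_Tk k e j).mp (Finset.mem_coe.mp hj)
    have hle : Finsupp.single j 1 ≤ e := by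
      rw [Finsupp.single_le_iff]
      exact Nat.one_le_iff_ne_zero.mpr hj'.2
    have : monomial e (f j) = gp f j * monomial (e - Finsupp.single j 1) 1 := by
      rw [gp_eq_monomial, monomial_mul, mul_one, add_tsub_cancel_of_le hle]
    rw [this]
    exact Ideal.mul_mem_right _ _ (Ideal.subset_span ⟨j, hj'.1, rfl⟩)
  | zero => rw [map_zero]; exact Ideal.zero_mem _
  | add x y _ _ hx hy => rw [map_add]; exact Ideal.add_mem _ hx hy
  | smul a x _ hx =>
    rw [smul_eq_mul, ← C_mul_monomial]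
    exact Ideal.mul_mem_left _ _ hx

theorem span_eq_Jk (f : Fin r → R) (k : ℕ) :
    Ideal.span (gp f '' {j : Fin r | j.val < k}) = Jk f k := by
  classical
  apply le_antisymm
  · rw [Ideal.span_le]
    rintro _ ⟨j, hj, rfl⟩
    intro e
    rw [gp_eq_monomial, coeff_monomial]
    split_ifs with h
    · apply Ideal.subset_span
      refine ⟨j, ?_, rfl⟩
      rw [Finset.mem_coe, mem_Tk, ← h]
      exact ⟨hj, by simp⟩
    · exact Ideal.zero_mem _
  · intro p hp
    rw [← p.support_sum_monomial_coeff]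
    exact Ideal.sum_mem _ (fun e _ => monomial_mem_span f k e _ (hp e))

theorem coeff_gp_mul (f : Fin r → R) (k : Fin r) (p : MvPolynomial (Fin r) R) (e : Fin r →₀ ℕ) :
    (gp f k * p).coeff (e + Finsupp.single k 1) = f k * p.coeff e := by
  unfold gp
  rw [mul_assoc, coeff_C_mul, mul_comm (X k) p, coeff_mul_X]

theorem Tk_add_single (k : Fin r) (e : Fin r →₀ ℕ) :
    Tk (r := r) k.val (e + Finsupp.single k 1) = Tk k.val e := by
  ext i
  rw [mem_Tk, mem_Tk]
  constructor
  · rintro ⟨h1, h2⟩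
    refine ⟨h1, ?_⟩
    have hik : k ≠ i := fun h => by rw [h] at h1; exact lt_irrefl _ h1
    rwa [Finsupp.add_apply, Finsupp.single_eq_of_ne' hik, add_zero] at h2
  · rintro ⟨h1, h2⟩
    refine ⟨h1, ?_⟩
    rw [Finsupp.add_apply]
    omega

theorem nzd_gp_of_P2' (f : Fin r → R) (h : P2' f) (k : Fin r) :
    NZD (Ideal.span (gp f '' {j : Fin r | j < k})) (gp f k) := by
  have hset : {j : Fin r | j < k} = {j : Fin r | j.val < k.val} := by
    ext j; exact Fin.lt_def
  rw [hset, span_eq_Jk]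
  intro p hp e
  have h1 := hp (e + Finsupp.single k 1)
  rw [coeff_gp_mul, Tk_add_single] at h1
  exact h k (Tk k.val e) (fun j hj => Fin.lt_def.mpr ((mem_Tk _ _ _).mp hj).1) _ h1

/-- indicator exponent -/
noncomputable def eT (T : Finset (Fin r)) : Fin r →₀ ℕ :=
  Finsupp.equivFunOnFinite.symm (fun i => if i ∈ T then 1 else 0)

theorem eT_apply (T : Finset (Fin r)) (i : Fin r) : eT T i = if i ∈ T then 1 else 0 := rfl

theorem Tk_eT (k : Fin r) (T : Finset (Fin r)) (hT : ∀ j ∈ T, j < k) :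
    Tk (r := r) k.val (eT T + Finsupp.single k 1) = T := by
  rw [Tk_add_single]
  ext i
  rw [mem_Tk, eT_apply]
  constructor
  · rintro ⟨_, h2⟩
    by_contra hi
    rw [if_neg hi] at h2
    exact h2 rfl
  · intro hi
    exact ⟨Fin.lt_def.mp (hT i hi), by rw [if_pos hi]; exact one_ne_zero⟩

theorem P2'_of_nzd_gp (f : Fin r → R)
    (h : ∀ k : Fin r, NZD (Ideal.span (gp f '' {j : Fin r | j < k})) (gp f k)) : P2' f := by
  classical
  intro k T hT c hc
  have hset : {j : Fin r | j < k} = {j : Fin r | j.val < k.val} := by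
    ext j; exact Fin.lt_def
  have hk := h k
  rw [hset, span_eq_Jk] at hk
  have hmem : gp f k * monomial (eT T) c ∈ Jk f k.val := by
    have : gp f k * monomial (eT T) c = monomial (eT T + Finsupp.single k 1) (f k * c) := by
      rw [gp_eq_monomial, monomial_mul, add_comm]
    rw [this]
    intro e
    rw [coeff_monomial]
    split_ifs with he
    · rw [← he, Tk_eT k T hT]
      exact hc
    · exact Ideal.zero_mem _
  have h2 := hk _ hmem (eT T)
  rw [coeff_monomial, if_pos rfl] at h2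
  have h3 : Tk (r := r) k.val (eT T) = T := by
    rw [← Tk_add_single k (eT T)]
    exact Tk_eT k T hT
  rw [h3] at h2
  exact h2

theorem span_range_gp_ne_top (f : Fin r → R) (hf : Ideal.span (Set.range f) ≠ ⊤) :
    Ideal.span (Set.range (gp f)) ≠ ⊤ := by
  intro htop
  have hle : Ideal.span (Set.range (gp f)) ≤ RingHom.ker (constantCoeff (R := R) (σ := Fin r)) := by
    rw [Ideal.span_le]
    rintro _ ⟨i, rfl⟩
    rw [SetLike.mem_coe, RingHom.mem_ker]
    unfold gp
    rw [map_mul, constantCoeff_X, mul_zero]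
  rw [htop] at hle
  have h1 : (1 : MvPolynomial (Fin r) R) ∈ RingHom.ker (constantCoeff (R := R) (σ := Fin r)) :=
    hle Submodule.mem_top
  rw [RingHom.mem_ker, map_one] at h1
  apply hf
  rw [Ideal.eq_top_iff_one, h1]
  exact Ideal.zero_mem _

theorem main (f : Fin r → R) (hf : Ideal.span (Set.range f) ≠ ⊤) :
    (∀ σ : Equiv.Perm (Fin r), IsRegular R (List.ofFn (f ∘ σ))) ↔
      IsRegular (MvPolynomial (Fin r) R) (List.ofFn fun i => C (f i) * X i) := by
  constructor
  · intro h
    have h2 : P2' f := P2'_of_P2'' f (P2''_of_perm_regular f h)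
    have : IsRegular (MvPolynomial (Fin r) R) (List.ofFn (gp f)) := by
      rw [isRegular_ofFn_iff]
      exact ⟨nzd_gp_of_P2' f h2, span_range_gp_ne_top f hf⟩
    exact this
  · intro h
    have h' : IsRegular (MvPolynomial (Fin r) R) (List.ofFn (gp f)) := h
    rw [isRegular_ofFn_iff] at h'
    have h2 : P2'' f := P2''_of_P2' f (P2'_of_nzd_gp f h'.1)
    exact perm_regular_of_P2'' f hf h2

end Groth.Agent.Lib.Helper26.RegPerm
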