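import Groth.Agent.Lib.Helper26.PBW
import Groth.Agent.Lib.Helper26.Jacobson

/-!
# A finite faithful restricted representation of a restricted Lie algebra (helper26 shared library)

`L` free over `R` (char `p`) with basis `b` and a `p`-map `φ`.  On the PBW module
`S = (ι →₀ ℕ) →₀ R` the operators `Zop i = ρ(b i)^p - ρ(φ (b i))` commute with `ρ(L)`, have leading
term `ξ_i^p` (`hasLT_Zop`), and `S = Tsub ⊕ Wsub` where `Tsub` is spanned by the restricted
monomials and `Wsub = ∑ range (Zop i)` (`Tsub_inf_Wsub`, `Tsub_sup_Wsub`).  The induced action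
`ebar` of `L` on `S ⧸ Wsub` is injective (`ebar_injective`), a Lie map (`ebar_lie`), sends `φ (b i)`
to `p`-th powers (`ebar_pmap_basis`), and the quotient is a finite module when `ι` is finite
(`finite_quotient`).  `map_pmap_of_span`: compatibility with the `p`-map on a spanning set suffices.
-/

set_option autoImplicit false

namespace Groth.Agent.Lib.Helper26.RestrictedEnv

open Finsupp Groth.Agent.Lib.Helper26.PBW

universe u v w

section LT

variable {R : Type u} [CommRing R] {ι : Type w}

/-- elements of degree `< d` -/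
def Slt (R : Type u) [CommRing R] (ι : Type w) (d : ℕ) : Submodule R ((ι →₀ ℕ) →₀ R) :=
  Finsupp.supported R R {s | s.degree < d}

theorem Slt_le_Sle (d : ℕ) : Slt R ι d ≤ Sle R ι d :=
  Finsupp.supported_mono fun _ hs => le_of_lt (show _ < d from hs)

theorem Sle_le_Slt {m d : ℕ} (h : m < d) : Sle R ι m ≤ Slt R ι d :=
  Finsupp.supported_mono fun _ hs => lt_of_le_of_lt (show _ ≤ m from hs) h

theorem Slt_mono {d d' : ℕ} (h : d ≤ d') : Slt R ι d ≤ Slt R ι d' :=
  Finsupp.supported_mono fun _ hs => lt_of_lt_of_le (show _ < d from hs) h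

theorem Slt_le_Sle_pred {d m : ℕ} (h : d ≤ m + 1) : Slt R ι d ≤ Sle R ι m :=
  Finsupp.supported_mono fun _ hs => by
    have : _ < d := hs
    show _ ≤ m
    omega

theorem Slt_zero : Slt R ι 0 = ⊥ := by
  rw [Slt]
  have : {s : ι →₀ ℕ | s.degree < 0} = ∅ := by
    ext s
    simp
  rw [this, Finsupp.supported_empty]

/-- multiplication by the monomial `γ` -/
noncomputable def Mtr (R : Type u) [CommRing R] {ι : Type w} (γ : ι →₀ ℕ) :
    ((ι →₀ ℕ) →₀ R) →ₗ[R] ((ι →₀ ℕ) →₀ R) :=
  Finsupp.lmapDomain R R (fun s => s + γ)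

@[simp] theorem Mtr_single (γ s : ι →₀ ℕ) (c : R) : Mtr R γ (single s c) = single (s + γ) c := by
  simp [Mtr]

theorem Mtr_mem_Sle (γ : ι →₀ ℕ) {m : ℕ} {w : (ι →₀ ℕ) →₀ R} (hw : w ∈ Sle R ι m) :
    Mtr R γ w ∈ Sle R ι (m + γ.degree) := by
  rw [Sle, Finsupp.supported_eq_span_single] at hw
  induction hw using Submodule.span_induction with
  | mem w hw =>
    obtain ⟨s, hs, rfl⟩ := hw
    rw [Mtr_single]
    apply single_mem_Sle
    rw [map_add]
    exact Nat.add_le_add_right hs _
  | zero => simp
  | add w w' _ _ h1 h2 => rw [map_add]; exact Submodule.add_mem _ h1 h2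
  | smul c w _ h1 => rw [map_smul]; exact Submodule.smul_mem _ c h1

/-- `A` has leading term "multiplication by the monomial `γ`" -/
def HasLT (A : ((ι →₀ ℕ) →₀ R) →ₗ[R] ((ι →₀ ℕ) →₀ R)) (γ : ι →₀ ℕ) : Prop :=
  ∀ (m : ℕ) (w : (ι →₀ ℕ) →₀ R), w ∈ Sle R ι m → A w - Mtr R γ w ∈ Slt R ι (m + γ.degree)

variable {A B : ((ι →₀ ℕ) →₀ R) →ₗ[R] ((ι →₀ ℕ) →₀ R)} {γ γ' : ι →₀ ℕ}

theorem HasLT.map_Sle (h : HasLT A γ) {m : ℕ} {w : (ι →₀ ℕ) →₀ R} (hw : w ∈ Sle R ι m) :
    A w ∈ Sle R ι (m + γ.degree) := by
  have h1 := Slt_le_Sle _ (h m w hw)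
  have h2 := Mtr_mem_Sle γ hw
  have := Submodule.add_mem _ h1 h2
  simpa using this

theorem HasLT.map_Slt (h : HasLT A γ) {d : ℕ} {w : (ι →₀ ℕ) →₀ R} (hw : w ∈ Slt R ι d) :
    A w ∈ Slt R ι (d + γ.degree) := by
  rcases Nat.eq_zero_or_pos d with hd | hd
  · subst hd
    rw [Slt_zero, Submodule.mem_bot] at hw
    rw [hw, map_zero]
    exact Submodule.zero_mem _
  · have hw' : w ∈ Sle R ι (d - 1) := Slt_le_Sle_pred (by omega) hw
    have h1 := h.map_Sle hw'
    exact Sle_le_Slt (by omega) h1

theorem Mtr_zero (w : (ι →₀ ℕ) →₀ R) : Mtr R (0 : ι →₀ ℕ) w = w := by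
  induction w using Finsupp.induction_linear with
  | zero => simp
  | add w w' h1 h2 => rw [map_add, h1, h2]
  | single s c => simp

theorem hasLT_one : HasLT (1 : ((ι →₀ ℕ) →₀ R) →ₗ[R] ((ι →₀ ℕ) →₀ R)) 0 := by
  intro m w _
  rw [Mtr_zero]
  simp

theorem Mtr_add (γ γ' : ι →₀ ℕ) (w : (ι →₀ ℕ) →₀ R) :
    Mtr R (γ + γ') w = Mtr R γ (Mtr R γ' w) := by
  induction w using Finsupp.induction_linear with
  | zero => simp
  | add w w' h1 h2 => simp only [map_add, h1, h2]
  | single s c =>
    simp only [Mtr_single]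
    congr 1
    abel

theorem HasLT.mul (hA : HasLT A γ) (hB : HasLT B γ') : HasLT (A * B) (γ + γ') := by
  intro m w hw
  have e : (A * B) w - Mtr R (γ + γ') w
      = A (B w - Mtr R γ' w) + (A (Mtr R γ' w) - Mtr R γ (Mtr R γ' w)) := by
    rw [Module.End.mul_apply, Mtr_add, map_sub]
    abel
  rw [e]
  apply Submodule.add_mem
  · have := hA.map_Slt (hB m w hw)
    rw [map_add]
    convert this using 2
    ring
  · have := hA (m + γ'.degree) _ (Mtr_mem_Sle γ' hw)
    rw [map_add]
    convert this using 2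
    ring

theorem HasLT.pow (hA : HasLT A γ) (j : ℕ) : HasLT (A ^ j) (j • γ) := by
  induction j with
  | zero =>
    rw [pow_zero, zero_smul]
    exact hasLT_one
  | succ j ih =>
    rw [pow_succ', succ_nsmul']
    exact hA.mul ih

theorem HasLT.sub (hA : HasLT A γ)
    (hB : ∀ (m : ℕ) (w : (ι →₀ ℕ) →₀ R), w ∈ Sle R ι m → B w ∈ Slt R ι (m + γ.degree)) :
    HasLT (A - B) γ := by
  intro m w hw
  have e : (A - B) w - Mtr R γ w = (A w - Mtr R γ w) - B w := by
    rw [LinearMap.sub_apply]
    abel
  rw [e]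
  exact Submodule.sub_mem _ (hA m w hw) (hB m w hw)

end LT


section Rho

variable {R : Type u} [CommRing R] {L : Type v} [LieRing L] [LieAlgebra R L]
  {ι : Type w} [LinearOrder ι] (b : Module.Basis ι R L)

omit [LinearOrder ι] in
theorem forall_mem_Sle {N : Submodule R ((ι →₀ ℕ) →₀ R)}
    (F : ((ι →₀ ℕ) →₀ R) →ₗ[R] ((ι →₀ ℕ) →₀ R)) (m : ℕ)
    (h : ∀ s : ι →₀ ℕ, s.degree ≤ m → F (single s 1) ∈ N) :
    ∀ w ∈ Sle R ι m, F w ∈ N := by
  intro w hw
  rw [Sle, Finsupp.supported_eq_span_single] at hw
  induction hw using Submodule.span_induction with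
  | mem w hw =>
    obtain ⟨s, hs, rfl⟩ := hw
    exact h s hs
  | zero => simp
  | add w w' _ _ h1 h2 => rw [map_add]; exact Submodule.add_mem _ h1 h2
  | smul c w _ h1 => rw [map_smul]; exact Submodule.smul_mem _ c h1

theorem hasLT_rho_basis (i : ι) : HasLT (rho b (b i)) (single i 1) := by
  intro m w hw
  have := forall_mem_Sle (N := Slt R ι (m + (single i 1 : ι →₀ ℕ).degree))
    (rho b (b i) - Mtr R (single i 1)) m (by
      intro s hs
      rw [LinearMap.sub_apply, rho_basis, Xl_single, one_smul, Mtr_single]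
      apply Sle_le_Slt _ (X_sub_mem b s i)
      rw [Finsupp.degree_single]
      omega) w hw
  simpa using this

theorem rho_mem_Sle (x : L) {m : ℕ} {w : (ι →₀ ℕ) →₀ R} (hw : w ∈ Sle R ι m) :
    rho b x w ∈ Sle R ι (m + 1) := by
  rw [rho_apply, Finsupp.sum]
  apply Submodule.sum_mem
  intro k _
  apply Submodule.smul_mem
  have := (hasLT_rho_basis b k).map_Sle hw
  rw [rho_basis, Finsupp.degree_single] at this
  exact this

theorem rho_lie (x y : L) : rho b ⁅x, y⁆ = rho b x * rho b y - rho b y * rho b x := by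
  apply LinearMap.ext
  intro w
  have := commPair_all b x y w
  unfold CommPair at this
  rw [← this]
  rfl

variable (p : ℕ) [hp : Fact p.Prime] [CharP R p] (φ : PLie.PMap R p L)

/-- the action of the central elements `e_i^p - e_i^{[p]}` -/
noncomputable def Zop (i : ι) : ((ι →₀ ℕ) →₀ R) →ₗ[R] ((ι →₀ ℕ) →₀ R) :=
  rho b (b i) ^ p - rho b (φ (b i))

omit [LinearOrder ι] hp [CharP R p] in
theorem commute_of_ad_eq {A : Type*} [Ring A] (X Y W : A)
    (h : Y * W - W * Y = X * W - W * X) : Commute (X - Y) W := by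
  change (X - Y) * W = W * (X - Y)
  rw [sub_mul, mul_sub, sub_eq_sub_iff_sub_eq_sub]
  exact h.symm

theorem commute_Zop_rho (i : ι) (w : L) : Commute (Zop b p φ i) (rho b w) := by
  have he := rho_lie b
  have h1 := Jacobson.map_ad_pow (A := Module.End R ((ι →₀ ℕ) →₀ R)) (rho b) he (b i) w p
  rw [← φ.ad_map (b i), LieAlgebra.ad_apply, he, Jacobson.ad_pow_char] at h1
  have h1' : rho b (φ (b i)) * rho b w - rho b w * rho b (φ (b i))
      = rho b (b i) ^ p * rho b w - rho b w * rho b (b i) ^ p := h1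
  exact commute_of_ad_eq (A := Module.End R ((ι →₀ ℕ) →₀ R)) _ _ _ h1'

theorem commute_Zop_Zop (i j : ι) : Commute (Zop b p φ i) (Zop b p φ j) := by
  exact Commute.sub_right (R := Module.End R ((ι →₀ ℕ) →₀ R))
    ((commute_Zop_rho b p φ i (b j)).pow_right p) (commute_Zop_rho b p φ i _)

theorem hasLT_Zop (i : ι) : HasLT (Zop b p φ i) (single i p) := by
  have h1 := (hasLT_rho_basis b i).pow p
  have e : p • (single i 1 : ι →₀ ℕ) = single i p := by
    rw [Finsupp.smul_single, smul_eq_mul, mul_one]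
  rw [e] at h1
  apply h1.sub
  intro m w hw
  apply Sle_le_Slt _ (rho_mem_Sle b _ hw)
  rw [Finsupp.degree_single]
  have := hp.out.two_le
  omega


omit [LinearOrder ι] hp [CharP R p] in
theorem degree_sub_single_lt0 (hp0 : 0 < p) {s : ι →₀ ℕ} {i : ι} (hi : p ≤ s i) :
    (s - single i p).degree < s.degree := by
  have h1 : s - single i p + single i p = s := by
    apply tsub_add_cancel_of_le
    rw [Finsupp.single_le_iff]
    exact hi
  have h2 := congrArg Finsupp.degree h1
  rw [map_add, Finsupp.degree_single] at h2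
  omega

omit [LinearOrder ι] [CharP R p] in
theorem degree_sub_single_lt' {s : ι →₀ ℕ} {i : ι} (hi : p ≤ s i) :
    (s - single i p).degree < s.degree :=
  degree_sub_single_lt0 p hp.out.pos hi

open Classical in
/-- the triangular change of basis, on monomials -/
noncomputable def Θs : (ι →₀ ℕ) → ((ι →₀ ℕ) →₀ R)
  | s =>
    if h : ∃ i, p ≤ s i then
      have hdec : (s - single (Classical.choose h) p).degree < s.degree :=
        degree_sub_single_lt0 p hp.out.pos (Classical.choose_spec h)
      Zop b p φ (Classical.choose h) (Θs (s - single (Classical.choose h) p))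
    else single s 1
termination_by s => s.degree
decreasing_by
  exact hdec

theorem Θs_eq_of_exists {s : ι →₀ ℕ} (h : ∃ i, p ≤ s i) :
    Θs b p φ s = Zop b p φ (Classical.choose h) (Θs b p φ (s - single (Classical.choose h) p)) := by
  rw [Θs, dif_pos h]

theorem Θs_of_lt {s : ι →₀ ℕ} (h : ∀ i, s i < p) : Θs b p φ s = single s 1 := by
  rw [Θs, dif_neg]
  push Not
  exact h

theorem sub_add_single_p {s : ι →₀ ℕ} {i : ι} (hi : p ≤ s i) :
    s - single i p + single i p = s := by
  apply tsub_add_cancel_of_le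
  rw [Finsupp.single_le_iff]
  exact hi

theorem Θs_add_single_aux : ∀ (n : ℕ) (s : ι →₀ ℕ), s.degree = n → ∀ j : ι,
    Θs b p φ (s + single j p) = Zop b p φ j (Θs b p φ s) := by
  intro n
  induction n using Nat.strong_induction_on with
  | _ n ih =>
    intro s hs j
    have hex : ∃ i, p ≤ (s + single j p) i := ⟨j, by simp⟩
    rw [Θs_eq_of_exists b p φ hex]
    set i := Classical.choose hex with hi_def
    have hi : p ≤ (s + single j p) i := Classical.choose_spec hex
    by_cases hij : i = j
    · rw [hij, add_tsub_cancel_right]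
    · have hsi : p ≤ s i := by
        rw [Finsupp.add_apply, Finsupp.single_apply, if_neg (Ne.symm hij), add_zero] at hi
        exact hi
      have hs' := sub_add_single_p p hsi
      have hdeg := degree_sub_single_lt' p hsi
      have e1 : s + single j p - single i p = (s - single i p) + single j p := by
        conv_lhs => rw [← hs']
        rw [add_right_comm, add_tsub_cancel_right]
      rw [e1, ih _ (by omega) (s - single i p) rfl j]
      have e2 := ih _ (by omega) (s - single i p) rfl i
      rw [hs'] at e2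
      rw [e2]
      have hc := commute_Zop_Zop b p φ i j
      have := congrArg (fun F => F (Θs b p φ (s - single i p))) hc.eq
      simpa [Module.End.mul_apply] using this

theorem Θs_add_single (s : ι →₀ ℕ) (j : ι) :
    Θs b p φ (s + single j p) = Zop b p φ j (Θs b p φ s) :=
  Θs_add_single_aux b p φ _ s rfl j

theorem Θs_sub_mem_aux : ∀ (n : ℕ) (s : ι →₀ ℕ), s.degree = n →
    Θs b p φ s - single s 1 ∈ Slt R ι n := by
  intro n
  induction n using Nat.strong_induction_on with
  | _ n ih =>
    intro s hs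
    by_cases hex : ∃ i, p ≤ s i
    · obtain ⟨i, hi⟩ := hex
      have hs' := sub_add_single_p p hi
      have hdeg := degree_sub_single_lt' p hi
      have hdeg2 : (s - single i p).degree + p = n := by
        have h2 := congrArg Finsupp.degree hs'
        rw [map_add, Finsupp.degree_single] at h2
        omega
      rw [← hs', Θs_add_single]
      have e : Zop b p φ i (Θs b p φ (s - single i p)) - single (s - single i p + single i p) 1
          = Zop b p φ i (Θs b p φ (s - single i p) - single (s - single i p) 1)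
            + (Zop b p φ i (single (s - single i p) 1)
              - Mtr R (single i p) (single (s - single i p) 1)) := by
        rw [map_sub, Mtr_single]
        abel
      rw [e]
      apply Submodule.add_mem
      · have h1 := ih _ (by omega) (s - single i p) rfl
        have h2 := (hasLT_Zop b p φ i).map_Slt h1
        rw [Finsupp.degree_single, hdeg2] at h2
        exact h2
      · have h2 := hasLT_Zop b p φ i (s - single i p).degree (single (s - single i p) 1)
          (single_mem_Sle le_rfl 1)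
        rw [Finsupp.degree_single, hdeg2] at h2
        exact h2
    · push Not at hex
      rw [Θs_of_lt b p φ hex, sub_self]
      exact Submodule.zero_mem _

theorem Θs_sub_mem (s : ι →₀ ℕ) : Θs b p φ s - single s 1 ∈ Slt R ι s.degree :=
  Θs_sub_mem_aux b p φ _ s rfl

/-- the triangular change of basis -/
noncomputable def Θ : ((ι →₀ ℕ) →₀ R) →ₗ[R] ((ι →₀ ℕ) →₀ R) :=
  Finsupp.linearCombination R (Θs b p φ)

@[simp] theorem Θ_single (s : ι →₀ ℕ) (c : R) : Θ b p φ (single s c) = c • Θs b p φ s := by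
  simp [Θ]

theorem Θ_sub_mem {m : ℕ} {w : (ι →₀ ℕ) →₀ R} (hw : w ∈ Sle R ι m) :
    Θ b p φ w - w ∈ Slt R ι m := by
  have := forall_mem_Sle (N := Slt R ι m) (Θ b p φ - LinearMap.id) m (by
    intro s hs
    rw [LinearMap.sub_apply, Θ_single, one_smul, LinearMap.id_apply]
    exact Slt_mono hs (Θs_sub_mem b p φ s)) w hw
  simpa using this


omit [LinearOrder ι] in
theorem mem_Sle_sup (w : (ι →₀ ℕ) →₀ R) : w ∈ Sle R ι (w.support.sup Finsupp.degree) := by
  rw [Sle, Finsupp.mem_supported]
  intro s hs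
  exact Finset.le_sup (f := Finsupp.degree) hs

theorem Θ_injective : Function.Injective (Θ b p φ) := by
  rw [injective_iff_map_eq_zero]
  intro w hw
  by_contra hne
  have hsupp : w.support.Nonempty := Finsupp.support_nonempty_iff.mpr hne
  obtain ⟨s0, hs0, hs0m⟩ := Finset.exists_mem_eq_sup w.support hsupp Finsupp.degree
  have h1 := Θ_sub_mem b p φ (mem_Sle_sup w)
  rw [hw, zero_sub, Submodule.neg_mem_iff, Slt, Finsupp.mem_supported] at h1
  have h2 : s0.degree < w.support.sup Finsupp.degree := h1 hs0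
  omega

theorem Θ_surjective : Function.Surjective (Θ b p φ) := by
  have key : ∀ (m : ℕ) (w : (ι →₀ ℕ) →₀ R), w ∈ Sle R ι m → w ∈ LinearMap.range (Θ b p φ) := by
    intro m
    induction m using Nat.strong_induction_on with
    | _ m ih =>
      intro w hw
      have h1 := Θ_sub_mem b p φ hw
      have h2 : Θ b p φ w - w ∈ LinearMap.range (Θ b p φ) := by
        rcases Nat.eq_zero_or_pos m with hm | hm
        · subst hm
          rw [Slt_zero, Submodule.mem_bot] at h1
          rw [h1]
          exact Submodule.zero_mem _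
        · exact ih (m - 1) (by omega) _ (Slt_le_Sle_pred (by omega) h1)
      have h3 : Θ b p φ w ∈ LinearMap.range (Θ b p φ) := ⟨w, rfl⟩
      have := Submodule.sub_mem _ h3 h2
      simpa using this
  intro w
  exact key _ w (mem_Sle_sup w)

/-- the span of the restricted monomials -/
def Tsub (R : Type u) [CommRing R] (ι : Type w) (p : ℕ) : Submodule R ((ι →₀ ℕ) →₀ R) :=
  Finsupp.supported R R {s | ∀ i, s i < p}

/-- the span of the non-restricted monomials -/
def Tsub' (R : Type u) [CommRing R] (ι : Type w) (p : ℕ) : Submodule R ((ι →₀ ℕ) →₀ R) :=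
  Finsupp.supported R R {s | ∃ i, p ≤ s i}

/-- the submodule generated by the images of the central elements -/
noncomputable def Wsub : Submodule R ((ι →₀ ℕ) →₀ R) :=
  ⨆ i, LinearMap.range (Zop b p φ i)

theorem Θ_eq_self_of_mem_Tsub {w : (ι →₀ ℕ) →₀ R} (hw : w ∈ Tsub R ι p) : Θ b p φ w = w := by
  rw [Tsub, Finsupp.supported_eq_span_single] at hw
  induction hw using Submodule.span_induction with
  | mem w hw =>
    obtain ⟨s, hs, rfl⟩ := hw
    rw [Θ_single, one_smul, Θs_of_lt b p φ hs]
  | zero => simp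
  | add w w' _ _ h1 h2 => rw [map_add, h1, h2]
  | smul c w _ h1 => rw [map_smul, h1]

theorem Θ_mem_Wsub_of_mem_Tsub' {w : (ι →₀ ℕ) →₀ R} (hw : w ∈ Tsub' R ι p) :
    Θ b p φ w ∈ Wsub b p φ := by
  rw [Tsub', Finsupp.supported_eq_span_single] at hw
  induction hw using Submodule.span_induction with
  | mem w hw =>
    obtain ⟨s, ⟨i, hi⟩, rfl⟩ := hw
    rw [Θ_single, one_smul, ← sub_add_single_p p hi, Θs_add_single]
    exact Submodule.mem_iSup_of_mem i ⟨_, rfl⟩
  | zero => simp
  | add w w' _ _ h1 h2 => rw [map_add]; exact Submodule.add_mem _ h1 h2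
  | smul c w _ h1 => rw [map_smul]; exact Submodule.smul_mem _ c h1

theorem Zop_Θ (i : ι) (w : (ι →₀ ℕ) →₀ R) :
    Zop b p φ i (Θ b p φ w) = Θ b p φ (Mtr R (single i p) w) := by
  induction w using Finsupp.induction_linear with
  | zero => simp
  | add w w' h1 h2 => simp only [map_add, h1, h2]
  | single s c =>
    rw [Θ_single, map_smul, Mtr_single, Θ_single, Θs_add_single]

omit [LinearOrder ι] in
theorem Mtr_mem_Tsub' (i : ι) (w : (ι →₀ ℕ) →₀ R) : Mtr R (single i p) w ∈ Tsub' R ι p := by
  induction w using Finsupp.induction_linear with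
  | zero => simp
  | add w w' h1 h2 => rw [map_add]; exact Submodule.add_mem _ h1 h2
  | single s c =>
    rw [Mtr_single]
    apply Finsupp.single_mem_supported
    exact ⟨i, by simp⟩

theorem Wsub_le : Wsub b p φ ≤ (Tsub' R ι p).map (Θ b p φ) := by
  unfold Wsub
  apply iSup_le
  rintro i _ ⟨u, rfl⟩
  obtain ⟨u', rfl⟩ := Θ_surjective b p φ u
  rw [Zop_Θ]
  exact ⟨_, Mtr_mem_Tsub' p i u', rfl⟩

omit [LinearOrder ι] in
theorem Tsub_disjoint : Disjoint (Tsub R ι p) (Tsub' R ι p) := by
  unfold Tsub Tsub'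
  apply Finsupp.disjoint_supported_supported
  rw [Set.disjoint_left]
  rintro s hs ⟨i, hi⟩
  exact absurd (hs i) (not_lt.mpr hi)

theorem Tsub_inf_Wsub : Tsub R ι p ⊓ Wsub b p φ = ⊥ := by
  rw [eq_bot_iff]
  rintro u ⟨hu1, hu2⟩
  obtain ⟨v, hv, hvu⟩ := Wsub_le b p φ hu2
  have h1 : Θ b p φ u = u := Θ_eq_self_of_mem_Tsub b p φ hu1
  have h2 : v = u := Θ_injective b p φ (hvu.trans h1.symm)
  subst h2
  have := (Tsub_disjoint (R := R) (ι := ι) p).le_bot ⟨hu1, hv⟩
  exact this

theorem Tsub_sup_Wsub : Tsub R ι p ⊔ Wsub b p φ = ⊤ := by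
  rw [eq_top_iff]
  rintro u -
  obtain ⟨u', rfl⟩ := Θ_surjective b p φ u
  induction u' using Finsupp.induction_linear with
  | zero => simp
  | add w w' h1 h2 => rw [map_add]; exact Submodule.add_mem _ h1 h2
  | single s c =>
    by_cases hex : ∃ i, p ≤ s i
    · apply Submodule.mem_sup_right
      apply Θ_mem_Wsub_of_mem_Tsub'
      exact Finsupp.single_mem_supported R c hex
    · push Not at hex
      apply Submodule.mem_sup_left
      have hm : single s c ∈ Tsub R ι p := Finsupp.single_mem_supported R c hex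
      rw [Θ_eq_self_of_mem_Tsub b p φ hm]
      exact hm


theorem Wsub_le_comap (x : L) : Wsub b p φ ≤ (Wsub b p φ).comap (rho b x) := by
  unfold Wsub
  apply iSup_le
  rintro i _ ⟨u, rfl⟩
  rw [Submodule.mem_comap]
  have hc := commute_Zop_rho b p φ i x
  have h1 : rho b x (Zop b p φ i u) = Zop b p φ i (rho b x u) := by
    have := congrArg (fun F => F u) hc.eq
    simpa [Module.End.mul_apply] using this.symm
  rw [h1]
  exact Submodule.mem_iSup_of_mem i ⟨_, rfl⟩

/-- the restricted representation: the action of `L` on the quotient by the central elements -/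
noncomputable def ebar : L →ₗ[R] Module.End R (((ι →₀ ℕ) →₀ R) ⧸ Wsub b p φ) where
  toFun x := (Wsub b p φ).mapQ (Wsub b p φ) (rho b x) (Wsub_le_comap b p φ x)
  map_add' x y := by
    apply Submodule.linearMap_qext
    ext u
    simp
  map_smul' c x := by
    apply Submodule.linearMap_qext
    ext u
    simp

@[simp] theorem ebar_mk (x : L) (u : (ι →₀ ℕ) →₀ R) :
    ebar b p φ x (Submodule.Quotient.mk u) = Submodule.Quotient.mk (rho b x u) := rfl

theorem ebar_lie (x y : L) :
    ebar b p φ ⁅x, y⁆ = ebar b p φ x * ebar b p φ y - ebar b p φ y * ebar b p φ x := by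
  apply Submodule.linearMap_qext
  ext u
  simp [rho_lie b x y, Module.End.mul_apply]

theorem ebar_pow_mk (x : L) (j : ℕ) (u : (ι →₀ ℕ) →₀ R) :
    (ebar b p φ x ^ j) (Submodule.Quotient.mk u) = Submodule.Quotient.mk ((rho b x ^ j) u) := by
  induction j generalizing u with
  | zero => simp
  | succ j ih =>
    rw [pow_succ, Module.End.mul_apply, ebar_mk, ih, pow_succ, Module.End.mul_apply]

theorem ebar_pmap_basis (i : ι) : ebar b p φ (φ (b i)) = ebar b p φ (b i) ^ p := by
  apply Submodule.linearMap_qext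
  apply LinearMap.ext
  intro u
  simp only [LinearMap.coe_comp, Function.comp_apply, Submodule.mkQ_apply, ebar_mk, ebar_pow_mk]
  rw [eq_comm, ← sub_eq_zero, ← Submodule.Quotient.mk_sub, Submodule.Quotient.mk_eq_zero]
  have : (rho b (b i) ^ p) u - rho b (φ (b i)) u = Zop b p φ i u := rfl
  rw [this]
  exact Submodule.mem_iSup_of_mem i ⟨_, rfl⟩

theorem rho_vacuum (x : L) : rho b x (single 0 1)
    = Finsupp.mapDomain (fun k : ι => (single k 1 : ι →₀ ℕ)) (b.repr x) := by
  rw [rho_apply, Finsupp.mapDomain]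
  apply Finsupp.sum_congr
  intro k _
  rw [Xl_single, one_smul, X_of_leAll b (s := 0) (i := k) (by intro j hj; simp at hj), zero_add,
    Finsupp.smul_single, smul_eq_mul, mul_one]

theorem ebar_injective : Function.Injective (ebar b p φ) := by
  rw [injective_iff_map_eq_zero]
  intro x hx
  have h1 : rho b x (single 0 1) ∈ Wsub b p φ := by
    have := congrArg (fun F => F (Submodule.Quotient.mk (single 0 1))) hx
    simpa [Submodule.Quotient.mk_eq_zero] using this
  have h2 : rho b x (single 0 1) ∈ Tsub R ι p := by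
    rw [rho_vacuum, Finsupp.mapDomain, Finsupp.sum]
    apply Submodule.sum_mem
    intro k _
    apply Finsupp.single_mem_supported
    intro i
    have := hp.out.two_le
    rw [Finsupp.single_apply]
    split_ifs <;> omega
  have h3 : rho b x (single 0 1) = 0 := by
    have : rho b x (single 0 1) ∈ Tsub R ι p ⊓ Wsub b p φ := ⟨h2, h1⟩
    rw [Tsub_inf_Wsub] at this
    exact this
  rw [rho_vacuum] at h3
  have hinj : Function.Injective (fun k : ι => (single k 1 : ι →₀ ℕ)) :=
    Finsupp.single_left_injective one_ne_zero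
  have h4 : b.repr x = 0 := by
    apply Finsupp.mapDomain_injective hinj
    rw [h3, Finsupp.mapDomain_zero]
  exact b.repr.injective (by rw [h4, map_zero])

omit [LinearOrder ι] in
theorem finite_restricted [Finite ι] : {s : ι →₀ ℕ | ∀ i, s i < p}.Finite := by
  have h1 : (Set.pi Set.univ fun _ : ι => Set.Iio p).Finite :=
    Set.Finite.pi fun _ => Set.finite_Iio p
  have h2 := h1.preimage (f := fun s : ι →₀ ℕ => (s : ι → ℕ)) (by
    intro s _ s' _ h
    exact DFunLike.coe_injective h)
  convert h2 using 1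
  ext s
  simp

theorem finite_quotient [Finite ι] : Module.Finite R (((ι →₀ ℕ) →₀ R) ⧸ Wsub b p φ) := by
  have hfin := finite_restricted (ι := ι) p
  have : Finite ↥{s : ι →₀ ℕ | ∀ i, s i < p} := hfin.to_subtype
  have h1 : Module.Finite R ↥(Tsub R ι p) :=
    Module.Finite.equiv (Finsupp.supportedEquivFinsupp (M := R) (R := R) _).symm
  apply Module.Finite.of_surjective ((Wsub b p φ).mkQ ∘ₗ (Tsub R ι p).subtype)
  intro v
  obtain ⟨u, rfl⟩ := Submodule.Quotient.mk_surjective _ v
  have hu : u ∈ Tsub R ι p ⊔ Wsub b p φ := by rw [Tsub_sup_Wsub]; trivial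
  obtain ⟨t, ht, w, hw, rfl⟩ := Submodule.mem_sup.mp hu
  refine ⟨⟨t, ht⟩, ?_⟩
  simp only [LinearMap.coe_comp, Function.comp_apply, Submodule.subtype_apply, Submodule.mkQ_apply]
  rw [Submodule.Quotient.mk_add, (Submodule.Quotient.mk_eq_zero _).mpr hw, add_zero]

end Rho


section General

variable {R : Type u} [CommRing R] (p : ℕ) [hp : Fact p.Prime] [CharP R p]
  {L : Type v} [LieRing L] [LieAlgebra R L] {A : Type*} [Ring A] [Algebra R A]

/-- a Lie map into an associative algebra which is compatible with the `p`-map on a spanning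
set is compatible everywhere -/
theorem map_pmap_of_span (e : L →ₗ[R] A)
    (he : ∀ x y : L, e ⁅x, y⁆ = e x * e y - e y * e x) (φ : PLie.PMap R p L)
    {s : Set L} (hs : Submodule.span R s = ⊤) (h : ∀ x ∈ s, e (φ x) = e x ^ p) (x : L) :
    e (φ x) = e x ^ p := by
  have hx : x ∈ Submodule.span R s := by rw [hs]; trivial
  induction hx using Submodule.span_induction with
  | mem x hx => exact h x hx
  | zero =>
    have h1 := φ.map_smul 0 0
    rw [zero_smul, zero_pow hp.out.ne_zero, zero_smul] at h1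
    change φ 0 = 0 at h1
    rw [h1, map_zero, zero_pow hp.out.ne_zero]
  | add x y _ _ h1 h2 =>
    have e1 := φ.map_add x y
    change φ (x + y) = φ x + φ y - _ at e1
    rw [e1, map_sub, map_add, h1, h2, Jacobson.map_jacobson p e he, map_add,
      Jacobson.jacobson_assoc (R := R) p (e x) (e y)]
  | smul c x _ h1 =>
    have e1 := φ.map_smul c x
    change φ (c • x) = c ^ p • φ x at e1
    rw [e1, map_smul, h1, map_smul, smul_pow]

end General

end Groth.Agent.Lib.Helper26.RestrictedEnv
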