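import Groth.Agent.Lib.Helper26.RkOne1

set_option autoImplicit false
set_option linter.unusedSectionVars false
set_option linter.style.haveILetI false
universe u
open CategoryTheory CategoryTheory.Limits Abelian

namespace Groth.Agent.Lib.Helper26.RkOne

/-- the trace ideal -/
def traceIdeal (S : Type u) [CommRing S] (M : Type u) [AddCommGroup M] [Module S M] : Ideal S :=
  Submodule.span S (Set.range (fun q : Module.Dual S M × M => q.1 q.2))

theorem apply_mem_traceIdeal {S : Type u} [CommRing S] {M : Type u} [AddCommGroup M] [Module S M]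
    (φ : Module.Dual S M) (m : M) : φ m ∈ traceIdeal S M :=
  Submodule.subset_span ⟨(φ, m), rfl⟩

/-- endomorphisms of the dual of a reflexive module with `S = End M` are scalars -/
theorem end_dual_scalar (S : Type u) [CommRing S] (M : Type u) [AddCommGroup M] [Module S M]
    [Module.IsReflexive S M]
    (hsurj : Function.Surjective (algebraMap S (Module.End S M)))
    (g : Module.End S (Module.Dual S M)) : ∃ s : S, ∀ φ : Module.Dual S M, g φ = s • φ := by
  let ev := Module.evalEquiv S M
  let h : M →ₗ[S] M := ev.symm.toLinearMap ∘ₗ (Module.Dual.transpose g) ∘ₗ ev.toLinearMap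
  obtain ⟨s, hs⟩ := hsurj h
  refine ⟨s, fun φ => ?_⟩
  ext m
  have h1 : ev (h m) = Module.Dual.transpose g (ev m) := by
    simp [h]
  have h2 := LinearMap.congr_fun h1 φ
  rw [← hs] at h2
  simp only [Module.algebraMap_end_apply, ev, Module.evalEquiv_apply, Module.Dual.eval_apply,
    Module.Dual.transpose_apply, LinearMap.comp_apply, map_smul] at h2
  simpa using h2.symm

/-- maps from the trace ideal to `S` are scalars -/
theorem hom_trace_scalar (S : Type u) [CommRing S] (M : Type u) [AddCommGroup M] [Module S M]
    [Module.IsReflexive S M]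
    (hsurj : Function.Surjective (algebraMap S (Module.End S M)))
    (g : traceIdeal S M →ₗ[S] S) : ∃ s : S, ∀ t : traceIdeal S M, g t = s * t := by
  let tr : Module.Dual S M → M → traceIdeal S M := fun φ m => ⟨φ m, apply_mem_traceIdeal φ m⟩
  have tr_add_r : ∀ φ m m', tr φ (m + m') = tr φ m + tr φ m' := fun φ m m' =>
    Subtype.ext (by simp [tr])
  have tr_smul_r : ∀ φ (c : S) m, tr φ (c • m) = c • tr φ m := fun φ c m =>
    Subtype.ext (by simp [tr])
  have tr_add_l : ∀ φ ψ m, tr (φ + ψ) m = tr φ m + tr ψ m := fun φ ψ m =>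
    Subtype.ext (by simp [tr])
  have tr_smul_l : ∀ (c : S) φ m, tr (c • φ) m = c • tr φ m := fun c φ m =>
    Subtype.ext (by simp [tr])
  let G : Module.End S (Module.Dual S M) :=
    { toFun := fun φ =>
        { toFun := fun m => g (tr φ m)
          map_add' := fun m m' => by rw [tr_add_r, map_add]
          map_smul' := fun c m => by rw [tr_smul_r, map_smul, RingHom.id_apply] }
      map_add' := fun φ ψ => by
        ext m
        simp only [LinearMap.coe_mk, AddHom.coe_mk, LinearMap.add_apply]
        rw [tr_add_l, map_add]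
      map_smul' := fun c φ => by
        ext m
        simp only [LinearMap.coe_mk, AddHom.coe_mk, LinearMap.smul_apply, RingHom.id_apply]
        rw [tr_smul_l, map_smul] }
  obtain ⟨s, hs⟩ := end_dual_scalar S M hsurj G
  refine ⟨s, ?_⟩
  have key : ∀ t : S, ∀ ht : t ∈ traceIdeal S M, g ⟨t, ht⟩ = s * t := by
    intro t ht
    induction ht using Submodule.span_induction with
    | mem t ht =>
      obtain ⟨⟨φ, m⟩, rfl⟩ := ht
      have := LinearMap.congr_fun (hs φ) m
      simpa [G, tr] using this
    | zero =>
      have : (⟨0, (traceIdeal S M).zero_mem⟩ : traceIdeal S M) = 0 := rfl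
      rw [this, map_zero, mul_zero]
    | add a b ha hb iha ihb =>
      have : (⟨a + b, (traceIdeal S M).add_mem ha hb⟩ : traceIdeal S M) = ⟨a, ha⟩ + ⟨b, hb⟩ := rfl
      rw [this, map_add, iha, ihb, mul_add]
    | smul c a ha iha =>
      have : (⟨c • a, (traceIdeal S M).smul_mem c ha⟩ : traceIdeal S M) = c • ⟨a, ha⟩ := rfl
      rw [this, map_smul, iha, smul_eq_mul, smul_eq_mul]
      ring
  intro t
  exact key t.1 t.2

end Groth.Agent.Lib.Helper26.RkOne
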