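import Groth.Agent.Lib.Helper26.RkOne2

set_option autoImplicit false
set_option linter.unusedSectionVars false
set_option linter.style.haveILetI false
universe u
open CategoryTheory CategoryTheory.Limits Abelian

namespace Groth.Agent.Lib.Helper26.RkOne

theorem traceIdeal_eq_top (S : Type u) [CommRing S] [IsNoetherianRing S] [IsReduced S]
    (hdim : ringKrullDim S ≤ 1) (M : Type u) [AddCommGroup M] [Module S M] [Module.Finite S M]
    [Module.IsReflexive S M] (hbij : Function.Bijective (algebraMap S (Module.End S M))) :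
    traceIdeal S M = ⊤ := by
  set τ := traceIdeal S M with hτ
  -- (i) not contained in minimal primes
  have hmin : ∀ p ∈ minimalPrimes S, ¬ τ ≤ p := by
    intro p hp hle
    obtain ⟨y, hyp, hy⟩ := exists_kill_minimal S p hp
    apply hyp
    have hy0 : y = 0 := by
      apply hbij.1
      rw [map_zero]
      ext m
      simp only [Module.algebraMap_end_apply, LinearMap.zero_apply]
      apply (Module.bijective_dual_eval S M).1
      rw [map_zero]
      ext φ
      simp only [Module.Dual.eval_apply, map_smul, smul_eq_mul, LinearMap.zero_apply]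
      exact hy _ (hle (apply_mem_traceIdeal φ m))
    rw [hy0]
    exact p.zero_mem
  obtain ⟨x, hxτ, hxmin, hxnzd⟩ := exists_nzd_mem S τ hmin
  have hI : ∀ P : Ideal S, P.IsPrime → Ideal.span {x} ≤ P → P.IsMaximal := by
    intro P hP hle
    have hdim' : Ring.KrullDimLE 1 S := by
      rw [Ring.krullDimLE_iff]
      exact_mod_cast hdim
    rcases Ring.krullDimLE_one_iff.mp hdim' P hP with h | h
    · exact absurd (hle (Ideal.subset_span rfl)) (hxmin P h)
    · exact h
  by_contra hne
  haveI : Nontrivial (S ⧸ τ) := Ideal.Quotient.nontrivial_iff.mpr hne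
  have hE : Subsingleton (Ext (ModuleCat.of S S) (ModuleCat.of S S) 1) :=
    subsingleton_of_forall_eq 0 (fun e => Ext.eq_zero_of_projective e)
  have hT : Subsingleton (Ext (ModuleCat.of S (S ⧸ τ)) (ModuleCat.of S S) 1) := by
    refine Refl.subsingleton_ext_one_coker (ModuleCat.of S S) τ.subtype τ.mkQ
      Subtype.val_injective (Submodule.mkQ_surjective τ) (LinearMap.exact_subtype_mkQ τ) hE ?_
    intro φ
    obtain ⟨s, hs⟩ := hom_trace_scalar S M hbij.2 φ
    refine ⟨LinearMap.mulLeft S s, ?_⟩
    ext t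
    simp only [LinearMap.comp_apply, Submodule.subtype_apply, LinearMap.mulLeft_apply]
    exact (hs t).symm
  have hIT : ∀ a ∈ Ideal.span {x}, ∀ t : S ⧸ τ, a • t = 0 := by
    intro a ha t
    obtain ⟨s, rfl⟩ := Ideal.Quotient.mk_surjective t
    have : a ∈ τ := (Ideal.span_singleton_le_iff_mem τ |>.mpr hxτ) ha
    change a • (Submodule.Quotient.mk s : S ⧸ τ) = 0
    rw [← Submodule.Quotient.mk_smul, Submodule.Quotient.mk_eq_zero]
    exact Ideal.mul_mem_right _ _ this
  obtain ⟨φ, hφ⟩ := Refl.exists_ne_zero_dual_quot S (Ideal.span {x}) hI (S ⧸ τ) hIT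
  obtain ⟨g', hg'⟩ := Refl.exists_lift_of_ext_one x hxnzd (S ⧸ τ) hT φ
  apply hφ
  have hg0 : g' = 0 := by
    refine LinearMap.ext fun t => ?_
    have h1 : x • g' t = 0 := by
      rw [← map_smul, hIT x (Ideal.subset_span rfl) t, map_zero]
    rw [smul_eq_mul, mul_comm] at h1
    simpa using (mem_nonZeroDivisors_iff_right.mp hxnzd) _ h1
  rw [← hg', hg0, LinearMap.comp_zero]

end Groth.Agent.Lib.Helper26.RkOne
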