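import Groth.Agent.Lib.Helper26.RkOne3

set_option autoImplicit false
set_option linter.unusedSectionVars false
set_option linter.style.haveILetI false
universe u

namespace Groth.Agent.Lib.Helper26.RkOne

theorem exists_equiv_of_trace_top (S : Type u) [CommRing S] (M : Type u) [AddCommGroup M]
    [Module S M]
    (hsurj : Function.Surjective (algebraMap S (Module.End S M)))
    (htop : traceIdeal S M = ⊤) (P : Ideal S) [hP : P.IsPrime] :
    Nonempty (LocalizedModule P.primeCompl M ≃ₗ[Localization.AtPrime P]
      Localization.AtPrime P) := by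
  -- a functional and an element with value outside `P`
  obtain ⟨φ, m, hu⟩ : ∃ (φ : Module.Dual S M) (m : M), φ m ∉ P := by
    by_contra hcon
    push Not at hcon
    have hle : traceIdeal S M ≤ P := by
      refine Submodule.span_le.mpr ?_
      rintro _ ⟨⟨φ, m⟩, rfl⟩
      exact hcon φ m
    rw [htop] at hle
    exact hP.ne_top (top_le_iff.mp hle)
  set u := φ m with hu_def
  let ι : S →ₗ[S] M := LinearMap.toSpanSingleton S M m
  obtain ⟨a, ha⟩ := hsurj (ι ∘ₗ φ)
  have ha' : ∀ n : M, φ n • m = a • n := by
    intro n
    have := LinearMap.congr_fun ha n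
    simp only [Module.algebraMap_end_apply, LinearMap.comp_apply, ι,
      LinearMap.toSpanSingleton_apply] at this
    exact this.symm
  have hua : u * u = a * u := by
    have := congrArg φ (ha' m)
    simpa [hu_def] using this
  have haP : a ∉ P := by
    intro haP
    have : u * u ∈ P := by rw [hua]; exact Ideal.mul_mem_right _ _ haP
    exact hu ((hP.mem_or_mem this).elim id id)
  let f := LocalizedModule.mkLinearMap P.primeCompl M
  let g : S →ₗ[S] Localization.AtPrime P := Algebra.linearMap S (Localization.AtPrime P)
  let Φ := IsLocalizedModule.map P.primeCompl f g φ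
  let Ψ := IsLocalizedModule.map P.primeCompl g f ι
  have hΨΦ : Ψ ∘ₗ Φ = a • LinearMap.id := by
    rw [← IsLocalizedModule.map_comp' P.primeCompl f g f, ← ha]
    have : algebraMap S (Module.End S M) a = a • LinearMap.id := by
      ext n; simp
    rw [this, map_smul, IsLocalizedModule.map_id]
  have hφι : φ ∘ₗ ι = u • LinearMap.id := by
    ext
    simp [ι, hu_def]
  have hΦΨ : Φ ∘ₗ Ψ = u • LinearMap.id := by
    rw [← IsLocalizedModule.map_comp' P.primeCompl g f g, hφι, map_smul,
      IsLocalizedModule.map_id]
  have hinj : Function.Injective Φ := by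
    rw [injective_iff_map_eq_zero]
    intro y hy
    have h1 : a • y = 0 := by
      have := LinearMap.congr_fun hΨΦ y
      simp only [LinearMap.comp_apply, hy, map_zero, LinearMap.smul_apply,
        LinearMap.id_apply] at this
      exact this.symm
    have hunit := IsLocalizedModule.map_units f (⟨a, haP⟩ : P.primeCompl)
    have hb := (Module.End.isUnit_iff _).mp hunit
    apply hb.1
    simpa using h1
  have hsurjΦ : Function.Surjective Φ := by
    intro z
    have hunit := IsLocalizedModule.map_units g (⟨u, hu⟩ : P.primeCompl)
    have hb := (Module.End.isUnit_iff _).mp hunit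
    obtain ⟨z', hz'⟩ := hb.2 z
    refine ⟨Ψ z', ?_⟩
    have := LinearMap.congr_fun hΦΨ z'
    simp only [LinearMap.comp_apply, LinearMap.smul_apply, LinearMap.id_apply] at this
    rw [this]
    simpa using hz'
  let e : LocalizedModule P.primeCompl M ≃ₗ[S] Localization.AtPrime P :=
    LinearEquiv.ofBijective Φ ⟨hinj, hsurjΦ⟩
  exact ⟨LinearEquiv.extendScalarsOfIsLocalization P.primeCompl (Localization.AtPrime P) e⟩

end Groth.Agent.Lib.Helper26.RkOne
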