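import Groth.Agent.Lib.Helper26.RkOne4

set_option autoImplicit false
set_option linter.unusedSectionVars false
set_option linter.style.haveILetI false
universe u

namespace Groth.Agent.Lib.Helper26.RkOne

theorem injective_of_locally_free (S : Type u) [CommRing S] (M : Type u) [AddCommGroup M]
    [Module S M]
    (h : ∀ (P : Ideal S) (_ : P.IsPrime),
      Nonempty (LocalizedModule P.primeCompl M ≃ₗ[Localization.AtPrime P]
        Localization.AtPrime P)) :
    Function.Injective (algebraMap S (Module.End S M)) := by
  rw [injective_iff_map_eq_zero]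
  intro s hs
  have hsM : ∀ n : M, s • n = 0 := fun n => by
    have := LinearMap.congr_fun hs n
    simpa using this
  refine eq_zero_of_localization s (fun J hJ => ?_)
  obtain ⟨e⟩ := h J hJ.isPrime
  let eS := e.restrictScalars S
  have h0 : ∀ y : LocalizedModule J.primeCompl M, s • y = 0 := by
    intro y
    induction y using LocalizedModule.induction_on with
    | h n t => rw [LocalizedModule.smul'_mk, hsM, LocalizedModule.zero_mk]
  have h1 : s • (eS.symm 1) = 0 := h0 _
  have h2 := congrArg eS h1
  rw [map_smul, LinearEquiv.apply_symm_apply, map_zero] at h2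
  rw [Algebra.algebraMap_eq_smul_one]
  exact h2

theorem surjective_of_locally_free (S : Type u) [CommRing S] (M : Type u) [AddCommGroup M]
    [Module S M] [Module.Finite S M]
    (h : ∀ (P : Ideal S) (_ : P.IsPrime),
      Nonempty (LocalizedModule P.primeCompl M ≃ₗ[Localization.AtPrime P]
        Localization.AtPrime P)) :
    Function.Surjective (algebraMap S (Module.End S M)) := by
  classical
  intro F
  let I : Ideal S :=
    { carrier := {t | ∃ a : S, t • F = a • (LinearMap.id : M →ₗ[S] M)}
      zero_mem' := ⟨0, by simp⟩
      add_mem' := by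
        rintro t t' ⟨a, ha⟩ ⟨a', ha'⟩
        exact ⟨a + a', by rw [add_smul, add_smul, ha, ha']⟩
      smul_mem' := by
        rintro c t ⟨a, ha⟩
        exact ⟨c * a, by rw [smul_eq_mul, mul_smul, mul_smul, ha]⟩ }
  have hI : I = ⊤ := by
    by_contra hne
    obtain ⟨P, hPmax, hIP⟩ := Ideal.exists_le_maximal I hne
    haveI := hPmax.isPrime
    obtain ⟨e⟩ := h P hPmax.isPrime
    let eS := e.restrictScalars S
    let f := LocalizedModule.mkLinearMap P.primeCompl M
    let FP := IsLocalizedModule.map P.primeCompl f f F
    let g : Localization.AtPrime P →ₗ[S] Localization.AtPrime P :=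
      eS.toLinearMap ∘ₗ FP ∘ₗ eS.symm.toLinearMap
    let g' := LinearMap.extendScalarsOfIsLocalization P.primeCompl (Localization.AtPrime P) g
    set c := g 1 with hc
    have hg : ∀ z : Localization.AtPrime P, g z = z * c := by
      intro z
      have h1 : g' z = z • g' 1 := by
        rw [← map_smul, smul_eq_mul, mul_one]
      simpa [g'] using h1
    obtain ⟨⟨a₀, t₀⟩, hc'⟩ := IsLocalization.surj P.primeCompl c
    simp only at hc'
    have key : ∀ n : M, ∃ v : P.primeCompl, v • ((t₀ : S) • F n - a₀ • n) = 0 := by
      intro n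
      rw [← IsLocalizedModule.eq_zero_iff P.primeCompl f]
      have h1 : eS (f (F n)) = eS (f n) * c := by
        rw [← hg]
        simp only [g, LinearMap.comp_apply, LinearEquiv.coe_coe, LinearEquiv.symm_apply_apply]
        rw [IsLocalizedModule.map_apply]
      apply eS.injective
      rw [map_zero, map_sub, map_sub, sub_eq_zero, map_smul, map_smul, map_smul, map_smul, h1,
        Algebra.smul_def, Algebra.smul_def, mul_comm (eS (f n)) c, ← mul_assoc,
        mul_comm _ c, hc', mul_comm]
    choose v hv using key
    obtain ⟨G, hG⟩ := (Module.finite_def.mp (inferInstance : Module.Finite S M))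
    let w : S := ∏ n ∈ G, (v n : S)
    have hwP : w ∉ P := by
      have : w ∈ P.primeCompl := Submonoid.prod_mem _ (fun n _ => (v n).2)
      exact this
    have hw : (w * t₀) • F = (w * a₀) • (LinearMap.id : M →ₗ[S] M) := by
      apply LinearMap.ext_on hG
      intro n hn
      obtain ⟨w', hw'⟩ := Finset.dvd_prod_of_mem (fun n => (v n : S)) hn
      have h1 := hv n
      have h2 : w • ((t₀ : S) • F n - a₀ • n) = 0 := by
        change (∏ n ∈ G, (v n : S)) • _ = 0
        rw [hw', mul_comm, mul_smul]
        have : (v n : S) • ((t₀ : S) • F n - a₀ • n) = 0 := h1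
        rw [this, smul_zero]
      rw [smul_sub, sub_eq_zero, smul_smul, smul_smul] at h2
      simpa using h2
    have hmem : w * t₀ ∈ I := ⟨w * a₀, hw⟩
    have := hIP hmem
    rcases hPmax.isPrime.mem_or_mem this with h | h
    · exact hwP h
    · exact t₀.2 h
  have h1 : (1 : S) ∈ I := hI ▸ Submodule.mem_top
  obtain ⟨a, ha⟩ := h1
  refine ⟨a, ?_⟩
  rw [one_smul] at ha
  rw [ha]
  ext n
  simp

end Groth.Agent.Lib.Helper26.RkOne
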