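import Mathlib

/-!
# Syntomic lifting (helper26), part 1: pure algebra

* `exists_retraction`: an étale neighbourhood `W` of `(P, 𝔞)` retracts onto `P ⧸ 𝔞 ^ 2`.
* `mem_of_map_mem`: contraction of extended ideals containing `𝔞 ^ 2`.
-/

set_option autoImplicit false
universe u

namespace Groth.Agent.Lib.Helper26.SL1

variable {P W : Type u} [CommRing P] [CommRing W] [Algebra P W]

/-- A formally smooth `P`-algebra with a `P`-algebra map to `P ⧸ 𝔞` maps to `P ⧸ 𝔞 ^ 2`. -/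
theorem exists_retraction [Algebra.FormallySmooth P W] (𝔞 : Ideal P) (φ₀ : W →ₐ[P] P ⧸ 𝔞) :
    Nonempty (W →ₐ[P] P ⧸ 𝔞 ^ 2) := by
  have hle : 𝔞 ^ 2 ≤ 𝔞 := Ideal.pow_le_self two_ne_zero
  let g : (P ⧸ 𝔞 ^ 2) →ₐ[P] P ⧸ 𝔞 := Ideal.Quotient.factorₐ P hle
  have hg : Function.Surjective g := Ideal.Quotient.factor_surjective hle
  have hker : RingHom.ker (g : (P ⧸ 𝔞 ^ 2) →+* P ⧸ 𝔞) = 𝔞.map (Ideal.Quotient.mk (𝔞 ^ 2)) := by
    exact Ideal.Quotient.factor_ker hle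
  have hnil : IsNilpotent (RingHom.ker (g : (P ⧸ 𝔞 ^ 2) →+* P ⧸ 𝔞)) := by
    refine ⟨2, ?_⟩
    rw [hker, ← Ideal.map_pow, Ideal.map_quotient_self]
    rfl
  exact ⟨Algebra.FormallySmooth.liftOfSurjective φ₀ g hg hnil⟩

/-- Contraction: if `x : P` maps into `𝔠 W` with `𝔞 ^ 2 ≤ 𝔠`, then `x ∈ 𝔠`. -/
theorem mem_of_map_mem (𝔞 : Ideal P) (ρ : W →ₐ[P] P ⧸ 𝔞 ^ 2) (𝔠 : Ideal P) (h𝔠 : 𝔞 ^ 2 ≤ 𝔠)
    (x : P) (hx : algebraMap P W x ∈ 𝔠.map (algebraMap P W)) : x ∈ 𝔠 := by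
  have h1 : 𝔠.map (algebraMap P W) ≤ (𝔠.map (Ideal.Quotient.mk (𝔞 ^ 2))).comap ρ.toRingHom := by
    rw [Ideal.map_le_iff_le_comap]
    intro y hy
    rw [Ideal.mem_comap, Ideal.mem_comap]
    change ρ (algebraMap P W y) ∈ _
    rw [ρ.commutes]
    exact Ideal.mem_map_of_mem _ hy
  have h2 := h1 hx
  rw [Ideal.mem_comap] at h2
  change ρ (algebraMap P W x) ∈ _ at h2
  rw [ρ.commutes] at h2
  have h3 : x ∈ 𝔠 ⊔ 𝔞 ^ 2 := by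
    rw [← Ideal.mem_quotient_iff_mem_sup]
    exact h2
  rwa [sup_eq_left.mpr h𝔠] at h3

end Groth.Agent.Lib.Helper26.SL1
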