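import Mathlib

/-!
# Syntomic lifting (helper26), part 2: the rank argument (pure algebra)
-/

set_option autoImplicit false
universe u

namespace Groth.Agent.Lib.Helper26.SL2

section H3

variable {R P B : Type u} [CommRing R] [CommRing P] [CommRing B] [Algebra R P] [Algebra P B]
  [Algebra R B] [IsScalarTower R P B]

/-- The key congruence: if a combination of the generators `k = E f` lies in `𝔭 B`, then the
coefficient vector times `E` lies in `𝔭 B + 𝔞 B`. -/
theorem coeff_mem {m : ℕ} (I p : Ideal R) (𝔞 : Ideal P) (f : Fin m → P) (hf : ∀ l, f l ∈ 𝔞)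
    (B0 : Matrix (Fin m) (Fin m) P) (E : Matrix (Fin m) (Fin m) B)
    (hEE : ∀ j l, E j l - algebraMap P B (B0 j l) ∈ 𝔞.map (algebraMap P B))
    (hM2 : ∀ j l, (B0 * B0) j l - B0 j l ∈ 𝔞)
    (hM3 : ∀ b : Fin m → P, ∑ j, b j * f j ∈
        p.map (algebraMap R P) * 𝔞 ⊔ I.map (algebraMap R P) ⊔ 𝔞 ^ 2 →
      ∀ l, ∑ j, b j * B0 j l ∈ p.map (algebraMap R P) ⊔ 𝔞)
    (hsurj : ∀ b : B, ∃ y : P, b - algebraMap P B y ∈ 𝔞.map (algebraMap P B))
    (hcontr : ∀ (𝔠 : Ideal P), 𝔞 ^ 2 ≤ 𝔠 → ∀ x : P,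
      algebraMap P B x ∈ 𝔠.map (algebraMap P B) → x ∈ 𝔠)
    (K : Ideal B) (hK : K = Ideal.span (Set.range fun j => ∑ l, E j l * algebraMap P B (f l)))
    (hFl : ∀ x ∈ K, x ∈ p.map (algebraMap R B) →
      x ∈ p.map (algebraMap R B) * K ⊔ I.map (algebraMap R B))
    (b : Fin m → B)
    (hb : ∑ j, b j * (∑ l, E j l * algebraMap P B (f l)) ∈ p.map (algebraMap R B)) :
    ∀ l, ∑ j, b j * E j l ∈ p.map (algebraMap R B) ⊔ 𝔞.map (algebraMap P B) := by
  classical
  set 𝔄 : Ideal B := 𝔞.map (algebraMap P B) with h𝔄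
  have hpB : p.map (algebraMap R B) = (p.map (algebraMap R P)).map (algebraMap P B) := by
    rw [Ideal.map_map, ← IsScalarTower.algebraMap_eq]
  have hIB : I.map (algebraMap R B) = (I.map (algebraMap R P)).map (algebraMap P B) := by
    rw [Ideal.map_map, ← IsScalarTower.algebraMap_eq]
  have hfB : ∀ l, algebraMap P B (f l) ∈ 𝔄 := fun l => Ideal.mem_map_of_mem _ (hf l)
  have hkK : ∀ j, (∑ l, E j l * algebraMap P B (f l)) ∈ K := fun j => by
    rw [hK]; exact Ideal.subset_span ⟨j, rfl⟩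
  have hK𝔄 : K ≤ 𝔄 := by
    rw [hK, Ideal.span_le]
    rintro _ ⟨j, rfl⟩
    exact Ideal.sum_mem _ fun l _ => Ideal.mul_mem_left _ _ (hfB l)
  set x0 : B := ∑ j, b j * (∑ l, E j l * algebraMap P B (f l)) with hx0
  have hx0K : x0 ∈ K := Ideal.sum_mem _ fun j _ => Ideal.mul_mem_left _ _ (hkK j)
  have h1 := hFl x0 hx0K hb
  -- representatives
  choose b0 hb0 using fun j => hsurj (b j)
  set x1 : P := ∑ j, b0 j * (∑ l, B0 j l * f l) with hx1
  have hdiff : algebraMap P B x1 - x0 ∈ 𝔄 ^ 2 := by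
    have : algebraMap P B x1 - x0 = ∑ j, ∑ l,
        (algebraMap P B (b0 j) * algebraMap P B (B0 j l) - b j * E j l) *
          algebraMap P B (f l) := by
      rw [hx1, hx0, map_sum, ← Finset.sum_sub_distrib]
      refine Finset.sum_congr rfl fun j _ => ?_
      rw [map_mul, map_sum, Finset.mul_sum, Finset.mul_sum, ← Finset.sum_sub_distrib]
      refine Finset.sum_congr rfl fun l _ => ?_
      rw [map_mul]
      ring
    rw [this, pow_two]
    refine Ideal.sum_mem _ fun j _ => Ideal.sum_mem _ fun l _ => Ideal.mul_mem_mul ?_ (hfB l)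
    have : algebraMap P B (b0 j) * algebraMap P B (B0 j l) - b j * E j l =
        -((b j - algebraMap P B (b0 j)) * E j l) -
          algebraMap P B (b0 j) * (E j l - algebraMap P B (B0 j l)) := by ring
    rw [this]
    exact Ideal.sub_mem _ (Ideal.neg_mem_iff _ |>.mpr (Ideal.mul_mem_right _ _ (hb0 j)))
      (Ideal.mul_mem_left _ _ (hEE j l))
  set 𝔠 : Ideal P := p.map (algebraMap R P) * 𝔞 ⊔ I.map (algebraMap R P) ⊔ 𝔞 ^ 2 with h𝔠
  have hx1𝔠 : algebraMap P B x1 ∈ 𝔠.map (algebraMap P B) := by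
    have h2 : x0 ∈ 𝔠.map (algebraMap P B) := by
      rw [h𝔠, Ideal.map_sup, Ideal.map_sup, Ideal.map_mul, ← hpB, ← hIB]
      refine Ideal.mem_sup_left ?_
      refine (sup_le_sup_right (Ideal.mul_mono_right hK𝔄) _) h1
    have h3 : algebraMap P B x1 - x0 ∈ 𝔠.map (algebraMap P B) := by
      rw [h𝔠, Ideal.map_sup, Ideal.map_pow]
      exact Ideal.mem_sup_right hdiff
    have := Ideal.add_mem _ h3 h2
    rwa [sub_add_cancel] at this
  have hx1mem : x1 ∈ 𝔠 := hcontr 𝔠 le_sup_right x1 hx1𝔠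
  -- rewrite `x1` as a combination of the `f`
  have hx1' : x1 = ∑ l, (∑ j, b0 j * B0 j l) * f l := by
    rw [hx1]
    simp_rw [Finset.mul_sum, Finset.sum_mul]
    rw [Finset.sum_comm]
    refine Finset.sum_congr rfl fun l _ => Finset.sum_congr rfl fun j _ => ?_
    ring
  rw [hx1'] at hx1mem
  have h4 := hM3 (fun l => ∑ j, b0 j * B0 j l) hx1mem
  -- use `B0 ^ 2 ≡ B0`
  have h5 : ∀ l, ∑ j, b0 j * B0 j l ∈ p.map (algebraMap R P) ⊔ 𝔞 := by
    intro l
    have e1 : ∑ j', (∑ j, b0 j * B0 j j') * B0 j' l = ∑ j, b0 j * (B0 * B0) j l := by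
      simp_rw [Matrix.mul_apply, Finset.mul_sum, Finset.sum_mul]
      rw [Finset.sum_comm]
      refine Finset.sum_congr rfl fun j _ => Finset.sum_congr rfl fun j' _ => ?_
      ring
    have e2 : ∑ j, b0 j * B0 j l = ∑ j, b0 j * (B0 * B0) j l -
        ∑ j, b0 j * ((B0 * B0) j l - B0 j l) := by
      rw [← Finset.sum_sub_distrib]
      refine Finset.sum_congr rfl fun j _ => ?_
      ring
    rw [e2, ← e1]
    refine Ideal.sub_mem _ (h4 l) (Ideal.mem_sup_right ?_)
    exact Ideal.sum_mem _ fun j _ => Ideal.mul_mem_left _ _ (hM2 j l)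
  intro l
  have h6 : algebraMap P B (∑ j, b0 j * B0 j l) ∈ p.map (algebraMap R B) ⊔ 𝔄 := by
    have := Ideal.mem_map_of_mem (algebraMap P B) (h5 l)
    rwa [Ideal.map_sup, ← hpB] at this
  have h7 : ∑ j, b j * E j l - algebraMap P B (∑ j, b0 j * B0 j l) ∈ 𝔄 := by
    rw [map_sum, ← Finset.sum_sub_distrib]
    refine Ideal.sum_mem _ fun j _ => ?_
    have : b j * E j l - algebraMap P B (b0 j * B0 j l) =
        (b j - algebraMap P B (b0 j)) * E j l +
          algebraMap P B (b0 j) * (E j l - algebraMap P B (B0 j l)) := by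
      rw [map_mul]; ring
    rw [this]
    exact Ideal.add_mem _ (Ideal.mul_mem_right _ _ (hb0 j)) (Ideal.mul_mem_left _ _ (hEE j l))
  have := Ideal.add_mem _ (Ideal.mem_sup_right h7) h6
  rwa [sub_add_cancel] at this

end H3


section Nak

variable {B : Type u} [CommRing B]

theorem kvec_eq_sum_mul {m : ℕ} (E : Matrix (Fin m) (Fin m) B) (hE : E * E = E) (φ : Fin m → B)
    (j : Fin m) :
    (∑ l, E j l * φ l) = ∑ p, E j p * (∑ l, E p l * φ l) := by
  simp_rw [Finset.mul_sum, ← mul_assoc]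
  rw [Finset.sum_comm]
  refine Finset.sum_congr rfl fun l _ => ?_
  rw [← Finset.sum_mul]
  congr 1
  conv_lhs => rw [← hE]
  rw [Matrix.mul_apply]

/-- Nakayama step: in the local ring at `q`, `K ⊆ G + 𝔭` implies `K ⊆ G`. -/
theorem map_le_of_le_sup {m : ℕ} (q : Ideal B) [q.IsPrime] (O : Type u) [CommRing O] [Algebra B O]
    [IsLocalization.AtPrime O q]
    (E : Matrix (Fin m) (Fin m) B) (hE : E * E = E) (φ : Fin m → B)
    (K G pB : Ideal B)
    (hK : K = Ideal.span (Set.range fun j => ∑ l, E j l * φ l))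
    (hGK : G ≤ K)
    (hcoef : ∀ b : Fin m → B, ∑ j, b j * (∑ l, E j l * φ l) ∈ pB → ∀ l, ∑ j, b j * E j l ∈ q)
    (hle : K.map (algebraMap B O) ≤ G.map (algebraMap B O) ⊔ pB.map (algebraMap B O)) :
    K.map (algebraMap B O) ≤ G.map (algebraMap B O) := by
  classical
  haveI : IsLocalRing O := IsLocalization.AtPrime.isLocalRing O q
  set k : Fin m → B := fun j => ∑ l, E j l * φ l with hk
  have hkK : ∀ j, k j ∈ K := fun j => by rw [hK]; exact Ideal.subset_span ⟨j, rfl⟩
  have hfg : (K.map (algebraMap B O)).FG := by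
    rw [hK]
    exact Ideal.FG.map (Submodule.fg_span (Set.finite_range _)) _
  have key : ∀ z ∈ K.map (algebraMap B O), z ∈ pB.map (algebraMap B O) →
      z ∈ IsLocalRing.maximalIdeal O * K.map (algebraMap B O) := by
    intro z hzK hzp
    obtain ⟨⟨⟨k', hk'⟩, s₁⟩, h1⟩ := (IsLocalization.mem_map_algebraMap_iff q.primeCompl O).1 hzK
    obtain ⟨⟨⟨y, hy⟩, s₂⟩, h2⟩ := (IsLocalization.mem_map_algebraMap_iff q.primeCompl O).1 hzp
    simp only at h1 h2
    have h3 : algebraMap B O (k' * s₂) = algebraMap B O (y * s₁) := by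
      rw [map_mul, map_mul, ← h1, ← h2]
      ring
    obtain ⟨c, hc⟩ := (IsLocalization.eq_iff_exists q.primeCompl O).1 h3
    rw [hK] at hk'
    obtain ⟨b, hb⟩ := (Ideal.mem_span_range_iff_exists_fun).1 hk'
    have h4 : ∑ j, ((c : B) * s₂ * b j) * k j ∈ pB := by
      have : ∑ j, ((c : B) * s₂ * b j) * k j = (c : B) * (y * s₁) := by
        rw [← hc, ← hb, Finset.sum_mul, Finset.mul_sum]
        refine Finset.sum_congr rfl fun j _ => ?_
        ring
      rw [this]
      exact Ideal.mul_mem_left _ _ (Ideal.mul_mem_right _ _ hy)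
    have h5 := hcoef (fun j => (c : B) * s₂ * b j) h4
    have h6 : ∀ l, ∑ j, b j * E j l ∈ q := by
      intro l
      have : ∑ j, ((c : B) * s₂ * b j) * E j l = ((c : B) * s₂) * ∑ j, b j * E j l := by
        rw [Finset.mul_sum]
        refine Finset.sum_congr rfl fun j _ => ?_
        ring
      have h7 := h5 l
      rw [this] at h7
      rcases Ideal.IsPrime.mem_or_mem inferInstance h7 with h8 | h8
      · exfalso
        rcases Ideal.IsPrime.mem_or_mem inferInstance h8 with h9 | h9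
        · exact c.2 h9
        · exact s₂.2 h9
      · exact h8
    have h8 : k' = ∑ l, (∑ j, b j * E j l) * k l := by
      rw [← hb]
      have : ∀ j, b j * k j = ∑ l, (b j * E j l) * k l := by
        intro j
        rw [hk]
        simp only
        rw [kvec_eq_sum_mul E hE φ j, Finset.mul_sum]
        refine Finset.sum_congr rfl fun l _ => ?_
        ring
      simp_rw [this, Finset.sum_mul]
      rw [Finset.sum_comm]
    have h9 : algebraMap B O k' ∈ IsLocalRing.maximalIdeal O * K.map (algebraMap B O) := by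
      rw [h8, map_sum]
      refine Ideal.sum_mem _ fun l _ => ?_
      rw [map_mul]
      refine Ideal.mul_mem_mul ?_ (Ideal.mem_map_of_mem _ (hkK l))
      exact (IsLocalization.AtPrime.to_map_mem_maximal_iff O q _).2 (h6 l)
    rw [← h1] at h9
    exact (Ideal.mul_unit_mem_iff_mem _ (IsLocalization.map_units O s₁)).1 h9
  refine Submodule.le_of_le_smul_of_le_jacobson_bot (I := IsLocalRing.maximalIdeal O) hfg
    (IsLocalRing.maximalIdeal_le_jacobson ⊥) ?_
  intro y hy
  obtain ⟨a, ha, z, hz, rfl⟩ := Submodule.mem_sup.1 (hle hy)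
  have hzK : z ∈ K.map (algebraMap B O) := by
    have : z = (a + z) - a := by ring
    rw [this]
    exact Ideal.sub_mem _ hy (Ideal.map_mono hGK ha)
  refine Submodule.add_mem_sup ha ?_
  rw [smul_eq_mul]
  exact key z hzK hz

/-- clearing denominators for a finitely generated ideal -/
theorem exists_mul_mem_of_map_le {m : ℕ} (q : Ideal B) [q.IsPrime] (O : Type u) [CommRing O]
    [Algebra B O] [IsLocalization.AtPrime O q] (k : Fin m → B) (G : Ideal B)
    (h : (Ideal.span (Set.range k)).map (algebraMap B O) ≤ G.map (algebraMap B O)) :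
    ∃ t : B, t ∉ q ∧ ∀ x ∈ Ideal.span (Set.range k), t * x ∈ G := by
  classical
  have h1 : ∀ j, ∃ t : B, t ∉ q ∧ t * k j ∈ G := by
    intro j
    have hj : algebraMap B O (k j) ∈ G.map (algebraMap B O) :=
      h (Ideal.mem_map_of_mem _ (Ideal.subset_span ⟨j, rfl⟩))
    obtain ⟨⟨⟨g, hg⟩, s⟩, h2⟩ := (IsLocalization.mem_map_algebraMap_iff q.primeCompl O).1 hj
    simp only at h2
    rw [← map_mul] at h2
    obtain ⟨c, hc⟩ := (IsLocalization.eq_iff_exists q.primeCompl O).1 h2
    refine ⟨c * s, q.primeCompl.mul_mem c.2 s.2, ?_⟩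
    have : (c : B) * s * k j = c * (k j * s) := by ring
    rw [this, hc]
    exact Ideal.mul_mem_left _ _ hg
  choose t ht1 ht2 using h1
  refine ⟨∏ j, t j, ?_, ?_⟩
  · intro hmem
    obtain ⟨j, -, hj⟩ := (Ideal.IsPrime.prod_mem_iff (hp := inferInstance)).1 hmem
    exact ht1 j hj
  · intro x hx
    refine Submodule.span_induction ?_ ?_ ?_ ?_ hx
    · rintro _ ⟨j, rfl⟩
      obtain ⟨d, hd⟩ := Finset.dvd_prod_of_mem t (Finset.mem_univ j)
      rw [hd]
      have : t j * d * k j = d * (t j * k j) := by ring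
      rw [this]
      exact Ideal.mul_mem_left _ _ (ht2 j)
    · rw [mul_zero]; exact zero_mem _
    · intro a b _ _ ha hb
      rw [mul_add]; exact add_mem ha hb
    · intro r a _ ha
      rw [smul_eq_mul, mul_left_comm]
      exact Ideal.mul_mem_left _ _ ha

end Nak

end Groth.Agent.Lib.Helper26.SL2
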