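import Mathlib

/-!
# Syntomic lifting (helper26), part 3: the idempotent matrix of a projective conormal module
-/

set_option autoImplicit false
universe u

namespace Groth.Agent.Lib.Helper26.SL3

variable {Q : Type u} [CommRing Q]

/-- From a projective conormal module `J/J²` and generators `fb` of `J`: a matrix `Bb` over `Q`,
idempotent modulo `J`, fixing the classes of the generators, and detecting relations. -/
theorem exists_matrix (J : Ideal Q) [hproj : Module.Projective (Q ⧸ J) J.Cotangent]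
    {m : ℕ} (fb : Fin m → Q) (hfb : Ideal.span (Set.range fb) = J) :
    ∃ Bb : Matrix (Fin m) (Fin m) Q,
      (∀ j, fb j - ∑ l, Bb j l * fb l ∈ J ^ 2) ∧
      (∀ j l, (Bb * Bb) j l - Bb j l ∈ J) ∧
      (∀ (𝔟 : Ideal Q) (b : Fin m → Q), ∑ j, b j * fb j ∈ 𝔟 * J ⊔ J ^ 2 →
        ∀ l, ∑ j, b j * Bb j l ∈ 𝔟 ⊔ J) := by
  classical
  have hfJ : ∀ j, fb j ∈ J := fun j => hfb ▸ Ideal.subset_span ⟨j, rfl⟩
  set A := Q ⧸ J with hA
  set gen : Fin m → J.Cotangent := fun j => J.toCotangent ⟨fb j, hfJ j⟩ with hgen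
  -- the classes of the generators span
  have hspan : ∀ x : J, ∃ c : Fin m → Q, x = ∑ j, c j • (⟨fb j, hfJ j⟩ : J) := by
    intro x
    have hx : (x : Q) ∈ Ideal.span (Set.range fb) := hfb ▸ x.2
    obtain ⟨c, hc⟩ := (Ideal.mem_span_range_iff_exists_fun).1 hx
    refine ⟨c, Subtype.ext ?_⟩
    rw [← hc, Submodule.coe_sum]
    refine Finset.sum_congr rfl fun j _ => ?_
    rfl
  let πN : (Fin m → A) →ₗ[A] J.Cotangent := Fintype.linearCombination A gen
  have hπN : ∀ c : Fin m → A, πN c = ∑ j, c j • gen j := fun c =>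
    Fintype.linearCombination_apply A gen c
  have hsurj : Function.Surjective πN := by
    intro x
    obtain ⟨y, rfl⟩ := J.toCotangent_surjective x
    obtain ⟨c, hc⟩ := hspan y
    refine ⟨fun j => Ideal.Quotient.mk J (c j), ?_⟩
    rw [hπN, hc, map_sum]
    refine Finset.sum_congr rfl fun j _ => ?_
    rw [map_smul]
    rfl
  obtain ⟨σ, hσ⟩ := Module.projective_lifting_property πN LinearMap.id hsurj
  have hσ' : ∀ x, πN (σ x) = x := fun x => LinearMap.congr_fun hσ x
  set Eb : Fin m → Fin m → A := fun j l => σ (gen j) l with hEb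
  -- `σ` on a combination
  have hσcomb : ∀ (c : Fin m → A) (l : Fin m), σ (∑ j, c j • gen j) l = ∑ j, c j * Eb j l := by
    intro c l
    rw [map_sum, Finset.sum_apply]
    refine Finset.sum_congr rfl fun j _ => ?_
    rw [map_smul, Pi.smul_apply, smul_eq_mul]
  have hσgen : ∀ j, ∑ l, Eb j l • gen l = gen j := by
    intro j
    have := hσ' (gen j)
    rw [hπN] at this
    exact this
  choose Bb hBb using fun j l => Ideal.Quotient.mk_surjective (Eb j l)
  refine ⟨Matrix.of Bb, ?_, ?_, ?_⟩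
  · -- (1)
    intro j
    let y : J := ⟨fb j, hfJ j⟩ - ∑ l, Bb j l • (⟨fb l, hfJ l⟩ : J)
    have hy : (y : Q) = fb j - ∑ l, Matrix.of Bb j l * fb l := by
      simp only [y, Submodule.coe_sub, Submodule.coe_sum, Submodule.coe_smul, smul_eq_mul,
        Matrix.of_apply]
    rw [← hy, ← Ideal.toCotangent_eq_zero]
    simp only [y, map_sub, map_sum]
    rw [sub_eq_zero]
    change gen j = _
    rw [← hσgen j]
    refine Finset.sum_congr rfl fun l _ => ?_
    rw [← hBb j l, map_smul]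
    rfl
  · -- (2)
    intro j l
    rw [← Ideal.Quotient.eq, Matrix.mul_apply, map_sum]
    simp only [Matrix.of_apply, map_mul, hBb]
    have h1 := hσcomb (fun p => Eb j p) l
    rw [hσgen j] at h1
    exact h1.symm
  · -- (3)
    intro 𝔟 b hb l
    set 𝔟' : Ideal A := 𝔟.map (Ideal.Quotient.mk J) with h𝔟'
    let T : J →ₗ[Q] A :=
      ((LinearMap.proj l : (Fin m → A) →ₗ[A] A).restrictScalars Q) ∘ₗ
        (σ.restrictScalars Q) ∘ₗ J.toCotangent
    have hT : ∀ x : J, T x = σ (J.toCotangent x) l := fun x => rfl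
    have hmul : ∀ x ∈ 𝔟 * J, ∃ hx : x ∈ J, T ⟨x, hx⟩ ∈ 𝔟' := by
      intro x hx
      refine Submodule.mul_induction_on hx ?_ ?_
      · intro β hβ i hi
        refine ⟨Ideal.mul_mem_left _ _ hi, ?_⟩
        have : (⟨β * i, Ideal.mul_mem_left _ _ hi⟩ : J) = β • (⟨i, hi⟩ : J) := rfl
        rw [this, map_smul]
        have h2 : β • T ⟨i, hi⟩ = Ideal.Quotient.mk J β * T ⟨i, hi⟩ := rfl
        rw [h2]
        exact Ideal.mul_mem_right _ _ (Ideal.mem_map_of_mem _ hβ)
      · rintro x y ⟨hx, hx'⟩ ⟨hy, hy'⟩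
        refine ⟨add_mem hx hy, ?_⟩
        have : (⟨x + y, add_mem hx hy⟩ : J) = ⟨x, hx⟩ + ⟨y, hy⟩ := rfl
        rw [this, map_add]
        exact add_mem hx' hy'
    have hsq : ∀ x (hx : x ∈ J), x ∈ J ^ 2 → T ⟨x, hx⟩ = 0 := by
      intro x hx hx2
      rw [hT, (Ideal.toCotangent_eq_zero J ⟨x, hx⟩).2 hx2, map_zero]
      rfl
    obtain ⟨x₁, hx₁, x₂, hx₂, hsum⟩ := Submodule.mem_sup.1 hb
    obtain ⟨hx₁J, hTx₁⟩ := hmul x₁ hx₁
    have hx₂J : x₂ ∈ J := Ideal.pow_le_self two_ne_zero hx₂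
    let y : J := ∑ j, b j • (⟨fb j, hfJ j⟩ : J)
    have hy : y = ⟨x₁, hx₁J⟩ + ⟨x₂, hx₂J⟩ := by
      apply Subtype.ext
      simp only [y, Submodule.coe_sum, Submodule.coe_smul, smul_eq_mul, Submodule.coe_add]
      exact hsum.symm
    have hTy : T y ∈ 𝔟' := by
      rw [hy, map_add, hsq x₂ hx₂J hx₂, add_zero]
      exact hTx₁
    have hTy' : T y = Ideal.Quotient.mk J (∑ j, b j * Matrix.of Bb j l) := by
      rw [hT]
      have : J.toCotangent y = ∑ j, Ideal.Quotient.mk J (b j) • gen j := by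
        simp only [y, map_sum]
        refine Finset.sum_congr rfl fun j _ => ?_
        rw [map_smul]
        rfl
      rw [this, hσcomb, map_sum]
      refine Finset.sum_congr rfl fun j _ => ?_
      rw [map_mul, Matrix.of_apply, hBb]
    rw [hTy'] at hTy
    exact (Ideal.mem_quotient_iff_mem_sup).1 hTy

end Groth.Agent.Lib.Helper26.SL3
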