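import Mathlib

/-!
# Syntomic lifting (helper26), part 4: lifting the matrix along a surjection
-/

set_option autoImplicit false
universe u

namespace Groth.Agent.Lib.Helper26.SL4

variable {P Pb : Type u} [CommRing P] [CommRing Pb]

theorem lift_matrix (red : P →+* Pb) (hred : Function.Surjective red) (Jb : Ideal Pb) {m : ℕ}
    (fb : Fin m → Pb) (Bb : Matrix (Fin m) (Fin m) Pb)
    (h1 : ∀ j, fb j - ∑ l, Bb j l * fb l ∈ Jb ^ 2)
    (h2 : ∀ j l, (Bb * Bb) j l - Bb j l ∈ Jb)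
    (h3 : ∀ (𝔟 : Ideal Pb) (b : Fin m → Pb), ∑ j, b j * fb j ∈ 𝔟 * Jb ⊔ Jb ^ 2 →
        ∀ l, ∑ j, b j * Bb j l ∈ 𝔟 ⊔ Jb)
    (f : Fin m → P) (hf : ∀ j, red (f j) = fb j) :
    ∃ B0 : Matrix (Fin m) (Fin m) P, (∀ j l, red (B0 j l) = Bb j l) ∧
      (∀ j, f j - ∑ l, B0 j l * f l ∈ (Jb.comap red) ^ 2 ⊔ RingHom.ker red) ∧
      (∀ j l, (B0 * B0) j l - B0 j l ∈ Jb.comap red) ∧
      (∀ (𝔟 : Ideal P) (b : Fin m → P),
        ∑ j, b j * f j ∈ 𝔟 * Jb.comap red ⊔ RingHom.ker red ⊔ (Jb.comap red) ^ 2 →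
        ∀ l, ∑ j, b j * B0 j l ∈ 𝔟 ⊔ Jb.comap red) := by
  classical
  set 𝔞 : Ideal P := Jb.comap red with h𝔞
  have hmap𝔞 : 𝔞.map red = Jb := Ideal.map_comap_of_surjective red hred Jb
  have hker𝔞 : RingHom.ker red ≤ 𝔞 := by
    intro x hx
    rw [h𝔞, Ideal.mem_comap, RingHom.mem_ker.1 hx]
    exact zero_mem _
  have hG : ∀ (𝔠 : Ideal P) (x : P), red x ∈ 𝔠.map red → x ∈ 𝔠 ⊔ RingHom.ker red := by
    intro 𝔠 x hx
    have : x ∈ (𝔠.map red).comap red := hx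
    rwa [Ideal.comap_map_of_surjective red hred, ← RingHom.ker_eq_comap_bot] at this
  choose B0 hB0 using fun j l => hred (Bb j l)
  refine ⟨Matrix.of B0, fun j l => hB0 j l, ?_, ?_, ?_⟩
  · intro j
    apply hG
    rw [Ideal.map_pow, hmap𝔞, map_sub, map_sum, hf]
    simp only [map_mul, Matrix.of_apply, hB0, hf]
    exact h1 j
  · intro j l
    rw [h𝔞, Ideal.mem_comap, map_sub, Matrix.mul_apply, map_sum]
    simp only [map_mul, Matrix.of_apply, hB0]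
    have := h2 j l
    rwa [Matrix.mul_apply] at this
  · intro 𝔟 b hb l
    have hb' : ∑ j, red (b j) * fb j ∈ (𝔟.map red) * Jb ⊔ Jb ^ 2 := by
      have := Ideal.mem_map_of_mem red hb
      rw [Ideal.map_sup, Ideal.map_sup, Ideal.map_mul, Ideal.map_pow, hmap𝔞,
        (Ideal.map_eq_bot_iff_le_ker red).2 le_rfl, sup_bot_eq, map_sum] at this
      simpa only [map_mul, hf] using this
    have h4 := h3 (𝔟.map red) (fun j => red (b j)) hb' l
    have h5 : red (∑ j, b j * Matrix.of B0 j l) ∈ (𝔟 ⊔ 𝔞).map red := by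
      rw [Ideal.map_sup, hmap𝔞, map_sum]
      simpa only [map_mul, Matrix.of_apply, hB0] using h4
    have h6 := hG _ _ h5
    rwa [sup_assoc, sup_eq_left.2 hker𝔞] at h6

end Groth.Agent.Lib.Helper26.SL4
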