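import Mathlib
import Groth.Agent.Lib.Helper90.SmoothLiftAux
import Groth.Agent.Lib.Helper90.EtaleNbhdMatrix

/-!
# Syntomic lifting (helper26), part 5: the étale neighbourhood with an idempotent matrix
(adapted from helper90's `SmoothLiftNbhd` / `SmoothLiftLoc`, for an arbitrary matrix `B0`)
-/

set_option autoImplicit false
set_option linter.style.haveILetI false
universe u

namespace Groth.Agent.Lib.Helper26.SL5

open Groth.Agent.Lib.Helper90.SmoothLift

variable {R : Type u} [CommRing R] (I : Ideal R) {n m : ℕ}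

theorem exists_nbhd
    (f : Fin m → MvPolynomial (Fin n) R)
    (B0 : Matrix (Fin m) (Fin m) (MvPolynomial (Fin n) R))
    (𝔞 : Ideal (MvPolynomial (Fin n) R))
    (h𝔞 : 𝔞 = I.map (algebraMap R (MvPolynomial (Fin n) R)) ⊔ Ideal.span (Set.range f))
    (H1 : ∀ j, f j - ∑ l, B0 j l * f l ∈ 𝔞 ^ 2 ⊔ I.map (algebraMap R (MvPolynomial (Fin n) R)))
    (H2 : ∀ j l, (B0 * B0) j l - B0 j l ∈ 𝔞) :
    ∃ (B : Type u) (_ : CommRing B) (_ : Algebra (MvPolynomial (Fin n) R) B) (_ : Algebra R B)
      (_ : IsScalarTower R (MvPolynomial (Fin n) R) B),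
      Algebra.FormallyEtale (MvPolynomial (Fin n) R) B ∧
      Algebra.FinitePresentation (MvPolynomial (Fin n) R) B ∧
      ∃ E : Matrix (Fin m) (Fin m) B, E * E = E ∧
        (∀ j l, E j l - algebraMap (MvPolynomial (Fin n) R) B (B0 j l) ∈
          𝔞.map (algebraMap (MvPolynomial (Fin n) R) B)) ∧
        ∃ ψ : B →ₐ[MvPolynomial (Fin n) R] MvPolynomial (Fin n) R ⧸ 𝔞,
          Function.Surjective ψ ∧
          RingHom.ker ψ.toRingHom = 𝔞.map (algebraMap (MvPolynomial (Fin n) R) B) ∧
          𝔞.map (algebraMap (MvPolynomial (Fin n) R) B) =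
            Ideal.span (Set.range (kgen f E)) ⊔ I.map (algebraMap R B) := by
  classical
  let pbar : Matrix (Fin m) (Fin m) (MvPolynomial (Fin n) R ⧸ 𝔞) :=
    Matrix.of fun j l => Ideal.Quotient.mk 𝔞 (B0 j l)
  have hp : IsIdempotentElem pbar := by
    ext j p
    rw [Matrix.mul_apply]
    simp only [pbar, Matrix.of_apply]
    simp_rw [← map_mul]
    rw [← map_sum, Ideal.Quotient.eq]
    have := H2 j p
    rwa [Matrix.mul_apply] at this
  obtain ⟨W, _, _, hWet, hbij, E, hE, hEp⟩ :=
    Groth.Agent.Lib.Helper90.EtaleNbhd.exists_etale_lift_idempotent_matrix 𝔞 m pbar hp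
  have hEE : ∀ j l, E j l - algebraMap (MvPolynomial (Fin n) R) W (B0 j l) ∈
      𝔞.map (algebraMap _ W) := by
    intro j l
    have := congrFun (congrFun hEp j) l
    simp only [Matrix.map_apply, pbar, Matrix.of_apply] at this
    exact Ideal.Quotient.eq.mp this
  have hf𝔞 : ∀ l, f l ∈ 𝔞 := fun l => by
    rw [h𝔞]; exact Ideal.mem_sup_right (Ideal.subset_span ⟨l, rfl⟩)
  have hfW : ∀ l, algebraMap (MvPolynomial (Fin n) R) W (f l) ∈ 𝔞.map (algebraMap _ W) :=
    fun l => Ideal.mem_map_of_mem _ (hf𝔞 l)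
  have hK₀ : Ideal.span (Set.range (kgen f E)) ≤ 𝔞.map (algebraMap _ W) := by
    rw [Ideal.span_le]
    rintro _ ⟨j, rfl⟩
    exact Ideal.sum_mem _ fun l _ => Ideal.mul_mem_left _ _ (hfW l)
  have hiW : I.map ((algebraMap (MvPolynomial (Fin n) R) W).comp
      (algebraMap R (MvPolynomial (Fin n) R))) ≤ 𝔞.map (algebraMap _ W) := by
    rw [← Ideal.map_map]
    exact Ideal.map_mono (h𝔞 ▸ le_sup_left)
  obtain ⟨u, hu1, hu2⟩ : ∃ u : W, u - 1 ∈ 𝔞.map (algebraMap (MvPolynomial (Fin n) R) W) ∧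
      ∀ x ∈ 𝔞.map (algebraMap (MvPolynomial (Fin n) R) W),
        u * x ∈ Ideal.span (Set.range (kgen f E)) ⊔
          I.map ((algebraMap (MvPolynomial (Fin n) R) W).comp
            (algebraMap R (MvPolynomial (Fin n) R))) := by
    apply exists_unit_nakayama (𝔞.map (algebraMap (MvPolynomial (Fin n) R) W))
      (I.map ((algebraMap (MvPolynomial (Fin n) R) W).comp
                  (algebraMap R (MvPolynomial (Fin n) R))))
      (Ideal.span (Set.range (kgen f E)))
      (fun l => algebraMap (MvPolynomial (Fin n) R) W (f l))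
    · rw [h𝔞, Ideal.map_sup, Ideal.map_map, Ideal.map_span]
      congr 2
      ext x
      simp
    · intro j
      have e1 : algebraMap (MvPolynomial (Fin n) R) W (f j) = kgen f E j +
          (algebraMap (MvPolynomial (Fin n) R) W (f j - ∑ l, B0 j l * f l) -
            ∑ l, (E j l - algebraMap (MvPolynomial (Fin n) R) W (B0 j l)) *
              algebraMap (MvPolynomial (Fin n) R) W (f l)) := by
        unfold kgen
        simp only [map_sub, map_sum, map_mul, sub_mul, Finset.sum_sub_distrib]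
        ring
      rw [e1]
      refine Ideal.add_mem _ (Ideal.mem_sup_left (Ideal.mem_sup_left
        (Ideal.subset_span ⟨j, rfl⟩))) (Ideal.sub_mem _ ?_ ?_)
      · have := Ideal.mem_map_of_mem (algebraMap (MvPolynomial (Fin n) R) W) (H1 j)
        rw [Ideal.map_sup, Ideal.map_pow, Ideal.map_map] at this
        rw [sup_assoc, sup_comm (I.map _), ← sup_assoc]
        exact Ideal.mem_sup_right this |> fun h => by
          rw [sup_assoc]; exact h
      · refine Ideal.mem_sup_right ?_
        rw [pow_two]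
        exact Ideal.sum_mem _ fun l _ => Ideal.mul_mem_mul (hEE j l) (hfW l)
  -- algebra structure over `R`
  letI algRW : Algebra R W := ((algebraMap (MvPolynomial (Fin n) R) W).comp
    (algebraMap R (MvPolynomial (Fin n) R))).toAlgebra
  haveI : IsScalarTower R (MvPolynomial (Fin n) R) W := IsScalarTower.of_algebraMap_eq (fun _ => rfl)
  let B := Localization.Away u
  haveI : IsScalarTower R (MvPolynomial (Fin n) R) B := IsScalarTower.of_algebraMap_eq (fun r => by
    rw [IsScalarTower.algebraMap_apply R W B, IsScalarTower.algebraMap_apply R (MvPolynomial (Fin n) R) W,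
      ← IsScalarTower.algebraMap_apply (MvPolynomial (Fin n) R) W B])
  haveI : Algebra.FormallyEtale W B := Algebra.FormallyEtale.of_isLocalization (Submonoid.powers u)
  haveI : Algebra.FormallyEtale (MvPolynomial (Fin n) R) W := hWet.1
  haveI : Algebra.FinitePresentation (MvPolynomial (Fin n) R) W := hWet.2
  haveI hfe : Algebra.FormallyEtale (MvPolynomial (Fin n) R) B :=
    Algebra.FormallyEtale.comp (MvPolynomial (Fin n) R) W B
  haveI : Algebra.FinitePresentation W B := IsLocalization.Away.finitePresentation u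
  haveI hfp : Algebra.FinitePresentation (MvPolynomial (Fin n) R) B :=
    Algebra.FinitePresentation.trans (MvPolynomial (Fin n) R) W B
  have huunit : IsUnit (algebraMap W B u) := IsLocalization.Away.algebraMap_isUnit u
  obtain ⟨EP, hEP⟩ : ∃ EP : Matrix (Fin m) (Fin m) B, EP = E.map (algebraMap W B) := ⟨_, rfl⟩
  have hKmap : (Ideal.span (Set.range (kgen f E))).map (algebraMap W B) =
      Ideal.span (Set.range (kgen f EP)) := by
    rw [Ideal.map_span, hEP]
    congr 1
    ext x
    constructor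
    · rintro ⟨_, ⟨j, rfl⟩, rfl⟩; exact ⟨j, kgen_map f E j⟩
    · rintro ⟨j, rfl⟩; exact ⟨_, ⟨j, rfl⟩, (kgen_map f E j).symm⟩
  have hiPmap : (I.map ((algebraMap (MvPolynomial (Fin n) R) W).comp
      (algebraMap R (MvPolynomial (Fin n) R)))).map (algebraMap W B) = I.map (algebraMap R B) := by
    rw [Ideal.map_map]
    congr 1
  have h𝔞B : (𝔞.map (algebraMap (MvPolynomial (Fin n) R) W)).map (algebraMap W B) =
      𝔞.map (algebraMap (MvPolynomial (Fin n) R) B) := by
    rw [Ideal.map_map, ← IsScalarTower.algebraMap_eq]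
  have h𝔄P : (𝔞.map (algebraMap (MvPolynomial (Fin n) R) W)).map (algebraMap W B) =
      Ideal.span (Set.range (kgen f EP)) ⊔ I.map (algebraMap R B) := by
    apply le_antisymm
    · rw [Ideal.map_le_iff_le_comap]
      intro x hx
      rw [Ideal.mem_comap]
      have h1 := Ideal.mem_map_of_mem (algebraMap W B) (hu2 x hx)
      rw [Ideal.map_sup, hKmap, hiPmap, map_mul] at h1
      exact (Ideal.unit_mul_mem_iff_mem _ huunit).mp h1
    · rw [← hKmap, ← hiPmap, ← Ideal.map_sup]
      exact Ideal.map_mono (sup_le hK₀ hiW)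
  let e : (MvPolynomial (Fin n) R ⧸ 𝔞) ≃ₐ[MvPolynomial (Fin n) R]
      (W ⧸ 𝔞.map (algebraMap (MvPolynomial (Fin n) R) W)) :=
    AlgEquiv.ofBijective (IsScalarTower.toAlgHom (MvPolynomial (Fin n) R)
      (MvPolynomial (Fin n) R ⧸ 𝔞) (W ⧸ 𝔞.map (algebraMap (MvPolynomial (Fin n) R) W))) hbij
  let ψW : W →ₐ[MvPolynomial (Fin n) R] MvPolynomial (Fin n) R ⧸ 𝔞 :=
    (e.symm : (W ⧸ 𝔞.map (algebraMap (MvPolynomial (Fin n) R) W)) →ₐ[MvPolynomial (Fin n) R]
      (MvPolynomial (Fin n) R ⧸ 𝔞)).comp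
      (Ideal.Quotient.mkₐ (MvPolynomial (Fin n) R) (𝔞.map (algebraMap (MvPolynomial (Fin n) R) W)))
  have hψker : RingHom.ker ψW.toRingHom = 𝔞.map (algebraMap (MvPolynomial (Fin n) R) W) := by
    ext w
    rw [RingHom.mem_ker]
    change e.symm (Ideal.Quotient.mk _ w) = 0 ↔ _
    rw [EmbeddingLike.map_eq_zero_iff, Ideal.Quotient.eq_zero_iff_mem]
  have hψu : ψW u = 1 := by
    have h0 : ψW.toRingHom (u - 1) = 0 := by
      rw [← RingHom.mem_ker, hψker]; exact hu1
    have h1 : ψW (u - 1) = 0 := h0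
    rw [map_sub, map_one, sub_eq_zero] at h1
    exact h1
  have hψunit : ∀ y : Submonoid.powers u, IsUnit (ψW y) := by
    rintro ⟨_, k, rfl⟩
    rw [map_pow, hψu, one_pow]; exact isUnit_one
  let ψP : B →ₐ[MvPolynomial (Fin n) R] MvPolynomial (Fin n) R ⧸ 𝔞 :=
    IsLocalization.liftAlgHom (M := Submonoid.powers u) (f := ψW) hψunit
  have hψPker : RingHom.ker ψP.toRingHom =
      (𝔞.map (algebraMap (MvPolynomial (Fin n) R) W)).map (algebraMap W B) := by
    rw [← hψker]
    exact ker_lift_eq_map (Submonoid.powers u) ψW.toRingHom hψunit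
  have hψPsurj : Function.Surjective ψP := by
    intro y
    obtain ⟨x, rfl⟩ := Ideal.Quotient.mk_surjective y
    exact ⟨algebraMap _ B x, ψP.commutes x⟩
  have hEP2 : EP * EP = EP := by rw [hEP, ← Matrix.map_mul, hE]
  refine ⟨B, inferInstance, inferInstance, inferInstance, inferInstance, hfe, hfp, EP, hEP2, ?_,
    ψP, hψPsurj, ?_, ?_⟩
  · intro j l
    rw [hEP, Matrix.map_apply, IsScalarTower.algebraMap_apply (MvPolynomial (Fin n) R) W B,
      ← map_sub, ← h𝔞B]
    exact Ideal.mem_map_of_mem _ (hEE j l)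
  · rw [hψPker, h𝔞B]
  · rw [← h𝔞B, h𝔄P]

end Groth.Agent.Lib.Helper26.SL5
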