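import Mathlib
import Groth.Agent.Lib.Helper8.HD
import Groth.Agent.Lib.Helper8.SyntLCI
import Groth.Agent.Lib.Helper9.SmoothLCI
import Groth.Agent.Lib.Helper35.RegSlice8
import Groth.Agent.Lib.Helper62.GCIField7
import Groth.Agent.S15821
import Groth.Agent.Lib.Helper26.SL2

/-!
# Syntomic lifting (helper26), part 6: local syntomicity of `B ⧸ K` for `B` smooth
-/

set_option autoImplicit false
set_option linter.style.haveILetI false
set_option maxHeartbeats 800000
universe u

namespace Groth.Agent.Lib.Helper26.SL6

open TensorProduct IsLocalRing RingTheory.Sequence Groth.Agent.Lib.Helper8.HD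

section Fib

variable {A B : Type u} [CommRing A] [CommRing B] [Algebra A B]

/-- the base change of the kernel of `B → B ⧸ K` (with `B` smooth) to a fibre where the quotient is
a local complete intersection is Koszul-regular -/
theorem koszul_fibre [Algebra.Smooth A B] (K : Ideal B) (κ : Type u) [CommRing κ] [Algebra A κ]
    (h : LCI.IsLCI κ (κ ⊗[A] (B ⧸ K))) :
    LCI.IsKoszulRegularIdeal (K.map
      (Algebra.TensorProduct.includeRight (R := A) (A := κ) (B := B))) := by
  let g : κ ⊗[A] B →ₐ[κ] κ ⊗[A] (B ⧸ K) :=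
    Algebra.TensorProduct.map (AlgHom.id κ κ) (Ideal.Quotient.mkₐ A K)
  have hg : Function.Surjective g := by
    have : Function.Surjective (Algebra.TensorProduct.map (AlgHom.id A κ) (Ideal.Quotient.mkₐ A K)) :=
      LinearMap.lTensor_surjective κ (Ideal.Quotient.mkₐ_surjective A K)
    exact this
  have hkerg : RingHom.ker g.toRingHom =
      K.map (Algebra.TensorProduct.includeRight (R := A) (A := κ) (B := B)) := by
    have := Algebra.TensorProduct.lTensor_ker (A := κ) (Ideal.Quotient.mkₐ A K)
      (Ideal.Quotient.mkₐ_surjective A K)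
    have hk : RingHom.ker (Ideal.Quotient.mkₐ A K) = K := by
      ext x
      rw [RingHom.mem_ker]
      exact Ideal.Quotient.eq_zero_iff_mem
    rw [hk] at this
    exact this
  letI : Algebra (κ ⊗[A] B) (κ ⊗[A] (B ⧸ K)) := g.toRingHom.toAlgebra
  haveI : IsScalarTower κ (κ ⊗[A] B) (κ ⊗[A] (B ⧸ K)) :=
    IsScalarTower.of_algebraMap_eq (fun x => (g.commutes x).symm)
  have h1 : LCI.IsLCI (κ ⊗[A] B) (κ ⊗[A] (B ⧸ K)) :=
    Groth.Agent.Lib.Helper9.SmoothLCI.isLCI_cancel_smooth (R := κ) (κ ⊗[A] B) _ h
  have h2 := (Groth.Agent.Lib.Helper9.SmoothLCI0.isLCI_iff_ker (A := κ ⊗[A] B)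
    (C := κ ⊗[A] (B ⧸ K)) hg).1 h1
  rw [← hkerg]
  exact h2

variable [Algebra.FiniteType A B]

/-- generalisation of helper8's `HD.exists_list_fibre` to a finite type algebra `B` -/
theorem exists_list_fibre (K : Ideal B) (p : Ideal A) [p.IsPrime] (q : Ideal B) [q.IsPrime]
    [q.LiesOver p] (hKq : K ≤ q)
    (hfib : LCI.IsKoszulRegularIdeal (K.map
      (Algebra.TensorProduct.includeRight (R := A) (A := p.ResidueField) (B := B)))) :
    ∃ f : List B, (∀ x ∈ f, x ∈ K) ∧
      IsWeaklyRegular (FF p q) (f.map (algebraMap B (Localization.AtPrime q))) ∧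
      K.map ((Ideal.Quotient.mk ((maximalIdeal (Localization.AtPrime p)).map (sig p q))).comp
          (algebraMap B (Localization.AtPrime q))) =
        Ideal.ofList (f.map ((Ideal.Quotient.mk
          ((maximalIdeal (Localization.AtPrime p)).map (sig p q))).comp
          (algebraMap B (Localization.AtPrime q)))) := by
  letI alg : Algebra (p.Fiber B) (FF p q) := (phi p q).toRingHom.toAlgebra
  haveI hloc : IsLocalization.AtPrime (FF p q) (QQ p q) := isLocalization_FF p q
  set ψ : B →+* FF p q := (Ideal.Quotient.mk ((maximalIdeal (Localization.AtPrime p)).map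
    (sig p q))).comp (algebraMap B (Localization.AtPrime q)) with hψ
  have hψmem : ∀ i ∈ q, ψ i ∈ maximalIdeal (FF p q) := by
    intro i hi
    have h1 : algebraMap B (Localization.AtPrime q) i ∈ maximalIdeal (Localization.AtPrime q) := by
      rw [← IsLocalization.AtPrime.map_eq_maximalIdeal q (Localization.AtPrime q)]
      exact Ideal.mem_map_of_mem _ hi
    intro hu
    have hu' : IsUnit ((Ideal.Quotient.mk ((maximalIdeal (Localization.AtPrime p)).map
        (sig p q))) (algebraMap B (Localization.AtPrime q) i)) := hu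
    haveI : IsLocalHom (Ideal.Quotient.mk ((maximalIdeal (Localization.AtPrime p)).map
        (sig p q))) := IsLocalHom.of_surjective _ Ideal.Quotient.mk_surjective
    exact h1 (isUnit_of_map_unit _ _ hu')
  set J : Ideal (p.Fiber B) := K.map
      (Algebra.TensorProduct.includeRight (R := A) (A := p.ResidueField) (B := B)) with hJ
  have hcomp : (algebraMap (p.Fiber B) (FF p q)).comp
      (Algebra.TensorProduct.includeRight (R := A) (A := p.ResidueField) (B := B)).toRingHom = ψ := by
    refine RingHom.ext fun x => ?_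
    exact phi_one_tmul p q x
  have hJQ : J ≤ QQ p q := by
    rw [hJ, Ideal.map_le_iff_le_comap]
    intro i hi
    show phi p q (1 ⊗ₜ i) ∈ maximalIdeal (FF p q)
    rw [phi_one_tmul]
    exact hψmem i (hKq hi)
  obtain ⟨l', hl'K, hl'J⟩ := exists_list_of_isKoszulRegularIdeal J hfib (QQ p q) hJQ (FF p q)
  have hJψ : J.map (algebraMap (p.Fiber B) (FF p q)) = K.map ψ := by
    rw [hJ]
    have := Ideal.map_map (I := K)
      (Algebra.TensorProduct.includeRight (R := A) (A := p.ResidueField) (B := B)).toRingHom
      (algebraMap (p.Fiber B) (FF p q))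
    rw [hcomp] at this
    exact this
  rw [hJψ] at hl'J
  have hyp : ∀ y ∈ K.map ψ, ∃ i ∈ K, ∃ u : FF p q, IsUnit u ∧ ψ i = y * u := by
    intro y hy
    rw [hψ, ← Ideal.map_map] at hy
    obtain ⟨w, hw, rfl⟩ := (Ideal.mem_map_iff_of_surjective _ Ideal.Quotient.mk_surjective).1 hy
    obtain ⟨⟨i, s⟩, his⟩ := (IsLocalization.mem_map_algebraMap_iff q.primeCompl
      (Localization.AtPrime q)).1 hw
    refine ⟨i, i.2, _, isUnit_mk_of_notMem p q (s : B) s.2, ?_⟩
    show Ideal.Quotient.mk _ (algebraMap B (Localization.AtPrime q) i) = _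
    rw [← map_mul, his]
  obtain ⟨f, hlen, hfI, hfspan⟩ := lift_list ψ K hyp l' (by
    intro y hy
    rw [hl'J]
    exact Ideal.subset_span hy)
  refine ⟨f, hfI, ?_, ?_⟩
  · have hK : LCI.IsKoszulRegularSeq (FF p q) (f.map ψ) :=
      Groth.Agent.Lib.Helper9.KoszulGen.isKoszulRegularSeq_of_length_eq l' (f.map ψ) hl'K rfl
        hfspan (by rw [List.length_map, hlen])
    haveI : Algebra.FiniteType p.ResidueField (p.Fiber B) := inferInstance
    haveI : IsNoetherianRing (p.Fiber B) :=
      Algebra.FiniteType.isNoetherianRing p.ResidueField (p.Fiber B)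
    haveI : IsNoetherianRing (FF p q) :=
      IsLocalization.isNoetherianRing (QQ p q).primeCompl (FF p q) inferInstance
    have hW := Groth.Agent.Lib.Helper8.LCICM.isWeaklyRegular_of_isKoszulRegularSeq (f.map ψ) hK (by
      intro x hx
      rw [IsLocalRing.jacobson_eq_maximalIdeal ⊥ bot_ne_top]
      obtain ⟨i, hi, rfl⟩ := List.mem_map.1 hx
      exact hψmem i (hKq (hfI i hi)))
    have h2 : f.map ψ = (f.map (algebraMap B (Localization.AtPrime q))).map
        (algebraMap (Localization.AtPrime q) (FF p q)) := by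
      rw [List.map_map]
      rfl
    rw [h2] at hW
    exact (isWeaklyRegular_map_algebraMap_iff (FF p q) (FF p q) _).1 hW
  · rw [hfspan, hl'J]

end Fib


section Local

variable {R B : Type u} [CommRing R] [CommRing B] [Algebra R B] [Algebra.Smooth R B]

/-- localisation at one element of a syntomic algebra is syntomic -/
theorem isSyntomic_away {T : Type u} [CommRing T] [Algebra R T] (h : Synt.IsSyntomic R T) (t : T)
    (T' : Type u) [CommRing T'] [Algebra T T'] [Algebra R T'] [IsScalarTower R T T']
    [IsLocalization.Away t T'] : Synt.IsSyntomic R T' := by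
  rw [Groth.Agent.Lib.Helper8.SyntLCI.isSyntomic_iff] at h ⊢
  obtain ⟨hfl, hl⟩ := h
  haveI := hfl
  haveI : Module.Flat T T' := IsLocalization.flat T' (Submonoid.powers t)
  exact ⟨Module.Flat.trans R T T',
    Groth.Agent.Lib.Helper9.LCIComp.isLCI_comp R T T' hl
      (Groth.Agent.Lib.Helper9.SmoothLCI.isLCI_of_isLocalizationAway t T')⟩

open Groth.Agent.Lib.Helper35.RegSlice8 in
/-- Around a prime `q ⊇ K` of the smooth `R`-algebra `B` at which the fibre of `B ⧸ K` is a local
complete intersection, and at which `K` is generated by as many elements as its image in the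
fibre local ring (hypothesis `hX`), the quotient `B ⧸ K` is syntomic. -/
theorem exists_syntomic_away {m : ℕ} (k : Fin m → B) (K : Ideal B)
    (hK : K = Ideal.span (Set.range k))
    (p : Ideal R) [p.IsPrime] (q : Ideal B) [q.IsPrime] [q.LiesOver p] (hKq : K ≤ q)
    (hLCI : LCI.IsLCI p.ResidueField (p.ResidueField ⊗[R] (B ⧸ K)))
    (hX : ∀ G : Ideal B, G ≤ K →
      K.map (algebraMap B (Localization.AtPrime q)) ≤
        G.map (algebraMap B (Localization.AtPrime q)) ⊔
          (p.map (algebraMap R B)).map (algebraMap B (Localization.AtPrime q)) →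
      K.map (algebraMap B (Localization.AtPrime q)) ≤
        G.map (algebraMap B (Localization.AtPrime q))) :
    ∃ w : B, w ∉ q ∧ Synt.IsSyntomic R (Localization.Away (Ideal.Quotient.mk K w)) := by
  classical
  obtain ⟨gs, hgsK, hreg, hspan⟩ :=
    exists_list_fibre K p q hKq (koszul_fibre K p.ResidueField hLCI)
  have hflat : (sig p q).Flat :=
    RingHom.Flat.localRingHom (f := algebraMap R B) (RingHom.flat_algebraMap_iff.2 inferInstance)
      q p (q.over_def p)
  obtain ⟨w, hwq, H⟩ := iter_slice p (Localization.AtPrime p) gs.length B q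
    (Localization.AtPrime q) (sig p q) (sig_comp p q) hflat gs rfl
    (fun g hg => hKq (hgsK g hg)) hreg
  set G : Ideal B := Ideal.ofList gs with hG
  have hGK : G ≤ K := Ideal.span_le.2 (fun x hx => hgsK x hx)
  -- `K ⊆ G + 𝔭` in the local ring
  set O := Localization.AtPrime q with hO
  have hle : K.map (algebraMap B O) ≤ G.map (algebraMap B O) ⊔
      (p.map (algebraMap R B)).map (algebraMap B O) := by
    have h1 : (K.map (algebraMap B O)).map
        (Ideal.Quotient.mk ((maximalIdeal (Localization.AtPrime p)).map (sig p q))) =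
        (G.map (algebraMap B O)).map
          (Ideal.Quotient.mk ((maximalIdeal (Localization.AtPrime p)).map (sig p q))) := by
      rw [Ideal.map_map, Ideal.map_map, hspan, hG, Ideal.map_ofList]
    intro x hx
    have h2 : Ideal.Quotient.mk ((maximalIdeal (Localization.AtPrime p)).map (sig p q)) x ∈
        (G.map (algebraMap B O)).map
          (Ideal.Quotient.mk ((maximalIdeal (Localization.AtPrime p)).map (sig p q))) := by
      rw [← h1]
      exact Ideal.mem_map_of_mem _ hx
    rw [Ideal.mem_quotient_iff_mem_sup, map_sig_eq] at h2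
    exact h2
  have hKG := hX G hGK hle
  rw [hK] at hKG
  obtain ⟨t, htq, ht⟩ := Groth.Agent.Lib.Helper26.SL2.exists_mul_mem_of_map_le q O k G hKG
  rw [← hK] at ht
  -- the localisation
  set w' : B := w * t with hw'
  have hw'q : w' ∉ q := fun h => (Ideal.IsPrime.mem_or_mem inferInstance h).elim hwq htq
  let B' := Localization.Away w'
  obtain ⟨hwr, hfl⟩ := H w' (Dvd.intro t rfl) B'
  have htunit : IsUnit (algebraMap B B' t) := by
    have h1 : IsUnit (algebraMap B B' w') := IsLocalization.Away.algebraMap_isUnit w'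
    have h1' : IsUnit (algebraMap B B' w * algebraMap B B' t) := by
      rw [← map_mul]
      exact h1
    exact isUnit_of_mul_isUnit_right h1'
  have hKG' : K.map (algebraMap B B') = G.map (algebraMap B B') := by
    apply le_antisymm _ (Ideal.map_mono hGK)
    rw [Ideal.map_le_iff_le_comap]
    intro x hx
    rw [Ideal.mem_comap]
    have h1 : algebraMap B B' (t * x) ∈ G.map (algebraMap B B') :=
      Ideal.mem_map_of_mem _ (ht x hx)
    rw [map_mul] at h1
    exact (Ideal.unit_mul_mem_iff_mem _ htunit).1 h1
  have hGl : G.map (algebraMap B B') = Ideal.ofList (gs.map (algebraMap B B')) := by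
    rw [hG, Ideal.map_ofList]
  -- flatness
  have hflatT : Module.Flat R (B' ⧸ K.map (algebraMap B B')) := by
    have h1 := hfl gs.length
    rw [List.take_of_length_le (by simp)] at h1
    rw [hKG', hGl]
    exact h1
  -- lci
  haveI : Algebra.Smooth R B' := by
    haveI : Algebra.FormallySmooth B B' := Algebra.FormallySmooth.of_isLocalization (Submonoid.powers w')
    haveI : Algebra.FinitePresentation B B' := IsLocalization.Away.finitePresentation w'
    exact ⟨Algebra.FormallySmooth.comp R B B', Algebra.FinitePresentation.trans R B B'⟩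
  have hlciT : LCI.IsLCI R (B' ⧸ K.map (algebraMap B B')) := by
    refine Groth.Agent.Lib.Helper9.LCIComp.isLCI_comp R B' _
      (Groth.Agent.Lib.Helper9.SmoothLCI.isLCI_of_smooth B') ?_
    rw [Groth.Agent.Lib.Helper9.SmoothLCI0.isLCI_iff_ker Ideal.Quotient.mk_surjective]
    have : RingHom.ker (algebraMap B' (B' ⧸ K.map (algebraMap B B'))) =
        Ideal.ofList (gs.map (algebraMap B B')) := by
      rw [← hGl, ← hKG']
      exact Ideal.mk_ker
    rw [this]
    exact Groth.Agent.Lib.Helper9.SmoothLCI0.isKoszulRegularIdeal_ofList _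
      (Groth.Agent.S15821.result _ _ hwr).1
  have hsynT : Synt.IsSyntomic R (B' ⧸ K.map (algebraMap B B')) :=
    (Groth.Agent.Lib.Helper8.SyntLCI.isSyntomic_iff _ _).2 ⟨hflatT, hlciT⟩
  -- identify with the localisation of the quotient
  refine ⟨w', hw'q, ?_⟩
  haveI hloc : IsLocalization (Algebra.algebraMapSubmonoid (B ⧸ K) (Submonoid.powers w'))
      (B' ⧸ K.map (algebraMap B B')) := inferInstance
  have hsub : Algebra.algebraMapSubmonoid (B ⧸ K) (Submonoid.powers w') =
      Submonoid.powers (Ideal.Quotient.mk K w') := by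
    unfold Algebra.algebraMapSubmonoid
    rw [Submonoid.map_powers]
    rfl
  haveI hloc' : IsLocalization.Away (Ideal.Quotient.mk K w') (B' ⧸ K.map (algebraMap B B')) := by
    unfold IsLocalization.Away
    rw [← hsub]
    exact hloc
  haveI : IsScalarTower R (B ⧸ K) (B' ⧸ K.map (algebraMap B B')) :=
    IsScalarTower.of_algebraMap_eq (fun r => by
      rw [IsScalarTower.algebraMap_apply R B (B ⧸ K), IsScalarTower.algebraMap_apply R B' (B' ⧸ _),
        IsScalarTower.algebraMap_apply R B B']
      rfl)
  let e : (B' ⧸ K.map (algebraMap B B')) ≃ₐ[R] Localization.Away (Ideal.Quotient.mk K w') :=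
    ((IsLocalization.algEquiv (Submonoid.powers (Ideal.Quotient.mk K w'))
      (B' ⧸ K.map (algebraMap B B')) (Localization.Away (Ideal.Quotient.mk K w'))).restrictScalars R)
  exact Groth.Agent.Lib.Helper62.GCIField.isSyntomic_of_algEquiv e hsynT

end Local

end Groth.Agent.Lib.Helper26.SL6
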