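import Mathlib
import Groth.Agent.Lib.Helper8.LCIFib
import Groth.Agent.Lib.Helper9.LCICover

/-!
# Syntomic lifting (helper26), part 7a: the fibres of a lift are the fibres of the original
-/

set_option autoImplicit false
set_option linter.style.haveILetI false
universe u

namespace Groth.Agent.Lib.Helper26.SL7a

open TensorProduct

variable {R Λ κ S T : Type u} [CommRing R] [CommRing Λ] [CommRing κ] [CommRing S] [CommRing T]
  [Algebra R Λ] [Algebra R κ] [Algebra Λ κ] [IsScalarTower R Λ κ] [Algebra R S] [Algebra R T]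
  [Algebra Λ T] [IsScalarTower R Λ T]

theorem map_bijective (g : S →ₐ[R] T) (hg : Function.Surjective g)
    (hker : RingHom.ker g.toRingHom = (RingHom.ker (algebraMap R Λ)).map (algebraMap R S)) :
    Function.Bijective (Algebra.TensorProduct.map (AlgHom.id κ κ) g) := by
  constructor
  · have h1 := Algebra.TensorProduct.lTensor_ker (A := κ) g hg
    have h2 : RingHom.ker (Algebra.TensorProduct.map (AlgHom.id R κ) g) = ⊥ := by
      rw [h1]
      have : RingHom.ker g = RingHom.ker g.toRingHom := rfl
      rw [this, hker, eq_bot_iff, Ideal.map_le_iff_le_comap, Ideal.map_le_iff_le_comap]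
      intro r hr
      rw [Ideal.mem_comap, Ideal.mem_comap, Ideal.mem_bot]
      rw [RingHom.mem_ker] at hr
      change (1 : κ) ⊗ₜ[R] (algebraMap R S r) = 0
      rw [Algebra.algebraMap_eq_smul_one, TensorProduct.tmul_smul, TensorProduct.smul_tmul',
        ← Algebra.algebraMap_eq_smul_one, IsScalarTower.algebraMap_apply R Λ κ, hr, map_zero,
        TensorProduct.zero_tmul]
    have h3 : Function.Injective (Algebra.TensorProduct.map (AlgHom.id R κ) g) :=
      (RingHom.injective_iff_ker_eq_bot _).2 h2
    exact h3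
  · have : Function.Surjective (Algebra.TensorProduct.map (AlgHom.id R κ) g) :=
      LinearMap.lTensor_surjective κ hg
    exact this

theorem isLCI_fibre (hsurj : Function.Surjective (algebraMap R Λ))
    [Module.Flat Λ T] (hl : LCI.IsLCI Λ T)
    (g : S →ₐ[R] T) (hg : Function.Surjective g)
    (hker : RingHom.ker g.toRingHom = (RingHom.ker (algebraMap R Λ)).map (algebraMap R S)) :
    LCI.IsLCI κ (κ ⊗[R] S) := by
  have h1 : LCI.IsLCI κ (κ ⊗[Λ] T) := Groth.Agent.Lib.Helper8.LCIFib.isLCI_baseChange Λ T hl κ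
  haveI : TensorProduct.CompatibleSMul R Λ κ T :=
    TensorProduct.CompatibleSMul.of_algebraMap_surjective _ _ hsurj
  let e2 : κ ⊗[Λ] T ≃ₐ[κ] κ ⊗[R] T := Algebra.TensorProduct.equivOfCompatibleSMul R Λ κ κ T
  let e1 : κ ⊗[R] S ≃ₐ[κ] κ ⊗[R] T :=
    AlgEquiv.ofBijective (Algebra.TensorProduct.map (AlgHom.id κ κ) g) (map_bijective g hg hker)
  exact Groth.Agent.Lib.Helper9.LCICover.isLCI_of_algEquiv (e2.trans e1.symm) h1

end Groth.Agent.Lib.Helper26.SL7a
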