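import Mathlib
import Groth.Agent.Lib.Helper35.FlatQuotNak

/-!
# Syntomic lifting (helper26), part 7b: the flatness input
-/

set_option autoImplicit false
set_option linter.style.haveILetI false
universe u

namespace Groth.Agent.Lib.Helper26.SL7b

theorem mem_mul_sup {R B T : Type u} [CommRing R] [CommRing B] [CommRing T] [Algebra R B]
    (I p : Ideal R) [Algebra (R ⧸ I) T] [Module.Flat (R ⧸ I) T]
    (gB : B →+* T) (hgB : Function.Surjective gB)
    (hcomm : ∀ r, gB (algebraMap R B r) = algebraMap (R ⧸ I) T (Ideal.Quotient.mk I r))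
    (K : Ideal B) (hker : RingHom.ker gB = K ⊔ I.map (algebraMap R B))
    (x : B) (hxK : x ∈ K) (hxp : x ∈ p.map (algebraMap R B)) :
    x ∈ p.map (algebraMap R B) * K ⊔ I.map (algebraMap R B) := by
  have hle : I.map (algebraMap R B) ≤ RingHom.ker gB := hker ▸ le_sup_right
  let gO : (B ⧸ I.map (algebraMap R B)) →+* T :=
    Ideal.Quotient.lift (I.map (algebraMap R B)) gB (fun a ha => hle ha)
  let gOa : (B ⧸ I.map (algebraMap R B)) →ₐ[R ⧸ I] T :=
    { gO with
      commutes' := by
        intro r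
        obtain ⟨r, rfl⟩ := Ideal.Quotient.mk_surjective r
        exact hcomm r }
  have hgOs : Function.Surjective gOa :=
    Ideal.Quotient.lift_surjective_of_surjective _ _ hgB
  haveI : Module.Flat (R ⧸ I) ((B ⧸ I.map (algebraMap R B)) ⧸ RingHom.ker gOa) :=
    Module.Flat.of_linearEquiv (Ideal.quotientKerAlgEquivOfSurjective hgOs).toLinearEquiv
  have hJ : RingHom.ker gOa =
      (K ⊔ I.map (algebraMap R B)).map (Ideal.Quotient.mk (I.map (algebraMap R B))) := by
    rw [← hker]
    exact Ideal.ker_quotient_lift gB (fun a ha => hle ha)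
  have hp : (p.map (Ideal.Quotient.mk I)).map (algebraMap (R ⧸ I) (B ⧸ I.map (algebraMap R B))) =
      (p.map (algebraMap R B)).map (Ideal.Quotient.mk (I.map (algebraMap R B))) := by
    rw [Ideal.map_map, Ideal.map_map]
    rfl
  have hz := Groth.Agent.Lib.Helper35.FlatQuotNak.mem_mul_of_mem_inf (p.map (Ideal.Quotient.mk I))
    (RingHom.ker gOa) (Ideal.Quotient.mk (I.map (algebraMap R B)) x)
    (by
      rw [hJ]
      exact Ideal.mem_map_of_mem _ (Ideal.mem_sup_left hxK))
    (by
      rw [hp]
      exact Ideal.mem_map_of_mem _ hxp)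
  rw [hp, hJ, ← Ideal.map_mul] at hz
  obtain ⟨y, hy, hyx⟩ := (Ideal.mem_map_iff_of_surjective _ Ideal.Quotient.mk_surjective).1 hz
  have hxy : x - y ∈ I.map (algebraMap R B) := by
    rw [← Ideal.Quotient.eq]
    exact hyx.symm
  have hy' : y ∈ p.map (algebraMap R B) * K ⊔ I.map (algebraMap R B) := by
    rw [Ideal.mul_sup] at hy
    have h3 : p.map (algebraMap R B) * K ⊔ p.map (algebraMap R B) * I.map (algebraMap R B) ≤
        p.map (algebraMap R B) * K ⊔ I.map (algebraMap R B) :=
      sup_le_sup_left Ideal.mul_le_right _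
    exact h3 hy
  have : x = y + (x - y) := by ring
  rw [this]
  exact Ideal.add_mem _ hy' (Ideal.mem_sup_right hxy)

end Groth.Agent.Lib.Helper26.SL7b
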