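import Mathlib
import Groth.Agent.Lib.Helper26.SL1
import Groth.Agent.Lib.Helper26.SL2
import Groth.Agent.Lib.Helper26.SL6
import Groth.Agent.Lib.Helper26.SL7a
import Groth.Agent.Lib.Helper26.SL7b

/-!
# Syntomic lifting (helper26), part 7c: the quotient `B ⧸ K` is syntomic near the closed fibre
-/

set_option autoImplicit false
set_option linter.style.haveILetI false
set_option maxHeartbeats 800000
universe u

namespace Groth.Agent.Lib.Helper26.SL7c

open TensorProduct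

section Ker

variable {R B T : Type u} [CommRing R] [CommRing B] [CommRing T] [Algebra R B]

theorem ker_lift_quot (I : Ideal R) (K : Ideal B) (gB : B →+* T)
    (hk : RingHom.ker gB = K ⊔ I.map (algebraMap R B)) (H : ∀ a ∈ K, gB a = 0) :
    RingHom.ker (Ideal.Quotient.lift K gB H) = I.map (algebraMap R (B ⧸ K)) := by
  have h1 : RingHom.ker (Ideal.Quotient.lift K gB H) =
      (RingHom.ker gB).map (Ideal.Quotient.mk K) :=
    Ideal.ker_quotient_lift gB (show K ≤ RingHom.ker gB from fun a ha => H a ha)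
  rw [h1, hk, Ideal.map_sup, Ideal.map_quotient_self, bot_sup_eq, Ideal.map_map]
  rfl

end Ker

variable {R : Type u} [CommRing R] (I : Ideal R) {n m : ℕ}

theorem exists_away_syntomic
    (f : Fin m → MvPolynomial (Fin n) R)
    (B0 : Matrix (Fin m) (Fin m) (MvPolynomial (Fin n) R))
    (𝔞 : Ideal (MvPolynomial (Fin n) R))
    (hf𝔞 : ∀ l, f l ∈ 𝔞)
    (H2 : ∀ j l, (B0 * B0) j l - B0 j l ∈ 𝔞)
    (H3 : ∀ (𝔟 : Ideal (MvPolynomial (Fin n) R)) (b : Fin m → MvPolynomial (Fin n) R),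
      ∑ j, b j * f j ∈ 𝔟 * 𝔞 ⊔ I.map (algebraMap R (MvPolynomial (Fin n) R)) ⊔ 𝔞 ^ 2 →
      ∀ l, ∑ j, b j * B0 j l ∈ 𝔟 ⊔ 𝔞)
    {B : Type u} [CommRing B] [Algebra (MvPolynomial (Fin n) R) B] [Algebra R B]
    [IsScalarTower R (MvPolynomial (Fin n) R) B]
    [Algebra.FormallyEtale (MvPolynomial (Fin n) R) B]
    [Algebra.FinitePresentation (MvPolynomial (Fin n) R) B]
    (E : Matrix (Fin m) (Fin m) B) (hE : E * E = E)
    (hEE : ∀ j l, E j l - algebraMap (MvPolynomial (Fin n) R) B (B0 j l) ∈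
      𝔞.map (algebraMap (MvPolynomial (Fin n) R) B))
    (ψ : B →ₐ[MvPolynomial (Fin n) R] MvPolynomial (Fin n) R ⧸ 𝔞)
    (hψk : RingHom.ker ψ.toRingHom = 𝔞.map (algebraMap (MvPolynomial (Fin n) R) B))
    (K : Ideal B)
    (hK : K = Ideal.span (Set.range fun j =>
      ∑ l, E j l * algebraMap (MvPolynomial (Fin n) R) B (f l)))
    (h𝔞B : 𝔞.map (algebraMap (MvPolynomial (Fin n) R) B) = K ⊔ I.map (algebraMap R B))
    {A₀ : Type u} [CommRing A₀] [Algebra (R ⧸ I) A₀] [Module.Flat (R ⧸ I) A₀]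
    (hlci : LCI.IsLCI (R ⧸ I) A₀)
    (gB : B →+* A₀) (hgB : Function.Surjective gB)
    (hcomm : ∀ r, gB (algebraMap R B r) = algebraMap (R ⧸ I) A₀ (Ideal.Quotient.mk I r))
    (hgBk : RingHom.ker gB = 𝔞.map (algebraMap (MvPolynomial (Fin n) R) B))
    (q : Ideal B) [q.IsPrime] (hq : 𝔞.map (algebraMap (MvPolynomial (Fin n) R) B) ≤ q) :
    ∃ w : B, w ∉ q ∧ Synt.IsSyntomic R (Localization.Away (Ideal.Quotient.mk K w)) := by
  classical
  haveI : Algebra.FormallySmooth (MvPolynomial (Fin n) R) B := inferInstance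
  haveI : Algebra.Smooth R B :=
    ⟨Algebra.FormallySmooth.comp R (MvPolynomial (Fin n) R) B,
      Algebra.FinitePresentation.trans R (MvPolynomial (Fin n) R) B⟩
  obtain ⟨p, hp⟩ : ∃ p : Ideal R, p = q.under R := ⟨_, rfl⟩
  haveI : p.IsPrime := by rw [hp]; infer_instance
  haveI : q.LiesOver p := ⟨hp⟩
  have hKq : K ≤ q := le_trans (h𝔞B ▸ le_sup_left) hq
  have hIBq : I.map (algebraMap R B) ≤ q := le_trans (h𝔞B ▸ le_sup_right) hq
  have hIp : I ≤ p := fun r hr => by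
    rw [hp]
    exact Ideal.mem_comap.2 (hIBq (Ideal.mem_map_of_mem _ hr))
  have hpq : p.map (algebraMap R B) ≤ q := by
    rw [hp]; exact Ideal.map_comap_le
  -- retraction
  obtain ⟨ρ⟩ := Groth.Agent.Lib.Helper26.SL1.exists_retraction 𝔞 ψ
  have hcontr : ∀ (𝔠 : Ideal (MvPolynomial (Fin n) R)), 𝔞 ^ 2 ≤ 𝔠 → ∀ x,
      algebraMap (MvPolynomial (Fin n) R) B x ∈ 𝔠.map (algebraMap (MvPolynomial (Fin n) R) B) →
      x ∈ 𝔠 :=
    fun 𝔠 h𝔠 x hx => Groth.Agent.Lib.Helper26.SL1.mem_of_map_mem 𝔞 ρ 𝔠 h𝔠 x hx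
  have hsurj : ∀ b : B, ∃ y, b - algebraMap (MvPolynomial (Fin n) R) B y ∈
      𝔞.map (algebraMap (MvPolynomial (Fin n) R) B) := by
    intro b
    obtain ⟨y, hy⟩ := Ideal.Quotient.mk_surjective (ψ b)
    refine ⟨y, ?_⟩
    rw [← hψk, RingHom.mem_ker]
    change ψ (b - algebraMap (MvPolynomial (Fin n) R) B y) = 0
    rw [map_sub, ψ.commutes, ← hy, sub_eq_zero]
    rfl
  have hFl : ∀ x ∈ K, x ∈ p.map (algebraMap R B) →
      x ∈ p.map (algebraMap R B) * K ⊔ I.map (algebraMap R B) :=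
    fun x hxK hxp => Groth.Agent.Lib.Helper26.SL7b.mem_mul_sup I p gB hgB hcomm K
      (hgBk.trans h𝔞B) x hxK hxp
  have hcoef := Groth.Agent.Lib.Helper26.SL2.coeff_mem I p 𝔞 f hf𝔞 B0 E hEE H2
    (H3 (p.map (algebraMap R (MvPolynomial (Fin n) R)))) hsurj hcontr K hK hFl
  -- the fibre
  have hKle : ∀ a ∈ K, gB a = 0 := fun a ha => by
    rw [← RingHom.mem_ker, hgBk, h𝔞B]; exact Ideal.mem_sup_left ha
  letI algRA : Algebra R A₀ := ((algebraMap (R ⧸ I) A₀).comp (Ideal.Quotient.mk I)).toAlgebra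
  haveI : IsScalarTower R (R ⧸ I) A₀ := IsScalarTower.of_algebraMap_eq (fun _ => rfl)
  letI algΛκ : Algebra (R ⧸ I) p.ResidueField :=
    (Ideal.Quotient.lift I (algebraMap R p.ResidueField) (fun r hr => by
      rw [Ideal.algebraMap_residueField_eq_zero]; exact hIp hr)).toAlgebra
  haveI : IsScalarTower R (R ⧸ I) p.ResidueField := IsScalarTower.of_algebraMap_eq (fun _ => rfl)
  let gS : (B ⧸ K) →ₐ[R] A₀ :=
    { Ideal.Quotient.lift K gB hKle with
      commutes' := fun r => hcomm r }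
  have hgS : Function.Surjective gS := Ideal.Quotient.lift_surjective_of_surjective _ _ hgB
  have hgSk : RingHom.ker gS.toRingHom =
      (RingHom.ker (algebraMap R (R ⧸ I))).map (algebraMap R (B ⧸ K)) := by
    rw [Ideal.Quotient.algebraMap_eq, Ideal.mk_ker]
    exact ker_lift_quot I K gB (hgBk.trans h𝔞B) hKle
  have hLCI : LCI.IsLCI p.ResidueField (p.ResidueField ⊗[R] (B ⧸ K)) :=
    Groth.Agent.Lib.Helper26.SL7a.isLCI_fibre (Λ := R ⧸ I) Ideal.Quotient.mk_surjective hlci gS hgS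
      hgSk
  -- Nakayama
  have hX : ∀ G : Ideal B, G ≤ K →
      K.map (algebraMap B (Localization.AtPrime q)) ≤
        G.map (algebraMap B (Localization.AtPrime q)) ⊔
          (p.map (algebraMap R B)).map (algebraMap B (Localization.AtPrime q)) →
      K.map (algebraMap B (Localization.AtPrime q)) ≤
        G.map (algebraMap B (Localization.AtPrime q)) := by
    intro G hGK hle
    refine Groth.Agent.Lib.Helper26.SL2.map_le_of_le_sup q (Localization.AtPrime q) E hE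
      (fun l => algebraMap (MvPolynomial (Fin n) R) B (f l)) K G (p.map (algebraMap R B)) hK hGK
      (fun b hb l => ?_) hle
    exact (sup_le hpq hq) (hcoef b hb l)
  exact Groth.Agent.Lib.Helper26.SL6.exists_syntomic_away
    (fun j => ∑ l, E j l * algebraMap (MvPolynomial (Fin n) R) B (f l)) K hK p q hKq hLCI hX

end Groth.Agent.Lib.Helper26.SL7c
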