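import Mathlib
import Groth.Agent.Lib.Helper26.SL6
import Groth.Agent.Lib.Helper90.SmoothLiftAux
import Groth.Agent.S9146

/-!
# Syntomic lifting (helper26), part 7d: globalisation
-/

set_option autoImplicit false
set_option linter.style.haveILetI false
universe u

namespace Groth.Agent.Lib.Helper26.SL7d

open Groth.Agent.Lib.Helper90.SmoothLift

variable {R S : Type u} [CommRing R] [CommRing S] [Algebra R S]

/-- `(S_g)_v` syntomic implies `(S_v)_g` syntomic -/
theorem isSyntomic_away_away (v g : S) (h : Synt.IsSyntomic R (Localization.Away g)) :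
    Synt.IsSyntomic R (Localization.Away (algebraMap S (Localization.Away v) g)) := by
  let T := Localization.Away (algebraMap S (Localization.Away g) v)
  let T' := Localization.Away (algebraMap S (Localization.Away v) g)
  have hT : Synt.IsSyntomic R T :=
    Groth.Agent.Lib.Helper26.SL6.isSyntomic_away h (algebraMap S (Localization.Away g) v) T
  haveI h1 : IsLocalization.Away (g * v) T :=
    IsLocalization.Away.mul' (Localization.Away g) T g v
  haveI h2 : IsLocalization.Away (g * v) T' :=
    IsLocalization.Away.mul (Localization.Away v) T' v g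
  haveI : IsScalarTower R S T := IsScalarTower.of_algebraMap_eq (R := R) (S := S) (A := T) (fun r => by
    have e1 : algebraMap R T r =
        algebraMap (Localization.Away g) T (algebraMap R (Localization.Away g) r) :=
      IsScalarTower.algebraMap_apply R (Localization.Away g) T r
    have e2 : algebraMap R (Localization.Away g) r =
        algebraMap S (Localization.Away g) (algebraMap R S r) :=
      IsScalarTower.algebraMap_apply R S (Localization.Away g) r
    have e3 : algebraMap S T (algebraMap R S r) =
        algebraMap (Localization.Away g) T (algebraMap S (Localization.Away g) (algebraMap R S r)) :=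
      IsScalarTower.algebraMap_apply S (Localization.Away g) T _
    rw [e1, e2, e3])
  haveI : IsScalarTower R S T' := IsScalarTower.of_algebraMap_eq (R := R) (S := S) (A := T') (fun r => by
    have e1 : algebraMap R T' r =
        algebraMap (Localization.Away v) T' (algebraMap R (Localization.Away v) r) :=
      IsScalarTower.algebraMap_apply R (Localization.Away v) T' r
    have e2 : algebraMap R (Localization.Away v) r =
        algebraMap S (Localization.Away v) (algebraMap R S r) :=
      IsScalarTower.algebraMap_apply R S (Localization.Away v) r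
    have e3 : algebraMap S T' (algebraMap R S r) =
        algebraMap (Localization.Away v) T' (algebraMap S (Localization.Away v) (algebraMap R S r)) :=
      IsScalarTower.algebraMap_apply S (Localization.Away v) T' _
    rw [e1, e2, e3])
  let e : T ≃ₐ[R] T' :=
    (IsLocalization.algEquiv (Submonoid.powers (g * v)) T T').restrictScalars R
  exact Groth.Agent.Lib.Helper62.GCIField.isSyntomic_of_algEquiv e hT

theorem exists_global (I : Ideal R) {A₀ : Type u} [CommRing A₀] [Algebra (R ⧸ I) A₀]
    (gS : S →+* A₀) (hgS : Function.Surjective gS)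
    (hcomm : ∀ r, gS (algebraMap R S r) = algebraMap (R ⧸ I) A₀ (Ideal.Quotient.mk I r))
    (hker : RingHom.ker gS = I.map (algebraMap R S))
    (hloc : ∀ q₀ : Ideal S, q₀.IsPrime → I.map (algebraMap R S) ≤ q₀ →
      ∃ w : S, w ∉ q₀ ∧ Synt.IsSyntomic R (Localization.Away w)) :
    ∃ (A : Type u) (_ : CommRing A) (_ : Algebra R A), Synt.IsSyntomic R A ∧
      Nonempty ((A ⧸ I.map (algebraMap R A)) ≃ₐ[R ⧸ I] A₀) := by
  classical
  set Sg : Set S := {g | Synt.IsSyntomic R (Localization.Away g)} with hSg
  have htop : Ideal.span Sg ⊔ I.map (algebraMap R S) = ⊤ := by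
    by_contra hne
    obtain ⟨M, hM, hle⟩ := Ideal.exists_le_maximal _ hne
    obtain ⟨w, hwM, hw⟩ := hloc M hM.isPrime (le_trans le_sup_right hle)
    exact hwM (hle (Ideal.mem_sup_left (Ideal.subset_span hw)))
  have h1 : (1 : S) ∈ Ideal.span Sg ⊔ I.map (algebraMap R S) := by
    rw [htop]; exact Submodule.mem_top
  obtain ⟨v, hv, t, ht, hvt⟩ := Submodule.mem_sup.1 h1
  obtain ⟨F, hFSg, hvF⟩ := Submodule.mem_span_finite_of_mem_span hv
  have hgv : gS v = 1 := by
    have h0 : gS t = 0 := by
      rw [← RingHom.mem_ker, hker]; exact ht
    have := congrArg gS hvt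
    rw [map_add, h0, add_zero, map_one] at this
    exact this
  let A := Localization.Away v
  have hunit : ∀ y : Submonoid.powers v, IsUnit (gS y) := by
    rintro ⟨_, k, rfl⟩
    rw [map_pow, hgv, one_pow]; exact isUnit_one
  let gA : A →+* A₀ := IsLocalization.lift (M := Submonoid.powers v) (S := A) (g := gS) hunit
  have hgA : ∀ s, gA (algebraMap S A s) = gS s := fun s => IsLocalization.lift_eq hunit s
  have hkerA : RingHom.ker gA = I.map (algebraMap R A) := by
    have := ker_lift_eq_map (P := A) (Submonoid.powers v) gS hunit
    rw [hker, Ideal.map_map, ← IsScalarTower.algebraMap_eq] at this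
    exact this
  have hsyn : Synt.IsSyntomic R A := by
    apply Groth.Agent.S9146.result R A (F.image (algebraMap S A))
    · rw [Finset.coe_image, ← Ideal.map_span, Ideal.eq_top_iff_one]
      have h2 : algebraMap S A v ∈ (Ideal.span (F : Set S)).map (algebraMap S A) :=
        Ideal.mem_map_of_mem _ hvF
      have hu : IsUnit (algebraMap S A v) := IsLocalization.Away.algebraMap_isUnit v
      exact (Ideal.eq_top_of_isUnit_mem _ h2 hu) ▸ Submodule.mem_top
    · intro g hg
      obtain ⟨g, hgF, rfl⟩ := Finset.mem_image.1 hg
      exact isSyntomic_away_away v g (hFSg hgF)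
  refine ⟨A, inferInstance, inferInstance, hsyn, ?_⟩
  apply nonempty_quot_algEquiv I gA
  · intro a
    obtain ⟨s, rfl⟩ := hgS a
    exact ⟨algebraMap S A s, hgA s⟩
  · intro r
    rw [IsScalarTower.algebraMap_apply R S A, hgA, hcomm]
  · exact hkerA

end Groth.Agent.Lib.Helper26.SL7d
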