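import Groth.Agent.Lib.Helper26.SplitAlg

set_option autoImplicit false

namespace Groth.Agent.Lib.Helper26.SplitAlg

open Polynomial

universe u

theorem algebraMap_injective_of_basis {A B ι : Type*} [CommRing A] [CommRing B] [Algebra A B]
    [Nonempty ι] (b : Module.Basis ι A B) : Function.Injective (algebraMap A B) := by
  rw [injective_iff_map_eq_zero]
  intro a ha
  obtain ⟨i⟩ := ‹Nonempty ι›
  have h1 : a • b i = 0 := by
    rw [Algebra.smul_def, ha, zero_mul]
  have h2 := congrArg (fun z => b.repr z i) h1
  simpa using h2

instance (n : ℕ) : Nonempty (Stair n) := by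
  have : 0 < Fintype.card (Stair n) := by rw [card_stair]; exact Nat.factorial_pos n
  exact Fintype.card_pos_iff.mp this

/-- simultaneous splitting of finitely many monic polynomials in a finite free extension -/
theorem exists_split_family (n : ℕ) : ∀ (A : Type u) [CommRing A] (P : Fin n → A[X]),
    (∀ i, (P i).Monic) →
    ∃ (B : Type u) (_ : CommRing B) (_ : Algebra A B), Module.Finite A B ∧ Module.Free A B ∧
      Function.Injective (algebraMap A B) ∧
      ∀ i, ∃ (d : ℕ) (α : Fin d → B), (P i).map (algebraMap A B) = ∏ j, (X - C (α j)) := by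
  induction n with
  | zero =>
    intro A _ P _
    exact ⟨A, inferInstance, inferInstance, inferInstance, inferInstance, fun _ _ h => h,
      fun i => i.elim0⟩
  | succ n ih =>
    intro A _ P hP
    obtain ⟨B₁, _, _, x, hx, ⟨b, -⟩, -, -⟩ :=
      exists_splitting (P 0).natDegree A (P 0) (hP 0) rfl
    obtain ⟨B, _, _, hfin, hfree, hinj, hsplit⟩ :=
      ih B₁ (fun i => (P i.succ).map (algebraMap A B₁)) (fun i => (hP i.succ).map _)
    let _ : Algebra A B := ((algebraMap B₁ B).comp (algebraMap A B₁)).toAlgebra
    have : IsScalarTower A B₁ B := IsScalarTower.of_algebraMap_eq (fun _ => rfl)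
    have : Module.Finite A B₁ := Module.Finite.of_basis b
    have : Module.Free A B₁ := Module.Free.of_basis b
    refine ⟨B, inferInstance, inferInstance, Module.Finite.trans B₁ B, Module.Free.trans (R := A) (S := B₁) (M := B),
      hinj.comp (algebraMap_injective_of_basis b), ?_⟩
    intro i
    refine Fin.cases ?_ (fun j => ?_) i
    · refine ⟨(P 0).natDegree, fun j => algebraMap B₁ B (x j), ?_⟩
      have h1 : (P 0).map (algebraMap A B) = ((P 0).map (algebraMap A B₁)).map (algebraMap B₁ B) := by
        rw [Polynomial.map_map]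
        rfl
      rw [h1, hx, Polynomial.map_prod]
      simp
    · obtain ⟨d, α, hα⟩ := hsplit j
      refine ⟨d, α, ?_⟩
      rw [← hα, Polynomial.map_map]
      rfl

end Groth.Agent.Lib.Helper26.SplitAlg
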