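import Groth.Agent.Lib.Helper26.SplitAlg

set_option autoImplicit false

namespace Groth.Agent.Lib.Helper26.SplitAlg

universe u

/-- `Stair n ≃ Π i : Fin n, Fin (n - i)` -/
noncomputable def stairPi : ∀ n : ℕ, Stair n ≃ (Π i : Fin n, Fin (n - (i : ℕ)))
  | 0 =>
    { toFun := fun _ i => i.elim0
      invFun := fun _ => ()
      left_inv := fun _ => rfl
      right_inv := fun f => by funext i; exact i.elim0 }
  | n + 1 =>
    (stairEquiv n).trans <|
      (Equiv.prodCongr (Equiv.refl (Fin (n + 1)))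
        ((stairPi n).trans (Equiv.piCongrRight fun i : Fin n =>
          finCongr (Nat.succ_sub_succ n i).symm))).trans
        (Fin.consEquiv (fun i : Fin (n + 1) => Fin (n + 1 - (i : ℕ))))

theorem stairPi_succ_zero (n : ℕ) (s : Stair (n + 1)) :
    ((stairPi (n + 1) s 0 : Fin (n + 1 - ((0 : Fin (n + 1)) : ℕ))) : ℕ) = ((stairEquiv n s).1 : ℕ) := rfl

theorem stairPi_succ_succ (n : ℕ) (s : Stair (n + 1)) (i : Fin n) :
    ((stairPi (n + 1) s i.succ : Fin (n + 1 - ((i.succ : Fin (n + 1)) : ℕ))) : ℕ) =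
      ((stairPi n (stairEquiv n s).2 i : Fin (n - (i : ℕ))) : ℕ) := rfl

theorem mon_eq_prod {B : Type*} [CommRing B] : ∀ {n : ℕ} (x : Fin n → B) (s : Stair n),
    mon x s = ∏ i, x i ^ ((stairPi n s i : Fin (n - (i : ℕ))) : ℕ)
  | 0, x, s => by simp [mon_zero]
  | n + 1, x, s => by
    rw [mon_succ, Fin.prod_univ_succ, mon_eq_prod, stairPi_succ_zero]
    congr 1


section Ext

variable {R : Type u} [CommRing R] {r : ℕ} (a : Fin r → R)

/-- membership in `I + J·R[t]` read off on staircase coordinates -/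
theorem mem_sup_iff (b : Module.Basis (Stair r) R (MvPolynomial (Fin r) R ⧸ esIdeal a)) (J : Ideal R)
    (x : MvPolynomial (Fin r) R) :
    x ∈ esIdeal a ⊔ Ideal.map (MvPolynomial.C : R →+* MvPolynomial (Fin r) R) J ↔
      ∀ d, b.repr (Ideal.Quotient.mk (esIdeal a) x) d ∈ J := by
  rw [sup_comm, ← Ideal.mem_quotient_iff_mem_sup, Ideal.map_map]
  have hcomp : (Ideal.Quotient.mk (esIdeal a)).comp (MvPolynomial.C : R →+* MvPolynomial (Fin r) R) =
      algebraMap R (MvPolynomial (Fin r) R ⧸ esIdeal a) := rfl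
  rw [hcomp]
  have h1 : ∀ z : MvPolynomial (Fin r) R ⧸ esIdeal a,
      z ∈ Ideal.map (algebraMap R (MvPolynomial (Fin r) R ⧸ esIdeal a)) J ↔
        z ∈ J • (⊤ : Submodule R (MvPolynomial (Fin r) R ⧸ esIdeal a)) := by
    intro z
    rw [Ideal.smul_top_eq_map]
    rfl
  rw [h1, ← b.span_eq, Submodule.mem_ideal_smul_span_iff_exists_sum]
  constructor
  · rintro ⟨c, hc, hsum⟩ d
    have : b.repr (Ideal.Quotient.mk (esIdeal a) x) = c := by
      rw [← hsum]
      exact b.repr_linearCombination c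
    rw [this]
    exact hc d
  · intro h
    refine ⟨b.repr (Ideal.Quotient.mk (esIdeal a) x), h, ?_⟩
    exact b.linearCombination_repr _


theorem mk_sum_eq (b : Module.Basis (Stair r) R (MvPolynomial (Fin r) R ⧸ esIdeal a))
    (hb : ∀ d, b d = Ideal.Quotient.mk (esIdeal a)
      (mon (fun i => (MvPolynomial.X i : MvPolynomial (Fin r) R)) d))
    (c : (Π i : Fin r, Fin (r - (i : ℕ))) → R) :
    Ideal.Quotient.mk (esIdeal a)
      (∑ d : (Π i : Fin r, Fin (r - (i : ℕ))), MvPolynomial.C (c d) *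
        ∏ i : Fin r, (MvPolynomial.X i : MvPolynomial (Fin r) R) ^ ((d i : ℕ))) =
      ∑ s : Stair r, c (stairPi r s) • b s := by
  rw [map_sum, ← Equiv.sum_comp (stairPi r)]
  apply Finset.sum_congr rfl
  intro s _
  rw [map_mul, hb, mon_eq_prod]
  exact (Algebra.smul_def (c (stairPi r s)) (Ideal.Quotient.mk (esIdeal a)
    (∏ i, (MvPolynomial.X i : MvPolynomial (Fin r) R) ^ ((stairPi r s i : Fin (r - (i : ℕ))) : ℕ)))).symm

theorem repr_mk_sum (b : Module.Basis (Stair r) R (MvPolynomial (Fin r) R ⧸ esIdeal a))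
    (hb : ∀ d, b d = Ideal.Quotient.mk (esIdeal a)
      (mon (fun i => (MvPolynomial.X i : MvPolynomial (Fin r) R)) d))
    (c : (Π i : Fin r, Fin (r - (i : ℕ))) → R) (s : Stair r) :
    b.repr (Ideal.Quotient.mk (esIdeal a)
      (∑ d : (Π i : Fin r, Fin (r - (i : ℕ))), MvPolynomial.C (c d) *
        ∏ i : Fin r, (MvPolynomial.X i : MvPolynomial (Fin r) R) ^ ((d i : ℕ)))) s =
      c (stairPi r s) := by
  rw [mk_sum_eq a b hb c, b.repr_sum_self]

end Ext

end Groth.Agent.Lib.Helper26.SplitAlg
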