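import Mathlib

set_option autoImplicit false

namespace Groth.Agent.Lib.Helper26.TraceIntegral

open Polynomial

/-- trace of a matrix over a field that is killed by a monic polynomial with coefficients in `A'`
is integral over `A'` -/
theorem isIntegral_trace_of_aeval_eq_zero {A' F : Type*} [CommRing A'] [Field F] [Algebra A' F]
    {n : Type*} [Fintype n] [DecidableEq n] (M : Matrix n n F) (p : A'[X]) (hp : p.Monic)
    (hM : aeval M p = 0) : IsIntegral A' M.trace := by
  rcases isEmpty_or_nonempty n with hn | hn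
  · have : M.trace = 0 := by simp [Matrix.trace]
    rw [this]
    exact isIntegral_zero
  let Ω := AlgebraicClosure F
  let φ : Matrix n n F →ₐ[A'] Matrix n n Ω := (IsScalarTower.toAlgHom A' F Ω).mapMatrix
  have hφ : aeval (φ M) p = 0 := by rw [aeval_algHom_apply, hM, map_zero]
  have htr : (φ M).trace = algebraMap F Ω M.trace := by
    simp [φ, Matrix.trace, AlgHom.mapMatrix_apply]
  rw [← isIntegral_algebraMap_iff (algebraMap F Ω).injective, ← htr,
    Matrix.trace_eq_sum_roots_charpoly]
  apply IsIntegral.multiset_sum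
  intro μ hμ
  have hroot : (φ M).charpoly.IsRoot μ := (mem_roots (Matrix.charpoly_monic _).ne_zero).mp hμ
  rw [← Matrix.mem_spectrum_iff_isRoot_charpoly] at hroot
  have hq : aeval (φ M) (p.map (algebraMap A' Ω)) = 0 := by
    rw [aeval_map_algebraMap, hφ]
  have hmem := spectrum.subset_polynomial_aeval (φ M) (p.map (algebraMap A' Ω)) ⟨μ, hroot, rfl⟩
  rw [hq, spectrum.zero_eq, Set.mem_singleton_iff] at hmem
  refine ⟨p, hp, ?_⟩
  rw [← eval_map]
  exact hmem

universe u

/-- In a ring all of whose localizations at primes are integrally closed domains, with total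
fraction ring `K`: the trace of an integral element of a finite free `K`-algebra lies in `A`. -/
theorem trace_mem_range_of_normal (A K L : Type u) [CommRing A] [CommRing K] [CommRing L]
    [Algebra A K] [Algebra K L] [Algebra A L] [IsScalarTower A K L] [IsFractionRing A K]
    [Module.Free K L] [Module.Finite K L]
    (hA : ∀ (p : Ideal A) [p.IsPrime],
      IsDomain (Localization.AtPrime p) ∧ IsIntegrallyClosed (Localization.AtPrime p))
    (x : L) (hx : IsIntegral A x) : Algebra.trace K L x ∈ (algebraMap A K).range := by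
  classical
  obtain ⟨p, hp, hpx⟩ := hx
  let β := Module.Free.chooseBasis K L
  set Mx := Algebra.leftMulMatrix β x with hMxdef
  have htr : Algebra.trace K L x = Mx.trace := Algebra.trace_eq_matrix_trace β x
  have hMx : eval₂ ((algebraMap K (Matrix _ _ K)).comp (algebraMap A K)) Mx p = 0 := by
    have h1 : aeval Mx (p.map (algebraMap A K)) = 0 := by
      rw [hMxdef, aeval_algHom_apply, aeval_map_algebraMap, aeval_def, hpx, map_zero]
    rwa [aeval_def, eval₂_map] at h1
  set t := Algebra.trace K L x with ht
  -- the denominator ideal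
  let ψ : A →ₗ[A] K := LinearMap.toSpanSingleton A K t
  let D : Ideal A := Submodule.comap ψ (LinearMap.range (Algebra.linearMap A K))
  have hD : ∀ d : A, d ∈ D ↔ ∃ a : A, algebraMap A K a = algebraMap A K d * t := by
    intro d
    show ψ d ∈ LinearMap.range (Algebra.linearMap A K) ↔ _
    rw [LinearMap.mem_range]
    simp only [ψ, LinearMap.toSpanSingleton_apply, Algebra.linearMap_apply, Algebra.smul_def]
  suffices hD1 : D = ⊤ by
    have h1 : (1 : A) ∈ D := hD1 ▸ Submodule.mem_top
    obtain ⟨a, ha⟩ := (hD 1).mp h1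
    exact ⟨a, by rw [ha, map_one, one_mul]⟩
  by_contra hne
  obtain ⟨𝔪, hmax, hle⟩ := Ideal.exists_le_maximal D hne
  have : 𝔪.IsPrime := hmax.isPrime
  obtain ⟨hdom, hic⟩ := hA 𝔪
  let Ap := Localization.AtPrime 𝔪
  let F := FractionRing Ap
  let f : A →+* F := (algebraMap Ap F).comp (algebraMap A Ap)
  have hf0 : ∀ a : A, a ∈ nonZeroDivisors A → algebraMap A Ap a ≠ 0 := by
    intro a ha h0
    obtain ⟨u, hu⟩ := (IsLocalization.map_eq_zero_iff 𝔪.primeCompl Ap a).mp h0
    have : (u : A) = 0 := by
      have := (mem_nonZeroDivisors_iff.mp ha).2 (u : A)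
      exact this hu
    exact u.2 (this ▸ 𝔪.zero_mem)
  have hunit : ∀ a : nonZeroDivisors A, IsUnit (f a) := by
    intro a
    apply IsUnit.mk0
    show algebraMap Ap F (algebraMap A Ap a) ≠ 0
    rw [Ne, map_eq_zero_iff _ (IsFractionRing.injective Ap F)]
    exact hf0 a a.2
  let g : K →+* F := IsLocalization.lift (M := nonZeroDivisors A) hunit
  have hg : ∀ a : A, g (algebraMap A K a) = f a := fun a => IsLocalization.lift_eq hunit a
  let M' := g.mapMatrix Mx
  have hM' : aeval M' (p.map (algebraMap A Ap)) = 0 := by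
    rw [aeval_def, eval₂_map]
    have h2 := congrArg g.mapMatrix hMx
    rw [hom_eval₂, map_zero] at h2
    convert h2 using 2
    apply RingHom.ext
    intro a
    ext i j
    simp only [RingHom.comp_apply, RingHom.mapMatrix_apply, Matrix.map_apply,
      Matrix.algebraMap_matrix_apply]
    split_ifs
    · rw [Algebra.algebraMap_self, RingHom.id_apply, hg]; rfl
    · rw [map_zero]
  have hint : IsIntegral Ap M'.trace :=
    isIntegral_trace_of_aeval_eq_zero M' (p.map (algebraMap A Ap)) (hp.map _) hM'
  have htr' : M'.trace = g t := by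
    rw [htr]
    simp [M', Matrix.trace, map_sum]
  rw [htr'] at hint
  obtain ⟨y, hy⟩ := (IsIntegrallyClosed.isIntegral_iff (R := Ap) (K := F)).mp hint
  obtain ⟨⟨a, s⟩, rfl⟩ := IsLocalization.mk'_surjective 𝔪.primeCompl y
  obtain ⟨⟨c, σ⟩, hcσ⟩ := IsLocalization.mk'_surjective (nonZeroDivisors A) t
  have h1 : t * algebraMap A K σ = algebraMap A K c := by
    rw [← hcσ]
    exact IsLocalization.mk'_spec K c σ
  have h2 : g t * f σ = f c := by
    rw [← hg, ← hg, ← map_mul, h1]
  have h3 : IsLocalization.mk' Ap a s * algebraMap A Ap σ = algebraMap A Ap c := by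
    apply IsFractionRing.injective Ap F
    rw [map_mul, hy]
    exact h2
  have h4 : algebraMap A Ap (a * σ) = algebraMap A Ap (c * s) := by
    have h5 := IsLocalization.mk'_spec Ap a s
    rw [map_mul, map_mul, ← h5, ← h3]
    ring
  obtain ⟨u, hu⟩ := (IsLocalization.eq_iff_exists 𝔪.primeCompl Ap).mp h4
  have hmem : (u : A) * s ∈ D := by
    rw [hD]
    refine ⟨u * a, ?_⟩
    have hσu : IsUnit (algebraMap A K σ) := IsLocalization.map_units K σ
    apply hσu.mul_right_cancel
    rw [mul_assoc, h1, ← map_mul, ← map_mul]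
    congr 1
    rw [mul_assoc, hu]
    ring
  have : (u : A) * s ∈ 𝔪 := hle hmem
  rcases (Ideal.IsPrime.mem_or_mem inferInstance this) with h | h
  · exact u.2 h
  · exact s.2 h

end Groth.Agent.Lib.Helper26.TraceIntegral
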