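import Mathlib

set_option autoImplicit false

namespace Groth.Agent.Lib.Helper26.TruncPoly

open MvPolynomial

universe u

variable {k : Type u} [Field k] {r : ℕ}

/-- the truncation ideal `(X_i ^ n_i)` -/
noncomputable def tI (n : Fin r → ℕ) : Ideal (MvPolynomial (Fin r) k) :=
  Ideal.span (Set.range fun i : Fin r => (X i : MvPolynomial (Fin r) k) ^ n i)

theorem tI_eq (n : Fin r → ℕ) : (tI n : Ideal (MvPolynomial (Fin r) k)) =
    Ideal.span ((fun s => monomial s (1 : k)) '' (Set.range fun i : Fin r => Finsupp.single i (n i))) := by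
  rw [tI, ← Set.range_comp]
  congr 2
  funext i
  simp [X_pow_eq_monomial]

theorem mem_tI_iff (n : Fin r → ℕ) (x : MvPolynomial (Fin r) k) :
    x ∈ tI n ↔ ∀ m ∈ x.support, ∃ i, n i ≤ m i := by
  rw [tI_eq, mem_ideal_span_monomial_image]
  constructor
  · intro h m hm
    obtain ⟨s, ⟨i, rfl⟩, hs⟩ := h m hm
    refine ⟨i, ?_⟩
    have := hs i
    simpa using this
  · intro h m hm
    obtain ⟨i, hi⟩ := h m hm
    refine ⟨_, ⟨i, rfl⟩, ?_⟩
    intro j
    by_cases hji : j = i
    · subst hji; simpa using hi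
    · simp [Ne.symm hji]

/-- small exponents -/
def small (n : Fin r → ℕ) : Set (Fin r →₀ ℕ) := {m | ∀ i, m i < n i}

theorem isCompl_tI (n : Fin r → ℕ) :
    IsCompl ((tI n : Ideal (MvPolynomial (Fin r) k)).restrictScalars k)
      (restrictSupport k (small n)) := by
  constructor
  · rw [Submodule.disjoint_def]
    intro x hx1 hx2
    rw [Submodule.restrictScalars_mem, mem_tI_iff] at hx1
    rw [mem_restrictSupport_iff] at hx2
    by_contra hne
    obtain ⟨m, hm⟩ := (MvPolynomial.support_nonempty.mpr hne : x.support.Nonempty)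
    obtain ⟨i, hi⟩ := hx1 m hm
    have := hx2 hm i
    omega
  · rw [codisjoint_iff, eq_top_iff]
    intro x _
    classical
    rw [x.as_sum]
    apply Submodule.sum_mem
    intro m _
    by_cases hm : m ∈ small n
    · exact Submodule.mem_sup_right ((monomial_mem_restrictSupport k).mpr (Or.inl hm))
    · apply Submodule.mem_sup_left
      rw [Submodule.restrictScalars_mem, mem_tI_iff]
      intro m' hm'
      have hm'' : m' = m := by
        have := MvPolynomial.support_monomial_subset hm'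
        simpa using this
      subst hm''
      simp only [small, Set.mem_ofPred_eq, not_forall, not_lt] at hm
      exact hm

/-- `small n ≃ Π i, Fin (n i)` -/
noncomputable def smallEquiv (n : Fin r → ℕ) : small n ≃ (Π i : Fin r, Fin (n i)) where
  toFun m := fun i => ⟨m.1 i, m.2 i⟩
  invFun f := ⟨Finsupp.equivFunOnFinite.symm (fun i => (f i : ℕ)), fun i => by simp⟩
  left_inv m := by
    ext i
    simp
  right_inv f := by
    funext i
    simp

theorem finrank_quot (n : Fin r → ℕ) :
    Module.finrank k (MvPolynomial (Fin r) k ⧸ (tI n : Ideal (MvPolynomial (Fin r) k))) = ∏ i, n i := by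
  have e1 : (MvPolynomial (Fin r) k ⧸ (tI n : Ideal (MvPolynomial (Fin r) k))) ≃ₗ[k]
      restrictSupport k (small n) :=
    (Submodule.Quotient.restrictScalarsEquiv k (tI n)).symm ≪≫ₗ
      Submodule.quotientEquivOfIsCompl _ _ (isCompl_tI n)
  rw [e1.finrank_eq, Module.finrank_eq_nat_card_basis (basisRestrictSupport k (small n)),
    Nat.card_congr (smallEquiv n), Nat.card_pi]
  simp


theorem tI_sup (n n' : Fin r → ℕ) :
    (tI n ⊔ tI n' : Ideal (MvPolynomial (Fin r) k)) = tI (fun i => min (n i) (n' i)) := by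
  apply le_antisymm
  · rw [sup_le_iff]
    constructor
    · rw [tI, Ideal.span_le]
      rintro _ ⟨i, rfl⟩
      beta_reduce
      have h : (X i : MvPolynomial (Fin r) k) ^ n i =
          X i ^ (n i - min (n i) (n' i)) * X i ^ min (n i) (n' i) := by
        rw [← pow_add]; congr 1; omega
      rw [h]
      exact Ideal.mul_mem_left _ _ (Ideal.subset_span ⟨i, rfl⟩)
    · rw [tI, Ideal.span_le]
      rintro _ ⟨i, rfl⟩
      beta_reduce
      have h : (X i : MvPolynomial (Fin r) k) ^ n' i =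
          X i ^ (n' i - min (n i) (n' i)) * X i ^ min (n i) (n' i) := by
        rw [← pow_add]; congr 1; omega
      rw [h]
      exact Ideal.mul_mem_left _ _ (Ideal.subset_span ⟨i, rfl⟩)
  · rw [tI, Ideal.span_le]
    rintro _ ⟨i, rfl⟩
    rcases le_total (n i) (n' i) with h | h
    · simp only [min_eq_left h]
      exact Ideal.mem_sup_left (Ideal.subset_span ⟨i, rfl⟩)
    · simp only [min_eq_right h]
      exact Ideal.mem_sup_right (Ideal.subset_span ⟨i, rfl⟩)

/-- ideal generated by the `N`-th powers of nilpotent elements -/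
def nilPowIdeal (A : Type*) [CommRing A] (N : ℕ) : Ideal A :=
  Ideal.span ((fun a => a ^ N) '' {a : A | IsNilpotent a})

theorem nilPowIdeal_map_equiv {A B : Type*} [CommRing A] [CommRing B] (φ : A ≃+* B) (N : ℕ) :
    (nilPowIdeal A N).map (φ : A →+* B) = nilPowIdeal B N := by
  rw [nilPowIdeal, Ideal.map_span, nilPowIdeal]
  congr 1
  ext b
  constructor
  · rintro ⟨_, ⟨a, ha, rfl⟩, rfl⟩
    exact ⟨φ a, ha.map φ, by simp⟩
  · rintro ⟨b, hb, rfl⟩
    refine ⟨_, ⟨φ.symm b, hb.map φ.symm, rfl⟩, by simp⟩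

section CharP

variable (p : ℕ) [hp : Fact p.Prime] [CharP k p]

include hp in
theorem pow_mem_of_mem_span_X (j : ℕ) (x : MvPolynomial (Fin r) k)
    (hx : x ∈ Ideal.span (X '' (Set.univ : Set (Fin r)) : Set (MvPolynomial (Fin r) k))) :
    x ^ p ^ j ∈ (tI (fun _ => p ^ j) : Ideal (MvPolynomial (Fin r) k)) := by
  induction hx using Submodule.span_induction with
  | mem x hx =>
    obtain ⟨i, -, rfl⟩ := hx
    exact Ideal.subset_span ⟨i, rfl⟩
  | zero =>
    rw [zero_pow (pow_ne_zero _ hp.out.ne_zero)]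
    exact Ideal.zero_mem _
  | add x y _ _ hx hy =>
    rw [add_pow_char_pow]
    exact Ideal.add_mem _ hx hy
  | smul a x _ hx =>
    rw [smul_eq_mul, mul_pow]
    exact Ideal.mul_mem_left _ _ hx

theorem tI_le_ker_constantCoeff (n : Fin r → ℕ) (hn : ∀ i, 1 ≤ n i) (y : MvPolynomial (Fin r) k)
    (hy : y ∈ tI n) : constantCoeff y = 0 := by
  rw [mem_tI_iff] at hy
  rw [constantCoeff_eq]
  by_contra h
  have h0 : (0 : Fin r →₀ ℕ) ∈ y.support := by rwa [mem_support_iff]
  obtain ⟨i, hi⟩ := hy 0 h0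
  have := hn i
  simp at hi
  omega

include hp in
theorem nilPowIdeal_quot (n : Fin r → ℕ) (hn : ∀ i, 1 ≤ n i) (j : ℕ) :
    nilPowIdeal (MvPolynomial (Fin r) k ⧸ (tI n : Ideal (MvPolynomial (Fin r) k))) (p ^ j) =
      (tI (fun _ => p ^ j) : Ideal (MvPolynomial (Fin r) k)).map (Ideal.Quotient.mk (tI n)) := by
  apply le_antisymm
  · rw [nilPowIdeal, Ideal.span_le]
    rintro _ ⟨a, ha, rfl⟩
    obtain ⟨x, rfl⟩ := Ideal.Quotient.mk_surjective a
    have hc : constantCoeff x = 0 := by
      let ε : (MvPolynomial (Fin r) k ⧸ (tI n : Ideal (MvPolynomial (Fin r) k))) →+* k :=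
        Ideal.Quotient.lift (tI n) constantCoeff (tI_le_ker_constantCoeff n hn)
      have h1 : IsNilpotent (ε (Ideal.Quotient.mk (tI n) x)) := IsNilpotent.map ha ε
      have h2 : ε (Ideal.Quotient.mk (tI n) x) = 0 := h1.eq_zero
      simpa [ε] using h2
    have hx : x ∈ Ideal.span (X '' (Set.univ : Set (Fin r)) : Set (MvPolynomial (Fin r) k)) := by
      rw [mem_ideal_span_X_image]
      intro m hm
      have hm0 : m ≠ 0 := by
        rintro rfl
        rw [mem_support_iff, ← constantCoeff_eq] at hm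
        exact hm hc
      obtain ⟨i, hi⟩ := Finsupp.ne_iff.mp hm0
      exact ⟨i, Set.mem_univ _, by simpa using hi⟩
    show (Ideal.Quotient.mk (tI n) x) ^ p ^ j ∈ _
    rw [← map_pow]
    exact Ideal.mem_map_of_mem _ (pow_mem_of_mem_span_X p j x hx)
  · show Ideal.map (Ideal.Quotient.mk (tI n))
      (Ideal.span (Set.range fun i : Fin r => (X i : MvPolynomial (Fin r) k) ^ p ^ j)) ≤ _
    rw [Ideal.map_span, Ideal.span_le]
    rintro _ ⟨_, ⟨i, rfl⟩, rfl⟩
    rw [map_pow]
    refine Ideal.subset_span ⟨Ideal.Quotient.mk (tI n) (X i), ?_, rfl⟩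
    refine ⟨n i, ?_⟩
    rw [← map_pow, Ideal.Quotient.eq_zero_iff_mem]
    exact Ideal.subset_span ⟨i, rfl⟩

include hp in
theorem finrank_quot_nilPowIdeal (e : Fin r → ℕ) (j : ℕ) :
    Module.finrank k ((MvPolynomial (Fin r) k ⧸ (tI (fun i => p ^ e i) : Ideal (MvPolynomial (Fin r) k))) ⧸
      nilPowIdeal (MvPolynomial (Fin r) k ⧸ (tI (fun i => p ^ e i) : Ideal (MvPolynomial (Fin r) k))) (p ^ j)) =
      p ^ ∑ i, min (e i) j := by
  rw [nilPowIdeal_quot p _ (fun i => Nat.one_le_pow _ _ hp.out.pos)]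
  have e1 := DoubleQuot.quotQuotEquivQuotSupₐ k
    (tI (fun i => p ^ e i) : Ideal (MvPolynomial (Fin r) k)) (tI (fun _ => p ^ j))
  have h1 := e1.toLinearEquiv.finrank_eq
  rw [tI_sup, finrank_quot] at h1
  have h2 : ∏ i, min (p ^ e i) (p ^ j) = ∏ i, p ^ min (e i) j := by
    apply Finset.prod_congr rfl
    intro i _
    rcases le_total (e i) j with h | h
    · rw [min_eq_left h, min_eq_left (Nat.pow_le_pow_right hp.out.pos h)]
    · rw [min_eq_right h, min_eq_right (Nat.pow_le_pow_right hp.out.pos h)]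
  rw [← Finset.prod_pow_eq_pow_sum, ← h2, ← h1]
  rfl

end CharP


section Comb

theorem card_filter_lt_eq {r s : ℕ} (e : Fin r → ℕ) (f : Fin s → ℕ)
    (h : ∀ j, ∑ i, min (e i) j = ∑ i, min (f i) j) (j : ℕ) :
    (Finset.univ.filter fun i => j < e i).card = (Finset.univ.filter fun i => j < f i).card := by
  have key : ∀ {t : ℕ} (g : Fin t → ℕ), ∑ i, min (g i) (j + 1) =
      ∑ i, min (g i) j + (Finset.univ.filter fun i => j < g i).card := by
    intro t g
    rw [Finset.card_filter, ← Finset.sum_add_distrib]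
    apply Finset.sum_congr rfl
    intro i _
    split_ifs with hi <;> omega
  have h1 := h (j + 1)
  rw [key e, key f, h j] at h1
  omega

theorem card_filter_eq_eq {r s : ℕ} (e : Fin r → ℕ) (f : Fin s → ℕ) (he : ∀ i, 1 ≤ e i)
    (hf : ∀ i, 1 ≤ f i) (h : ∀ j, ∑ i, min (e i) j = ∑ i, min (f i) j) (v : ℕ) :
    (Finset.univ.filter fun i => e i = v).card = (Finset.univ.filter fun i => f i = v).card := by
  rcases Nat.eq_zero_or_pos v with rfl | hv
  · rw [Finset.card_eq_zero.mpr, Finset.card_eq_zero.mpr]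
    · rw [Finset.filter_eq_empty_iff]
      intro i _ hi
      have := hf i
      omega
    · rw [Finset.filter_eq_empty_iff]
      intro i _ hi
      have := he i
      omega
  have key : ∀ {t : ℕ} (g : Fin t → ℕ), (Finset.univ.filter fun i => v - 1 < g i).card =
      (Finset.univ.filter fun i => g i = v).card + (Finset.univ.filter fun i => v < g i).card := by
    intro t g
    rw [Finset.card_filter, Finset.card_filter, Finset.card_filter, ← Finset.sum_add_distrib]
    apply Finset.sum_congr rfl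
    intro i _
    split_ifs <;> omega
  have h1 := card_filter_lt_eq e f h (v - 1)
  have h2 := card_filter_lt_eq e f h v
  rw [key e, key f] at h1
  omega

theorem exists_equiv_of_sum_min_eq {r s : ℕ} (e : Fin r → ℕ) (f : Fin s → ℕ) (he : ∀ i, 1 ≤ e i)
    (hf : ∀ i, 1 ≤ f i) (h : ∀ j, ∑ i, min (e i) j = ∑ i, min (f i) j) :
    ∃ σ : Fin r ≃ Fin s, ∀ i, f (σ i) = e i := by
  have hcard : ∀ v, Fintype.card {i // e i = v} = Fintype.card {i // f i = v} := by
    intro v
    rw [Fintype.card_subtype, Fintype.card_subtype]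
    exact card_filter_eq_eq e f he hf h v
  let σ : Fin r ≃ Fin s := Equiv.ofFiberEquiv (f := e) (g := f)
    (fun v => Fintype.equivOfCardEq (hcard v))
  exact ⟨σ, fun i => Equiv.ofFiberEquiv_map _ i⟩

end Comb

/-- invariance of the exponents of a truncated polynomial algebra -/
theorem exists_equiv_of_algEquiv (p : ℕ) [hp : Fact p.Prime] [CharP k p] {r s : ℕ}
    (e : Fin r → ℕ) (f : Fin s → ℕ) (he : ∀ i, 1 ≤ e i) (hf : ∀ j, 1 ≤ f j)
    (φ : (MvPolynomial (Fin r) k ⧸ (tI (fun i => p ^ e i) : Ideal (MvPolynomial (Fin r) k))) ≃ₐ[k]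
      (MvPolynomial (Fin s) k ⧸ (tI (fun i => p ^ f i) : Ideal (MvPolynomial (Fin s) k)))) :
    ∃ σ : Fin r ≃ Fin s, ∀ i : Fin r, f (σ i) = e i := by
  apply exists_equiv_of_sum_min_eq e f he hf
  intro j
  have h1 := finrank_quot_nilPowIdeal (k := k) p e j
  have h2 := finrank_quot_nilPowIdeal (k := k) p f j
  have e1 := Ideal.quotientEquivAlg
    (nilPowIdeal (MvPolynomial (Fin r) k ⧸ (tI (fun i => p ^ e i) : Ideal (MvPolynomial (Fin r) k))) (p ^ j))
    (nilPowIdeal (MvPolynomial (Fin s) k ⧸ (tI (fun i => p ^ f i) : Ideal (MvPolynomial (Fin s) k))) (p ^ j))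
    φ (nilPowIdeal_map_equiv φ.toRingEquiv (p ^ j)).symm
  have h3 := e1.toLinearEquiv.finrank_eq
  rw [h1, h2] at h3
  exact Nat.pow_right_injective hp.out.two_le h3

end Groth.Agent.Lib.Helper26.TruncPoly
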