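/-
helper26: for a smooth algebra `B` over a Noetherian ring `A` with geometrically integral fibres
and an `A`-retraction `u : B → A` with kernel `I`, the map from `B` to its `I`-adic completion is
universally injective over `A` (Raynaud-Gruson).
-/
import Groth.Agent.S1223
import Mathlib.RingTheory.Filtration
import Mathlib.RingTheory.Ideal.AssociatedPrime.Finiteness
import Mathlib.RingTheory.TensorProduct.DirectLimitFG
import Mathlib.RingTheory.Smooth.Flat

set_option autoImplicit false
set_option maxHeartbeats 400000
universe u

namespace Groth.Agent.Lib.Helper26.UICompl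

open TensorProduct Function

variable {A B : Type u} [CommRing A] [CommRing B] [Algebra A B]

theorem lTensor_smul {Q Q' : Type u} [AddCommGroup Q] [Module A Q] [AddCommGroup Q']
    [Module A Q'] (g : Q →ₗ[A] Q') (b : B) (z : B ⊗[A] Q) :
    g.lTensor B (b • z) = b • g.lTensor B z := by
  induction z using TensorProduct.induction_on with
  | zero => simp
  | tmul x q => rw [TensorProduct.smul_tmul', LinearMap.lTensor_tmul, LinearMap.lTensor_tmul,
      TensorProduct.smul_tmul']
  | add a c ha hc => rw [smul_add, map_add, ha, hc, map_add, smul_add]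

theorem nzd_quot (hgi : FlatCA.GeomIntegralFibres A B) [Module.Flat A B] (u : B →ₐ[A] A) (b : B)
    (hb : u b = 1) (p : Ideal A) [p.IsPrime] (z : B ⊗[A] (A ⧸ p)) (hz : b • z = 0) : z = 0 := by
  have hdom0 : IsDomain (p.Fiber B) :=
    Groth.Agent.S1223.isDomain_fiber hgi A B
      (Algebra.IsPushout.symm (inferInstance : Algebra.IsPushout A A B B)) p
  have hdom : IsDomain (B ⊗[A] p.ResidueField) :=
    (Algebra.TensorProduct.comm A B p.ResidueField).toMulEquiv.isDomain
  let j : (A ⧸ p) →ₗ[A] p.ResidueField :=
    (IsScalarTower.toAlgHom A (A ⧸ p) p.ResidueField).toLinearMap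
  have hj : Injective j := Ideal.injective_algebraMap_quotient_residueField p
  have hJ : Injective (j.lTensor B) := Module.Flat.lTensor_preserves_injective_linearMap j hj
  have h1 : b • (j.lTensor B z) = 0 := by rw [← lTensor_smul, hz, map_zero]
  rw [Algebra.smul_def] at h1
  rcases mul_eq_zero.1 h1 with h2 | h2
  · exfalso
    let ε : B ⊗[A] p.ResidueField →ₐ[A] p.ResidueField :=
      Algebra.TensorProduct.lift ((IsScalarTower.toAlgHom A A p.ResidueField).comp u)
        (AlgHom.id A p.ResidueField) (fun _ _ => Commute.all _ _)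
    have h3 := congrArg ε h2
    rw [Algebra.TensorProduct.algebraMap_apply, map_zero] at h3
    simp only [ε, Algebra.TensorProduct.lift_tmul, AlgHom.comp_apply, hb, map_one, mul_one,
      Algebra.algebraMap_self, RingHom.id_apply] at h3
    exact one_ne_zero h3
  · exact hJ (h2.trans (map_zero _).symm)

theorem nzd_finite (hgi : FlatCA.GeomIntegralFibres A B) [Module.Flat A B] [IsNoetherianRing A]
    (u : B →ₐ[A] A) (b : B) (hb : u b = 1) (Q : Type u) [AddCommGroup Q] [Module A Q]
    [Module.Finite A Q] : ∀ z : B ⊗[A] Q, b • z = 0 → z = 0 := by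
  induction ‹Module.Finite A Q› using
    IsNoetherianRing.induction_on_isQuotientEquivQuotientPrime A with
  | subsingleton N =>
    intro z _
    exact Subsingleton.elim _ _
  | quotient N p e =>
    intro z hz
    have h1 := nzd_quot hgi u b hb p.asIdeal ((e.toLinearMap.lTensor B) z)
      (by rw [← lTensor_smul, hz, map_zero])
    exact (LinearEquiv.lTensor B e).injective (h1.trans (map_zero _).symm)
  | exact N₁ N₂ N₃ f g hf hg hfg h1 h3 =>
    intro z hz
    have hg0 : g.lTensor B z = 0 := h3 _ (by rw [← lTensor_smul, hz, map_zero])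
    obtain ⟨z1, rfl⟩ := (lTensor_exact B hfg hg z).1 hg0
    have hz1 : z1 = 0 := h1 z1
      (Module.Flat.lTensor_preserves_injective_linearMap f hf (by
        rw [lTensor_smul, hz, map_zero]))
    rw [hz1, map_zero]

end Groth.Agent.Lib.Helper26.UICompl
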