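/-
helper26: universal injectivity of `B → B̂` (second part: Krull intersection and reduction to
finite modules).
-/
import Groth.Agent.Lib.Helper26.UICompl1

set_option autoImplicit false
set_option maxHeartbeats 400000
universe u

namespace Groth.Agent.Lib.Helper26.UICompl

open TensorProduct Function

variable {A B : Type u} [CommRing A] [CommRing B] [Algebra A B]

theorem mem_smul_top_of_rTensor_quot_eq_zero (J : Ideal B) (Q : Type u) [AddCommGroup Q]
    [Module A Q] (z : B ⊗[A] Q)
    (hz : ((Ideal.Quotient.mkₐ A J).toLinearMap.rTensor Q) z = 0) :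
    z ∈ J • (⊤ : Submodule B (B ⊗[A] Q)) := by
  have hex : Function.Exact (J.restrictScalars A).subtype (Ideal.Quotient.mkₐ A J).toLinearMap := by
    intro x
    constructor
    · intro hx
      exact ⟨⟨x, Ideal.Quotient.eq_zero_iff_mem.1 hx⟩, rfl⟩
    · rintro ⟨y, rfl⟩
      exact Ideal.Quotient.eq_zero_iff_mem.2 y.2
  have hsurj : Surjective (Ideal.Quotient.mkₐ A J).toLinearMap := Ideal.Quotient.mkₐ_surjective A J
  obtain ⟨y, rfl⟩ := (rTensor_exact Q hex hsurj z).1 hz
  clear hz
  induction y using TensorProduct.induction_on with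
  | zero => rw [map_zero]; exact Submodule.zero_mem _
  | tmul x q =>
    rw [LinearMap.rTensor_tmul]
    have : ((J.restrictScalars A).subtype x) ⊗ₜ[A] q = (x : B) • ((1 : B) ⊗ₜ[A] q) := by
      rw [TensorProduct.smul_tmul', smul_eq_mul, mul_one]
      rfl
    rw [this]
    exact Submodule.smul_mem_smul x.2 Submodule.mem_top
  | add a c ha hc => rw [map_add]; exact Submodule.add_mem _ ha hc

theorem injective_rTensor_finite [IsNoetherianRing A] [Algebra.Smooth A B]
    (hgi : FlatCA.GeomIntegralFibres A B) (u : B →ₐ[A] A)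
    (Bh : Type u) [CommRing Bh] [Algebra B Bh] [Algebra A Bh] [IsScalarTower A B Bh]
    (hq : ∀ n : ℕ, Function.Bijective (Ideal.quotientMap ((RingHom.ker u ^ n).map (algebraMap B Bh))
      (algebraMap B Bh) Ideal.le_comap_map))
    (Q : Type u) [AddCommGroup Q] [Module A Q] [Module.Finite A Q] :
    Injective ((IsScalarTower.toAlgHom A B Bh).toLinearMap.rTensor Q) := by
  have : Algebra.FiniteType A B := inferInstance
  have : IsNoetherianRing B := Algebra.FiniteType.isNoetherianRing A B
  rw [injective_iff_map_eq_zero]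
  intro z hz
  set I := RingHom.ker u with hI
  have hmem : z ∈ (⨅ n : ℕ, I ^ n • (⊤ : Submodule B (B ⊗[A] Q))) := by
    rw [Submodule.mem_iInf]
    intro n
    apply mem_smul_top_of_rTensor_quot_eq_zero
    let ψ : (B ⧸ I ^ n) →ₗ[A] (Bh ⧸ (I ^ n).map (algebraMap B Bh)) :=
      (Ideal.quotientMapₐ ((I ^ n).map (algebraMap B Bh)) (IsScalarTower.toAlgHom A B Bh)
        Ideal.le_comap_map).toLinearMap
    have hψ : Function.Bijective ψ := hq n
    have hcomm : ψ ∘ₗ (Ideal.Quotient.mkₐ A (I ^ n)).toLinearMap =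
        (Ideal.Quotient.mkₐ A ((I ^ n).map (algebraMap B Bh))).toLinearMap ∘ₗ
          (IsScalarTower.toAlgHom A B Bh).toLinearMap := by
      ext x
      rfl
    have h1 : (ψ.rTensor Q) (((Ideal.Quotient.mkₐ A (I ^ n)).toLinearMap.rTensor Q) z) = 0 := by
      rw [← LinearMap.comp_apply, ← LinearMap.rTensor_comp, hcomm, LinearMap.rTensor_comp,
        LinearMap.comp_apply, hz, map_zero]
    have hinj : Injective (ψ.rTensor Q) :=
      (LinearEquiv.rTensor Q (LinearEquiv.ofBijective ψ hψ)).injective
    exact hinj (h1.trans (map_zero _).symm)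
  obtain ⟨r, hr⟩ := (Ideal.mem_iInf_smul_pow_eq_bot_iff I z).1 hmem
  have hb : u (1 - (r : B)) = 1 := by
    rw [map_sub, map_one, (RingHom.mem_ker).1 r.2, sub_zero]
  have hbz : (1 - (r : B)) • z = 0 := by
    have h : (1 - (r : B)) • z + (r : B) • z = z := by
      rw [← add_smul, sub_add_cancel, one_smul]
    rw [hr] at h
    exact add_right_cancel (h.trans (zero_add z).symm)
  exact nzd_finite hgi u (1 - (r : B)) hb Q z hbz

theorem univInj [IsNoetherianRing A] [Algebra.Smooth A B]
    (hgi : FlatCA.GeomIntegralFibres A B) (u : B →ₐ[A] A)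
    (Bh : Type u) [CommRing Bh] [Algebra B Bh] [Algebra A Bh] [IsScalarTower A B Bh]
    (hq : ∀ n : ℕ, Function.Bijective (Ideal.quotientMap ((RingHom.ker u ^ n).map (algebraMap B Bh))
      (algebraMap B Bh) Ideal.le_comap_map)) :
    FlatCA.UnivInj A (IsScalarTower.toAlgHom A B Bh).toLinearMap := by
  intro Q _ _
  set φ := (IsScalarTower.toAlgHom A B Bh).toLinearMap with hφ
  have hfin : ∀ (P : Submodule A Q), P.FG → Injective (φ.lTensor P) := by
    intro P hP
    have : Module.Finite A P := Module.Finite.iff_fg.2 hP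
    have h1 := injective_rTensor_finite hgi u Bh hq P
    have h2 : φ.lTensor P = (TensorProduct.comm A Bh P).toLinearMap ∘ₗ φ.rTensor P ∘ₗ
        (TensorProduct.comm A P B).toLinearMap := by
      apply TensorProduct.ext'
      intro x y
      simp
    rw [h2]
    exact (TensorProduct.comm A Bh P).injective.comp (h1.comp (TensorProduct.comm A P B).injective)
  rw [injective_iff_map_eq_zero]
  intro z hz
  obtain ⟨P, hP, t, rfl⟩ := TensorProduct.exists_of_fg z
  have hw : (P.subtype.rTensor Bh) ((φ.lTensor P) t) = 0 := by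
    rw [← LinearMap.comp_apply, LinearMap.rTensor_comp_lTensor, ← LinearMap.lTensor_comp_rTensor,
      LinearMap.comp_apply, hz]
  obtain ⟨P', hPP', hP', h0⟩ := TensorProduct.eq_zero_of_fg_of_subtype_eq_zero hP hw
  have h3 : (φ.lTensor P') ((Submodule.inclusion hPP').rTensor B t) = 0 := by
    rw [← LinearMap.comp_apply, LinearMap.lTensor_comp_rTensor, ← LinearMap.rTensor_comp_lTensor,
      LinearMap.comp_apply, h0]
  have h4 : (Submodule.inclusion hPP').rTensor B t = 0 :=
    hfin P' hP' (h3.trans (map_zero _).symm)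
  have h5 : P.subtype = P'.subtype ∘ₗ Submodule.inclusion hPP' := by
    ext x; rfl
  rw [h5, LinearMap.rTensor_comp, LinearMap.comp_apply, h4, map_zero]

end Groth.Agent.Lib.Helper26.UICompl
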