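import Mathlib

set_option autoImplicit false
set_option linter.unusedSectionVars false
set_option linter.style.haveILetI false
universe u

namespace Groth.Agent.Lib.Helper26.Unr

variable {R Ω k' : Type u} [CommRing R] [Field Ω] [Field k'] [Algebra R Ω] [Algebra R k']

/-- A "good" subalgebra of `Ω × k'`: the graph of a residue map on a DVR-like subring of `Ω`. -/
structure IsGood (π : R) (G : Subalgebra R (Ω × k')) : Prop where
  g0 : ∀ x ∈ G, x.1 = 0 → x.2 = 0
  inv : ∀ x ∈ G, x.2 ≠ 0 → ∃ y ∈ G, x * y = 1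
  fac : ∀ x ∈ G, x.1 ≠ 0 → ∃ (n : ℕ), ∃ u ∈ G, u.2 ≠ 0 ∧
    x = (algebraMap R (Ω × k') π) ^ n * u

variable (π : R) (G : Subalgebra R (Ω × k'))

/-- first projection on `G`. -/
def fstG : G →+* Ω := (RingHom.fst Ω k').comp G.val.toRingHom

/-- residue map on `G`. -/
def resG : G →+* k' := (RingHom.snd Ω k').comp G.val.toRingHom

@[simp] theorem fstG_apply (b : G) : fstG G b = (b : Ω × k').1 := rfl
@[simp] theorem resG_apply (b : G) : resG G b = (b : Ω × k').2 := rfl

variable {π G}

theorem fstG_injective (hG : IsGood π G) : Function.Injective (fstG G) := by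
  rw [injective_iff_map_eq_zero]
  intro b hb
  apply Subtype.ext
  exact Prod.ext hb (hG.g0 _ b.2 hb)

theorem isDomain (hG : IsGood π G) : IsDomain G :=
  Function.Injective.isDomain (fstG G) (fstG_injective hG)

theorem isUnit_iff (hG : IsGood π G) (b : G) : IsUnit b ↔ resG G b ≠ 0 := by
  constructor
  · intro h
    exact (h.map (resG G)).ne_zero
  · intro h
    obtain ⟨y, hy, hxy⟩ := hG.inv _ b.2 h
    exact IsUnit.of_mul_eq_one ⟨y, hy⟩ (Subtype.ext hxy)

theorem isLocalRing (hG : IsGood π G) : IsLocalRing G := by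
  haveI := isDomain hG
  refine IsLocalRing.of_nonunits_add ?_
  intro a b ha hb
  rw [mem_nonunits_iff, isUnit_iff hG, not_not] at *
  rw [map_add, ha, hb, add_zero]

theorem res_pi (hπk : algebraMap R k' π = 0) : resG G (algebraMap R G π) = 0 := by
  rw [resG_apply]
  exact hπk

theorem fst_pi : fstG G (algebraMap R G π) = algebraMap R Ω π := rfl

theorem exists_eq_pow_mul (hG : IsGood π G) (b : G) (hb : b ≠ 0) :
    ∃ (n : ℕ) (u : G), IsUnit u ∧ b = (algebraMap R G π) ^ n * u := by
  have hb1 : (b : Ω × k').1 ≠ 0 := fun h => hb ((fstG_injective hG) (h.trans (map_zero _).symm))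
  obtain ⟨n, u, hu, hu2, hbu⟩ := hG.fac _ b.2 hb1
  exact ⟨n, ⟨u, hu⟩, (isUnit_iff hG _).mpr hu2, Subtype.ext hbu⟩

theorem mem_span_of_res_eq_zero (hG : IsGood π G) (hπk : algebraMap R k' π = 0) (b : G)
    (hb : resG G b = 0) : b ∈ Ideal.span {algebraMap R G π} := by
  by_cases hb0 : b = 0
  · rw [hb0]; exact Ideal.zero_mem _
  obtain ⟨n, u, hu, hbu⟩ := exists_eq_pow_mul hG b hb0
  rcases Nat.eq_zero_or_pos n with hn | hn
  · exfalso
    rw [hn, pow_zero, one_mul] at hbu
    rw [hbu] at hb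
    exact (isUnit_iff hG u).mp hu hb
  · rw [hbu, Ideal.mem_span_singleton]
    exact Dvd.dvd.mul_right (dvd_pow_self _ hn.ne') _

theorem maximalIdeal_eq (hG : IsGood π G) (hπk : algebraMap R k' π = 0) :
    letI := isLocalRing hG
    IsLocalRing.maximalIdeal G = Ideal.span {algebraMap R G π} := by
  letI := isLocalRing hG
  apply le_antisymm
  · intro b hb
    rw [IsLocalRing.mem_maximalIdeal, mem_nonunits_iff, isUnit_iff hG, not_not] at hb
    exact mem_span_of_res_eq_zero hG hπk b hb
  · rw [Ideal.span_le, Set.singleton_subset_iff, SetLike.mem_coe, IsLocalRing.mem_maximalIdeal,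
      mem_nonunits_iff, isUnit_iff hG, not_not]
    exact res_pi hπk

theorem irreducible_pi (hG : IsGood π G) (hπk : algebraMap R k' π = 0)
    (hπΩ : algebraMap R Ω π ≠ 0) : Irreducible (algebraMap R G π) := by
  haveI := isDomain hG
  letI := isLocalRing hG
  have hne : algebraMap R G π ≠ 0 := by
    intro h
    apply hπΩ
    rw [← fst_pi (G := G), h, map_zero]
  apply IsDiscreteValuationRing.irreducible_of_span_eq_maximalIdeal _ hne
  exact maximalIdeal_eq hG hπk

theorem isDVR (hG : IsGood π G) (hπk : algebraMap R k' π = 0) (hπΩ : algebraMap R Ω π ≠ 0) :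
    letI := isDomain hG
    IsDiscreteValuationRing G := by
  letI := isDomain hG
  apply IsDiscreteValuationRing.ofHasUnitMulPowIrreducibleFactorization
  refine ⟨algebraMap R G π, irreducible_pi hG hπk hπΩ, ?_⟩
  intro x hx
  obtain ⟨n, u, hu, hxu⟩ := exists_eq_pow_mul hG x hx
  refine ⟨n, ?_⟩
  obtain ⟨u', rfl⟩ := hu
  exact ⟨u', hxu.symm⟩

end Groth.Agent.Lib.Helper26.Unr
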