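import Mathlib
import Groth.Agent.Lib.Helper26.Unr1
import Groth.Agent.Lib.Helper65.Gonf1

set_option autoImplicit false
set_option linter.unusedSectionVars false
set_option linter.style.haveILetI false
universe u

namespace Groth.Agent.Lib.Helper26.Unr

open Polynomial IsLocalRing

/-- In a Noetherian local ring with principal maximal ideal `(ϖ)`, every nonzero element is
`ϖ ^ n * unit`. -/
theorem local_factor (B' : Type*) [CommRing B'] [IsNoetherianRing B'] [IsLocalRing B'] (ϖ : B')
    (hm : maximalIdeal B' = Ideal.span {ϖ}) (b : B') (hb : b ≠ 0) :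
    ∃ (n : ℕ) (u : B'), IsUnit u ∧ b = ϖ ^ n * u := by
  classical
  have hinf := Ideal.iInf_pow_eq_bot_of_isLocalRing (maximalIdeal B') Ideal.IsPrime.ne_top'
  have hex : ∃ n : ℕ, b ∉ maximalIdeal B' ^ n := by
    by_contra hcon
    apply hb
    have : b ∈ ⨅ i : ℕ, maximalIdeal B' ^ i := by
      rw [Ideal.mem_iInf]
      intro i
      by_contra hi
      exact hcon ⟨i, hi⟩
    rw [hinf] at this
    exact this
  have hn₀ := Nat.find_spec hex
  have hmin := fun m => Nat.find_min hex (m := m)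
  set n₀ := Nat.find hex
  have hpos : 0 < n₀ := by
    rcases Nat.eq_zero_or_pos n₀ with h | h
    · exfalso
      rw [h, pow_zero, Ideal.one_eq_top] at hn₀
      exact hn₀ Submodule.mem_top
    · exact h
  have hmem : b ∈ maximalIdeal B' ^ (n₀ - 1) := by
    by_contra h
    exact hmin (n₀ - 1) (by omega) h
  rw [hm, Ideal.span_singleton_pow, Ideal.mem_span_singleton'] at hmem
  obtain ⟨u, hu⟩ := hmem
  refine ⟨n₀ - 1, u, ?_, by rw [← hu, mul_comm]⟩
  by_contra hnu
  apply hn₀
  have hu' : u ∈ maximalIdeal B' := (IsLocalRing.mem_maximalIdeal u).mpr hnu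
  rw [hm, Ideal.mem_span_singleton'] at hu'
  obtain ⟨c, hc⟩ := hu'
  rw [hm, Ideal.span_singleton_pow, Ideal.mem_span_singleton']
  refine ⟨c, ?_⟩
  rw [← hu, ← hc]
  have : n₀ = (n₀ - 1) + 1 := by omega
  conv_lhs => rw [this, pow_succ]
  ring

/-- A monic irreducible polynomial of degree `≥ 2` over the residue field of a DVR has a monic lift
which is separable over the fraction field. -/
theorem exists_good_lift (B : Type u) [CommRing B] [IsDomain B] [IsDiscreteValuationRing B]
    (ϖ : B) (hϖ : ϖ ∈ maximalIdeal B) (hϖ0 : ϖ ≠ 0)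
    (qb : (B ⧸ maximalIdeal B)[X]) (hqm : qb.Monic) (hqi : Irreducible qb)
    (hdeg : 2 ≤ qb.natDegree) :
    ∃ q : B[X], q.Monic ∧ q.map (Ideal.Quotient.mk (maximalIdeal B)) = qb ∧
      (q.map (algebraMap B (FractionRing B))).Separable := by
  have hl : qb ∈ lifts (Ideal.Quotient.mk (maximalIdeal B)) := by
    rw [mem_lifts]
    exact map_surjective _ Ideal.Quotient.mk_surjective qb
  obtain ⟨q₀, hq₀map, hq₀deg, hq₀m⟩ := lifts_and_natDegree_eq_and_monic hl hqm
  have key : ∀ q : B[X], q.Monic → q.map (Ideal.Quotient.mk (maximalIdeal B)) = qb →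
      derivative q ≠ 0 → (q.map (algebraMap B (FractionRing B))).Separable := by
    intro q hq hmap hder
    have h1 : Irreducible q := Monic.irreducible_of_irreducible_map
      (Ideal.Quotient.mk (maximalIdeal B)) q hq (hmap ▸ hqi)
    have h2 : Irreducible (q.map (algebraMap B (FractionRing B))) :=
      (Monic.irreducible_iff_irreducible_map_fraction_map hq).mp h1
    rw [separable_iff_derivative_ne_zero h2, derivative_map]
    intro h
    apply hder
    apply map_injective (algebraMap B (FractionRing B)) (IsFractionRing.injective B _)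
    rw [h, Polynomial.map_zero]
  by_cases hd : derivative q₀ = 0
  · have hlt : (C ϖ * X : B[X]).degree < q₀.degree := by
      rw [degree_C_mul_X hϖ0, degree_eq_natDegree hq₀m.ne_zero, hq₀deg]
      exact_mod_cast (by omega : 1 < qb.natDegree)
    refine ⟨q₀ + C ϖ * X, hq₀m.add_of_left hlt, ?_, ?_⟩
    · rw [Polynomial.map_add, Polynomial.map_mul, map_C, map_X, hq₀map,
        Ideal.Quotient.eq_zero_iff_mem.mpr hϖ, C_0, zero_mul, add_zero]
    · apply key _ (hq₀m.add_of_left hlt)
      · rw [Polynomial.map_add, Polynomial.map_mul, map_C, map_X, hq₀map,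
          Ideal.Quotient.eq_zero_iff_mem.mpr hϖ, C_0, zero_mul, add_zero]
      · rw [derivative_add, hd, zero_add, derivative_C_mul, derivative_X, mul_one]
        intro h
        exact hϖ0 (C_eq_zero.mp h)
  · exact ⟨q₀, hq₀m, hq₀map, key q₀ hq₀m hq₀map hd⟩

end Groth.Agent.Lib.Helper26.Unr

namespace Groth.Agent.Lib.Helper26.Unr

open Polynomial IsLocalRing

variable {R Ω k' : Type u} [CommRing R] [Field Ω] [Field k'] [Algebra R Ω] [Algebra R k']

set_option maxHeartbeats 800000 in
/-- The extension step. -/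
theorem exists_extension (π : R) (hπk : algebraMap R k' π = 0) (hπΩ : algebraMap R Ω π ≠ 0)
    [IsSepClosed Ω] (G : Subalgebra R (Ω × k')) (hG : IsGood π G) (θ : k')
    (hθint : IsIntegral R θ) (hθ : θ ∉ Set.range (resG G)) :
    ∃ G' : Subalgebra R (Ω × k'), IsGood π G' ∧ G ≤ G' ∧ ∃ α : Ω, (α, θ) ∈ G' := by
  letI := isDomain hG
  letI hdvr := isDVR hG hπk hπΩ
  have hker : ∀ b ∈ maximalIdeal G, resG G b = 0 := by
    intro b hb
    rw [IsLocalRing.mem_maximalIdeal, mem_nonunits_iff, isUnit_iff hG, not_not] at hb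
    exact hb
  letI : Field (G ⧸ maximalIdeal G) := Ideal.Quotient.field _
  letI : Algebra (G ⧸ maximalIdeal G) k' :=
    (Ideal.Quotient.lift (maximalIdeal G) (resG G) hker).toAlgebra
  haveI : IsScalarTower R (G ⧸ maximalIdeal G) k' := IsScalarTower.of_algebraMap_eq (fun r => rfl)
  have hint : IsIntegral (G ⧸ maximalIdeal G) θ := hθint.tower_top
  have hdeg : 2 ≤ (minpoly (G ⧸ maximalIdeal G) θ).natDegree := by
    rw [minpoly.two_le_natDegree_iff hint]
    rintro ⟨c, hc⟩
    obtain ⟨b, rfl⟩ := Ideal.Quotient.mk_surjective c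
    exact hθ ⟨b, hc⟩
  have hπmem : algebraMap R G π ∈ maximalIdeal G := by
    rw [IsLocalRing.mem_maximalIdeal, mem_nonunits_iff, isUnit_iff hG, not_not]
    exact res_pi hπk
  have hπ0 : algebraMap R G π ≠ 0 := by
    intro h
    apply hπΩ
    rw [← fst_pi (G := G), h, map_zero]
  obtain ⟨q, hqm, hqmap, hqsep⟩ := exists_good_lift G (algebraMap R G π) hπmem hπ0
    (minpoly (G ⧸ maximalIdeal G) θ) (minpoly.monic hint) (minpoly.irreducible hint) hdeg
  have hqdeg : q.natDegree = (minpoly (G ⧸ maximalIdeal G) θ).natDegree := by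
    rw [← hqmap, hqm.natDegree_map]
  -- a root in `Ω`
  have hfac : fstG G = (IsFractionRing.lift (fstG_injective hG) : FractionRing G →+* Ω).comp
      (algebraMap G (FractionRing G)) := by
    ext b
    simp [IsFractionRing.lift_algebraMap]
  have hsepΩ : (q.map (fstG G)).Separable := by
    rw [hfac, ← Polynomial.map_map]
    exact hqsep.map
  have hdegΩ : (q.map (fstG G)).degree ≠ 0 := by
    rw [degree_map_eq_of_injective (fstG_injective hG), degree_eq_natDegree hqm.ne_zero, hqdeg]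
    intro h
    have : (minpoly (G ⧸ maximalIdeal G) θ).natDegree = 0 := by exact_mod_cast h
    omega
  obtain ⟨α, hα⟩ := IsSepClosed.exists_root (q.map (fstG G)) hdegΩ hsepΩ
  have hev : q.eval₂ (G.val : G →ₐ[R] Ω × k') (α, θ) = 0 := by
    apply Prod.ext
    · have h1 := hom_eval₂ q (G.val : G →ₐ[R] Ω × k').toRingHom (RingHom.fst Ω k') (α, θ)
      have h2 : (RingHom.fst Ω k') (eval₂ (G.val : G →ₐ[R] Ω × k').toRingHom (α, θ) q) =
          eval₂ (fstG G) α q := h1
      have h3 : eval₂ (fstG G) α q = 0 := by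
        rw [eval₂_eq_eval_map]; exact hα
      exact h2.trans h3
    · have h1 := hom_eval₂ q (G.val : G →ₐ[R] Ω × k').toRingHom (RingHom.snd Ω k') (α, θ)
      have h2 : (RingHom.snd Ω k') (eval₂ (G.val : G →ₐ[R] Ω × k').toRingHom (α, θ) q) =
          eval₂ (resG G) θ q := h1
      have h3 : resG G = (algebraMap (G ⧸ maximalIdeal G) k').comp
          (Ideal.Quotient.mk (maximalIdeal G)) := by
        ext b; rfl
      have h4 : eval₂ (resG G) θ q = 0 := by
        rw [h3, ← eval₂_map, hqmap]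
        exact minpoly.aeval _ θ
      exact h2.trans h4
  let Φ : AdjoinRoot q →ₐ[R] Ω × k' := AdjoinRoot.liftAlgHom q G.val (α, θ) hev
  have hΦof : ∀ b : G, Φ (AdjoinRoot.of q b) = (b : Ω × k') := fun b =>
    AdjoinRoot.liftAlgHom_of q G.val (α, θ) hev b
  have hirr : Irreducible (q.map (Ideal.Quotient.mk (maximalIdeal G))) := by
    rw [hqmap]; exact minpoly.irreducible hint
  obtain ⟨hloc, hmax⟩ := Groth.Agent.Lib.Helper65.Gonf.adjoinRoot_isLocalRing q hqm hirr
  have hmax' : maximalIdeal (AdjoinRoot q) = Ideal.span {AdjoinRoot.of q (algebraMap R G π)} := by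
    rw [hmax, maximalIdeal_eq hG hπk, Ideal.map_span, Set.image_singleton]
  -- nonunits map to zero residue
  have hres0 : ∀ b' : AdjoinRoot q, ¬ IsUnit b' → (Φ b').2 = 0 := by
    intro b' hb'
    have h1 : b' ∈ maximalIdeal (AdjoinRoot q) := (IsLocalRing.mem_maximalIdeal b').mpr hb'
    rw [hmax', Ideal.mem_span_singleton'] at h1
    obtain ⟨c, rfl⟩ := h1
    rw [map_mul, hΦof]
    show (Φ c).2 * (algebraMap R (Ω × k') π).2 = 0
    have : (algebraMap R (Ω × k') π).2 = algebraMap R k' π := rfl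
    rw [this, hπk, mul_zero]
  haveI : IsNoetherianRing (AdjoinRoot q) :=
    Ideal.Quotient.isNoetherianRing (Ideal.span {q})
  refine ⟨Φ.range, ⟨?_, ?_, ?_⟩, ?_, ⟨α, ?_⟩⟩
  · -- g0
    intro x hx0 hx
    obtain ⟨b', rfl⟩ := (AlgHom.mem_range _).mp hx0
    apply hres0
    intro hu
    have h1 := hu.map ((RingHom.fst Ω k').comp Φ.toRingHom)
    have h2 : ((RingHom.fst Ω k').comp Φ.toRingHom) b' = 0 := hx
    rw [h2] at h1
    exact not_isUnit_zero h1
  · -- inv
    intro x hx0 hx
    obtain ⟨b', rfl⟩ := (AlgHom.mem_range _).mp hx0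
    have hu : IsUnit b' := by
      by_contra h
      exact hx (hres0 b' h)
    obtain ⟨u, rfl⟩ := hu
    refine ⟨Φ ((u⁻¹ : (AdjoinRoot q)ˣ) : AdjoinRoot q), (AlgHom.mem_range _).mpr ⟨_, rfl⟩, ?_⟩
    rw [← map_mul, Units.mul_inv, map_one]
  · -- fac
    intro x hx0 hx
    obtain ⟨b', rfl⟩ := (AlgHom.mem_range _).mp hx0
    have hb' : b' ≠ 0 := by
      rintro rfl
      apply hx
      rw [map_zero]; rfl
    obtain ⟨n, u, hu, hbu⟩ := local_factor (AdjoinRoot q) _ hmax' b' hb'
    refine ⟨n, Φ u, (AlgHom.mem_range _).mpr ⟨u, rfl⟩, ?_, ?_⟩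
    · have h1 := hu.map ((RingHom.snd Ω k').comp Φ.toRingHom)
      exact h1.ne_zero
    · rw [hbu, map_mul, map_pow, hΦof]
      rfl
  · intro x hx
    exact (AlgHom.mem_range _).mpr ⟨AdjoinRoot.of q ⟨x, hx⟩, hΦof ⟨x, hx⟩⟩
  · exact (AlgHom.mem_range _).mpr ⟨AdjoinRoot.root q, AdjoinRoot.liftAlgHom_root q G.val (α, θ) hev⟩

end Groth.Agent.Lib.Helper26.Unr
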