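import Mathlib
import Groth.Agent.Lib.Helper26.Unr2

set_option autoImplicit false
set_option linter.unusedSectionVars false
set_option linter.style.haveILetI false
universe u

namespace Groth.Agent.Lib.Helper26.Unr

variable {R Ω k' : Type u} [CommRing R] [Field Ω] [Field k'] [Algebra R Ω] [Algebra R k']

theorem mem_sSup_of_chain (c : Set (Subalgebra R (Ω × k'))) (hc : IsChain (· ≤ ·) c)
    (hne : c.Nonempty) (x : Ω × k') (hx : x ∈ sSup c) : ∃ G ∈ c, x ∈ G := by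
  haveI : Nonempty c := hne.to_subtype
  have hdir : Directed (· ≤ ·) (fun i : c => (i : Subalgebra R (Ω × k'))) :=
    hc.directedOn.directed_val
  rw [sSup_eq_iSup', ← SetLike.mem_coe, Subalgebra.coe_iSup_of_directed hdir, Set.mem_iUnion] at hx
  obtain ⟨i, hi⟩ := hx
  exact ⟨i.1, i.2, hi⟩

theorem isGood_sSup (π : R) (c : Set (Subalgebra R (Ω × k'))) (hc : IsChain (· ≤ ·) c)
    (hne : c.Nonempty) (hgood : ∀ G ∈ c, IsGood π G) : IsGood π (sSup c) := by
  refine ⟨?_, ?_, ?_⟩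
  · intro x hx h1
    obtain ⟨G, hGc, hxG⟩ := mem_sSup_of_chain c hc hne x hx
    exact (hgood G hGc).g0 x hxG h1
  · intro x hx h2
    obtain ⟨G, hGc, hxG⟩ := mem_sSup_of_chain c hc hne x hx
    obtain ⟨y, hy, hxy⟩ := (hgood G hGc).inv x hxG h2
    exact ⟨y, (le_sSup hGc : G ≤ sSup c) hy, hxy⟩
  · intro x hx h1
    obtain ⟨G, hGc, hxG⟩ := mem_sSup_of_chain c hc hne x hx
    obtain ⟨n, u, hu, hu2, hxu⟩ := (hgood G hGc).fac x hxG h1
    exact ⟨n, u, (le_sSup hGc : G ≤ sSup c) hu, hu2, hxu⟩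

/-- Zorn: a good subalgebra with surjective residue map. -/
theorem exists_surjective_good (π : R) (hπk : algebraMap R k' π = 0)
    (hπΩ : algebraMap R Ω π ≠ 0) [IsSepClosed Ω]
    (hbase : IsGood π (⊥ : Subalgebra R (Ω × k'))) (hint : ∀ θ : k', IsIntegral R θ) :
    ∃ G : Subalgebra R (Ω × k'), IsGood π G ∧ Function.Surjective (resG G) := by
  obtain ⟨G, -, hGmax⟩ := zorn_le_nonempty₀ {G : Subalgebra R (Ω × k') | IsGood π G}
    (fun c hcs hc y hy => ⟨sSup c, isGood_sSup π c hc ⟨y, hy⟩ (fun G hG => hcs hG),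
      fun z hz => le_sSup hz⟩) ⊥ hbase
  refine ⟨G, hGmax.prop, fun θ => ?_⟩
  by_contra hθ
  obtain ⟨G', hG', hle, α, hα⟩ := exists_extension π hπk hπΩ G hGmax.prop θ (hint θ) hθ
  have hle' : G' ≤ G := hGmax.le_of_ge hG' hle
  exact hθ ⟨⟨(α, θ), hle' hα⟩, rfl⟩

end Groth.Agent.Lib.Helper26.Unr
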