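import Mathlib
import Groth.Agent.Lib.Helper26.Unr3

set_option autoImplicit false
set_option linter.unusedSectionVars false
set_option linter.style.haveILetI false
universe u

namespace Groth.Agent.Lib.Helper26.Unr

open Polynomial IsLocalRing

set_option maxHeartbeats 1000000 in
theorem main (OK : Type u) [CommRing OK] [IsDomain OK] [IsDiscreteValuationRing OK]
    (k' : Type u) [Field k'] [Algebra (IsLocalRing.ResidueField OK) k']
    [Algebra.IsAlgebraic (IsLocalRing.ResidueField OK) k'] :
    ∃ (OL : Type u) (_ : CommRing OL) (_ : IsDomain OL) (_ : IsDiscreteValuationRing OL)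
      (φ : OK →+* OL),
      Function.Injective φ ∧ IsLocalHom φ ∧
      Ideal.map φ (IsLocalRing.maximalIdeal OK) = IsLocalRing.maximalIdeal OL ∧
      (∃ e : IsLocalRing.ResidueField OL ≃+* k',
        ∀ a : OK, e (IsLocalRing.residue OL (φ a)) =
          algebraMap (IsLocalRing.ResidueField OK) k' (IsLocalRing.residue OK a)) ∧
      ∀ x : OL, ∃ p : Polynomial OK,
        (p.map (algebraMap OK (FractionRing OK))).Separable ∧ Polynomial.eval₂ φ x p = 0 := by
  letI : Algebra OK k' :=
    ((algebraMap (IsLocalRing.ResidueField OK) k').comp (IsLocalRing.residue OK)).toAlgebra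
  have halgk : ∀ a : OK, algebraMap OK k' a =
      algebraMap (IsLocalRing.ResidueField OK) k' (IsLocalRing.residue OK a) := fun a => rfl
  haveI : IsScalarTower OK (IsLocalRing.ResidueField OK) k' :=
    IsScalarTower.of_algebraMap_eq (fun a => rfl)
  obtain ⟨π, hπ⟩ := IsDiscreteValuationRing.exists_irreducible OK
  have hπk : algebraMap OK k' π = 0 := by
    rw [halgk, (IsLocalRing.residue_eq_zero_iff π).mpr ((IsLocalRing.mem_maximalIdeal π).mpr
      hπ.not_isUnit), map_zero]
  have hinjΩ : Function.Injective (algebraMap OK (SeparableClosure (FractionRing OK))) := by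
    rw [IsScalarTower.algebraMap_eq OK (FractionRing OK) (SeparableClosure (FractionRing OK))]
    exact (algebraMap (FractionRing OK) (SeparableClosure (FractionRing OK))).injective.comp
      (IsFractionRing.injective OK (FractionRing OK))
  have hπΩ : algebraMap OK (SeparableClosure (FractionRing OK)) π ≠ 0 := by
    intro h
    exact hπ.ne_zero (hinjΩ (h.trans (map_zero _).symm))
  have hunit : ∀ a : OK, algebraMap OK k' a ≠ 0 → IsUnit a := by
    intro a ha
    rw [halgk] at ha
    by_contra hna
    apply ha
    rw [(IsLocalRing.residue_eq_zero_iff a).mpr ((IsLocalRing.mem_maximalIdeal a).mpr hna),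
      map_zero]
  have hbase : IsGood π (⊥ : Subalgebra OK (SeparableClosure (FractionRing OK) × k')) := by
    refine ⟨?_, ?_, ?_⟩
    · intro x hx h1
      obtain ⟨r, rfl⟩ := Algebra.mem_bot.mp hx
      have h2 : algebraMap OK (SeparableClosure (FractionRing OK)) r = 0 := h1
      have h3 : r = 0 := hinjΩ (h2.trans (map_zero _).symm)
      rw [h3, map_zero]; rfl
    · intro x hx h2
      obtain ⟨r, rfl⟩ := Algebra.mem_bot.mp hx
      have h3 : algebraMap OK k' r ≠ 0 := h2
      obtain ⟨u, rfl⟩ := hunit r h3
      refine ⟨algebraMap OK _ ((u⁻¹ : OKˣ) : OK), Algebra.mem_bot.mpr ⟨_, rfl⟩, ?_⟩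
      rw [← map_mul, Units.mul_inv, map_one]
    · intro x hx h1
      obtain ⟨r, rfl⟩ := Algebra.mem_bot.mp hx
      have hr : r ≠ 0 := by
        rintro rfl
        apply h1
        rw [map_zero]; rfl
      obtain ⟨n, u, hru⟩ := IsDiscreteValuationRing.eq_unit_mul_pow_irreducible hr hπ
      refine ⟨n, algebraMap OK _ (u : OK), Algebra.mem_bot.mpr ⟨_, rfl⟩, ?_, ?_⟩
      · show algebraMap OK k' (u : OK) ≠ 0
        exact (u.isUnit.map (algebraMap OK k')).ne_zero
      · rw [hru, map_mul, map_pow, mul_comm]
  have hint : ∀ θ : k', IsIntegral OK θ := by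
    intro θ
    haveI : Algebra.IsIntegral OK (IsLocalRing.ResidueField OK) :=
      Algebra.isIntegral_of_surjective IsLocalRing.residue_surjective
    haveI : Algebra.IsIntegral (IsLocalRing.ResidueField OK) k' := inferInstance
    exact isIntegral_trans (A := IsLocalRing.ResidueField OK) θ (Algebra.IsIntegral.isIntegral θ)
  obtain ⟨G, hG, hsurj⟩ := exists_surjective_good π hπk hπΩ hbase hint
  have hinjφ : Function.Injective (algebraMap OK G) := by
    intro a b hab
    apply hinjΩ
    have := congrArg (fstG G) hab
    exact this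
  refine ⟨G, inferInstance, isDomain hG, isDVR hG hπk hπΩ, algebraMap OK G, hinjφ, ?_, ?_, ?_, ?_⟩
  · -- local hom
    refine ⟨fun a ha => ?_⟩
    apply hunit
    have h1 := (isUnit_iff hG _).mp ha
    exact h1
  · -- maximal ideal
    rw [Irreducible.maximalIdeal_eq hπ, Ideal.map_span, Set.image_singleton]
    exact (maximalIdeal_eq hG hπk).symm
  · -- residue field
    letI := isDomain hG
    letI := isDVR hG hπk hπΩ
    have hker : IsLocalRing.maximalIdeal G = RingHom.ker (resG G) := by
      ext b
      rw [IsLocalRing.mem_maximalIdeal, mem_nonunits_iff, isUnit_iff hG, not_not, RingHom.mem_ker]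
    refine ⟨(Ideal.quotEquivOfEq hker).trans (RingHom.quotientKerEquivOfSurjective hsurj), ?_⟩
    intro a
    rfl
  · -- separability
    intro x
    letI := isDomain hG
    have hsep : (minpoly (FractionRing OK) (fstG G x)).Separable :=
      Algebra.IsSeparable.isSeparable (FractionRing OK) (fstG G x)
    obtain ⟨b, hbM, hb⟩ := IsLocalization.integerNormalization_spec (nonZeroDivisors OK)
      (minpoly (FractionRing OK) (fstG G x))
    refine ⟨IsLocalization.integerNormalization (nonZeroDivisors OK)
      (minpoly (FractionRing OK) (fstG G x)), ?_, ?_⟩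
    · rw [hb, Algebra.smul_def, Polynomial.algebraMap_apply]
      apply Separable.unit_mul _ hsep
      rw [isUnit_C]
      exact (map_ne_zero_of_mem_nonZeroDivisors _ (IsFractionRing.injective OK _) hbM).isUnit
    · apply fstG_injective hG
      rw [map_zero, hom_eval₂]
      have h1 : (fstG G).comp (algebraMap OK G) =
          (algebraMap (FractionRing OK) (SeparableClosure (FractionRing OK))).comp
            (algebraMap OK (FractionRing OK)) := by
        refine RingHom.ext fun a => ?_
        show algebraMap OK (SeparableClosure (FractionRing OK)) a = _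
        exact IsScalarTower.algebraMap_apply OK (FractionRing OK)
          (SeparableClosure (FractionRing OK)) a
      rw [h1]
      apply IsLocalization.integerNormalization_eval₂_eq_zero
      exact minpoly.aeval _ _

end Groth.Agent.Lib.Helper26.Unr
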