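import Mathlib

/-!
Complete rank-one valuation rings: the fraction field as a complete nonarchimedean normed field,
and the norm criterion for integrality (via Mathlib's spectral norm).
-/

universe u

namespace Groth.Agent.Lib.Helper26.ValNorm

open Polynomial Valuation

section
variable (R : Type u) [CommRing R] [IsDomain R] [ValuationRing R] [Ring.KrullDimLE 1 R]

omit [ValuationRing R] [Ring.KrullDimLE 1 R] in
theorem not_isUnit_of_complete (t : R) [IsAdicComplete (Ideal.span {t}) R] : ¬ IsUnit t := by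
  intro ht
  have htop : Ideal.span {t} = ⊤ := Ideal.span_singleton_eq_top.mpr ht
  have hH : IsHausdorff (Ideal.span {t}) R := inferInstance
  have : (1 : R) = 0 := by
    apply hH.haus'
    intro n
    rw [htop, Ideal.top_pow, SModEq.zero]
    simp
  exact one_ne_zero this

variable {R}

theorem exists_dvd_pow {x y : R} (hx : ¬ IsUnit x) (hy : y ≠ 0) : ∃ n : ℕ, y ∣ x ^ n := by
  have hmem : x ∈ (Ideal.span {y}).radical := by
    rw [Ideal.radical_eq_sInf, Ideal.mem_sInf]
    rintro J ⟨hJ, hJp⟩
    have hJne : J ≠ ⊥ := by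
      intro h
      apply hy
      have : y ∈ J := hJ (Ideal.mem_span_singleton_self y)
      rw [h] at this
      simpa using this
    have hJm : J.IsMaximal := hJp.isMaximal_of_ne_bot hJne
    have : J = IsLocalRing.maximalIdeal R := IsLocalRing.eq_maximalIdeal hJm
    rw [this]
    exact (IsLocalRing.mem_maximalIdeal x).mpr hx
  obtain ⟨n, hn⟩ := hmem
  exact ⟨n, Ideal.mem_span_singleton.mp hn⟩

end

section
variable (R : Type u) [CommRing R] [IsDomain R] [ValuationRing R]

local notation "K" => FractionRing R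
local notation "vv" => ValuationRing.valuation R (FractionRing R)

theorem val_le_one_iff (x : K) : vv x ≤ 1 ↔ ∃ a : R, algebraMap R K a = x := by
  rw [← ValuationRing.mem_integer_iff, Valuation.mem_integer_iff]

theorem val_algebraMap_le_one (a : R) : vv (algebraMap R K a) ≤ 1 :=
  (val_le_one_iff R _).mpr ⟨a, rfl⟩

theorem val_algebraMap_lt_one {a : R} (ha : ¬ IsUnit a) : vv (algebraMap R K a) < 1 := by
  refine lt_of_le_of_ne (val_algebraMap_le_one R a) ?_
  intro h
  have ha0 : algebraMap R K a ≠ 0 := by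
    intro h0; rw [h0, map_zero] at h; exact zero_ne_one h
  have : vv (algebraMap R K a)⁻¹ ≤ 1 := by rw [map_inv₀, h, inv_one]
  obtain ⟨b, hb⟩ := (val_le_one_iff R _).mp this
  apply ha
  refine IsUnit.of_mul_eq_one b ?_
  apply IsFractionRing.injective R K
  rw [map_mul, hb, map_one, mul_inv_cancel₀ ha0]

variable [Ring.KrullDimLE 1 R]

theorem arch (a b : K) (hb : 1 < vv b) : ∃ n : ℕ, vv a ≤ vv b ^ n := by
  by_cases ha : vv a ≤ 1
  · exact ⟨0, by simpa using ha⟩
  rw [not_le] at ha
  have ha0 : a ≠ 0 := by rintro rfl; simp at ha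
  have hb0 : b ≠ 0 := by rintro rfl; simp at hb
  have h1 : vv a⁻¹ ≤ 1 := by rw [map_inv₀]; exact inv_le_one_of_one_le₀ ha.le
  have h2 : vv b⁻¹ < 1 := by rw [map_inv₀]; exact inv_lt_one_of_one_lt₀ hb
  obtain ⟨x, hx⟩ := (val_le_one_iff R _).mp h1
  obtain ⟨y, hy⟩ := (val_le_one_iff R _).mp h2.le
  have hx0 : x ≠ 0 := by rintro rfl; rw [map_zero] at hx; exact inv_ne_zero ha0 hx.symm
  have hyu : ¬ IsUnit y := by
    intro hu
    have : vv (algebraMap R K y)⁻¹ ≤ 1 := by
      obtain ⟨u, rfl⟩ := hu
      have := val_algebraMap_le_one R (↑u⁻¹ : R)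
      convert this using 2
      rw [eq_comm, ← mul_eq_one_iff_eq_inv₀, ← map_mul]; simp
      intro h0
      have := (IsFractionRing.injective R K) (h0.trans (map_zero _).symm)
      exact u.ne_zero this
    rw [hy, inv_inv] at this
    exact absurd this (not_le.mpr hb)
  obtain ⟨n, c, hc⟩ := exists_dvd_pow hyu hx0
  refine ⟨n, ?_⟩
  have : vv (algebraMap R K (y ^ n)) ≤ vv (algebraMap R K x) := by
    rw [hc, map_mul, map_mul]
    calc vv (algebraMap R K x) * vv (algebraMap R K c) ≤ vv (algebraMap R K x) * 1 := by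
          gcongr; exact val_algebraMap_le_one R c
      _ = _ := mul_one _
  rw [map_pow, hx, hy, map_pow, map_inv₀, map_inv₀, inv_pow] at this
  rwa [inv_le_inv₀] at this
  · exact pow_pos (lt_trans zero_lt_one hb) n
  · exact lt_trans zero_lt_one ha

theorem nonempty_rankOne (t : R) (ht : t ≠ 0) (htu : ¬ IsUnit t) :
    Nonempty (ValuationRing.valuation R (FractionRing R)).RankOne := by
  have : (ValuationRing.valuation R (FractionRing R)).IsNontrivial := by
    refine ⟨algebraMap R K t, ?_, (val_algebraMap_lt_one R htu).ne⟩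
    rw [ne_eq, Valuation.zero_iff]
    intro h0
    exact ht ((IsFractionRing.injective R K) (h0.trans (map_zero _).symm))
  rw [nonempty_rankOne_iff_mulArchimedean]
  constructor
  intro x y hy
  obtain ⟨a, rfl⟩ := MonoidWithZeroHom.ValueGroup₀.restrict₀_surjective _ x
  obtain ⟨b, rfl⟩ := MonoidWithZeroHom.ValueGroup₀.restrict₀_surjective _ y
  rw [← MonoidWithZeroHom.ValueGroup₀.embedding_strictMono.lt_iff_lt, map_one,
    MonoidWithZeroHom.ValueGroup₀.embedding_restrict₀] at hy
  obtain ⟨n, hn⟩ := arch R a b hy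
  refine ⟨n, ?_⟩
  rw [← MonoidWithZeroHom.ValueGroup₀.embedding_strictMono.le_iff_le, map_pow,
    MonoidWithZeroHom.ValueGroup₀.embedding_restrict₀,
    MonoidWithZeroHom.ValueGroup₀.embedding_restrict₀]
  exact hn

end

section
variable (R : Type u) [CommRing R] [IsDomain R] [ValuationRing R]

local notation "K" => FractionRing R
local notation "vv" => ValuationRing.valuation R (FractionRing R)

/-- The `Valued` structure on the fraction field. -/
@[reducible] noncomputable def valuedK : Valued K (ValuationRing.ValueGroup R K) := Valued.mk' vv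

/-- The normed field structure. -/
@[reducible] noncomputable def nnfK (hv : (vv).RankOne) : NontriviallyNormedField K :=
  letI := valuedK R
  letI : (Valued.v (R := K) (Γ₀ := ValuationRing.ValueGroup R K)).RankOne := hv
  Valued.toNontriviallyNormedField K (ValuationRing.ValueGroup R K)

theorem norm_le_one_iff (hv : (vv).RankOne) (x : K) :
    letI := nnfK R hv
    ‖x‖ ≤ 1 ↔ ∃ a : R, algebraMap R K a = x := by
  let _ := valuedK R
  let _ : (Valued.v (R := K) (Γ₀ := ValuationRing.ValueGroup R K)).RankOne := hv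
  rw [← val_le_one_iff]
  exact Valued.toNormedField.norm_le_one_iff

theorem norm_lt_one (hv : (vv).RankOne) {a : R} (ha : ¬ IsUnit a) :
    letI := nnfK R hv
    ‖algebraMap R K a‖ < 1 := by
  let _ := valuedK R
  let _ : (Valued.v (R := K) (Γ₀ := ValuationRing.ValueGroup R K)).RankOne := hv
  exact Valued.toNormedField.norm_lt_one_iff.mpr (val_algebraMap_lt_one R ha)

theorem ultra (hv : (vv).RankOne) :
    letI := nnfK R hv
    IsUltrametricDist K := by
  let _ := valuedK R
  let _ : (Valued.v (R := K) (Γ₀ := ValuationRing.ValueGroup R K)).RankOne := hv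
  exact Valued.instIsUltrametricDist K (ValuationRing.ValueGroup R K)

theorem norm_le_pow_iff (hv : (vv).RankOne) (t : R) (ht : t ≠ 0) (k : ℕ) (x : K) :
    letI := nnfK R hv
    ‖x‖ ≤ ‖algebraMap R K t‖ ^ k ↔ ∃ a : R, algebraMap R K (t ^ k * a) = x := by
  letI := nnfK R hv
  have ht0 : algebraMap R K t ≠ 0 := by
    intro h0
    exact ht ((IsFractionRing.injective R K) (h0.trans (map_zero _).symm))
  have hpos : 0 < ‖algebraMap R K t‖ ^ k := pow_pos (norm_pos_iff.mpr ht0) k
  have h1 : ‖x‖ ≤ ‖algebraMap R K t‖ ^ k ↔ ‖x / (algebraMap R K t) ^ k‖ ≤ 1 := by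
    rw [norm_div, norm_pow, div_le_one hpos]
  rw [h1, norm_le_one_iff R hv]
  constructor
  · rintro ⟨a, ha⟩
    refine ⟨a, ?_⟩
    rw [map_mul, map_pow, ha, mul_div_cancel₀ _ (pow_ne_zero k ht0)]
  · rintro ⟨a, ha⟩
    refine ⟨a, ?_⟩
    rw [← ha, map_mul, map_pow, mul_div_cancel_left₀ _ (pow_ne_zero k ht0)]

theorem completeSpace (hv : (vv).RankOne) (t : R) (ht : t ≠ 0)
    [IsAdicComplete (Ideal.span {t}) R] (htu : ¬ IsUnit t) :
    letI := nnfK R hv
    CompleteSpace K := by
  letI := nnfK R hv
  haveI := ultra R hv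
  set τ : ℝ := ‖algebraMap R K t‖ with hτ
  have ht0 : algebraMap R K t ≠ 0 := by
    intro h0
    exact ht ((IsFractionRing.injective R K) (h0.trans (map_zero _).symm))
  have hτpos : 0 < τ := norm_pos_iff.mpr ht0
  have hτlt : τ < 1 := norm_lt_one R hv htu
  apply Metric.complete_of_cauchySeq_tendsto
  intro u hu
  rw [Metric.cauchySeq_iff] at hu
  have hN : ∀ k : ℕ, ∃ N, ∀ m ≥ N, ∀ n ≥ N, dist (u m) (u n) < τ ^ k :=
    fun k => hu (τ ^ k) (pow_pos hτpos k)
  choose N hN using hN
  -- monotone modification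
  let M : ℕ → ℕ := fun k => (Finset.range (k + 1)).sup N
  have hMN : ∀ k, N k ≤ M k := fun k =>
    Finset.le_sup (f := N) (Finset.mem_range.mpr (Nat.lt_succ_self k))
  have hMmono : Monotone M := by
    intro a b hab
    apply Finset.sup_mono
    intro x hx
    rw [Finset.mem_range] at hx ⊢
    omega
  -- the shifted sequence lives in R
  have hr : ∀ k, ∃ r : R, algebraMap R K r = u (M k) - u (M 0) := by
    intro k
    rw [← norm_le_one_iff R hv]
    have := hN 0 (M k) ((hMN 0).trans (hMmono (Nat.zero_le k))) (M 0) (hMN 0)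
    rw [pow_zero, dist_eq_norm] at this
    exact this.le
  choose r hr using hr
  have hcauchy : ∀ {m n}, m ≤ n → r m ≡ r n [SMOD ((Ideal.span {t}) ^ m • ⊤ : Submodule R R)] := by
    intro m n hmn
    rw [SModEq.sub_mem, smul_eq_mul, Ideal.mul_top, Ideal.span_singleton_pow,
      Ideal.mem_span_singleton]
    have h1 := hN m (M m) (hMN m) (M n) ((hMN m).trans (hMmono hmn))
    rw [dist_eq_norm] at h1
    have h2 : algebraMap R K (r m - r n) = u (M m) - u (M n) := by
      rw [_root_.map_sub, hr, hr]; ring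
    rw [← h2] at h1
    obtain ⟨a, ha⟩ := (norm_le_pow_iff R hv t ht m _).mp h1.le
    exact ⟨a, ((IsFractionRing.injective R K) ha).symm⟩
  obtain ⟨L, hL⟩ := IsPrecomplete.prec (I := Ideal.span {t}) (M := R) inferInstance hcauchy
  refine ⟨u (M 0) + algebraMap R K L, ?_⟩
  rw [Metric.tendsto_atTop]
  intro ε hε
  obtain ⟨k, hk⟩ := exists_pow_lt_of_lt_one hε hτlt
  refine ⟨M k, fun n hn => ?_⟩
  rw [dist_eq_norm]
  have h1 := hN k n ((hMN k).trans hn) (M k) (hMN k)
  rw [dist_eq_norm] at h1
  have h2 : ‖algebraMap R K (r k - L)‖ ≤ τ ^ k := by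
    rw [norm_le_pow_iff R hv t ht k]
    have := hL k
    rw [SModEq.sub_mem, smul_eq_mul, Ideal.mul_top, Ideal.span_singleton_pow,
      Ideal.mem_span_singleton] at this
    obtain ⟨a, ha⟩ := this
    exact ⟨a, by rw [ha]⟩
  have h3 : u n - (u (M 0) + algebraMap R K L) = (u n - u (M k)) + algebraMap R K (r k - L) := by
    rw [_root_.map_sub, hr]; ring
  rw [h3]
  calc ‖(u n - u (M k)) + algebraMap R K (r k - L)‖
      ≤ max ‖u n - u (M k)‖ ‖algebraMap R K (r k - L)‖ := IsUltrametricDist.norm_add_le_max _ _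
    _ ≤ τ ^ k := max_le h1.le h2
    _ < ε := hk

end

section
variable (R : Type u) [CommRing R] [IsDomain R] [ValuationRing R]

local notation "K" => FractionRing R
local notation "vv" => ValuationRing.valuation R (FractionRing R)

omit [ValuationRing R] in
theorem norm_gen_eq (L : Type u) [Field L] [Algebra K L] [Algebra.IsAlgebraic K L] (α : L) :
    Algebra.norm K (IntermediateField.AdjoinSimple.gen K α) =
      (-1) ^ (minpoly K α).natDegree * (minpoly K α).coeff 0 := by
  have hα : IsIntegral K α := Algebra.IsIntegral.isIntegral α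
  have h := Algebra.PowerBasis.norm_gen_eq_coeff_zero_minpoly (IntermediateField.adjoin.powerBasis hα)
  rw [IntermediateField.adjoin.powerBasis_gen, IntermediateField.adjoin.powerBasis_dim,
    IntermediateField.minpoly_gen] at h
  exact h

theorem coeff_mem_of_norm_mem (hv : (vv).RankOne) (t : R) (ht : t ≠ 0)
    [IsAdicComplete (Ideal.span {t}) R] (htu : ¬ IsUnit t)
    (L : Type u) [Field L] [Algebra K L] [Algebra.IsAlgebraic K L] (α : L)
    (h0 : (minpoly K α).coeff 0 ∈ (algebraMap R K).range) (n : ℕ) :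
    (minpoly K α).coeff n ∈ (algebraMap R K).range := by
  letI := nnfK R hv
  haveI := ultra R hv
  haveI := completeSpace R hv t ht htu
  have hα : IsIntegral K α := Algebra.IsIntegral.isIntegral α
  have h1 : ‖(minpoly K α).coeff 0‖ ≤ 1 := (norm_le_one_iff R hv _).mpr h0
  have h2 : spectralNorm K L α ≤ 1 := by
    rw [spectralNorm.spectralNorm_eq_norm_coeff_zero_rpow]
    apply Real.rpow_le_one (norm_nonneg _) h1
    positivity
  have h3 := (spectralValue_le_one_iff (minpoly.monic hα)).mp h2 n
  exact (norm_le_one_iff R hv _).mp h3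

end

end Groth.Agent.Lib.Helper26.ValNorm
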